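import Cfsg.Agent.Lib.Golay.M24Group
import Cfsg.Agent.Classical.SLGen
import Cfsg.Agent.Classical.SLBasic

/-!
# The three-point stabiliser as the special linear group over four elements
-/

set_option autoImplicit false

namespace CfsgLib.Golay

open Cfsg Matrix

/-- Sum of two codes of field elements `0, 1, w, w + 1`. -/
def addT (a b : Fin 4) : Fin 4 :=
  ([[0, 1, 2, 3], [1, 0, 3, 2], [2, 3, 0, 1], [3, 2, 1, 0]] : List (List (Fin 4))).getD a.val [] |>.getD b.val 0

/-- Product of two codes of field elements. -/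
def mulT (a b : Fin 4) : Fin 4 :=
  ([[0, 0, 0, 0], [0, 1, 2, 3], [0, 2, 3, 1], [0, 3, 1, 2]] : List (List (Fin 4))).getD a.val [] |>.getD b.val 0

theorem two_eq_zero_of_card_four {F : Type} [Field F] [Fintype F] (hF : Fintype.card F = 4) : (2 : F) = 0 := by
  have h := FiniteField.pow_card (-1 : F)
  rw [hF] at h
  linear_combination h

/-- A model of the four field elements. -/
theorem exists_model {F : Type} [Field F] [Fintype F] (hF : Fintype.card F = 4) :
    ∃ e : Fin 4 → F, Function.Bijective e ∧ e 0 = 0 ∧ e 1 = 1 ∧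
      (∀ a b, e (addT a b) = e a + e b) ∧ ∀ a b, e (mulT a b) = e a * e b := by
  classical
  obtain ⟨w, hw0, hw1⟩ : ∃ w : F, w ≠ 0 ∧ w ≠ 1 := by
    by_contra h
    push Not at h
    have := Finset.card_le_card (fun x (_ : x ∈ (Finset.univ : Finset F)) =>
      show x ∈ ({0, 1} : Finset F) by rcases eq_or_ne x 0 with e | e <;> simp [e, h x])
    rw [Finset.card_univ, hF, Finset.card_pair zero_ne_one] at this
    omega
  have h3 := FiniteField.pow_card_sub_one_eq_one w hw0
  rw [hF] at h3
  have hw : w * w = w + 1 := by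
    have h2 := two_eq_zero_of_card_four hF
    have : (w - 1) * (w * w + w + 1) = 0 := by linear_combination h3
    rcases mul_eq_zero.mp this with e | e
    · exact absurd (sub_eq_zero.mp e) hw1
    · linear_combination e - (w + 1) * h2
  have h2 := two_eq_zero_of_card_four hF
  have hw11 : w + 1 ≠ 0 := fun e => hw1 (by linear_combination e - h2)
  refine ⟨![0, 1, w, w + 1], (Fintype.bijective_iff_injective_and_card _).mpr ⟨?_, by simp [hF]⟩,
    rfl, rfl, fun a b => ?_, fun a b => ?_⟩
  · intro a b hab
    fin_cases a <;> fin_cases b <;>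
      simp [hw0, hw1, hw0.symm, hw1.symm, hw11, hw11.symm] at hab ⊢
  · fin_cases a <;> fin_cases b <;> simp [addT] <;> grind
  · fin_cases a <;> fin_cases b <;> simp [mulT] <;> grind

/-- Codes of vectors. -/
abbrev V4 : Type := Fin 4 × Fin 4 × Fin 4

/-- A coordinate of a code. -/
def co (a : V4) (i : Fin 3) : Fin 4 := if i = 0 then a.1 else if i = 1 then a.2.1 else a.2.2

/-- Scalar multiple of a code. -/
def smulC (c : Fin 4) (a : V4) : V4 := (mulT c a.1, mulT c a.2.1, mulT c a.2.2)

/-- Add `c` times coordinate `j` to coordinate `i`. -/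
def transC (i j : Fin 3) (c : Fin 4) (a : V4) : V4 :=
  let d := mulT c (co a j)
  if i = 0 then (addT a.1 d, a.2.1, a.2.2) else if i = 1 then (a.1, addT a.2.1 d, a.2.2)
  else (a.1, a.2.1, addT a.2.2 d)

/-- The position of the point of a code. -/
def labTab : List ℕ :=
  [23, 2, 2, 2, 3, 5, 14, 17, 3, 17, 5, 14, 3, 14, 17, 5, 4, 16, 22, 13, 19, 7, 21, 6, 20, 9, 15, 10,
    11, 18, 12, 8, 4, 13, 16, 22, 11, 8, 18, 12, 19, 6, 7, 21, 20, 10, 9, 15, 4, 22, 13, 16, 20, 15, 10, 9,
    11, 12, 8, 18, 19, 21, 6, 7]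

/-- The point of a code. -/
def labC (a : V4) : GolayPt := pt (Fin.ofNat 24 (labTab.getD (16 * a.1.val + 4 * a.2.1.val + a.2.2.val) 23))

/-- A code of a point. -/
def repC (p : GolayPt) : V4 :=
  let n := labTab.idxOf (idx p).val
  (Fin.ofNat 4 (n / 16), Fin.ofNat 4 (n / 4), Fin.ofNat 4 n)

/-- The fixed points. -/
def threePts : List GolayPt := [none, some 0, some 1]

theorem labC_smulC : ∀ c : Fin 4, c ≠ 0 → ∀ a : V4, labC (smulC c a) = labC a := by decide +kernel

theorem labC_not_three : ∀ a : V4, a ≠ (0, 0, 0) → labC a ∉ threePts := by decide +kernel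

theorem exists_smulC_of_labC_eq : ∀ a : V4, a ≠ (0, 0, 0) → ∀ b : V4, b ≠ (0, 0, 0) → labC a = labC b →
    ∃ c : Fin 4, c ≠ 0 ∧ b = smulC c a := by decide +kernel

theorem labC_repC : ∀ p : GolayPt, p ∉ threePts → labC (repC p) = p ∧ repC p ≠ (0, 0, 0) := by decide +kernel

/-- The image list of a transvection. -/
def transList (i j : Fin 3) (c : Fin 4) : List ℕ :=
  List.ofFn fun k : Fin 24 =>
    (idx (if pt k ∈ threePts then pt k else labC (transC i j c (repC (pt k))))).val

theorem isPres_transList :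
    ∀ i j : Fin 3, i ≠ j → ∀ c : Fin 4, isPres (transList i j c) = true := by decide +kernel

section

variable {F : Type} [Field F] {e : Fin 4 → F}

/-- The vector of a code. -/
def vecC (e : Fin 4 → F) (a : V4) : Fin 3 → F := fun i => e (co a i)

theorem vecC_bijective (he : Function.Bijective e) : Function.Bijective (vecC e) := by
  constructor
  · intro a b h
    have h0 := he.1 (congrFun h 0)
    have h1 := he.1 (congrFun h 1)
    have h2 := he.1 (congrFun h 2)
    simp [co] at h0 h1 h2
    exact Prod.ext h0 (Prod.ext h1 h2)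
  · intro v
    obtain ⟨x, hx⟩ := he.2 (v 0)
    obtain ⟨y, hy⟩ := he.2 (v 1)
    obtain ⟨z, hz⟩ := he.2 (v 2)
    refine ⟨(x, y, z), funext fun i => ?_⟩
    fin_cases i <;> simp [vecC, co, hx, hy, hz]

theorem vecC_smulC (hmul : ∀ a b, e (mulT a b) = e a * e b) (c : Fin 4) (a : V4) :
    vecC e (smulC c a) = e c • vecC e a := by
  funext i; fin_cases i <;> simp [vecC, co, smulC, hmul]

theorem vecC_transC (hadd : ∀ a b, e (addT a b) = e a + e b) (hmul : ∀ a b, e (mulT a b) = e a * e b)
    {i j : Fin 3} (hij : i ≠ j) (c : Fin 4) (a : V4) :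
    vecC e (transC i j c a) = SpecialLinearGroup.transvection hij (e c) • vecC e a := by
  rw [Cfsg.Agent.Classical.transvection_smul_vec]
  funext k
  fin_cases i <;> fin_cases k <;> simp [vecC, co, transC, hadd, hmul, Pi.single_apply] at hij ⊢

/-- The point of a vector. -/
noncomputable def vecPt (e : Fin 4 → F) (v : Fin 3 → F) : GolayPt := labC (Function.invFun (vecC e) v)

/-- The map attached to a matrix. -/
noncomputable def planeMap (e : Fin 4 → F) (g : SpecialLinearGroup (Fin 3) F) (p : GolayPt) : GolayPt :=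
  if p ∈ threePts then p else vecPt e (g • vecC e (repC p))

structure IsModel (e : Fin 4 → F) : Prop where
  bij : Function.Bijective e
  zero : e 0 = 0
  one : e 1 = 1
  add : ∀ a b, e (addT a b) = e a + e b
  mul : ∀ a b, e (mulT a b) = e a * e b

variable (he : IsModel e)
include he

theorem vecC_zero : vecC e (0, 0, 0) = 0 := by funext i; simp [vecC, co, he.zero]

theorem vecC_eq_zero_iff {a : V4} : vecC e a = 0 ↔ a = (0, 0, 0) :=
  ⟨fun h => (vecC_bijective he.bij).1 (h.trans (vecC_zero he).symm), fun h => h ▸ vecC_zero he⟩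

theorem vecPt_vecC (a : V4) : vecPt e (vecC e a) = labC a := by
  rw [vecPt, Function.leftInverse_invFun (vecC_bijective he.bij).1 a]

theorem vecPt_smul {c : F} (hc : c ≠ 0) (v : Fin 3 → F) : vecPt e (c • v) = vecPt e v := by
  obtain ⟨a, rfl⟩ := (vecC_bijective he.bij).2 v
  obtain ⟨d, rfl⟩ := he.bij.2 c
  have hd : d ≠ 0 := fun h => hc (h ▸ he.zero)
  rw [← vecC_smulC he.mul, vecPt_vecC he, vecPt_vecC he, labC_smulC d hd]

theorem vecPt_not_three {v : Fin 3 → F} (hv : v ≠ 0) : vecPt e v ∉ threePts := by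
  obtain ⟨a, rfl⟩ := (vecC_bijective he.bij).2 v
  rw [vecPt_vecC he]
  exact labC_not_three a fun h => hv ((vecC_eq_zero_iff he).mpr h)

theorem planeMap_vecPt (g : SpecialLinearGroup (Fin 3) F) {v : Fin 3 → F} (hv : v ≠ 0) :
    planeMap e g (vecPt e v) = vecPt e (g • v) := by
  rw [planeMap, if_neg (vecPt_not_three he hv)]
  obtain ⟨a, rfl⟩ := (vecC_bijective he.bij).2 v
  have ha : a ≠ (0, 0, 0) := fun h => hv ((vecC_eq_zero_iff he).mpr h)
  rw [vecPt_vecC he]
  obtain ⟨h1, h2⟩ := labC_repC (labC a) (labC_not_three a ha)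
  obtain ⟨c, hc, hca⟩ := exists_smulC_of_labC_eq a ha _ h2 h1.symm
  rw [hca, vecC_smulC he.mul, smul_comm, vecPt_smul he fun h => hc (he.bij.1 (h.trans he.zero.symm))]

theorem planeMap_mul (g h : SpecialLinearGroup (Fin 3) F) (p : GolayPt) :
    planeMap e (g * h) p = planeMap e g (planeMap e h p) := by
  by_cases hp : p ∈ threePts
  · simp [planeMap, hp]
  · have hne : h • vecC e (repC p) ≠ 0 := by
      intro h0
      have := congrArg (fun v => h⁻¹ • v) h0
      simp only [inv_smul_smul, smul_zero] at this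
      exact (labC_repC p hp).2 ((vecC_eq_zero_iff he).mp this)
    have e1 : planeMap e h p = vecPt e (h • vecC e (repC p)) := by rw [planeMap, if_neg hp]
    rw [e1, planeMap_vecPt he g hne, planeMap, if_neg hp, mul_smul]

theorem planeMap_one (p : GolayPt) : planeMap e 1 p = p := by
  rw [planeMap]
  split_ifs with hp
  · rfl
  · rw [one_smul, vecPt_vecC he, (labC_repC p hp).1]

/-- The action on the twenty-one points, as permutations of all points. -/
noncomputable def planePerm : SpecialLinearGroup (Fin 3) F →* Equiv.Perm GolayPt where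
  toFun g := ⟨planeMap e g, planeMap e g⁻¹,
    fun p => by rw [← planeMap_mul he, inv_mul_cancel, planeMap_one he],
    fun p => by rw [← planeMap_mul he, mul_inv_cancel, planeMap_one he]⟩
  map_one' := Equiv.ext (planeMap_one he)
  map_mul' g h := Equiv.ext (planeMap_mul he g h)

theorem planePerm_apply (g : SpecialLinearGroup (Fin 3) F) (p : GolayPt) :
    planePerm he g p = planeMap e g p := rfl

theorem planePerm_mem (g : SpecialLinearGroup (Fin 3) F) : planePerm he g ∈ fixPts threePts := by
  have h : (fixPts threePts).comap (planePerm he) = ⊤ := by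
    refine Cfsg.Agent.Classical.sl_subgroup_eq_top_of_transvection_mem _ fun i j hij c => ?_
    rw [Subgroup.mem_comap, mem_fixPts]
    refine ⟨?_, fun p hp => by rw [planePerm_apply, planeMap, if_pos hp]⟩
    obtain ⟨d, rfl⟩ := he.bij.2 c
    rw [mem_M24_iff_isPres]
    refine Eq.trans ?_ (isPres_transList i j hij d)
    refine congrArg isPres (congrArg List.ofFn (funext fun k => congrArg (fun q => (idx q).val) ?_))
    rw [planePerm_apply, planeMap]
    split_ifs with hk
    · rfl
    · rw [← vecC_transC he.add he.mul hij, vecPt_vecC he]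
  have := Subgroup.mem_top g
  rwa [← h, Subgroup.mem_comap] at this

theorem center_le_ker : Subgroup.center (SpecialLinearGroup (Fin 3) F) ≤ (planePerm he).ker := by
  intro g hg
  obtain ⟨c, hc3, hc⟩ := Matrix.SpecialLinearGroup.mem_center_iff.mp hg
  rw [MonoidHom.mem_ker]
  refine Equiv.ext fun p => ?_
  rw [planePerm_apply, planeMap, Equiv.Perm.one_apply]
  split_ifs with hp
  · rfl
  · have hgv : ∀ v : Fin 3 → F, g • v = c • v := fun v => by
      show g.1 *ᵥ v = _
      rw [← hc]
      funext k
      simp [Matrix.mulVec_diagonal, Matrix.scalar_apply]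
    have hc0 : c ≠ 0 := fun h => by simp [h] at hc3
    rw [hgv, vecPt_smul he hc0, vecPt_vecC he, (labC_repC p hp).1]

theorem nonempty_equiv_fixPts [Fintype F] (hF : Fintype.card F = 4) :
    Nonempty (Matrix.ProjectiveSpecialLinearGroup (Fin 3) F ≃* fixPts threePts) := by
  classical
  let f : SpecialLinearGroup (Fin 3) F →* fixPts threePts :=
    (planePerm he).codRestrict (fixPts threePts) (planePerm_mem he)
  let f' : Matrix.ProjectiveSpecialLinearGroup (Fin 3) F →* fixPts threePts :=
    QuotientGroup.lift _ f (fun g hg => Subtype.ext (center_le_ker he hg))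
  have := Cfsg.Agent.Classical.psl_isSimpleGroup (F := F) (ι := Fin 3) (by simp)
  have hker : f'.ker = ⊥ := by
    rcases (inferInstance : f'.ker.Normal).eq_bot_or_eq_top with h | h
    · exact h
    · exfalso
      set t : SpecialLinearGroup (Fin 3) F := SpecialLinearGroup.transvection (show (0 : Fin 3) ≠ 1 by decide) 1
      have h1 : f' (QuotientGroup.mk t) = 1 := MonoidHom.mem_ker.mp (h ▸ Subgroup.mem_top _)
      have h2 : planePerm he t (vecPt e (Pi.single 1 1)) = vecPt e (Pi.single 1 1) := by
        have : (f t : Equiv.Perm GolayPt) = 1 := congrArg Subtype.val h1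
        show (f t : Equiv.Perm GolayPt) _ = _
        rw [this]; rfl
      rw [planePerm_apply, planeMap_vecPt he t (by simp), Cfsg.Agent.Classical.transvection_smul_vec] at h2
      have e01 : vecC e (1, 1, 0) = Pi.single 1 1 + (1 * (Pi.single 1 1 : Fin 3 → F) 1) • Pi.single 0 1 := by
        funext k; fin_cases k <;> simp [vecC, co, he.zero, he.one]
      have e10 : vecC e (0, 1, 0) = Pi.single 1 1 := by
        funext k; fin_cases k <;> simp [vecC, co, he.zero, he.one]
      rw [← e01, ← e10, vecPt_vecC he, vecPt_vecC he] at h2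
      revert h2
      decide +kernel
  have hinj := (MonoidHom.ker_eq_bot_iff f').mp hker
  have hfix : Nat.card (fixPts threePts) = 20160 := natCard_stdStab 3
  have hpsl : Nat.card (Matrix.ProjectiveSpecialLinearGroup (Fin 3) F) = 20160 := by
    have := Cfsg.Agent.Classical.card_psl_mul (F := F) 3 (by norm_num)
    rw [hF, Fin.prod_univ_three] at this
    norm_num at this
    rw [Nat.card_eq_fintype_card]
    omega
  have : Finite (fixPts threePts) := Subtype.finite
  exact ⟨MulEquiv.ofBijective f' ((Nat.bijective_iff_injective_and_card f').mpr ⟨hinj, by rw [hpsl, hfix]⟩)⟩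

end

theorem stab_three_equiv_psl {p q r : GolayPt} (hpq : p ≠ q) (hpr : p ≠ r) (hqr : q ≠ r) (F : Type) [Field F]
    [Fintype F] (hF : Fintype.card F = 4) :
    Nonempty (↥(MulAction.stabilizer M24 p ⊓ MulAction.stabilizer M24 q ⊓ MulAction.stabilizer M24 r) ≃*
      Matrix.ProjectiveSpecialLinearGroup (Fin 3) F) := by
  obtain ⟨e, h1, h2, h3, h4, h5⟩ := exists_model hF
  obtain ⟨a⟩ := nonempty_equiv_fixPts ⟨h1, h2, h3, h4, h5⟩ hF
  obtain ⟨b⟩ := fixPts_equiv_stdStab (L := [p, q, r]) (by simp [hpq, hpr, hqr]) (by simp)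
  exact ⟨(subtypeEquiv _).trans ((MulEquiv.subgroupCongr (map_subtype_stabilizer_three p q r)).trans
    (b.symm.trans a.symm))⟩

end CfsgLib.Golay
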