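import Cfsg.Agent.Lib.Golay.M24

/-!
# The order of the group of the length-24 code, multiple transitivity, point stabilisers
-/

set_option autoImplicit false

namespace CfsgLib.Golay

open Cfsg
open scoped Pointwise

/-- The elements of `M24` fixing every point of a list. -/
def fixPts (L : List GolayPt) : Subgroup (Equiv.Perm GolayPt) :=
  M24 ⊓ fixingSubgroup (Equiv.Perm GolayPt) {p | p ∈ L}

theorem mem_fixPts {L : List GolayPt} {σ : Equiv.Perm GolayPt} :
    σ ∈ fixPts L ↔ σ ∈ M24 ∧ ∀ p ∈ L, σ p = p := by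
  rw [fixPts, Subgroup.mem_inf, mem_fixingSubgroup_iff]
  rfl

theorem fixPts_le_M24 (L : List GolayPt) : fixPts L ≤ M24 := inf_le_left

theorem fixPts_nil : fixPts [] = M24 := by
  ext σ; simp [mem_fixPts]

theorem fixPts_concat (L : List GolayPt) (p : GolayPt) :
    fixPts (L ++ [p]) = fixPts L ⊓ MulAction.stabilizer (Equiv.Perm GolayPt) p := by
  ext σ
  rw [Subgroup.mem_inf, mem_fixPts, mem_fixPts]
  constructor
  · rintro ⟨h1, h2⟩
    exact ⟨⟨h1, fun q hq => h2 q (List.mem_append_left _ hq)⟩,
      h2 p (List.mem_append_right _ (List.mem_singleton_self p))⟩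
  · rintro ⟨⟨h1, h2⟩, h3⟩
    refine ⟨h1, fun q hq => ?_⟩
    rcases List.mem_append.mp hq with hq | hq
    · exact h2 q hq
    · rw [List.mem_singleton.mp hq]; exact h3

theorem fixPts_congr {L L' : List GolayPt} (h : ∀ p, p ∈ L ↔ p ∈ L') : fixPts L = fixPts L' := by
  ext σ; simp [mem_fixPts, h]

/-- The chain: `stdStab k` fixes the first `k` base points. -/
def stdStab (k : ℕ) : Subgroup (Equiv.Perm GolayPt) := fixPts (basePts.take k)

theorem stdStab_zero : stdStab 0 = M24 := fixPts_nil

theorem take_succ_basePts {k : ℕ} (hk : k < 7) :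
    basePts.take (k + 1) = basePts.take k ++ [basePt k] := by
  interval_cases k <;> rfl

theorem stdStab_succ {k : ℕ} (hk : k < 7) :
    stdStab (k + 1) = stdStab k ⊓ MulAction.stabilizer (Equiv.Perm GolayPt) (basePt k) := by
  rw [stdStab, take_succ_basePts hk, fixPts_concat]; rfl

theorem stdStab_seven : stdStab 7 = ⊥ := by
  rw [eq_bot_iff]
  intro σ hσ
  rw [stdStab, mem_fixPts] at hσ
  exact Subgroup.mem_bot.mpr (eq_one_of_fix_base hσ.1 hσ.2)

theorem exists_transversal {k : ℕ} (hk : k < 7) {σ : Equiv.Perm GolayPt} (hσ : σ ∈ stdStab k) :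
    ∃ τ ∈ G0, τ ∈ stdStab k ∧ τ (basePt k) = σ (basePt k) := by
  rw [stdStab, mem_fixPts] at hσ
  obtain ⟨τ, hτ, hfix, hval⟩ :=
    exists_level hk (mem_targets_iff.mp (apply_basePt_mem_targetPts hk hσ.1 hσ.2))
  exact ⟨τ, hτ, mem_fixPts.mpr ⟨G0_le_M24 hτ, hfix⟩, hval⟩

/-- `M24` is generated by the translation, the inversion and the cube twist. -/
theorem G0_eq_M24 : G0 = M24 := by
  refine le_antisymm G0_le_M24 (fun σ hσ => ?_)
  suffices ∀ j : ℕ, j ≤ 7 → ∀ τ ∈ stdStab (7 - j), τ ∈ G0 from
    this 7 le_rfl σ (by rw [Nat.sub_self, stdStab_zero]; exact hσ)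
  intro j
  induction j with
  | zero =>
    intro _ τ hτ
    rw [Nat.sub_zero, stdStab_seven, Subgroup.mem_bot] at hτ
    rw [hτ]; exact one_mem _
  | succ j ih =>
    intro hj τ hτ
    have hk : 7 - (j + 1) < 7 := by omega
    obtain ⟨ρ, hρ, hρ', hval⟩ := exists_transversal hk hτ
    have hmem : ρ⁻¹ * τ ∈ stdStab (7 - j) := by
      rw [show 7 - j = 7 - (j + 1) + 1 by omega, stdStab_succ hk]
      refine Subgroup.mem_inf.mpr ⟨mul_mem (inv_mem hρ') hτ, ?_⟩
      rw [MulAction.mem_stabilizer_iff, mul_smul, inv_smul_eq_iff, Equiv.Perm.smul_def,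
        Equiv.Perm.smul_def, hval]
    have := mul_mem hρ (ih (by omega) _ hmem)
    rwa [mul_inv_cancel_left] at this

theorem natCard_eq_ncard_mul_natCard {α : Type*} (H : Subgroup (Equiv.Perm α)) (p : α) (T : Finset α)
    (h1 : ∀ σ ∈ H, σ p ∈ T) (h2 : ∀ t ∈ T, ∃ σ ∈ H, σ p = t) :
    Nat.card H = T.card * Nat.card ↥(H ⊓ MulAction.stabilizer (Equiv.Perm α) p) := by
  have horb : MulAction.orbit H p = (T : Set α) := by
    ext t
    rw [MulAction.mem_orbit_iff, Finset.mem_coe]
    constructor
    · rintro ⟨σ, rfl⟩; exact h1 σ σ.2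
    · intro ht
      obtain ⟨σ, hσ, rfl⟩ := h2 t ht
      exact ⟨⟨σ, hσ⟩, rfl⟩
  have hindex : (MulAction.stabilizer H p).index = T.card := by
    rw [MulAction.index_stabilizer, horb, Set.ncard_coe_finset]
  have hmap : (MulAction.stabilizer H p).map H.subtype = H ⊓ MulAction.stabilizer (Equiv.Perm α) p := by
    ext σ
    simp only [Subgroup.mem_map, Subgroup.mem_inf, MulAction.mem_stabilizer_iff]
    constructor
    · rintro ⟨τ, hτ, rfl⟩; exact ⟨τ.2, hτ⟩
    · rintro ⟨hσ, hp⟩; exact ⟨⟨σ, hσ⟩, hp, rfl⟩
  rw [← hmap, ← Nat.card_congr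
    ((MulAction.stabilizer H p).equivMapOfInjective H.subtype H.subtype_injective).toEquiv, ← hindex,
    Subgroup.index_mul_card]

theorem natCard_stdStab_step {k : ℕ} (hk : k < 7) :
    Nat.card (stdStab k) = (targetPts k).card * Nat.card (stdStab (k + 1)) := by
  rw [stdStab_succ hk]
  refine natCard_eq_ncard_mul_natCard _ _ _ (fun σ hσ => ?_) (fun t ht => ?_)
  · obtain ⟨h1, h2⟩ := mem_fixPts.mp hσ
    exact apply_basePt_mem_targetPts hk h1 h2
  · obtain ⟨τ, hτ, hfix, hval⟩ := exists_level hk (mem_targets_iff.mp ht)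
    exact ⟨τ, mem_fixPts.mpr ⟨G0_le_M24 hτ, hfix⟩, hval⟩

/-- The orders along the chain. -/
theorem natCard_stdStab : ∀ k : Fin 8, Nat.card (stdStab k.val) =
    [244823040, 10200960, 443520, 20160, 960, 48, 16, 1].getD k.val 0 := by
  have h7 : Nat.card (stdStab 7) = 1 := by rw [stdStab_seven]; exact Subgroup.card_bot
  have h6 : Nat.card (stdStab 6) = 16 := by
    rw [natCard_stdStab_step (by norm_num), h7, show (targetPts 6).card = 16 from card_targetPts 6]
  have h5 : Nat.card (stdStab 5) = 48 := by
    rw [natCard_stdStab_step (by norm_num), h6, show (targetPts 5).card = 3 from card_targetPts 5]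
  have h4 : Nat.card (stdStab 4) = 960 := by
    rw [natCard_stdStab_step (by norm_num), h5, show (targetPts 4).card = 20 from card_targetPts 4]
  have h3 : Nat.card (stdStab 3) = 20160 := by
    rw [natCard_stdStab_step (by norm_num), h4, show (targetPts 3).card = 21 from card_targetPts 3]
  have h2 : Nat.card (stdStab 2) = 443520 := by
    rw [natCard_stdStab_step (by norm_num), h3, show (targetPts 2).card = 22 from card_targetPts 2]
  have h1 : Nat.card (stdStab 1) = 10200960 := by
    rw [natCard_stdStab_step (by norm_num), h2, show (targetPts 1).card = 23 from card_targetPts 1]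
  have h0 : Nat.card (stdStab 0) = 244823040 := by
    rw [natCard_stdStab_step (by norm_num), h1, show (targetPts 0).card = 24 from card_targetPts 0]
  intro k
  fin_cases k
  exacts [h0, h1, h2, h3, h4, h5, h6, h7]

theorem natCard_M24 : Nat.card M24 = 244823040 := by
  rw [← stdStab_zero]; exact natCard_stdStab 0

/-- Any at most five distinct points are the images of the first base points. -/
theorem exists_map_basePts (L : List GolayPt) (hL : L.Nodup) (h5 : L.length ≤ 5) :
    ∃ g ∈ M24, (basePts.take L.length).map g = L := by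
  induction L using List.reverseRecOn with
  | nil => exact ⟨1, one_mem _, by simp⟩
  | append_singleton L p ih =>
    rw [List.length_append, List.length_singleton] at h5
    obtain ⟨hL', -, hdisj⟩ := List.nodup_append.mp hL
    obtain ⟨g, hg, hgL⟩ := ih hL' (by omega)
    have hk : L.length < 5 := by omega
    have hnot : g⁻¹ p ∉ basePts.take L.length := by
      intro h
      have hp : p ∈ L := by
        rw [← hgL]; exact List.mem_map.mpr ⟨_, h, Equiv.apply_symm_apply g p⟩
      exact hdisj p hp p (List.mem_singleton_self p) rfl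
    have ht : (idx (g⁻¹ p)).val ∈ targets.getD L.length [] :=
      (targets_spec ⟨L.length, hk⟩ _).mpr (fun h => hnot (mem_basePos_take.mp h))
    obtain ⟨ρ, hρ, hfix, hval⟩ := exists_level (by omega : L.length < 7) ht
    refine ⟨g * ρ, mul_mem hg (G0_le_M24 hρ), ?_⟩
    rw [List.length_append, List.length_singleton, take_succ_basePts (by omega), List.map_append,
      List.map_singleton]
    congr 1
    · conv_rhs => rw [← hgL]
      refine List.map_congr_left (fun b hb => ?_)
      show g (ρ b) = g b
      rw [hfix b hb]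
    · show [g (ρ (basePt L.length))] = [p]
      rw [hval]; simp

/-- Lists of at most five distinct points of one length are conjugate. -/
theorem exists_map_eq {L L' : List GolayPt} (hL : L.Nodup) (hL' : L'.Nodup)
    (h : L.length = L'.length) (h5 : L.length ≤ 5) : ∃ g ∈ M24, L.map g = L' := by
  obtain ⟨g, hg, hgL⟩ := exists_map_basePts L hL h5
  obtain ⟨g', hg', hgL'⟩ := exists_map_basePts L' hL' (h ▸ h5)
  refine ⟨g' * g⁻¹, mul_mem hg' (inv_mem hg), ?_⟩
  conv_lhs => rw [← hgL]
  conv_rhs => rw [← hgL', ← h]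
  rw [List.map_map]
  refine List.map_congr_left (fun b _ => ?_)
  simp

theorem isMultiplyPretransitive_five : MulAction.IsMultiplyPretransitive M24 GolayPt 5 := by
  rw [MulAction.isMultiplyPretransitive_iff]
  intro x y
  obtain ⟨g, hg, hgx⟩ := exists_map_eq (List.nodup_ofFn.mpr x.injective) (List.nodup_ofFn.mpr y.injective)
    (by simp) (by simp)
  refine ⟨⟨g, hg⟩, DFunLike.ext _ _ fun i => ?_⟩
  rw [List.map_ofFn, List.ofFn_inj] at hgx
  exact congrFun hgx i

/-- Conjugation moves pointwise stabilisers. -/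
theorem map_conj_fixPts {g : Equiv.Perm GolayPt} (hg : g ∈ M24) (L : List GolayPt) :
    (fixPts L).map (MulAut.conj g).toMonoidHom = fixPts (L.map g) := by
  ext σ
  rw [Subgroup.mem_map_equiv, mem_fixPts, mem_fixPts]
  simp only [MulAut.conj_symm_apply, List.mem_map, forall_exists_index, and_imp,
    forall_apply_eq_imp_iff₂, Equiv.Perm.mul_apply]
  constructor
  · rintro ⟨h1, h2⟩
    refine ⟨?_, fun a ha => ?_⟩
    · have := mul_mem (mul_mem hg h1) (inv_mem hg)
      simpa [mul_assoc] using this
    · have := congrArg g (h2 a ha)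
      simpa using this
  · rintro ⟨h1, h2⟩
    exact ⟨mul_mem (mul_mem (inv_mem hg) h1) hg, fun a ha => by rw [h2 a ha]; simp⟩

/-- Up to isomorphism, the stabiliser of at most five points is a member of the chain. -/
theorem fixPts_equiv_stdStab {L : List GolayPt} (hL : L.Nodup) (h5 : L.length ≤ 5) :
    Nonempty (stdStab L.length ≃* fixPts L) := by
  obtain ⟨g, hg, hgL⟩ := exists_map_basePts L hL h5
  refine ⟨((fixPts (basePts.take L.length)).equivMapOfInjective (MulAut.conj g).toMonoidHom
    (MulAut.conj g).injective).trans (MulEquiv.subgroupCongr ?_)⟩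
  rw [map_conj_fixPts hg, hgL]

theorem natCard_fixPts {L : List GolayPt} (hL : L.Nodup) (h5 : L.length ≤ 5) :
    Nat.card (fixPts L) = Nat.card (stdStab L.length) := by
  obtain ⟨e⟩ := fixPts_equiv_stdStab hL h5
  exact (Nat.card_congr e.toEquiv).symm

/-! ### Stabilisers taken inside `M24` -/

theorem map_subtype_stabilizer {α : Type*} [MulAction (Equiv.Perm GolayPt) α] (a : α) :
    (MulAction.stabilizer M24 a).map (Subgroup.subtype M24) =
      M24 ⊓ MulAction.stabilizer (Equiv.Perm GolayPt) a := by
  ext σ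
  simp only [Subgroup.mem_map, Subgroup.mem_inf, MulAction.mem_stabilizer_iff]
  constructor
  · rintro ⟨τ, hτ, rfl⟩; exact ⟨τ.2, hτ⟩
  · rintro ⟨hσ, hp⟩; exact ⟨⟨σ, hσ⟩, hp, rfl⟩

/-- A subgroup of `↥M24` is isomorphic to its image among all permutations. -/
noncomputable def subtypeEquiv (H : Subgroup M24) :
    H ≃* ↥(H.map (Subgroup.subtype M24)) :=
  H.equivMapOfInjective (Subgroup.subtype M24) (Subgroup.subtype_injective _)

theorem map_subtype_stabilizer_one (p : GolayPt) :
    (MulAction.stabilizer M24 p).map (Subgroup.subtype M24) = fixPts [p] := by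
  rw [map_subtype_stabilizer]
  ext σ; simp [mem_fixPts]

theorem map_subtype_stabilizer_two (p q : GolayPt) :
    (MulAction.stabilizer M24 p ⊓ MulAction.stabilizer M24 q).map (Subgroup.subtype M24) =
      fixPts [p, q] := by
  rw [Subgroup.map_inf _ _ _ (Subgroup.subtype_injective _), map_subtype_stabilizer, map_subtype_stabilizer]
  ext σ
  simp [mem_fixPts]
  tauto

theorem map_subtype_stabilizer_three (p q r : GolayPt) :
    (MulAction.stabilizer M24 p ⊓ MulAction.stabilizer M24 q ⊓ MulAction.stabilizer M24 r).map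
      (Subgroup.subtype M24) = fixPts [p, q, r] := by
  rw [Subgroup.map_inf _ _ _ (Subgroup.subtype_injective _),
    Subgroup.map_inf _ _ _ (Subgroup.subtype_injective _), map_subtype_stabilizer,
    map_subtype_stabilizer, map_subtype_stabilizer]
  ext σ
  simp [mem_fixPts]
  tauto

/-! ### Octads -/

theorem exists_smul_baseOctad_eq {o : Finset GolayPt} (ho : o ∈ octads) :
    ∃ g ∈ M24, g • baseOctad = o := by
  obtain ⟨g, hg, hgL⟩ := exists_map_basePts (o.toList.take 5)
    ((o.nodup_toList).sublist (List.take_sublist _ _)) (by simp)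
  refine ⟨g, hg, octad_eq_of_five_le (smul_mem_octads hg baseOctad_mem) ho ?_⟩
  have hlen : (o.toList.take 5).length = 5 := by simp [card_of_mem_octads ho]
  have h5 : (o.toList.take 5).toFinset.card = 5 := by
    rw [List.toFinset_card_of_nodup ((o.nodup_toList).sublist (List.take_sublist _ _)), hlen]
  rw [← h5]
  refine Finset.card_le_card (fun p hp => ?_)
  rw [List.mem_toFinset] at hp
  refine Finset.mem_inter.mpr ⟨?_, Finset.mem_toList.mp (List.mem_of_mem_take hp)⟩
  rw [← hgL, hlen, List.mem_map] at hp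
  obtain ⟨b, hb, rfl⟩ := hp
  exact Finset.mem_smul_finset.mpr
    ⟨b, basePts_subset_baseOctad b (List.take_subset_take_left _ (by norm_num : 5 ≤ 6) hb), rfl⟩

theorem exists_smul_octad_eq {o o' : Finset GolayPt} (ho : o ∈ octads) (ho' : o' ∈ octads) :
    ∃ g ∈ M24, g • o = o' := by
  obtain ⟨g, hg, rfl⟩ := exists_smul_baseOctad_eq ho
  obtain ⟨g', hg', rfl⟩ := exists_smul_baseOctad_eq ho'
  exact ⟨g' * g⁻¹, mul_mem hg' (inv_mem hg), by rw [mul_smul, inv_smul_smul]⟩

/-- `M24` is the whole automorphism group of the octads. -/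
theorem M24_eq_setSystemAut_octads : M24 = setSystemAut octads := by
  ext σ
  rw [show (setSystemAut octads) = MulAction.stabilizer (Equiv.Perm GolayPt) octads from rfl,
    MulAction.mem_stabilizer_set' octads_finite]
  constructor
  · intro h b hb; exact smul_mem_octads h hb
  · intro h
    rw [mem_M24_iff_isPres, isPres, List.all_eq_true]
    intro g hg
    have h1 : g < 2 ^ 24 ∧ popc g = 8 := by revert g; decide +kernel
    have h2 : decS g ∈ octads := by
      rw [mem_octads, encS_decS h1.1]; exact ⟨isCode_gens g hg, h1.2⟩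
    have := (mem_octads.mp (h h2)).1
    rwa [encS_smul, encS_decS h1.1] at this

end CfsgLib.Golay
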