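import Cfsg.Agent.Lib.Golay.Masks

/-!
# The length-24 code as a set of masks

Membership is one xor-span evaluation; weights, the numbers of octads and dodecads, minimum weight,
self-orthogonality.
-/

set_option autoImplicit false

namespace CfsgLib.Golay

open Cfsg
open scoped Pointwise symmDiff

/-- A systematic basis of the code (positions 0..11 are information positions); all twelve are octads. -/
def gens : List ℕ :=
  [13062145, 4845570, 13938692, 7221256, 10170384, 11952160, 15515712, 2019456, 4038912, 8077824,
    11654144, 14919680]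

/-- Masks of the 23 translates of the squares, and of the all-ones word. -/
def qrMasks : List ℕ :=
  [340831, 681662, 1363324, 2726648, 5453296, 2517985, 5035970, 1683333, 3366666, 6733332, 5078057,
    1767507, 3535014, 7070028, 5751449, 3114291, 6228582, 4068557, 8137114, 7885621, 7382635,
    6376663, 4364719, 16777215]

/-- The `k`-th code word. -/
def codeWord (k : ℕ) : ℕ := spanWord gens k

/-- Membership test for masks. -/
def isCode (n : ℕ) : Bool := codeWord (n &&& 4095) == n

theorem isCode_iff {n : ℕ} : isCode n = true ↔ codeWord (n &&& 4095) = n := by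
  simp [isCode]

theorem isCode_zero : isCode 0 = true := by decide +kernel

theorem isCode_xor {a b : ℕ} (ha : isCode a = true) (hb : isCode b = true) :
    isCode (a ^^^ b) = true := by
  rw [isCode_iff] at *
  unfold codeWord at *
  rw [Nat.and_xor_distrib_right, spanWord_xor, ha, hb]

theorem isCode_gens : ∀ g ∈ gens, isCode g = true := by decide +kernel

theorem isCode_codeWord (k : ℕ) : isCode (codeWord k) = true :=
  spanWord_induction (P := fun n => isCode n = true) gens isCode_zero
    (fun _ _ => isCode_xor) isCode_gens k

theorem codeWord_and : ∀ k < 4096, codeWord k &&& 4095 = k := by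
  have h : (List.range 4096).all (fun k => Nat.beq (Nat.land (codeWord k) 4095) k) = true := by
    decide +kernel
  intro k hk
  exact Nat.eq_of_beq_eq_true (List.all_eq_true.mp h k (List.mem_range.mpr hk))

theorem isCode_qrWord : ∀ t : ZMod 23, isCode (enc (qrWord t)) = true := by decide +kernel

theorem qrMasks_spec : (List.ofFn fun i : Fin 24 =>
    if i.val < 23 then enc (qrWord (i.val : ZMod 23)) else enc 1) = qrMasks := by decide +kernel

theorem gens_in_qr :
    ([8390313, 280, 8389785, 1400, 8390330, 8390551, 8390093, 2000, 1347, 101, 8390243, 8390181].map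
      (spanWord qrMasks)) = gens := by decide +kernel

theorem dec_mem_of_mem_qrMasks {m : ℕ} (h : m ∈ qrMasks) : dec m ∈ golayCode := by
  rw [← qrMasks_spec, List.mem_ofFn] at h
  obtain ⟨i, rfl⟩ := h
  by_cases hi : i.val < 23
  · simp only [hi, if_true, dec_enc]
    exact Submodule.subset_span (Set.mem_union_left _ ⟨_, rfl⟩)
  · simp only [hi, if_false, dec_enc]
    exact Submodule.subset_span (Set.mem_union_right _ rfl)

theorem dec_spanWord_mem {gs : List ℕ} (h : ∀ g ∈ gs, dec g ∈ golayCode) (n : ℕ) :
    dec (spanWord gs n) ∈ golayCode :=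
  spanWord_induction (P := fun m => dec m ∈ golayCode) gs (by rw [dec_zero]; exact zero_mem _)
    (fun a b ha hb => by rw [dec_xor]; exact add_mem ha hb) h n

theorem dec_codeWord_mem (k : ℕ) : dec (codeWord k) ∈ golayCode := by
  refine dec_spanWord_mem (fun g hg => ?_) k
  rw [← gens_in_qr, List.mem_map] at hg
  obtain ⟨c, -, rfl⟩ := hg
  exact dec_spanWord_mem (fun m hm => dec_mem_of_mem_qrMasks hm) c

/-- The code, as masks. -/
theorem mem_golayCode {w : GolayPt → ZMod 2} : w ∈ golayCode ↔ isCode (enc w) = true := by
  constructor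
  · intro hw
    induction hw using Submodule.span_induction with
    | mem x hx =>
      rcases hx with ⟨t, rfl⟩ | hx
      · exact isCode_qrWord t
      · rw [Set.mem_singleton_iff] at hx
        subst hx
        decide +kernel
    | zero => rw [enc_zero]; exact isCode_zero
    | add x y _ _ hx hy => rw [enc_add]; exact isCode_xor hx hy
    | smul a x _ hx =>
      have : a = 0 ∨ a = 1 := by revert a; decide
      rcases this with rfl | rfl
      · rw [zero_smul, enc_zero]; exact isCode_zero
      · rwa [one_smul]
  · intro h
    rw [← dec_enc w, ← isCode_iff.mp h]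
    exact dec_codeWord_mem _

theorem dec_mem_of_isCode {n : ℕ} (h : isCode n = true) : dec n ∈ golayCode := by
  rw [← isCode_iff.mp h]; exact dec_codeWord_mem _

theorem mem_supports {b : Finset GolayPt} :
    b ∈ supports (golayCode : Set (GolayPt → ZMod 2)) ↔ isCode (encS b) = true := by
  constructor
  · rintro ⟨w, hw, rfl⟩
    rw [← enc_eq_encS]
    exact mem_golayCode.mp hw
  · intro h
    exact ⟨dec (encS b), dec_mem_of_isCode h, by rw [support₂_dec, decS_encS]⟩

theorem mem_wordsOfWeight {b : Finset GolayPt} {n : ℕ} :
    b ∈ wordsOfWeight (golayCode : Set (GolayPt → ZMod 2)) n ↔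
      isCode (encS b) = true ∧ popc (encS b) = n := by
  rw [wordsOfWeight, Set.mem_ofPred_eq, mem_supports, popc_encS]

theorem mem_octads {b : Finset GolayPt} :
    b ∈ octads ↔ isCode (encS b) = true ∧ popc (encS b) = 8 := mem_wordsOfWeight

theorem mem_dodecads {b : Finset GolayPt} :
    b ∈ dodecads ↔ isCode (encS b) = true ∧ popc (encS b) = 12 := mem_wordsOfWeight

theorem card_of_mem_octads {b : Finset GolayPt} (hb : b ∈ octads) : b.card = 8 := hb.2

theorem card_of_mem_dodecads {b : Finset GolayPt} (hb : b ∈ dodecads) : b.card = 12 := hb.2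

/-- A code mask is the `k`-th code word for a unique `k < 4096`. -/
theorem exists_codeWord {n : ℕ} (h : isCode n = true) : ∃ k < 4096, codeWord k = n :=
  ⟨n &&& 4095, Nat.lt_succ_of_le Nat.and_le_right, isCode_iff.mp h⟩

theorem codeWord_lt : ∀ k, codeWord k < 2 ^ 24 :=
  fun k => spanWord_induction (P := fun n => n < 2 ^ 24) gens (by norm_num)
    (fun _ _ => Nat.xor_lt_two_pow) (by decide +kernel) k

theorem codeWord_injOn : Set.InjOn codeWord {k | k < 4096} := fun a ha b hb h => by
  rw [← codeWord_and a ha, h, codeWord_and b hb]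

theorem wordsOfWeight_eq (n : ℕ) :
    wordsOfWeight (golayCode : Set (GolayPt → ZMod 2)) n =
      (fun k => decS (codeWord k)) '' ↑((Finset.range 4096).filter fun k => popc (codeWord k) = n) := by
  ext b
  simp only [mem_wordsOfWeight, Set.mem_image, Finset.coe_filter, Finset.mem_range, Set.mem_ofPred_eq]
  constructor
  · rintro ⟨h1, h2⟩
    obtain ⟨k, hk, hkb⟩ := exists_codeWord h1
    exact ⟨k, ⟨hk, by rw [hkb, h2]⟩, by rw [hkb, decS_encS]⟩
  · rintro ⟨k, ⟨-, hk⟩, rfl⟩
    rw [encS_decS (codeWord_lt k)]
    exact ⟨isCode_codeWord k, hk⟩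

theorem ncard_wordsOfWeight (n : ℕ) :
    (wordsOfWeight (golayCode : Set (GolayPt → ZMod 2)) n).ncard =
      ((Finset.range 4096).filter fun k => popc (codeWord k) = n).card := by
  rw [wordsOfWeight_eq, Set.InjOn.ncard_image, Set.ncard_coe_finset]
  intro a ha b hb h
  simp only [Finset.coe_filter, Finset.mem_range, Set.mem_ofPred_eq] at ha hb
  refine codeWord_injOn ha.1 hb.1 ?_
  have := congrArg encS h
  rwa [encS_decS (codeWord_lt a), encS_decS (codeWord_lt b)] at this

theorem ncard_octads : octads.ncard = 759 := by
  rw [octads, ncard_wordsOfWeight]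
  decide +kernel

theorem ncard_dodecads : dodecads.ncard = 2576 := by
  rw [dodecads, ncard_wordsOfWeight]
  decide +kernel

theorem popc_codeWord : ∀ k < 4096,
    popc (codeWord k) = 0 ∨ popc (codeWord k) = 8 ∨ popc (codeWord k) = 12 ∨
      popc (codeWord k) = 16 ∨ popc (codeWord k) = 24 := by
  have h : (List.range 4096).all (fun k => [0, 8, 12, 16, 24].contains (popc (codeWord k))) = true := by
    decide +kernel
  intro k hk
  have := List.all_eq_true.mp h k (List.mem_range.mpr hk)
  simpa using this

/-- Every support has 0, 8, 12, 16 or 24 points. -/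
theorem card_support {b : Finset GolayPt} (h : b ∈ supports (golayCode : Set (GolayPt → ZMod 2))) :
    b.card = 0 ∨ b.card = 8 ∨ b.card = 12 ∨ b.card = 16 ∨ b.card = 24 := by
  obtain ⟨k, hk, hkb⟩ := exists_codeWord (mem_supports.mp h)
  rw [← popc_encS, ← hkb]
  exact popc_codeWord k hk

theorem four_dvd_card_support {b : Finset GolayPt}
    (h : b ∈ supports (golayCode : Set (GolayPt → ZMod 2))) : 4 ∣ b.card := by
  rcases card_support h with h | h | h | h | h <;> rw [h] <;> norm_num

theorem eight_le_card_support {b : Finset GolayPt}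
    (h : b ∈ supports (golayCode : Set (GolayPt → ZMod 2))) (hne : b.Nonempty) : 8 ≤ b.card := by
  have := hne.card_pos
  rcases card_support h with h | h | h | h | h <;> omega

theorem empty_mem_supports : (∅ : Finset GolayPt) ∈ supports (golayCode : Set (GolayPt → ZMod 2)) := by
  rw [mem_supports, encS_empty]; exact isCode_zero

theorem univ_mem_supports :
    (Finset.univ : Finset GolayPt) ∈ supports (golayCode : Set (GolayPt → ZMod 2)) := by
  rw [mem_supports, encS_univ]; decide +kernel

theorem symmDiff_mem_supports {b c : Finset GolayPt}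
    (hb : b ∈ supports (golayCode : Set (GolayPt → ZMod 2)))
    (hc : c ∈ supports (golayCode : Set (GolayPt → ZMod 2))) :
    b ∆ c ∈ supports (golayCode : Set (GolayPt → ZMod 2)) := by
  rw [mem_supports] at *
  rw [encS_symmDiff]
  exact isCode_xor hb hc

theorem card_symmDiff_add {α : Type*} [DecidableEq α] (b c : Finset α) :
    (b ∆ c).card + 2 * (b ∩ c).card = b.card + c.card := by
  have h1 : (b ∆ c).card = (b \ c).card + (c \ b).card := Finset.card_union_of_disjoint disjoint_sdiff_sdiff
  have h2 := Finset.card_sdiff_add_card_inter b c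
  have h3 := Finset.card_sdiff_add_card_inter c b
  rw [Finset.inter_comm c b] at h3
  omega

/-- Two supports meet in an even number of points. -/
theorem even_card_inter {b c : Finset GolayPt}
    (hb : b ∈ supports (golayCode : Set (GolayPt → ZMod 2)))
    (hc : c ∈ supports (golayCode : Set (GolayPt → ZMod 2))) : Even (b ∩ c).card := by
  have h1 := four_dvd_card_support hb
  have h2 := four_dvd_card_support hc
  have h3 := four_dvd_card_support (symmDiff_mem_supports hb hc)
  have h4 := card_symmDiff_add b c
  rw [even_iff_two_dvd]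
  omega

theorem mem_supports_of_mem_octads {b : Finset GolayPt} (hb : b ∈ octads) :
    b ∈ supports (golayCode : Set (GolayPt → ZMod 2)) := hb.1

theorem mem_supports_of_mem_dodecads {b : Finset GolayPt} (hb : b ∈ dodecads) :
    b ∈ supports (golayCode : Set (GolayPt → ZMod 2)) := hb.1

/-- Two octads with five common points are equal. -/
theorem octad_eq_of_five_le {b c : Finset GolayPt} (hb : b ∈ octads) (hc : c ∈ octads)
    (h5 : 5 ≤ (b ∩ c).card) : b = c := by
  have h4 := card_symmDiff_add b c
  have hb8 := card_of_mem_octads hb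
  have hc8 := card_of_mem_octads hc
  by_contra hne
  have := eight_le_card_support
    (symmDiff_mem_supports (mem_supports_of_mem_octads hb) (mem_supports_of_mem_octads hc))
    (Finset.symmDiff_nonempty.mpr hne)
  omega

/-- Two distinct octads meet in 0, 2 or 4 points. -/
theorem card_inter_octads {b c : Finset GolayPt} (hb : b ∈ octads) (hc : c ∈ octads) (hne : b ≠ c) :
    (b ∩ c).card = 0 ∨ (b ∩ c).card = 2 ∨ (b ∩ c).card = 4 := by
  have h1 : ¬ 5 ≤ (b ∩ c).card := fun h => hne (octad_eq_of_five_le hb hc h)
  obtain ⟨m, hm⟩ := even_card_inter (mem_supports_of_mem_octads hb) (mem_supports_of_mem_octads hc)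
  omega

/-- An octad meets a dodecad in 2, 4 or 6 points. -/
theorem card_inter_octad_dodecad {o d : Finset GolayPt} (ho : o ∈ octads) (hd : d ∈ dodecads) :
    (o ∩ d).card = 2 ∨ (o ∩ d).card = 4 ∨ (o ∩ d).card = 6 := by
  have h4 := card_symmDiff_add o d
  have ho8 := card_of_mem_octads ho
  have hd12 := card_of_mem_dodecads hd
  have hle : (o ∩ d).card ≤ 8 := (Finset.card_le_card Finset.inter_subset_left).trans ho8.le
  rcases card_support
    (symmDiff_mem_supports (mem_supports_of_mem_octads ho) (mem_supports_of_mem_dodecads hd))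
    with h | h | h | h | h <;> omega

theorem hammingNorm_eq_card_support₂ (w : GolayPt → ZMod 2) : hammingNorm w = (support₂ w).card := rfl

theorem sum_mul_eq_card (v w : GolayPt → ZMod 2) :
    ∑ i, v i * w i = (((support₂ v ∩ support₂ w).card : ℕ) : ZMod 2) := by
  have h : ∀ a b : ZMod 2, a * b = if a ≠ 0 ∧ b ≠ 0 then 1 else 0 := by decide
  simp only [h]
  rw [Finset.sum_boole]
  congr 2
  ext p
  simp [support₂]

theorem self_orthogonal {v w : GolayPt → ZMod 2} (hv : v ∈ golayCode) (hw : w ∈ golayCode) :
    ∑ i, v i * w i = 0 := by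
  obtain ⟨m, hm⟩ := even_card_inter ⟨v, hv, rfl⟩ ⟨w, hw, rfl⟩
  rw [sum_mul_eq_card, hm]
  push_cast
  exact CharTwo.add_self_eq_zero _

theorem natCard_golayCode : Nat.card golayCode = 4096 := by
  let e : Fin 4096 → golayCode := fun k => ⟨dec (codeWord k.val), dec_codeWord_mem _⟩
  have he : Function.Bijective e := by
    constructor
    · intro a b h
      have := congrArg (fun x : golayCode => enc x.val) h
      simp only [e, enc_dec (codeWord_lt _)] at this
      exact Fin.ext (codeWord_injOn a.isLt b.isLt this)
    · rintro ⟨w, hw⟩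
      obtain ⟨k, hk, hkw⟩ := exists_codeWord (mem_golayCode.mp hw)
      exact ⟨⟨k, hk⟩, Subtype.ext (by simp [e, hkw])⟩
  rw [← Nat.card_eq_of_bijective e he, Nat.card_eq_fintype_card, Fintype.card_fin]

theorem finrank_golayCode : Module.finrank (ZMod 2) golayCode = 12 := by
  have h := Module.natCard_eq_pow_finrank (K := ZMod 2) (V := golayCode)
  rw [natCard_golayCode, Nat.card_zmod] at h
  exact (Nat.pow_right_injective (le_refl 2) (h.symm.trans (by norm_num : 4096 = 2 ^ 12)))

theorem octads_finite : octads.Finite := Set.toFinite _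

/-- The octads form a Steiner system S(5, 8, 24): at most one by minimum weight, and 759 * 56 = 42504
five-element sets are covered. -/
theorem isSteinerSystem_octads : IsSteinerSystem 5 8 octads := by
  classical
  refine ⟨fun b hb => card_of_mem_octads hb, fun s hs => ?_⟩
  set O : Finset (Finset GolayPt) := octads_finite.toFinset with hO
  have hdisj : (O : Set (Finset GolayPt)).PairwiseDisjoint fun b => b.powersetCard 5 := by
    intro b hb c hc hne
    rw [Function.onFun, Finset.disjoint_left]
    intro t htb htc
    rw [Finset.mem_powersetCard] at htb htc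
    refine hne (octad_eq_of_five_le (by simpa [hO] using hb) (by simpa [hO] using hc) ?_)
    rw [← htb.2]
    exact Finset.card_le_card (Finset.subset_inter htb.1 htc.1)
  have hOc : O.card = 759 := by
    rw [hO, ← Set.ncard_eq_toFinset_card _ octads_finite, ncard_octads]
  have hcard : (O.biUnion fun b => b.powersetCard 5).card = 42504 := by
    rw [Finset.card_biUnion hdisj, Finset.sum_congr rfl (g := fun _ => 56), Finset.sum_const, hOc]
    · rfl
    · intro b hb
      rw [Finset.card_powersetCard, card_of_mem_octads (by simpa [hO] using hb)]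
      decide
  have htop : (O.biUnion fun b => b.powersetCard 5) =
      (Finset.univ : Finset GolayPt).powersetCard 5 := by
    refine Finset.eq_of_subset_of_card_le (fun t ht => ?_) ?_
    · simp only [Finset.mem_biUnion, Finset.mem_powersetCard] at ht
      obtain ⟨b, -, -, ht⟩ := ht
      exact Finset.mem_powersetCard.mpr ⟨Finset.subset_univ _, ht⟩
    · rw [hcard, Finset.card_powersetCard, Finset.card_univ, card_golayPt]
      decide
  have : s ∈ O.biUnion fun b => b.powersetCard 5 := by
    rw [htop]; exact Finset.mem_powersetCard.mpr ⟨Finset.subset_univ _, hs⟩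
  simp only [Finset.mem_biUnion, Finset.mem_powersetCard] at this
  obtain ⟨b, hb, hsb, -⟩ := this
  have hb' : b ∈ octads := by simpa [hO] using hb
  refine ⟨b, ⟨hb', hsb⟩, fun c hc => (octad_eq_of_five_le hc.1 hb' ?_)⟩
  rw [← hs]
  exact Finset.card_le_card (Finset.subset_inter hc.2 hsb)

end CfsgLib.Golay
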