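import Cfsg.Agent.Lib.Golay.M24Group

/-!
# Dodecads, their stabilisers, and pointwise stabilisers of octads

The 48 elements fixing five points permute the 48 dodecads through those points regularly; everything
about dodecad stabilisers follows from this and 5-transitivity.
-/

set_option autoImplicit false

namespace CfsgLib.Golay

open Cfsg
open scoped Pointwise

/-- The 16 lists of the elements fixing six base points. -/
def stab6Lists : List (List ℕ) := levelElts perms 6

/-- The 48 lists of the elements fixing five base points. -/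
def stab5Lists : List (List ℕ) :=
  (levelElts perms 5).flatMap fun a => stab6Lists.map fun b => comp a b

theorem mem_levelElts {k : ℕ} (hk : k < 7) {σ : Equiv.Perm GolayPt} (hσ : σ ∈ stdStab k) :
    ∃ τ ∈ stdStab k, toList τ ∈ levelElts perms k ∧ τ⁻¹ * σ ∈ stdStab (k + 1) := by
  obtain ⟨h1, h2⟩ := mem_fixPts.mp hσ
  have hp := mem_targets_iff.mp (apply_basePt_mem_targetPts hk h1 h2)
  have h := List.all_eq_true.mp levelCheck_perms k (List.mem_range.mpr hk)
  rw [levelCheck, Bool.and_eq_true, beq_iff_eq] at h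
  rw [← h.2, List.mem_map] at hp
  obtain ⟨l, hl, hlp⟩ := hp
  have hl' : InG0 l := by
    rw [levelElts, List.mem_map] at hl
    obtain ⟨i, -, rfl⟩ := hl
    exact inG0_getD inG0_perms i
  obtain ⟨τ, hτ, rfl⟩ := hl'
  have hτ' : τ ∈ stdStab k := by
    refine mem_fixPts.mpr ⟨G0_le_M24 hτ, fun b hb => ?_⟩
    have hb' := List.all_eq_true.mp (List.all_eq_true.mp h.1 _ hl) _ (mem_basePos_take.mpr hb)
    have := Nat.eq_of_beq_eq_true hb'
    rw [toList_getD] at this
    exact idx_injective (Fin.ext this)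
  refine ⟨τ, hτ', hl, ?_⟩
  rw [stdStab_succ hk]
  refine Subgroup.mem_inf.mpr ⟨mul_mem (inv_mem hτ') hσ, ?_⟩
  rw [← idx_basePt hk, toList_getD] at hlp
  rw [MulAction.mem_stabilizer_iff, mul_smul, inv_smul_eq_iff, Equiv.Perm.smul_def,
    Equiv.Perm.smul_def]
  exact (idx_injective (Fin.ext hlp)).symm

theorem toList_mem_stab6 {σ : Equiv.Perm GolayPt} (hσ : σ ∈ stdStab 6) : toList σ ∈ stab6Lists := by
  obtain ⟨τ, -, hl, hρ⟩ := mem_levelElts (by norm_num) hσ
  rw [stdStab_seven, Subgroup.mem_bot, inv_mul_eq_one] at hρ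
  rw [← hρ]; exact hl

theorem toList_mem_stab5 {σ : Equiv.Perm GolayPt} (hσ : σ ∈ stdStab 5) : toList σ ∈ stab5Lists := by
  obtain ⟨τ, -, hl, hρ⟩ := mem_levelElts (by norm_num) hσ
  rw [stab5Lists, List.mem_flatMap]
  refine ⟨toList τ, hl, List.mem_map.mpr ⟨_, toList_mem_stab6 hρ, ?_⟩⟩
  rw [← toList_mul, mul_inv_cancel_left]

theorem exists_of_mem_stab5Lists {l : List ℕ} (hl : l ∈ stab5Lists) :
    ∃ σ ∈ stdStab 5, toList σ = l := by
  have hfix : ∀ l ∈ stab5Lists, ∀ b ∈ basePos.take 5, l.getD b 0 = b := by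
    have h : (stab5Lists.all fun l => (basePos.take 5).all fun b => Nat.beq (l.getD b 0) b) = true := by
      decide +kernel
    intro l hl b hb
    exact Nat.eq_of_beq_eq_true (List.all_eq_true.mp (List.all_eq_true.mp h l hl) b hb)
  have hG : InG0 l := by
    rw [stab5Lists, List.mem_flatMap] at hl
    obtain ⟨a, ha, hb⟩ := hl
    rw [List.mem_map] at hb
    obtain ⟨b, hb, rfl⟩ := hb
    rw [levelElts, List.mem_map] at ha
    rw [stab6Lists, levelElts, List.mem_map] at hb
    obtain ⟨i, -, rfl⟩ := ha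
    obtain ⟨j, -, rfl⟩ := hb
    obtain ⟨σ, hσ, hσ'⟩ := inG0_getD inG0_perms i
    obtain ⟨τ, hτ, hτ'⟩ := inG0_getD inG0_perms j
    exact ⟨σ * τ, mul_mem hσ hτ, by rw [toList_mul, hσ', hτ']⟩
  obtain ⟨σ, hσ, rfl⟩ := hG
  refine ⟨σ, mem_fixPts.mpr ⟨G0_le_M24 hσ, fun p hp => ?_⟩, rfl⟩
  have := hfix _ hl _ (mem_basePos_take.mpr hp)
  rw [toList_getD] at this
  exact idx_injective (Fin.ext this)

/-- A dodecad through the first five base points. -/
def baseDodecad : Finset GolayPt := decS 11472927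

theorem baseDodecad_mem : baseDodecad ∈ dodecads := by
  rw [mem_dodecads, baseDodecad, encS_decS (by norm_num)]; decide +kernel

theorem basePts_subset_baseDodecad : ∀ p ∈ basePts.take 5, p ∈ baseDodecad := by
  unfold baseDodecad; decide +kernel

/-- The five-point stabiliser is transitive on the dodecads through the five points. -/
theorem stab5_reach : ((List.range 4096).all fun k =>
    !(Nat.beq (popc (codeWord k)) 12 && Nat.beq (Nat.land (codeWord k) 8388623) 8388623) ||
      (stab5Lists.map fun l => pmap l 11472927).any fun m => Nat.beq m (codeWord k)) = true := by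
  decide +kernel

/-- Only the identity fixes five points and the dodecad. -/
theorem stab5_free : (stab5Lists.all fun l =>
    !(Nat.beq (pmap l 11472927) 11472927) || l == List.range 24) = true := by
  decide +kernel

theorem exists_smul_baseDodecad {d : Finset GolayPt} (hd : d ∈ dodecads)
    (h5 : ∀ p ∈ basePts.take 5, p ∈ d) : ∃ σ ∈ stdStab 5, σ • baseDodecad = d := by
  obtain ⟨hcode, hpop⟩ := mem_dodecads.mp hd
  obtain ⟨k, hk, hkd⟩ := exists_codeWord hcode
  have h5' : Nat.land (codeWord k) 8388623 = 8388623 := by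
    have h8 : (8388623 : ℕ) = encS (basePts.take 5).toFinset := by decide +kernel
    rw [hkd, h8]
    show encS d &&& _ = _
    rw [Nat.and_comm, ← subset_iff_and]
    exact fun p hp => h5 p (List.mem_toFinset.mp hp)
  have h := List.all_eq_true.mp stab5_reach k (List.mem_range.mpr hk)
  have hp : Nat.beq (popc (codeWord k)) 12 = true := by rw [hkd, hpop]; rfl
  have hb : Nat.beq (Nat.land (codeWord k) 8388623) 8388623 = true := by rw [h5']; rfl
  simp only [hp, hb, Bool.and_self, Bool.not_true, Bool.false_or, List.any_eq_true, List.mem_map] at h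
  obtain ⟨-, ⟨l, hl, rfl⟩, hm⟩ := h
  obtain ⟨σ, hσ, rfl⟩ := exists_of_mem_stab5Lists hl
  refine ⟨σ, hσ, encS_injective ?_⟩
  rw [encS_smul, baseDodecad, encS_decS (by norm_num), Nat.eq_of_beq_eq_true hm, hkd]

theorem eq_one_of_fix_baseDodecad {σ : Equiv.Perm GolayPt} (hσ : σ ∈ stdStab 5)
    (h : σ • baseDodecad = baseDodecad) : σ = 1 := by
  have h1 := List.all_eq_true.mp stab5_free _ (toList_mem_stab5 hσ)
  have h2 : Nat.beq (pmap (toList σ) 11472927) 11472927 = true := by
    have := congrArg encS h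
    rw [encS_smul, baseDodecad, encS_decS (by norm_num)] at this
    rw [this]; exact Nat.beq_refl _
  simp only [h2, Bool.not_true, Bool.false_or, beq_iff_eq] at h1
  exact toList_injective (by rw [h1, toList_one])

/-- A dodecad and five of its points go to the standard ones. -/
theorem exists_std {d : Finset GolayPt} (hd : d ∈ dodecads) (L : List GolayPt) (hL : L.Nodup)
    (h5 : L.length = 5) (hLd : ∀ p ∈ L, p ∈ d) :
    ∃ g ∈ M24, (basePts.take 5).map g = L ∧ g • baseDodecad = d := by
  obtain ⟨g, hg, hgL⟩ := exists_map_basePts L hL h5.le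
  rw [h5] at hgL
  obtain ⟨σ, hσ, hσd⟩ := exists_smul_baseDodecad (smul_mem_dodecads (inv_mem hg) hd) (fun p hp => by
    have : g p ∈ d := hLd _ (hgL ▸ List.mem_map_of_mem hp)
    exact Finset.mem_smul_finset.mpr ⟨g p, this, by simp⟩)
  obtain ⟨hσ1, hσ2⟩ := mem_fixPts.mp hσ
  refine ⟨g * σ, mul_mem hg hσ1, ?_, ?_⟩
  · refine (List.map_congr_left fun p hp => ?_).trans hgL
    show g (σ p) = g p
    rw [hσ2 p hp]
  · rw [mul_smul, hσd, smul_inv_smul]

theorem exists_list_subset {s : Finset GolayPt} {n : ℕ} (h : n ≤ s.card) :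
    ∃ L : List GolayPt, L.Nodup ∧ L.length = n ∧ ∀ p ∈ L, p ∈ s := by
  refine ⟨s.toList.take n, s.nodup_toList.sublist (List.take_sublist _ _), ?_, fun p hp => ?_⟩
  · rw [List.length_take, Finset.length_toList]; omega
  · exact Finset.mem_toList.mp (List.mem_of_mem_take hp)

theorem exists_smul_baseDodecad_eq {d : Finset GolayPt} (hd : d ∈ dodecads) :
    ∃ g ∈ M24, g • baseDodecad = d := by
  obtain ⟨L, h1, h2, h3⟩ := exists_list_subset (n := 5) (s := d) (by rw [card_of_mem_dodecads hd]; norm_num)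
  obtain ⟨g, hg, -, hgd⟩ := exists_std hd L h1 h2 h3
  exact ⟨g, hg, hgd⟩

theorem exists_smul_dodecad_eq {d d' : Finset GolayPt} (hd : d ∈ dodecads) (hd' : d' ∈ dodecads) :
    ∃ g ∈ M24, g • d = d' := by
  obtain ⟨g, hg, rfl⟩ := exists_smul_baseDodecad_eq hd
  obtain ⟨g', hg', rfl⟩ := exists_smul_baseDodecad_eq hd'
  exact ⟨g' * g⁻¹, mul_mem hg' (inv_mem hg), by rw [mul_smul, inv_smul_smul]⟩

/-- Sharp 5-transitivity of a dodecad stabiliser on the dodecad. -/
theorem existsUnique_dodecad {d : Finset GolayPt} (hd : d ∈ dodecads) {L L' : List GolayPt}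
    (hL : L.Nodup) (hL' : L'.Nodup) (h5 : L.length = 5) (h5' : L'.length = 5)
    (hLd : ∀ p ∈ L, p ∈ d) (hLd' : ∀ p ∈ L', p ∈ d) :
    ∃! g : Equiv.Perm GolayPt, g ∈ M24 ∧ g • d = d ∧ L.map g = L' := by
  obtain ⟨a, ha, haL, had⟩ := exists_std hd L hL h5 hLd
  obtain ⟨b, hb, hbL, hbd⟩ := exists_std hd L' hL' h5' hLd'
  refine ⟨b * a⁻¹, ⟨mul_mem hb (inv_mem ha), ?_, ?_⟩, fun g hg => ?_⟩
  · conv_lhs => rw [← had, mul_smul, inv_smul_smul, hbd]
  · rw [← haL, ← hbL, List.map_map]
    exact List.map_congr_left fun p _ => by simp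
  · obtain ⟨hg1, hg2, hg3⟩ := hg
    rw [eq_mul_inv_iff_mul_eq]
    refine (inv_mul_eq_one.mp (eq_one_of_fix_baseDodecad (σ := b⁻¹ * (g * a)) ?_ ?_)).symm
    · refine mem_fixPts.mpr ⟨mul_mem (inv_mem hb) (mul_mem hg1 ha), fun p hp => ?_⟩
      rw [← haL, ← hbL, List.map_map, List.map_inj_left] at hg3
      have h' : g (a p) = b p := hg3 p hp
      simp [h']
    · rw [mul_smul, mul_smul, had, hg2, ← hbd, inv_smul_smul]

/-- The stabiliser of a dodecad. -/
def dodStab (d : Finset GolayPt) : Subgroup (Equiv.Perm GolayPt) :=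
  M24 ⊓ MulAction.stabilizer (Equiv.Perm GolayPt) d

theorem mem_dodStab {d : Finset GolayPt} {σ : Equiv.Perm GolayPt} :
    σ ∈ dodStab d ↔ σ ∈ M24 ∧ σ • d = d := Iff.rfl

theorem map_subtype_stabilizer_dodecad (d : Finset GolayPt) :
    (MulAction.stabilizer M24 d).map (Subgroup.subtype M24) = dodStab d :=
  map_subtype_stabilizer d

theorem apply_mem_iff_of_smul_eq {σ : Equiv.Perm GolayPt} {d : Finset GolayPt} (h : σ • d = d)
    (p : GolayPt) : σ p ∈ d ↔ p ∈ d := by
  conv_lhs => rw [← h, ← Equiv.Perm.smul_def, Finset.smul_mem_smul_finset_iff]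

theorem smul_dodecads_eq {σ : Equiv.Perm GolayPt} (hσ : σ ∈ M24) : σ • dodecads = dodecads := by
  have hfin : dodecads.Finite := Set.toFinite _
  exact MulAction.mem_stabilizer_iff.mp ((MulAction.mem_stabilizer_set' hfin).mpr
    fun b hb => smul_mem_dodecads hσ hb)

/-- A dodecad stabiliser has order 95040. -/
theorem natCard_dodStab {d : Finset GolayPt} (hd : d ∈ dodecads) : Nat.card (dodStab d) = 95040 := by
  have horb : MulAction.orbit M24 d = dodecads := by
    ext e
    rw [MulAction.mem_orbit_iff]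
    constructor
    · rintro ⟨g, rfl⟩; exact smul_mem_dodecads g.2 hd
    · intro he
      obtain ⟨g, hg, hge⟩ := exists_smul_dodecad_eq hd he
      exact ⟨⟨g, hg⟩, hge⟩
  have h := Subgroup.index_mul_card (MulAction.stabilizer M24 d)
  rw [MulAction.index_stabilizer, horb, ncard_dodecads, natCard_M24,
    Nat.card_congr (subtypeEquiv (MulAction.stabilizer M24 d)).toEquiv,
    map_subtype_stabilizer_dodecad] at h
  omega

/-- The stabiliser of a dodecad and one of its points. -/
def dodPtStab (d : Finset GolayPt) (p : GolayPt) : Subgroup (Equiv.Perm GolayPt) :=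
  dodStab d ⊓ MulAction.stabilizer (Equiv.Perm GolayPt) p

theorem map_subtype_stabilizer_dodPt (d : Finset GolayPt) (p : GolayPt) :
    (MulAction.stabilizer M24 d ⊓ MulAction.stabilizer M24 p).map (Subgroup.subtype M24) =
      dodPtStab d p := by
  rw [Subgroup.map_inf _ _ _ (Subgroup.subtype_injective _), map_subtype_stabilizer,
    map_subtype_stabilizer, dodPtStab, dodStab]
  simp only [inf_assoc]
  rw [inf_left_comm (MulAction.stabilizer _ d), ← inf_assoc M24 M24, inf_idem]

theorem natCard_dodPtStab {d : Finset GolayPt} (hd : d ∈ dodecads) {p : GolayPt} (hp : p ∈ d) :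
    Nat.card (dodPtStab d p) = 7920 := by
  have h := natCard_eq_ncard_mul_natCard (dodStab d) p d
    (fun σ hσ => (apply_mem_iff_of_smul_eq (mem_dodStab.mp hσ).2 p).mpr hp) (fun t ht => ?_)
  · rw [natCard_dodStab hd, card_of_mem_dodecads hd] at h
    unfold dodPtStab
    omega
  · -- extend `p` and `t` to five points each
    have key : ∀ q ∈ d, ∃ L : List GolayPt, (q :: L).Nodup ∧ L.length = 4 ∧ ∀ r ∈ q :: L, r ∈ d := by
      intro q hq
      obtain ⟨L, h1, h2, h3⟩ := exists_list_subset (n := 4) (s := d.erase q)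
        (by rw [Finset.card_erase_of_mem hq, card_of_mem_dodecads hd]; norm_num)
      refine ⟨L, List.nodup_cons.mpr ⟨fun h => (Finset.mem_erase.mp (h3 q h)).1 rfl, h1⟩, h2, ?_⟩
      intro r hr
      rcases List.mem_cons.mp hr with rfl | hr
      exacts [hq, (Finset.mem_erase.mp (h3 r hr)).2]
    obtain ⟨L, hL1, hL2, hL3⟩ := key p hp
    obtain ⟨L', hL1', hL2', hL3'⟩ := key t ht
    obtain ⟨g, ⟨hg1, hg2, hg3⟩, -⟩ := existsUnique_dodecad hd hL1 hL1'
      (by simp [hL2]) (by simp [hL2']) hL3 hL3'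
    exact ⟨g, ⟨hg1, hg2⟩, (List.cons.inj hg3).1⟩

theorem compl_mem_dodecads {d : Finset GolayPt} (hd : d ∈ dodecads) : dᶜ ∈ dodecads := by
  refine ⟨?_, ?_⟩
  · have := symmDiff_mem_supports univ_mem_supports (mem_supports_of_mem_dodecads hd)
    simpa [← Finset.top_eq_univ, top_symmDiff] using this
  · rw [Finset.card_compl, card_golayPt, card_of_mem_dodecads hd]

theorem smul_compl (σ : Equiv.Perm GolayPt) (d : Finset GolayPt) : σ • dᶜ = (σ • d)ᶜ := by
  ext p
  simp [Finset.mem_compl, ← Finset.inv_smul_mem_iff]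

theorem baseDodecad_compl : baseDodecadᶜ = decS (16777215 ^^^ 11472927) := by
  unfold baseDodecad; decide +kernel

/-- Elements stabilising the base dodecad and fixing the first three base points, reaching every point
outside it from the sixth base point. -/
theorem reach_outside :
    ((List.map (fun w => comp (perms.getD w.1 (List.range 24))
        (comp (perms.getD w.2.1 (List.range 24))
          (comp (perms.getD w.2.2.1 (List.range 24)) (perms.getD w.2.2.2 (List.range 24)))))
      [(326, 326, 326, 326), (326, 7, 326, 16), (326, 117, 62, 84), (326, 28, 54, 132),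
        (112, 105, 62, 1), (129, 186, 54, 1), (326, 75, 54, 74), (326, 106, 54, 5), (326, 175, 326, 4),
        (112, 117, 62, 74), (112, 55, 54, 326), (326, 105, 62, 0)]).all fun l =>
      Nat.beq (pmap l 11472927) 11472927 && (basePos.take 3).all fun b => Nat.beq (l.getD b 0) b) = true ∧
    ((List.map (fun w => comp (perms.getD w.1 (List.range 24))
        (comp (perms.getD w.2.1 (List.range 24))
          (comp (perms.getD w.2.2.1 (List.range 24)) (perms.getD w.2.2.2 (List.range 24)))))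
      [(326, 326, 326, 326), (326, 7, 326, 16), (326, 117, 62, 84), (326, 28, 54, 132),
        (112, 105, 62, 1), (129, 186, 54, 1), (326, 75, 54, 74), (326, 106, 54, 5), (326, 175, 326, 4),
        (112, 117, 62, 74), (112, 55, 54, 326), (326, 105, 62, 0)]).map fun l => l.getD 5 0) =
      (List.range 24).filter fun i => !(Nat.testBit 11472927 i) := by
  decide +kernel

theorem exists_fix_three_reach {q : GolayPt} (hq : q ∉ baseDodecad) :
    ∃ σ ∈ dodStab baseDodecad, (∀ b ∈ basePts.take 3, σ b = b) ∧ σ (some 5) = q := by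
  have hq' : (idx q).val ∈ (List.range 24).filter fun i => !(Nat.testBit 11472927 i) := by
    rw [baseDodecad, mem_decS] at hq
    rw [List.mem_filter, List.mem_range]
    exact ⟨(idx q).isLt, by simpa using hq⟩
  obtain ⟨hall, hmap⟩ := reach_outside
  rw [← hmap, List.mem_map] at hq'
  obtain ⟨l, hl, hlq⟩ := hq'
  have hl2 := List.all_eq_true.mp hall l hl
  rw [Bool.and_eq_true] at hl2
  rw [List.mem_map] at hl
  obtain ⟨w, -, rfl⟩ := hl
  obtain ⟨σ1, h1, e1⟩ := inG0_getD inG0_perms w.1
  obtain ⟨σ2, h2, e2⟩ := inG0_getD inG0_perms w.2.1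
  obtain ⟨σ3, h3, e3⟩ := inG0_getD inG0_perms w.2.2.1
  obtain ⟨σ4, h4, e4⟩ := inG0_getD inG0_perms w.2.2.2
  rw [← e1, ← e2, ← e3, ← e4, ← toList_mul, ← toList_mul, ← toList_mul] at hl2 hlq
  refine ⟨σ1 * (σ2 * (σ3 * σ4)), ⟨G0_le_M24 (mul_mem h1 (mul_mem h2 (mul_mem h3 h4))), ?_⟩,
    fun b hb => ?_, ?_⟩
  · refine MulAction.mem_stabilizer_iff.mpr (encS_injective ?_)
    rw [encS_smul, baseDodecad, encS_decS (by norm_num), Nat.eq_of_beq_eq_true hl2.1]
  · have := Nat.eq_of_beq_eq_true (List.all_eq_true.mp hl2.2 _ (mem_basePos_take.mpr hb))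
    rw [toList_getD] at this
    exact idx_injective (Fin.ext this)
  · have h5 : (5 : ℕ) = (idx (some 5 : GolayPt)).val := by decide +kernel
    rw [h5, toList_getD] at hlq
    exact idx_injective (Fin.ext hlq)

/-- The stabiliser of a dodecad and a point on it is 3-transitive outside the dodecad. -/
theorem exists_dodPtStab_map {d : Finset GolayPt} (hd : d ∈ dodecads) {p : GolayPt} (hp : p ∈ d)
    {L L' : List GolayPt} (hL : L.Nodup) (hL' : L'.Nodup) (h3 : L.length = 3) (h3' : L'.length = 3)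
    (hLd : ∀ r ∈ L, r ∉ d) (hLd' : ∀ r ∈ L', r ∉ d) :
    ∃ g ∈ dodPtStab d p, L.map g = L' := by
  have hc := compl_mem_dodecads hd
  have key : ∀ K : List GolayPt, K.Nodup → K.length = 3 → (∀ r ∈ K, r ∉ d) →
      ∃ a ∈ M24, (basePts.take 3).map a = K ∧ a • baseDodecad = dᶜ := by
    intro K hK hK3 hKd
    obtain ⟨M, hM1, hM2, hM3⟩ := exists_list_subset (n := 2) (s := dᶜ \ K.toFinset) (by
      have := Finset.le_card_sdiff K.toFinset dᶜ
      rw [card_of_mem_dodecads hc, List.toFinset_card_of_nodup hK, hK3] at this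
      omega)
    obtain ⟨a, ha, haK, had⟩ := exists_std hc (K ++ M)
      (List.nodup_append.mpr ⟨hK, hM1, fun r hr s hs e => by
        subst e
        exact (Finset.mem_sdiff.mp (hM3 r hs)).2 (List.mem_toFinset.mpr hr)⟩)
      (by simp [hK3, hM2])
      (fun r hr => (List.mem_append.mp hr).elim (fun h => Finset.mem_compl.mpr (hKd r h))
        (fun h => (Finset.mem_sdiff.mp (hM3 r h)).1))
    refine ⟨a, ha, ?_, had⟩
    have := congrArg (List.take 3) haK
    rwa [← List.map_take, List.take_take, List.take_left' hK3] at this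
  obtain ⟨a, ha, haL, had⟩ := key L hL h3 hLd
  obtain ⟨b, hb, hbL, hbd⟩ := key L' hL' h3' hLd'
  have hout : ∀ c : Equiv.Perm GolayPt, c • baseDodecad = dᶜ → c⁻¹ p ∉ baseDodecad := by
    intro c hc' h
    have : p ∈ c • baseDodecad := Finset.mem_smul_finset.mpr ⟨_, h, by simp⟩
    rw [hc'] at this
    exact Finset.mem_compl.mp this hp
  obtain ⟨σ, hσ, hσb, hσp⟩ := exists_fix_three_reach (hout a had)
  obtain ⟨τ, hτ, hτb, hτp⟩ := exists_fix_three_reach (hout b hbd)
  refine ⟨b * τ * (σ⁻¹ * a⁻¹), ⟨⟨M24.mul_mem (M24.mul_mem hb hτ.1) (M24.mul_mem (M24.inv_mem hσ.1) (M24.inv_mem ha)), ?_⟩, ?_⟩, ?_⟩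
  · refine MulAction.mem_stabilizer_iff.mpr ?_
    have h1 : σ⁻¹ • baseDodecad = baseDodecad := inv_smul_eq_iff.mpr hσ.2.symm
    have h2 : (b * τ * (σ⁻¹ * a⁻¹)) • dᶜ = dᶜ := by
      conv_lhs => rw [← had]
      rw [mul_smul, mul_smul σ⁻¹, inv_smul_smul, h1, mul_smul, hτ.2, hbd]
    rw [smul_compl] at h2
    exact compl_injective h2
  · refine MulAction.mem_stabilizer_iff.mpr ?_
    have h1 : σ⁻¹ (a⁻¹ p) = some 5 := by rw [← hσp]; simp
    show b (τ (σ⁻¹ (a⁻¹ p))) = p
    rw [h1, hτp]; simp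
  · rw [← haL, ← hbL, List.map_map]
    refine List.map_congr_left fun r hr => ?_
    show b (τ (σ⁻¹ (a⁻¹ (a r)))) = b r
    have h1 : σ⁻¹ r = r := by
      conv_lhs => rw [← hσb r hr]
      simp
    simp [h1, hτb r hr]

/-! ### Pointwise stabiliser of an octad -/

theorem stab6_facts : (stab6Lists.all fun l => comp l l == List.range 24 &&
    (List.range 24).all fun i => !(Nat.testBit 8536111 i) || Nat.beq (l.getD i 0) i) = true := by
  decide +kernel

theorem fixingSubgroup_baseOctad :
    M24 ⊓ fixingSubgroup (Equiv.Perm GolayPt) (baseOctad : Set GolayPt) = stdStab 6 := by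
  ext σ
  rw [stdStab, mem_fixPts, Subgroup.mem_inf, mem_fixingSubgroup_iff]
  refine ⟨fun h => ⟨h.1, fun p hp => h.2 p (basePts_subset_baseOctad p hp)⟩, fun h => ⟨h.1, fun p hp => ?_⟩⟩
  have h1 := List.all_eq_true.mp stab6_facts _ (toList_mem_stab6 (mem_fixPts.mpr h))
  rw [Bool.and_eq_true] at h1
  have h2 := List.all_eq_true.mp h1.2 (idx p).val (List.mem_range.mpr (idx p).isLt)
  rw [Finset.mem_coe, baseOctad, mem_decS] at hp
  simp only [hp, Bool.not_true, Bool.false_or] at h2
  have h3 := Nat.eq_of_beq_eq_true h2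
  rw [toList_getD] at h3
  exact idx_injective (Fin.ext h3)

theorem octad_fixing {o : Finset GolayPt} (ho : o ∈ octads) :
    Nat.card ↥(M24 ⊓ fixingSubgroup (Equiv.Perm GolayPt) (o : Set GolayPt)) = 16 ∧
      ∀ g ∈ M24 ⊓ fixingSubgroup (Equiv.Perm GolayPt) (o : Set GolayPt), g * g = 1 := by
  obtain ⟨a, ha, rfl⟩ := exists_smul_baseOctad_eq ho
  have hmap : (stdStab 6).map (MulAut.conj a).toMonoidHom =
      M24 ⊓ fixingSubgroup (Equiv.Perm GolayPt) ((a • baseOctad : Finset GolayPt) : Set GolayPt) := by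
    rw [← fixingSubgroup_baseOctad]
    ext σ
    rw [Subgroup.mem_map_equiv, Subgroup.mem_inf, Subgroup.mem_inf, mem_fixingSubgroup_iff,
      mem_fixingSubgroup_iff, MulAut.conj_symm_apply]
    simp only [Finset.mem_coe, Finset.mem_smul_finset, forall_exists_index, and_imp,
      forall_apply_eq_imp_iff₂, Equiv.Perm.smul_def, Equiv.Perm.mul_apply]
    constructor
    · rintro ⟨h1, h2⟩
      refine ⟨?_, fun r hr => ?_⟩
      · have := mul_mem (mul_mem ha h1) (inv_mem ha)
        simpa [mul_assoc] using this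
      · have := congrArg a (h2 r hr)
        simpa using this
    · rintro ⟨h1, h2⟩
      exact ⟨mul_mem (mul_mem (inv_mem ha) h1) ha, fun r hr => by rw [h2 r hr]; simp⟩
  rw [← hmap]
  refine ⟨?_, fun g hg => ?_⟩
  · rw [Subgroup.card_map_of_injective (MulAut.conj a).injective]
    exact natCard_stdStab 6
  · obtain ⟨τ, hτ, rfl⟩ := Subgroup.mem_map.mp hg
    have h1 := List.all_eq_true.mp stab6_facts _ (toList_mem_stab6 hτ)
    rw [Bool.and_eq_true, beq_iff_eq, ← toList_mul, ← toList_one] at h1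
    rw [← map_mul, toList_injective h1.1, map_one]

/-! ### Hexads -/

theorem ncard_octads_inter {d : Finset GolayPt} (hd : d ∈ dodecads) (k : ℕ) :
    {o : Finset GolayPt | o ∈ octads ∧ (o ∩ d).card = k}.ncard =
      ((Finset.range 4096).filter fun n =>
        popc (codeWord n) = 8 ∧ popc (Nat.land (codeWord n) 11472927) = k).card := by
  obtain ⟨g, hg, rfl⟩ := exists_smul_baseDodecad_eq hd
  have h1 : {o : Finset GolayPt | o ∈ octads ∧ (o ∩ g • baseDodecad).card = k} =
      (fun o => g • o) '' {o : Finset GolayPt | o ∈ octads ∧ (o ∩ baseDodecad).card = k} := by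
    ext o
    simp only [Set.mem_ofPred_eq, Set.mem_image]
    constructor
    · rintro ⟨h1, h2⟩
      refine ⟨g⁻¹ • o, ⟨smul_mem_octads (inv_mem hg) h1, ?_⟩, smul_inv_smul g o⟩
      rwa [← Finset.card_smul_finset g, Finset.smul_finset_inter, smul_inv_smul]
    · rintro ⟨o', ⟨h1, h2⟩, rfl⟩
      exact ⟨smul_mem_octads hg h1, by rwa [← Finset.smul_finset_inter, Finset.card_smul_finset]⟩
  have h2 : {o : Finset GolayPt | o ∈ octads ∧ (o ∩ baseDodecad).card = k} =
      (fun n => decS (codeWord n)) '' ↑((Finset.range 4096).filter fun n =>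
        popc (codeWord n) = 8 ∧ popc (Nat.land (codeWord n) 11472927) = k) := by
    ext o
    simp only [Set.mem_ofPred_eq, Set.mem_image, Finset.coe_filter, Finset.mem_range, mem_octads]
    have hinter : ∀ o : Finset GolayPt, (o ∩ baseDodecad).card = popc (Nat.land (encS o) 11472927) := by
      intro o
      rw [← popc_encS, encS_inter, baseDodecad, encS_decS (by norm_num)]
      rfl
    constructor
    · rintro ⟨⟨h1, h2⟩, h3⟩
      obtain ⟨n, hn, hno⟩ := exists_codeWord h1
      exact ⟨n, ⟨hn, by rw [hno, h2], by rw [hno, ← hinter, h3]⟩, by rw [hno, decS_encS]⟩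
    · rintro ⟨n, ⟨-, h1, h2⟩, rfl⟩
      rw [hinter, encS_decS (codeWord_lt n)]
      exact ⟨⟨isCode_codeWord n, h1⟩, h2⟩
  rw [h1, Set.ncard_image_of_injective _ (MulAction.injective g), h2, Set.InjOn.ncard_image,
    Set.ncard_coe_finset]
  intro a ha b hb h
  simp only [Finset.coe_filter, Finset.mem_range, Set.mem_ofPred_eq] at ha hb
  refine codeWord_injOn ha.1 hb.1 ?_
  have := congrArg encS h
  rwa [encS_decS (codeWord_lt a), encS_decS (codeWord_lt b)] at this

theorem hexads_steiner {d : Finset GolayPt} (hd : d ∈ dodecads) :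
    IsSteinerSystem 5 6 {h : Finset {p : GolayPt // p ∈ d} |
      ∃ o ∈ octads, (o ∩ d).card = 6 ∧ h = Finset.subtype (fun p => p ∈ d) o} := by
  have hcard : ∀ o : Finset GolayPt, (Finset.subtype (fun p => p ∈ d) o).card = (o ∩ d).card := by
    intro o
    rw [Finset.card_subtype, Finset.filter_mem_eq_inter]
  refine ⟨fun b hb => ?_, fun s hs => ?_⟩
  · obtain ⟨o, -, ho6, rfl⟩ := hb
    rw [hcard, ho6]
  · set s' : Finset GolayPt := s.map (Function.Embedding.subtype _) with hs'
    obtain ⟨o, ⟨ho, hso⟩, huniq⟩ := isSteinerSystem_octads.2 s' (by rw [hs', Finset.card_map, hs])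
    have h5 : 5 ≤ (o ∩ d).card := by
      rw [← hs, ← Finset.card_map (Function.Embedding.subtype _)]
      refine Finset.card_le_card (Finset.subset_inter hso ?_)
      intro p hp
      obtain ⟨q, -, rfl⟩ := Finset.mem_map.mp hp
      exact q.2
    have h6 : (o ∩ d).card = 6 := by
      rcases card_inter_octad_dodecad ho hd with h | h | h <;> omega
    refine ⟨Finset.subtype (fun p => p ∈ d) o, ⟨⟨o, ho, h6, rfl⟩, fun q hq => ?_⟩, ?_⟩
    · exact Finset.mem_subtype.mpr (hso (Finset.mem_map_of_mem _ hq))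
    · rintro h ⟨⟨o', ho', -, rfl⟩, hsub⟩
      rw [huniq o' ⟨ho', fun p hp => ?_⟩]
      obtain ⟨q, hq, rfl⟩ := Finset.mem_map.mp hp
      exact Finset.mem_subtype.mp (hsub hq)

end CfsgLib.Golay
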