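import Cfsg.Agent.Lib.Golay.Dodecad

/-!
# Candidates for elements normalising the standard elements of order 23 and 11
-/

set_option autoImplicit false

namespace CfsgLib.Golay

open Cfsg
open scoped Pointwise

/-- Multiplication by two: order eleven, fixing the extra point and zero. -/
def doublePerm : Equiv.Perm GolayPt :=
  Equiv.optionCongr (Units.mulLeft (ZMod.unitOfCoprime 2 (by decide) : (ZMod 23)ˣ))

/-- Image lists of the powers of the translation. -/
def shiftPows : List (List ℕ) :=
  (List.range 23).map fun n => (List.range 24).map fun i => if i < 23 then (i + n) % 23 else 23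

/-- Image lists of the powers of the doubling. -/
def doublePows : List (List ℕ) :=
  (List.range 11).map fun n => (List.range 24).map fun i => if i < 23 then (i * 2 ^ n) % 23 else 23

theorem toList_shiftPerm_pow : ∀ i : Fin 23, toList (shiftPerm ^ i.val) = shiftPows.getD i.val [] := by
  decide +kernel

theorem toList_doublePerm_pow : ∀ i : Fin 11, toList (doublePerm ^ i.val) = doublePows.getD i.val [] := by
  decide +kernel

theorem orderOf_shiftPerm : orderOf shiftPerm = 23 := by
  have := Fact.mk (show Nat.Prime 23 by norm_num)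
  exact orderOf_eq_prime (by decide +kernel) (by decide +kernel)

theorem orderOf_doublePerm : orderOf doublePerm = 11 := by
  have := Fact.mk (show Nat.Prime 11 by norm_num)
  exact orderOf_eq_prime (by decide +kernel) (by decide +kernel)

/-- Positions as (orbit representative, exponent) for the doubling. -/
def doubleTable : List (ℕ × ℕ) :=
  [(0, 0), (1, 0), (1, 1), (1, 8), (1, 2), (5, 0), (1, 9), (5, 9), (1, 3), (1, 5), (5, 1), (5, 4),
    (1, 10), (1, 7), (5, 10), (5, 8), (1, 4), (5, 3), (1, 6), (5, 7), (5, 2), (5, 6), (5, 5), (23, 0)]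

theorem doubleTable_spec : ∀ j : Fin 24,
    (doublePows.getD (doubleTable.getD j.val (0, 0)).2 []).getD (doubleTable.getD j.val (0, 0)).1 0 = j.val := by
  decide +kernel

/-- Candidate image list. -/
def doubleCand (k a b : ℕ) : List ℕ :=
  doubleTable.map fun e => (doublePows.getD (k * e.2 % 11) []).getD
    (bif Nat.beq e.1 1 then a else bif Nat.beq e.1 5 then b else e.1) 0

/-- Candidate image list for the translation. -/
def shiftCand (k v : ℕ) : List ℕ :=
  (List.range 24).map fun i =>
    (shiftPows.getD (k * (bif Nat.blt i 23 then i else 0) % 23) []).getD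
      (bif Nat.blt i 23 then v else 23) 0

/-- Candidates normalising the translation inside `M24`. -/
def shiftCands : List (List ℕ) :=
  (((List.range 22).flatMap fun k => (List.range 23).map fun v => shiftCand (k + 1) v)).filter isPres

theorem length_shiftCands : shiftCands.length = 253 := by decide +kernel

/-- Candidates normalising the doubling inside the stabiliser of zero and the extra point. -/
def doubleCands : List (List ℕ) :=
  (((List.range 10).flatMap fun k => (List.range 22).flatMap fun a =>
    (List.range 22).map fun b => doubleCand (k + 1) (a + 1) (b + 1))).filter isPres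

theorem length_doubleCands : doubleCands.length = 55 := by decide +kernel

theorem apply_pow_eq {σ π : Equiv.Perm GolayPt} {k : ℕ} (h : σ * π = π ^ k * σ) (n : ℕ) (p : GolayPt) :
    σ ((π ^ n) p) = (π ^ (k * n)) (σ p) := by
  have h' : SemiconjBy σ (π ^ n) ((π ^ k) ^ n) := SemiconjBy.pow_right h n
  rw [pow_mul]
  exact DFunLike.congr_fun h'.eq p

theorem toList_mem_shiftCands {σ : Equiv.Perm GolayPt} (hσ : σ ∈ M24) (h0 : σ none = none) {k : ℕ}
    (hk : 1 ≤ k) (hk' : k < 23) (h : σ * shiftPerm = shiftPerm ^ k * σ) : toList σ ∈ shiftCands := by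
  rw [shiftCands, List.mem_filter]
  refine ⟨?_, mem_M24_iff_isPres.mp hσ⟩
  simp only [List.mem_flatMap, List.mem_map, List.mem_range]
  have hv : (idx (σ (some 0))).val < 23 := by
    have h23 : (idx (σ (some 0))).val ≠ 23 := by
      intro e
      have h2 : σ (some 0) = σ none := by
        rw [h0]; exact idx_injective (Fin.ext e)
      exact Option.some_ne_none _ (σ.injective h2)
    have := (idx (σ (some 0))).isLt
    omega
  refine ⟨k - 1, by omega, _, hv, ?_⟩
  rw [Nat.sub_add_cancel hk]
  refine List.ext_getElem (by simp [shiftCand, toList_length]) fun j h1 h2 => ?_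
  rw [toList_getElem]
  have hj : j < 24 := by simpa [shiftCand] using h1
  simp only [shiftCand, List.getElem_map, List.getElem_range]
  by_cases hj' : j < 23
  · have e : pt ⟨j, hj⟩ = (shiftPerm ^ j) (some 0) := by
      have : ∀ i : Fin 23, pt ⟨i.val, i.isLt.trans (by decide)⟩ = (shiftPerm ^ i.val) (some 0) := by
        decide +kernel
      exact this ⟨j, hj'⟩
    have hb : Nat.blt j 23 = true := by simpa [Nat.blt_eq] using hj'
    rw [hb, e, apply_pow_eq h, ← pow_mod_orderOf, orderOf_shiftPerm]
    simp only [cond_true]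
    rw [← toList_shiftPerm_pow ⟨k * j % 23, Nat.mod_lt _ (by norm_num)⟩, toList_getD]
  · obtain rfl : j = 23 := by omega
    have e : pt ⟨23, hj⟩ = none := rfl
    rw [e, h0]
    simp only [show Nat.blt 23 23 = false from rfl, cond_false, Nat.mul_zero, Nat.zero_mod]
    decide +kernel

theorem toList_mem_doubleCands {σ : Equiv.Perm GolayPt} (hσ : σ ∈ M24) (h0 : σ none = none)
    (h0' : σ (some 0) = some 0) {k : ℕ} (hk : 1 ≤ k) (hk' : k < 11)
    (h : σ * doublePerm = doublePerm ^ k * σ) : toList σ ∈ doubleCands := by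
  rw [doubleCands, List.mem_filter]
  refine ⟨?_, mem_M24_iff_isPres.mp hσ⟩
  simp only [List.mem_flatMap, List.mem_map, List.mem_range]
  have hv : ∀ q : GolayPt, q ≠ none → q ≠ some 0 →
      1 ≤ (idx (σ q)).val ∧ (idx (σ q)).val ≤ 22 := by
    intro q hq hq'
    have h23 : (idx (σ q)).val ≠ 23 := fun e =>
      hq (σ.injective (idx_injective (Fin.ext (by rw [e, h0]; rfl))))
    have h00 : (idx (σ q)).val ≠ 0 := fun e =>
      hq' (σ.injective (idx_injective (Fin.ext (by rw [e, h0']; rfl))))
    have := (idx (σ q)).isLt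
    omega
  obtain ⟨ha1, ha2⟩ := hv (some 1) (by decide) (by decide)
  obtain ⟨hb1, hb2⟩ := hv (some 5) (by decide) (by decide)
  refine ⟨k - 1, by omega, (idx (σ (some 1))).val - 1, by omega, (idx (σ (some 5))).val - 1, by omega, ?_⟩
  rw [Nat.sub_add_cancel hk, Nat.sub_add_cancel ha1, Nat.sub_add_cancel hb1]
  refine List.ext_getElem (by simp [doubleCand, doubleTable, toList_length]) fun j h1 h2 => ?_
  rw [toList_getElem]
  have hj : j < 24 := by simpa [doubleCand, doubleTable] using h1
  simp only [doubleCand, List.getElem_map]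
  have hje : doubleTable[j]'(by simpa [doubleTable] using hj) = doubleTable.getD j (0, 0) :=
    (List.getD_eq_getElem _ _ _).symm
  rw [hje]
  set e := doubleTable.getD j (0, 0) with he
  have hrange : e.1 ∈ [0, 1, 5, 23] ∧ e.2 < 11 := by
    have : ∀ i : Fin 24, (doubleTable.getD i.val (0, 0)).1 ∈ [0, 1, 5, 23] ∧
        (doubleTable.getD i.val (0, 0)).2 < 11 := by decide +kernel
    exact this ⟨j, hj⟩
  have hspec := doubleTable_spec ⟨j, hj⟩
  simp only [← he] at hspec
  have key : ∀ q : GolayPt, (idx q).val = e.1 →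
      (idx (σ (pt ⟨j, hj⟩))).val = (doublePows.getD (k * e.2 % 11) []).getD (idx (σ q)).val 0 := by
    intro q hq
    have e1 : pt ⟨j, hj⟩ = (doublePerm ^ e.2) q := by
      apply idx_injective
      apply Fin.ext
      rw [idx_pt, ← toList_getD, toList_doublePerm_pow ⟨e.2, hrange.2⟩, hq]
      exact hspec.symm
    rw [e1, apply_pow_eq h, ← pow_mod_orderOf, orderOf_doublePerm,
      ← toList_doublePerm_pow ⟨k * e.2 % 11, Nat.mod_lt _ (by norm_num)⟩, toList_getD]
  rcases (by simpa using hrange.1 : e.1 = 0 ∨ e.1 = 1 ∨ e.1 = 5 ∨ e.1 = 23) with hr | hr | hr | hr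
  · rw [key (some 0) (by rw [hr]; rfl), h0', hr]; rfl
  · rw [key (some 1) (by rw [hr]; rfl), hr]; rfl
  · rw [key (some 5) (by rw [hr]; rfl), hr]; rfl
  · rw [key none (by rw [hr]; rfl), h0, hr]; rfl

/-- Elements normalising a cyclic subgroup of prime order are counted by a candidate list. -/
theorem natCard_normalizer_le (H : Subgroup (Equiv.Perm GolayPt)) {π : Equiv.Perm GolayPt} (hπ : π ∈ H)
    {m : ℕ} (hm : 1 < m) (hord : orderOf π = m) (cands : List (List ℕ))
    (hc : ∀ σ ∈ H, ∀ k, 1 ≤ k → k < m → σ * π = π ^ k * σ → toList σ ∈ cands) :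
    Nat.card (Subgroup.normalizer (Subgroup.zpowers (⟨π, hπ⟩ : H) : Set H)) ≤ cands.length := by
  classical
  let K := Subgroup.normalizer (Subgroup.zpowers (⟨π, hπ⟩ : H) : Set H)
  have hmem : ∀ n : K, toList ((n : H) : Equiv.Perm GolayPt) ∈ cands.toFinset := by
    rintro ⟨⟨σ, hσ⟩, hn⟩
    rw [List.mem_toFinset]
    have h1 : (⟨σ, hσ⟩ : H) * ⟨π, hπ⟩ * (⟨σ, hσ⟩ : H)⁻¹ ∈ Subgroup.zpowers (⟨π, hπ⟩ : H) :=
      (Subgroup.mem_normalizer_iff.mp hn _).mp (Subgroup.mem_zpowers _)
    rw [(isOfFinOrder_of_finite _).mem_zpowers_iff_mem_range_orderOf, Finset.mem_image] at h1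
    obtain ⟨k, hk, hk'⟩ := h1
    rw [Finset.mem_range, ← Subgroup.orderOf_coe] at hk
    have hk2 : π ^ k = σ * π * σ⁻¹ := congrArg Subtype.val hk'
    refine hc σ hσ k ?_ (hord ▸ hk) (by rw [hk2]; group)
    by_contra hk0
    have hk0' : k = 0 := by omega
    rw [hk0', pow_zero] at hk2
    have hπ1 : π = 1 := by
      have := congrArg (fun x => σ⁻¹ * x * σ) hk2
      simpa [mul_assoc] using this.symm
    rw [hπ1, orderOf_one] at hord
    omega
  refine le_trans ?_ (List.toFinset_card_le cands)
  rw [← Fintype.card_coe, ← Nat.card_eq_fintype_card]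
  refine Nat.card_le_card_of_injective (fun n => ⟨_, hmem n⟩) fun a b hab => ?_
  exact Subtype.ext (Subtype.ext (toList_injective (congrArg Subtype.val hab)))

end CfsgLib.Golay
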