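import Mathlib

/-!
# Two simplicity criteria for finite 2-transitive permutation groups

The groups are subgroups of `Equiv.Perm α` acting faithfully and 2-transitively on a finite set of points.
-/

set_option autoImplicit false

namespace CfsgLib.Golay.Simple

variable {α : Type*}

/-- `H` acts faithfully and 2-transitively on `Ω`. -/
structure TwoTransOn (H : Subgroup (Equiv.Perm α)) (Ω : Finset α) : Prop where
  faithful : ∀ σ ∈ H, (∀ a ∈ Ω, σ a = a) → σ = 1
  invariant : ∀ σ ∈ H, ∀ a ∈ Ω, σ a ∈ Ω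
  trans : ∀ a ∈ Ω, ∀ b ∈ Ω, ∀ c ∈ Ω, ∀ d ∈ Ω, a ≠ b → c ≠ d → ∃ σ ∈ H, σ a = c ∧ σ b = d

variable {H : Subgroup (Equiv.Perm α)} {Ω : Finset α}

theorem TwoTransOn.normal_transitive (h : TwoTransOn H Ω) {N : Subgroup H} [N.Normal] (hN : N ≠ ⊥)
    {a b : α} (ha : a ∈ Ω) (hb : b ∈ Ω) : ∃ n ∈ N, (n : Equiv.Perm α) a = b := by
  rcases eq_or_ne a b with rfl | hab
  · exact ⟨1, one_mem _, rfl⟩
  obtain ⟨n, hn, hn1⟩ := (Subgroup.ne_bot_iff_exists_ne_one.mp hN).elim
    fun x hx => (⟨x.1, x.2, fun e => hx (Subtype.ext e)⟩ : ∃ n, n ∈ N ∧ n ≠ 1)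
  obtain ⟨c, hc, hcne⟩ : ∃ c ∈ Ω, (n : Equiv.Perm α) c ≠ c := by
    by_contra hall
    push Not at hall
    exact hn1 (Subtype.ext (h.faithful _ n.2 hall))
  obtain ⟨σ, hσ, hσc, hσd⟩ :=
    h.trans c hc _ (h.invariant _ n.2 c hc) a ha b hb (Ne.symm hcne) hab
  refine ⟨⟨σ, hσ⟩ * n * ⟨σ, hσ⟩⁻¹, Subgroup.Normal.conj_mem inferInstance n hn _, ?_⟩
  show σ ((n : Equiv.Perm α) (σ⁻¹ a)) = b
  have : σ⁻¹ a = c := by rw [← hσc]; simp
  rw [this, hσd]

theorem TwoTransOn.nontrivial (h : TwoTransOn H Ω) (h2 : 1 < Ω.card) : Nontrivial H := by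
  obtain ⟨a, ha, b, hb, hab⟩ := Finset.one_lt_card.mp h2
  obtain ⟨σ, hσ, hσa, -⟩ := h.trans a ha b hb b hb a ha hab hab.symm
  refine ⟨⟨⟨σ, hσ⟩, 1, fun e => hab ?_⟩⟩
  have : σ = 1 := congrArg Subtype.val e
  rw [← hσa, this]; rfl

/-- Simple point stabiliser and a degree with two prime divisors give simplicity. -/
theorem isSimpleGroup_of_stabilizer [Finite H] (h : TwoTransOn H Ω) {x : α} (hx : x ∈ Ω)
    [IsSimpleGroup ↥(MulAction.stabilizer H x)]
    {p q : ℕ} (hp : p.Prime) (hq : q.Prime) (hpq : p ≠ q) (hpΩ : p ∣ Ω.card) (hqΩ : q ∣ Ω.card) :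
    IsSimpleGroup H := by
  have hΩ : 1 < Ω.card :=
    hp.one_lt.trans_le (Nat.le_of_dvd (Finset.card_pos.mpr ⟨x, hx⟩) hpΩ)
  have := h.nontrivial hΩ
  refine ⟨fun N hN => ?_⟩
  by_contra hne
  push Not at hne
  obtain ⟨hbot, htop⟩ := hne
  rcases (hN.subgroupOf (MulAction.stabilizer H x)).eq_bot_or_eq_top with hS | hS
  · -- `N` is regular, so its non-identity elements are conjugate
    rw [Subgroup.subgroupOf_eq_bot, disjoint_iff] at hS
    have hinj : ∀ n ∈ N, ∀ m ∈ N, (n : Equiv.Perm α) x = (m : Equiv.Perm α) x → n = m := by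
      intro n hn m hm hnm
      have : m⁻¹ * n ∈ N ⊓ MulAction.stabilizer H x := by
        refine ⟨N.mul_mem (N.inv_mem hm) hn, MulAction.mem_stabilizer_iff.mpr ?_⟩
        show ((m : Equiv.Perm α)⁻¹) ((n : Equiv.Perm α) x) = x
        rw [hnm]; simp
      rw [hS, Subgroup.mem_bot, inv_mul_eq_one] at this
      exact this.symm
    have hcard : Nat.card N = Ω.card := by
      rw [← Fintype.card_coe, ← Nat.card_eq_fintype_card]
      refine Nat.card_eq_of_bijective (fun n => ⟨((n : H) : Equiv.Perm α) x, h.invariant _ (n : H).2 x hx⟩) ⟨?_, ?_⟩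
      · intro n m hnm
        exact Subtype.ext (hinj _ n.2 _ m.2 (congrArg Subtype.val hnm))
      · rintro ⟨t, ht⟩
        obtain ⟨n, hn, hnx⟩ := h.normal_transitive hbot hx ht
        exact ⟨⟨n, hn⟩, Subtype.ext hnx⟩
    have hord : ∀ n ∈ N, ∀ m ∈ N, n ≠ 1 → m ≠ 1 → orderOf n = orderOf m := by
      intro n hn m hm hn1 hm1
      have hne : ∀ k ∈ N, k ≠ 1 → x ≠ (k : Equiv.Perm α) x :=
        fun k hk hk1 e => hk1 (hinj k hk 1 (one_mem _) e.symm)
      obtain ⟨σ, hσ, hσx, hσn⟩ := h.trans x hx _ (h.invariant _ n.2 x hx) x hx _ (h.invariant _ m.2 x hx)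
        (hne n hn hn1) (hne m hm hm1)
      have hconj : (⟨σ, hσ⟩ : H) * n * ⟨σ, hσ⟩⁻¹ = m := by
        refine hinj _ (hN.conj_mem n hn _) m hm ?_
        show σ ((n : Equiv.Perm α) (σ⁻¹ x)) = _
        have : σ⁻¹ x = x := by
          conv_lhs => rw [← hσx]
          simp
        rw [this, hσn]
      rw [← hconj, ← MulAut.conj_apply, MulEquiv.orderOf_eq]
    have := Fact.mk hp
    have := Fact.mk hq
    obtain ⟨a, ha⟩ := exists_prime_orderOf_dvd_card' (G := N) p (hcard ▸ hpΩ)
    obtain ⟨b, hb⟩ := exists_prime_orderOf_dvd_card' (G := N) q (hcard ▸ hqΩ)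
    rw [← Subgroup.orderOf_coe] at ha hb
    refine hpq ?_
    rw [← ha, ← hb]
    refine hord _ a.2 _ b.2 (fun e => ?_) (fun e => ?_)
    · rw [e, orderOf_one] at ha; exact hp.ne_one ha.symm
    · rw [e, orderOf_one] at hb; exact hq.ne_one hb.symm
  · rw [Subgroup.subgroupOf_eq_top] at hS
    refine htop ((Subgroup.eq_top_iff' N).mpr fun g => ?_)
    obtain ⟨n, hn, hnx⟩ := h.normal_transitive hbot hx (h.invariant _ g.2 x hx)
    have : n⁻¹ * g ∈ MulAction.stabilizer H x := by
      refine MulAction.mem_stabilizer_iff.mpr ?_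
      show ((n : Equiv.Perm α)⁻¹) ((g : Equiv.Perm α) x) = x
      rw [← hnx]; simp
    have := mul_mem hn (hS this)
    rwa [mul_inv_cancel_left] at this

theorem dvd_card_of_transitive [Finite H] {S : Subgroup H} {x : α}
    (hinv : ∀ n ∈ S, (n : Equiv.Perm α) x ∈ Ω) (hS : ∀ b ∈ Ω, ∃ n ∈ S, (n : Equiv.Perm α) x = b) :
    Ω.card ∣ Nat.card S := by
  have horb : MulAction.orbit S x = (Ω : Set α) := by
    ext t
    rw [MulAction.mem_orbit_iff, Finset.mem_coe]
    constructor
    · rintro ⟨n, rfl⟩; exact hinv n n.2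
    · intro ht
      obtain ⟨n, hn, rfl⟩ := hS t ht
      exact ⟨⟨n, hn⟩, rfl⟩
  have := Subgroup.index_dvd_card (MulAction.stabilizer S x)
  rwa [MulAction.index_stabilizer, horb, Set.ncard_coe_finset] at this

/-- A Sylow subgroup of prime order `p` dividing the degree, with normaliser of order `p * r` for a
prime `r`, gives simplicity, unless the whole group has order `p * r`. -/
theorem isSimpleGroup_of_normalizer [Finite H] (h : TwoTransOn H Ω) {x : α} (hx : x ∈ Ω)
    {p r : ℕ} (hp : p.Prime) (hr : r.Prime) (hpΩ : p ∣ Ω.card) (hp2 : ¬ p ^ 2 ∣ Nat.card H)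
    (hne : Nat.card H ≠ p * r) (P : Subgroup H) (hP : Nat.card P = p)
    (hN : Nat.card (Subgroup.normalizer (P : Set H)) = p * r) : IsSimpleGroup H := by
  have hΩ : 1 < Ω.card :=
    hp.one_lt.trans_le (Nat.le_of_dvd (Finset.card_pos.mpr ⟨x, hx⟩) hpΩ)
  have := h.nontrivial hΩ
  have := Fact.mk hp
  refine ⟨fun N hNn => ?_⟩
  by_cases hbot : N = ⊥
  · exact Or.inl hbot
  right
  -- `p` divides the order of every non-trivial normal subgroup
  have hdvd : ∀ M : Subgroup H, M.Normal → M ≠ ⊥ → p ∣ Nat.card M := fun M hM hMb =>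
    hpΩ.trans (dvd_card_of_transitive (fun n _ => h.invariant _ n.2 x hx)
      (fun b hb => h.normal_transitive hMb hx hb))
  have hpH : p ∣ Nat.card H := hP ▸ P.card_subgroup_dvd_card
  have hPfac : Nat.card P = p ^ (Nat.card H).factorization p := by
    have h1 : 1 ≤ (Nat.card H).factorization p := hp.factorization_pos_of_dvd Nat.card_pos.ne' hpH
    have h2 : (Nat.card H).factorization p < 2 := by
      by_contra hlt
      exact hp2 ((pow_dvd_pow p (not_lt.mp hlt)).trans (Nat.ordProj_dvd _ _))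
    rw [hP, show (Nat.card H).factorization p = 1 by omega, pow_one]
  -- the Sylow subgroup lies in `N`
  have hPN : P ≤ N := by
    obtain ⟨a, ha⟩ := exists_prime_orderOf_dvd_card' (G := N) p (hdvd N hNn hbot)
    rw [← Subgroup.orderOf_coe] at ha
    let S : Sylow p H := Sylow.ofCard P hPfac
    let Q : Sylow p H := Sylow.ofCard (Subgroup.zpowers (a : H)) (by rw [Nat.card_zpowers, ha]; exact hP.symm.trans hPfac)
    obtain ⟨g, hg⟩ := MulAction.exists_smul_eq H Q S
    intro y hy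
    have : y ∈ ((g • Q : Sylow p H) : Subgroup H) := by rw [hg]; exact hy
    rw [Sylow.coe_subgroup_smul, Subgroup.mem_pointwise_smul_iff_inv_smul_mem] at this
    have h' : (MulAut.conj g)⁻¹ • y ∈ N := Subgroup.zpowers_le.mpr a.2 this
    have := hNn.conj_mem _ h' g
    simpa [MulAut.smul_def, mul_assoc] using this
  set K := Subgroup.normalizer (P : Set H) with hK
  have hPK : P ≤ K := Subgroup.le_normalizer
  have hpN : p ∣ Nat.card N := hdvd N hNn hbot
  let P' : Sylow p N := Sylow.ofCard (P.subgroupOf N) (by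
    rw [Nat.card_congr (Subgroup.subgroupOfEquivOfLe hPN).toEquiv, hP]
    have h1 : 1 ≤ (Nat.card N).factorization p := hp.factorization_pos_of_dvd Nat.card_pos.ne' hpN
    have h2 : (Nat.card N).factorization p < 2 := by
      by_contra hlt
      exact hp2 (((pow_dvd_pow p (not_lt.mp hlt)).trans (Nat.ordProj_dvd _ _)).trans
        N.card_subgroup_dvd_card)
    rw [show (Nat.card N).factorization p = 1 by omega, pow_one])
  have hFr : K ⊔ N = ⊤ := by
    have := Sylow.normalizer_sup_eq_top P'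
    rwa [Sylow.coe_ofCard, Subgroup.subgroupOf_map_subtype, inf_eq_left.mpr hPN] at this
  have hidx : N.index * Nat.card ↥(N ⊓ K : Subgroup H) = p * r := by
    rw [← hN, ← Subgroup.relIndex_top_right, ← hFr, Subgroup.relIndex_sup_right, ← Subgroup.inf_relIndex_right,
      Subgroup.relIndex, ← Nat.card_congr (Subgroup.subgroupOfEquivOfLe (inf_le_right : N ⊓ K ≤ K)).toEquiv,
      Subgroup.index_mul_card]
  obtain ⟨a, ha⟩ : p ∣ Nat.card ↥(N ⊓ K : Subgroup H) :=
    hP ▸ Subgroup.card_dvd_of_le (le_inf hPN hPK)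
  have hia : N.index * a = r := by
    refine Nat.eq_of_mul_eq_mul_left hp.pos ?_
    rw [← hidx, ha]; ring
  rcases hr.eq_one_or_self_of_dvd N.index ⟨a, hia.symm⟩ with h1 | h1
  · exact Subgroup.index_eq_one.mp h1
  exfalso
  have ha1 : a = 1 := by
    rw [h1] at hia
    exact Nat.eq_of_mul_eq_mul_left hr.pos (hia.trans (mul_one r).symm)
  rw [ha1, mul_one] at ha
  have hNK : N ⊓ K = P := (Subgroup.eq_of_le_of_card_ge (le_inf hPN hPK) (by rw [ha, hP])).symm
  -- Burnside's transfer inside `N`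
  have hcyc : IsCyclic (P' : Subgroup N) := by
    refine isCyclic_of_prime_card (p := p) ?_
    rw [Sylow.coe_ofCard, Nat.card_congr (Subgroup.subgroupOfEquivOfLe hPN).toEquiv, hP]
  have hle : Subgroup.normalizer ((P' : Subgroup N) : Set N) ≤
      Subgroup.centralizer ((P' : Subgroup N) : Set N) := by
    intro n hn
    have hn' : (n : H) ∈ P := by
      rw [← hNK]
      refine ⟨n.2, ?_⟩
      show (n : H) ∈ K
      rw [Subgroup.mem_normalizer_iff] at hn
      rw [hK, Subgroup.mem_normalizer_iff]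
      intro y
      constructor
      · intro hy
        exact (hn ⟨y, hPN hy⟩).mp hy
      · intro hy
        have hyN : y ∈ N := by
          have := hNn.conj_mem _ (hPN hy) (n : H)⁻¹
          simpa [mul_assoc] using this
        exact (hn ⟨y, hyN⟩).mpr hy
    rw [Subgroup.mem_centralizer_iff]
    intro y hy
    have := hcyc.isMulCommutative
    exact congrArg Subtype.val (mul_comm' (⟨y, hy⟩ : (P' : Subgroup N)) ⟨n, hn'⟩)
  set f := MonoidHom.transferSylow P' hle with hf
  have hKp : ¬ p ∣ Nat.card f.ker := MonoidHom.not_dvd_card_ker_transferSylow P' hle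
  have hrange : ∀ y : (P' : Subgroup N), y ^ p = 1 := fun y => by
    have : Nat.card (P' : Subgroup N) = p := by
      rw [Sylow.coe_ofCard, Nat.card_congr (Subgroup.subgroupOfEquivOfLe hPN).toEquiv, hP]
    exact orderOf_dvd_iff_pow_eq_one.mp ((orderOf_dvd_natCard y).trans this.dvd)
  have hmem : ∀ n : N, n ∈ f.ker ↔ ¬ p ∣ orderOf n := by
    intro n
    constructor
    · intro hn hdiv
      refine hKp (hdiv.trans ?_)
      have := orderOf_dvd_natCard (⟨n, hn⟩ : f.ker)
      rwa [← Subgroup.orderOf_coe] at this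
    · intro hn
      rw [MonoidHom.mem_ker, ← orderOf_eq_one_iff]
      refine Nat.eq_one_of_dvd_coprimes (hp.coprime_iff_not_dvd.mpr hn)
        (orderOf_dvd_of_pow_eq_one (hrange _)) (orderOf_map_dvd f n)
  have hnorm : (f.ker.map N.subtype).Normal := by
    refine ⟨fun y hy g => ?_⟩
    obtain ⟨n, hn, rfl⟩ := Subgroup.mem_map.mp hy
    refine Subgroup.mem_map.mpr ⟨⟨g * n * g⁻¹, hNn.conj_mem _ n.2 g⟩, (hmem _).mpr ?_, rfl⟩
    rw [hmem] at hn
    rw [← Subgroup.orderOf_coe] at hn ⊢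
    show ¬ p ∣ orderOf (g * (n : H) * g⁻¹)
    rwa [← MulAut.conj_apply, MulEquiv.orderOf_eq]
  have hker : f.ker = ⊥ := by
    rw [← Subgroup.map_eq_bot_iff_of_injective _ N.subtype_injective]
    by_contra hb
    refine hKp ?_
    rw [← Subgroup.card_map_of_injective N.subtype_injective]
    exact hdvd _ hnorm hb
  have hcompl : Subgroup.IsComplement' f.ker (P' : Subgroup N) :=
    MonoidHom.ker_transferSylow_isComplement' P' hle
  have hNp : Nat.card N = p := by
    rw [← hcompl.card_mul_card, hker, Subgroup.card_bot, one_mul, Sylow.coe_ofCard,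
      Nat.card_congr (Subgroup.subgroupOfEquivOfLe hPN).toEquiv, hP]
  exact hne (by rw [← N.index_mul_card, h1, hNp, mul_comm])

end CfsgLib.Golay.Simple
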