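import Cfsg.Prelude.Def_Spor_Mathieu
import Cfsg.Agent.Lib.Golay.Dodecad
import Cfsg.Agent.Lib.Golay.SimpleCriteria
import Cfsg.Agent.Lib.Golay.NormalizerEleven

/-!
# The five Mathieu groups: orders and simplicity
-/

set_option autoImplicit false

namespace CfsgLib.Golay

open Cfsg
open scoped Pointwise

theorem squareDodecad_mem : Spor.squareDodecad ∈ dodecads := by
  rw [mem_dodecads]; decide +kernel

theorem some_zero_mem_squareDodecad : (some 0 : GolayPt) ∈ Spor.squareDodecad := by decide +kernel

theorem sporM23_eq : Spor.M23 = fixPts [none] := by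
  ext σ
  rw [Spor.M23, Subgroup.mem_inf, mem_fixPts]
  simp only [List.mem_singleton, forall_eq, MulAction.mem_stabilizer_iff, Equiv.Perm.smul_def]

theorem sporM22_eq : Spor.M22 = fixPts [none, some 0] := by
  rw [Spor.M22, sporM23_eq]
  exact (fixPts_concat [none] (some 0)).symm

theorem sporM12_eq : Spor.M12 = dodStab Spor.squareDodecad := rfl

theorem sporM11_eq : Spor.M11 = dodPtStab Spor.squareDodecad (some 0) := rfl

theorem sporM23_eq_stdStab : Spor.M23 = stdStab 1 := sporM23_eq

theorem sporM22_eq_stdStab : Spor.M22 = stdStab 2 := sporM22_eq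

theorem natCard_sporM23 : Nat.card Spor.M23 = 10200960 := by
  rw [sporM23_eq_stdStab]; exact natCard_stdStab 1

theorem natCard_sporM22 : Nat.card Spor.M22 = 443520 := by
  rw [sporM22_eq_stdStab]; exact natCard_stdStab 2

theorem natCard_sporM12 : Nat.card Spor.M12 = 95040 := by
  rw [sporM12_eq]; exact natCard_dodStab squareDodecad_mem

theorem natCard_sporM11 : Nat.card Spor.M11 = 7920 := by
  rw [sporM11_eq]; exact natCard_dodPtStab squareDodecad_mem some_zero_mem_squareDodecad

/-! ### Two-transitivity -/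

open Simple in
theorem twoTransOn_fixPts {L : List GolayPt} (hL : L.Nodup) (h3 : L.length ≤ 3) :
    TwoTransOn (fixPts L) (Finset.univ \ L.toFinset) where
  faithful σ hσ h := by
    ext1 p
    by_cases hp : p ∈ L
    · exact (mem_fixPts.mp hσ).2 p hp
    · exact h p (by simp [hp])
  invariant σ hσ a ha := by
    simp only [Finset.mem_sdiff, Finset.mem_univ, true_and, List.mem_toFinset] at ha ⊢
    intro h
    have := (mem_fixPts.mp hσ).2 _ h
    rw [σ.injective this] at h
    exact ha h
  trans a ha b hb c hc d hd hab hcd := by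
    simp only [Finset.mem_sdiff, Finset.mem_univ, true_and, List.mem_toFinset] at ha hb hc hd
    have key : ∀ x y : GolayPt, x ∉ L → y ∉ L → x ≠ y → (L ++ [x, y]).Nodup := fun x y hx hy hxy => by
      refine List.nodup_append.mpr ⟨hL, by simp [hxy], fun r hr s hs e => ?_⟩
      subst e
      simp only [List.mem_cons, List.not_mem_nil, or_false] at hs
      rcases hs with rfl | rfl
      exacts [hx hr, hy hr]
    obtain ⟨g, hg, hgL⟩ := exists_map_eq (key a b ha hb hab) (key c d hc hd hcd) (by simp)
      (by rw [List.length_append]; simp only [List.length_cons, List.length_nil]; omega)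
    rw [List.map_append] at hgL
    obtain ⟨h1, h2⟩ := List.append_inj hgL (by simp)
    simp only [List.map_cons, List.map_nil, List.cons.injEq, and_true] at h2
    refine ⟨g, mem_fixPts.mpr ⟨hg, fun p hp => ?_⟩, h2⟩
    exact List.map_inj_left.mp (h1.trans (List.map_id L).symm) p hp

/-- Pad a list inside a dodecad to length five. -/
theorem exists_pad {d : Finset GolayPt} (hd : d ∈ dodecads) (L : List GolayPt) (hL : L.Nodup)
    (h5 : L.length ≤ 5) (hLd : ∀ p ∈ L, p ∈ d) :
    ∃ M : List GolayPt, (L ++ M).Nodup ∧ (L ++ M).length = 5 ∧ ∀ p ∈ L ++ M, p ∈ d := by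
  obtain ⟨M, h1, h2, h3⟩ := exists_list_subset (n := 5 - L.length) (s := d \ L.toFinset) (by
    have := Finset.le_card_sdiff L.toFinset d
    rw [card_of_mem_dodecads hd, List.toFinset_card_of_nodup hL] at this
    omega)
  refine ⟨M, List.nodup_append.mpr ⟨hL, h1, fun r hr s hs e => ?_⟩, ?_, fun p hp => ?_⟩
  · subst e
    exact (Finset.mem_sdiff.mp (h3 r hs)).2 (List.mem_toFinset.mpr hr)
  · rw [List.length_append, h2]; omega
  · exact (List.mem_append.mp hp).elim (hLd p) fun h => (Finset.mem_sdiff.mp (h3 p h)).1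

theorem exists_dodStab_map {d : Finset GolayPt} (hd : d ∈ dodecads) {L L' : List GolayPt}
    (hL : L.Nodup) (hL' : L'.Nodup) (h : L.length = L'.length) (h5 : L.length ≤ 5)
    (hLd : ∀ p ∈ L, p ∈ d) (hLd' : ∀ p ∈ L', p ∈ d) : ∃ g ∈ dodStab d, L.map g = L' := by
  obtain ⟨M, hM1, hM2, hM3⟩ := exists_pad hd L hL h5 hLd
  obtain ⟨M', hM1', hM2', hM3'⟩ := exists_pad hd L' hL' (h ▸ h5) hLd'
  obtain ⟨g, ⟨hg1, hg2, hg3⟩, -⟩ := existsUnique_dodecad hd hM1 hM1' hM2 hM2' hM3 hM3'
  rw [List.map_append] at hg3
  exact ⟨g, ⟨hg1, hg2⟩, (List.append_inj hg3 (by simpa using h)).1⟩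

theorem eq_one_of_fix_dodecad {d : Finset GolayPt} (hd : d ∈ dodecads) {σ : Equiv.Perm GolayPt}
    (hσ : σ ∈ dodStab d) (h : ∀ p ∈ d, σ p = p) : σ = 1 := by
  obtain ⟨L, h1, h2, h3⟩ := exists_list_subset (n := 5) (s := d)
    (by rw [card_of_mem_dodecads hd]; norm_num)
  refine (existsUnique_dodecad hd h1 h1 h2 h2 h3 h3).unique ⟨hσ.1, hσ.2, ?_⟩
    ⟨one_mem _, one_smul _ _, by simp⟩
  exact (List.map_congr_left fun p hp => h p (h3 p hp)).trans (List.map_id L)

open Simple in
theorem twoTransOn_dodStab {d : Finset GolayPt} (hd : d ∈ dodecads) : TwoTransOn (dodStab d) d where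
  faithful _ hσ h := eq_one_of_fix_dodecad hd hσ h
  invariant σ hσ a ha := (apply_mem_iff_of_smul_eq hσ.2 a).mpr ha
  trans a ha b hb c hc d' hd' hab hcd := by
    obtain ⟨g, hg, hgL⟩ := exists_dodStab_map (L := [a, b]) (L' := [c, d']) hd (by simp [hab])
      (by simp [hcd]) rfl (by simp) (by simp [ha, hb]) (by simp [hc, hd'])
    simp only [List.map_cons, List.map_nil, List.cons.injEq, and_true] at hgL
    exact ⟨g, hg, hgL⟩

open Simple in
theorem twoTransOn_dodPtStab {d : Finset GolayPt} (hd : d ∈ dodecads) {p : GolayPt} (hp : p ∈ d) :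
    TwoTransOn (dodPtStab d p) (d.erase p) where
  faithful σ hσ h := by
    refine eq_one_of_fix_dodecad hd hσ.1 fun q hq => ?_
    by_cases hqp : q = p
    · subst hqp; exact hσ.2
    · exact h q (Finset.mem_erase.mpr ⟨hqp, hq⟩)
  invariant σ hσ a ha := by
    rw [Finset.mem_erase] at ha ⊢
    refine ⟨fun e => ha.1 ?_, (apply_mem_iff_of_smul_eq hσ.1.2 a).mpr ha.2⟩
    have h2 : σ p = p := hσ.2
    exact σ.injective (e.trans h2.symm)
  trans a ha b hb c hc d' hd' hab hcd := by
    rw [Finset.mem_erase] at ha hb hc hd'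
    obtain ⟨g, hg, hgL⟩ := exists_dodStab_map (L := [p, a, b]) (L' := [p, c, d']) hd
      (by simp [hab, ha.1.symm, hb.1.symm]) (by simp [hcd, hc.1.symm, hd'.1.symm]) rfl (by simp)
      (by simp [hp, ha.2, hb.2]) (by simp [hp, hc.2, hd'.2])
    simp only [List.map_cons, List.map_nil, List.cons.injEq, and_true] at hgL
    exact ⟨g, ⟨hg, hgL.1⟩, hgL.2⟩

/-! ### Normalisers of the standard elements -/

/-- Turn the candidate bound into the order of the normaliser. -/
theorem natCard_normalizer_eq (H : Subgroup (Equiv.Perm GolayPt)) {π : Equiv.Perm GolayPt} (hπ : π ∈ H)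
    {p r n : ℕ} (hp : p.Prime) (hord : orderOf π = p) (hn : Nat.card H = n) (hp2 : ¬ p ^ 2 ∣ n)
    (hle : Nat.card (Subgroup.normalizer (Subgroup.zpowers (⟨π, hπ⟩ : H) : Set H)) ≤ p * r)
    (hres : ∀ e ≤ r, p * e ∣ n → n / (p * e) % p = 1 → e = r) :
    Nat.card (Subgroup.normalizer (Subgroup.zpowers (⟨π, hπ⟩ : H) : Set H)) = p * r := by
  have := Fact.mk hp
  set P := Subgroup.zpowers (⟨π, hπ⟩ : H) with hPdef
  have hP : Nat.card P = p := by
    rw [hPdef, Nat.card_zpowers, ← Subgroup.orderOf_coe, hord]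
  have hPfac : Nat.card P = p ^ (Nat.card H).factorization p := by
    have hpH : p ∣ Nat.card H := hP ▸ P.card_subgroup_dvd_card
    have h1 : 1 ≤ (Nat.card H).factorization p := hp.factorization_pos_of_dvd Nat.card_pos.ne' hpH
    have h2 : (Nat.card H).factorization p < 2 := by
      by_contra hlt
      exact hp2 (hn ▸ ((pow_dvd_pow p (not_lt.mp hlt)).trans (Nat.ordProj_dvd _ _)))
    rw [hP, show (Nat.card H).factorization p = 1 by omega, pow_one]
  set K := Subgroup.normalizer (P : Set H) with hK
  obtain ⟨e, he⟩ : p ∣ Nat.card K := hP ▸ Subgroup.card_dvd_of_le (Subgroup.le_normalizer (H := P))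
  have hpos : 0 < Nat.card K := Nat.card_pos
  have h1 : e ≤ r := Nat.le_of_mul_le_mul_left (he ▸ hle) hp.pos
  have h2 : K.index % p = 1 := by
    have h3 := card_sylow_modEq_one p H
    rw [Sylow.card_eq_index_normalizer (Sylow.ofCard P hPfac)] at h3
    change K.index ≡ 1 [MOD p] at h3
    rw [(h3 : K.index % p = 1 % p), Nat.one_mod_eq_one]
    exact hp.ne_one
  have h3 : n / (p * e) = K.index := by
    rw [← he, ← hn, ← K.index_mul_card, Nat.mul_div_cancel _ hpos]
  rw [he, hres e h1 (he ▸ hn ▸ K.card_subgroup_dvd_card) (h3 ▸ h2)]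

theorem isSimpleGroup_sporM23 : IsSimpleGroup Spor.M23 := by
  rw [sporM23_eq]
  have hcard : Nat.card (fixPts [none]) = 10200960 := natCard_stdStab 1
  have hπ : shiftPerm ∈ fixPts [none] := mem_fixPts.mpr ⟨shiftPerm_mem_M24, by decide +kernel⟩
  have hN := natCard_normalizer_eq (p := 23) (r := 11) _ hπ (by norm_num) orderOf_shiftPerm hcard
    (by norm_num) ((natCard_normalizer_le _ hπ (by norm_num) orderOf_shiftPerm shiftCands
      (fun σ hσ k hk hk' h =>
        toList_mem_shiftCands (mem_fixPts.mp hσ).1 ((mem_fixPts.mp hσ).2 none (by simp)) hk hk' h)).trans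
      (by rw [length_shiftCands]))
    (by decide +kernel)
  refine Simple.isSimpleGroup_of_normalizer
    (twoTransOn_fixPts (L := [none]) (List.nodup_singleton _) (by simp))
    (x := some 0) (by decide +kernel) (p := 23) (r := 11) (by norm_num) (by norm_num) (by decide +kernel)
    (by rw [hcard]; norm_num) (by rw [hcard]; norm_num) _
    (by rw [Nat.card_zpowers, ← Subgroup.orderOf_coe]; exact orderOf_shiftPerm) hN

theorem doublePerm_mem_M24 : doublePerm ∈ M24 := by
  rw [mem_M24_iff_isPres]; decide +kernel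

theorem isSimpleGroup_sporM22 : IsSimpleGroup Spor.M22 := by
  rw [sporM22_eq]
  have hcard : Nat.card (fixPts [none, some 0]) = 443520 := natCard_stdStab 2
  have hπ : doublePerm ∈ fixPts [none, some 0] := mem_fixPts.mpr ⟨doublePerm_mem_M24, by decide +kernel⟩
  have hN := natCard_normalizer_eq (p := 11) (r := 5) _ hπ (by norm_num) orderOf_doublePerm hcard
    (by norm_num) ((natCard_normalizer_le _ hπ (by norm_num) orderOf_doublePerm doubleCands
      (fun σ hσ k hk hk' h =>
        toList_mem_doubleCands (mem_fixPts.mp hσ).1 ((mem_fixPts.mp hσ).2 none (by simp))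
          ((mem_fixPts.mp hσ).2 (some 0) (by simp)) hk hk' h)).trans
      (by rw [length_doubleCands]))
    (by decide +kernel)
  refine Simple.isSimpleGroup_of_normalizer
    (twoTransOn_fixPts (L := [none, some 0]) (by decide) (by simp))
    (x := some 1) (by decide +kernel) (p := 11) (r := 5) (by norm_num) (by norm_num) (by decide +kernel)
    (by rw [hcard]; norm_num) (by rw [hcard]; norm_num) _
    (by rw [Nat.card_zpowers, ← Subgroup.orderOf_coe]; exact orderOf_doublePerm) hN

theorem doublePerm_mem_dodPtStab : doublePerm ∈ dodPtStab Spor.squareDodecad (some 0) := by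
  refine ⟨⟨doublePerm_mem_M24, MulAction.mem_stabilizer_iff.mpr (encS_injective ?_)⟩,
    MulAction.mem_stabilizer_iff.mpr ?_⟩
  · rw [encS_smul]; decide +kernel
  · decide +kernel

theorem isSimpleGroup_sporM11 : IsSimpleGroup Spor.M11 := by
  rw [sporM11_eq]
  have hd := squareDodecad_mem
  have hp := some_zero_mem_squareDodecad
  have hcard : Nat.card (dodPtStab Spor.squareDodecad (some 0)) = 7920 := natCard_dodPtStab hd hp
  have hπ := doublePerm_mem_dodPtStab
  have hfix : ∀ σ ∈ dodPtStab Spor.squareDodecad (some 0), ∀ k, σ * doublePerm = doublePerm ^ k * σ →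
      σ none = none := by
    intro σ hσ k h
    have h2 : (doublePerm ^ k) (σ none) = σ none := by
      have := DFunLike.congr_fun h none
      simp only [Equiv.Perm.mul_apply] at this
      rw [← this, show doublePerm none = none by decide +kernel]
    have h3 : σ none ∉ Spor.squareDodecad := by
      rw [apply_mem_iff_of_smul_eq hσ.1.2]; decide +kernel
    by_contra hne
    -- a moved point outside the dodecad is a non-square, which no nontrivial power of the doubling fixes
    have h4 : ∀ i : Fin 11, ∀ q : GolayPt, q ∉ Spor.squareDodecad → q ≠ none →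
        (doublePerm ^ i.val) q = q → i.val = 0 := by decide +kernel
    have h5 : k % 11 = 0 := by
      rw [← pow_mod_orderOf, orderOf_doublePerm] at h2
      exact h4 ⟨k % 11, Nat.mod_lt _ (by norm_num)⟩ _ h3 hne h2
    rw [← pow_mod_orderOf, orderOf_doublePerm, h5, pow_zero, one_mul] at h
    have h6 : doublePerm = 1 := mul_left_cancel (h.trans (mul_one σ).symm)
    have := orderOf_doublePerm
    rw [h6, orderOf_one] at this
    norm_num at this
  have hN := natCard_normalizer_eq (p := 11) (r := 5) _ hπ (by norm_num) orderOf_doublePerm hcard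
    (by norm_num) ((natCard_normalizer_le _ hπ (by norm_num) orderOf_doublePerm doubleCands
      (fun σ hσ k hk hk' h =>
        toList_mem_doubleCands hσ.1.1 (hfix σ hσ k h) hσ.2 hk hk' h)).trans
      (by rw [length_doubleCands]))
    (by decide +kernel)
  refine Simple.isSimpleGroup_of_normalizer (twoTransOn_dodPtStab hd hp)
    (x := some 1) (by decide +kernel) (p := 11) (r := 5) (by norm_num) (by norm_num) (by decide +kernel)
    (by rw [hcard]; norm_num) (by rw [hcard]; norm_num) _
    (by rw [Nat.card_zpowers, ← Subgroup.orderOf_coe]; exact orderOf_doublePerm) hN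

theorem isSimpleGroup_M24 : IsSimpleGroup M24 := by
  have h : Simple.TwoTransOn M24 (Finset.univ \ ([] : List GolayPt).toFinset) := by
    rw [← fixPts_nil]; exact twoTransOn_fixPts List.nodup_nil (by simp)
  have := isSimpleGroup_sporM23
  have hs : IsSimpleGroup ↥(MulAction.stabilizer M24 (none : GolayPt)) :=
    ((subtypeEquiv _).trans (MulEquiv.subgroupCongr (by rw [map_subtype_stabilizer_one, sporM23_eq]) :
      _ ≃* Spor.M23)).isSimpleGroup
  exact Simple.isSimpleGroup_of_stabilizer h (x := none) (by simp) (p := 2) (q := 3) Nat.prime_two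
    Nat.prime_three (by norm_num) (by decide +kernel) (by decide +kernel)

theorem isSimpleGroup_sporM12 : IsSimpleGroup Spor.M12 := by
  rw [sporM12_eq]
  have := isSimpleGroup_sporM11
  have hmap : (MulAction.stabilizer (dodStab Spor.squareDodecad) (some 0 : GolayPt)).map
      (Subgroup.subtype _) = Spor.M11 := by
    ext σ
    simp only [Subgroup.mem_map, sporM11_eq, dodPtStab, Subgroup.mem_inf]
    constructor
    · rintro ⟨τ, hτ, rfl⟩; exact ⟨τ.2, hτ⟩
    · rintro ⟨hσ, hp⟩; exact ⟨⟨σ, hσ⟩, hp, rfl⟩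
  have hs : IsSimpleGroup ↥(MulAction.stabilizer (dodStab Spor.squareDodecad) (some 0 : GolayPt)) :=
    ((Subgroup.equivMapOfInjective _ _ (Subgroup.subtype_injective _)).trans
      (MulEquiv.subgroupCongr hmap) : _ ≃* Spor.M11).isSimpleGroup
  exact Simple.isSimpleGroup_of_stabilizer (twoTransOn_dodStab squareDodecad_mem) (x := some 0)
    some_zero_mem_squareDodecad (p := 2) (q := 3) Nat.prime_two Nat.prime_three (by norm_num)
    (by decide +kernel) (by decide +kernel)

/-! ### The conjugates -/

theorem map_conj_dodStab {g : Equiv.Perm GolayPt} (hg : g ∈ M24) (d : Finset GolayPt) :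
    (dodStab d).map (MulAut.conj g).toMonoidHom = dodStab (g • d) := by
  ext σ
  rw [Subgroup.mem_map_equiv, mem_dodStab, mem_dodStab, MulAut.conj_symm_apply]
  refine and_congr ⟨fun h => ?_, fun h => mul_mem (mul_mem (inv_mem hg) h) hg⟩ ?_
  · have := mul_mem (mul_mem hg h) (inv_mem hg)
    simpa [mul_assoc] using this
  · rw [mul_smul, mul_smul, inv_smul_eq_iff]

theorem map_conj_dodPtStab {g : Equiv.Perm GolayPt} (hg : g ∈ M24) (d : Finset GolayPt) (p : GolayPt) :
    (dodPtStab d p).map (MulAut.conj g).toMonoidHom = dodPtStab (g • d) (g p) := by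
  rw [dodPtStab, dodPtStab, Subgroup.map_inf _ _ _ (MulAut.conj g).injective, map_conj_dodStab hg]
  congr 1
  ext σ
  rw [Subgroup.mem_map_equiv, MulAction.mem_stabilizer_iff, MulAction.mem_stabilizer_iff,
    MulAut.conj_symm_apply, mul_smul, mul_smul, inv_smul_eq_iff]
  rfl

theorem sporM12_equiv_dodStab {d : Finset GolayPt} (hd : d ∈ dodecads) :
    Nonempty (Spor.M12 ≃* dodStab d) := by
  obtain ⟨g, hg, rfl⟩ := exists_smul_dodecad_eq squareDodecad_mem hd
  exact ⟨((dodStab Spor.squareDodecad).equivMapOfInjective (MulAut.conj g).toMonoidHom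
    (MulAut.conj g).injective).trans (MulEquiv.subgroupCongr (map_conj_dodStab hg _))⟩

theorem sporM11_equiv_dodPtStab {d : Finset GolayPt} (hd : d ∈ dodecads) {p : GolayPt} (hp : p ∈ d) :
    Nonempty (Spor.M11 ≃* dodPtStab d p) := by
  obtain ⟨g, hg, hgd⟩ := exists_smul_dodecad_eq squareDodecad_mem hd
  have hq : g (some 0) ∈ d := hgd ▸ Finset.mem_smul_finset.mpr ⟨_, some_zero_mem_squareDodecad, rfl⟩
  obtain ⟨h, hh, hhp⟩ := exists_dodStab_map (L := [g (some 0)]) (L' := [p]) hd (List.nodup_singleton _)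
    (List.nodup_singleton _) rfl (by simp) (by simpa using hq) (by simpa using hp)
  simp only [List.map_cons, List.map_nil, List.cons.injEq, and_true] at hhp
  refine ⟨((dodPtStab Spor.squareDodecad (some 0)).equivMapOfInjective (MulAut.conj (h * g)).toMonoidHom
    (MulAut.conj (h * g)).injective).trans (MulEquiv.subgroupCongr ?_)⟩
  rw [map_conj_dodPtStab (M24.mul_mem hh.1 hg), mul_smul, hgd, hh.2]
  congr 1

theorem sporM23_equiv_fixPts (p : GolayPt) : Nonempty (Spor.M23 ≃* fixPts [p]) := by
  rw [sporM23_eq_stdStab]; exact fixPts_equiv_stdStab (List.nodup_singleton p) (by simp)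

theorem sporM22_equiv_fixPts {p q : GolayPt} (hpq : p ≠ q) : Nonempty (Spor.M22 ≃* fixPts [p, q]) := by
  rw [sporM22_eq_stdStab]; exact fixPts_equiv_stdStab (L := [p, q]) (by simp [hpq]) (by simp)

end CfsgLib.Golay
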