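import Cfsg.Agent.Lib.Golay.Frame
import Cfsg.Agent.Lib.Golay.M24Group
import Cfsg.Agent.Lib.MonsterType.Frame

/-!
# The automorphism group of the lattice: transitivity on short vectors and crosses, order
-/

set_option autoImplicit false

namespace CfsgLib.Golay

open Cfsg CfsgLib.MonsterType CfsgLib.LeechEight
open scoped Pointwise

theorem coe_latE (j : GolayPt) : ((latE j : leechLattice) : GolayPt → ℤ) = Pi.single j 8 := by
  funext i
  rw [latE_apply, Pi.single_apply]

theorem coe_smul_neg (γ : Co0) (v : leechLattice) :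
    ((γ • -v : leechLattice) : GolayPt → ℤ) = -((γ • v : leechLattice) : GolayPt → ℤ) := by
  rw [smul_neg', AddSubgroup.coe_neg]

/-- The automorphism attached to a frame whose coordinate lattice is the lattice. -/
noncomputable def frameAut {v : GolayPt → GolayPt → ℤ} (hv : IsFrame v)
    (h : coordLattice hv = leechLattice) : Co0 :=
  ⟨Equiv.ofBijective (fun u => ⟨coord v (u : GolayPt → ℤ), h.le ⟨_, u.2, rfl⟩⟩)
    ⟨fun a b hab => Subtype.ext (coord_injective hv a.2 b.2 (congrArg Subtype.val hab)),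
     fun z => by
      obtain ⟨u, hu, e⟩ := h.symm.le z.2
      exact ⟨⟨u, hu⟩, Subtype.ext e⟩⟩,
   fun a b => Subtype.ext (coord_add hv a.2), fun a => coord_sqNorm hv a.2⟩

theorem coe_frameAut {v : GolayPt → GolayPt → ℤ} (hv : IsFrame v)
    (h : coordLattice hv = leechLattice) (u : leechLattice) :
    ((frameAut hv h • u : leechLattice) : GolayPt → ℤ) = coord v (u : GolayPt → ℤ) := rfl

/-- Every frame is carried to the standard one. -/
theorem exists_aut_of_frame {v : GolayPt → GolayPt → ℤ} (hv : IsFrame v) :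
    ∃ γ : Co0, ∀ i, ∀ u : leechLattice, (u : GolayPt → ℤ) = v i →
      ∃ j, γ • u = latE j ∨ γ • u = -latE j := by
  obtain ⟨v', hv', hvv, hL⟩ := exists_normal_frame hv
  refine ⟨frameAut hv' hL, fun i u hu => ?_⟩
  obtain ⟨j, hj | hj⟩ := hvv i
  · refine ⟨j, Or.inl (Subtype.ext ?_)⟩
    rw [coe_frameAut, hu, hj, coord_frame hv', coe_latE]
  · refine ⟨j, Or.inr (Subtype.ext ?_)⟩
    have hu' : ((-u : leechLattice) : GolayPt → ℤ) = v' j := by
      rw [AddSubgroup.coe_neg, hu, hj, neg_neg]
    have h1 := coe_smul_neg (frameAut hv' hL) u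
    rw [coe_frameAut, coe_frameAut, hu', coord_frame hv'] at h1
    rw [AddSubgroup.coe_neg, coe_latE, h1, neg_neg]
    rfl

/-- Every vector of norm 64 belongs to a frame, and every vector congruent to it too. -/
theorem exists_frame_of_norm64 {x : GolayPt → ℤ} (hx : x ∈ leechLattice) (hn : sqNorm x = 64) :
    ∃ v : GolayPt → GolayPt → ℤ, IsFrame v ∧
      ∀ y ∈ fibre64 (classOf x), ∃ i, y = v i ∨ y = -v i := by
  classical
  obtain ⟨T, hTS, hTo, hT24, hcov, hS⟩ :=
    exists_orth_reps _ (fibre64_ne_zero (classOf x)) (fibre64_pairwise (classOf x))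
  rw [card_fibre64_classOf hx hn] at hS
  have hT : T.card = 24 := by omega
  have e : GolayPt ≃ T := Fintype.equivOfCardEq (by rw [card_golayPt, Fintype.card_coe, hT])
  have hmem : ∀ i, ((e i : T) : GolayPt → ℤ) ∈ leechLattice ∧ sqNorm ((e i : T) : GolayPt → ℤ) = 64 ∧
      classOf ((e i : T) : GolayPt → ℤ) = classOf x := fun i => by
    have h := hTS (e i).2
    rw [mem_fibre64, mem_norm64] at h
    exact ⟨h.1.1, h.1.2, h.2⟩
  refine ⟨fun i => (e i : GolayPt → ℤ), ⟨fun i => (hmem i).1, fun i j => ?_, fun i j => ?_⟩, fun y hy => ?_⟩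
  · rcases eq_or_ne i j with rfl | h
    · rw [if_pos rfl, dot_self, (hmem i).2.1]
    · rw [if_neg h]
      exact hTo _ (e i).2 _ (e j).2 fun h' => h (e.injective (Subtype.ext h'))
  · exact (classOf_eq_iff (hmem i).1 (hmem j).1).mp ((hmem i).2.2.trans (hmem j).2.2.symm)
  · rcases hcov y hy with h | h
    · exact ⟨e.symm ⟨y, h⟩, Or.inl (by simp)⟩
    · exact ⟨e.symm ⟨-y, h⟩, Or.inr (by simp)⟩

/-- An automorphism sends any cross to the standard one. -/
theorem exists_aut_cross {x : leechLattice} (hn : sqNorm (x : GolayPt → ℤ) = 64) :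
    ∃ γ : Co0, ∀ y : leechLattice, sqNorm (y : GolayPt → ℤ) = 64 → CongTwo (y : GolayPt → ℤ) (x : GolayPt → ℤ) →
      ∃ j, γ • y = latE j ∨ γ • y = -latE j := by
  obtain ⟨v, hv, hcov⟩ := exists_frame_of_norm64 x.2 hn
  obtain ⟨γ, hγ⟩ := exists_aut_of_frame hv
  refine ⟨γ, fun y hyn hyc => ?_⟩
  obtain ⟨i, hi | hi⟩ := hcov _ (mem_fibre64.mpr ⟨mem_norm64.mpr ⟨y.2, hyn⟩, (classOf_eq_iff y.2 x.2).mpr hyc⟩)
  · exact hγ i y hi
  · obtain ⟨j, hj⟩ := hγ i (-y) (by rw [AddSubgroup.coe_neg, hi, neg_neg])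
    rw [smul_neg', neg_eq_iff_eq_neg, neg_inj] at hj
    exact ⟨j, hj.symm⟩

theorem exists_sgn (i j : GolayPt) (hij : i ≠ j) (a b : Bool) :
    ∃ c : golayCode, (c.1 i = 0 ↔ a = true) ∧ (c.1 j = 0 ↔ b = true) := by
  obtain ⟨g, hg, hgL⟩ := exists_map_eq (L := [none, some 0]) (L' := [i, j]) (by decide) (by simp [hij]) rfl
    (by simp)
  simp only [List.map_cons, List.map_nil, List.cons.injEq, and_true] at hgL
  have hstd : ∀ a b : Bool, ∃ k : Fin 8, ((codeWord k.val).testBit 23 = !a) ∧
      ((codeWord k.val).testBit 0 = !b) ∨ (((codeWord k.val ^^^ 16777215)).testBit 23 = !a ∧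
      ((codeWord k.val ^^^ 16777215)).testBit 0 = !b) := by decide +kernel
  obtain ⟨n, hn, h23, h0⟩ : ∃ n, isCode n = true ∧ n.testBit 23 = (!a) ∧ n.testBit 0 = (!b) := by
    obtain ⟨k, ⟨h1, h2⟩ | ⟨h1, h2⟩⟩ := hstd a b
    · exact ⟨_, isCode_codeWord _, h1, h2⟩
    · exact ⟨_, isCode_xor (isCode_codeWord _) (by decide +kernel), h1, h2⟩
  refine ⟨⟨_, act_code hg ⟨dec n, dec_mem_of_isCode hn⟩⟩, ?_, ?_⟩
  · show GolayModule.act g (dec n) i = 0 ↔ _
    rw [CfsgLib.GolayModule.act_apply, ← hgL.1, Equiv.symm_apply_apply, dec,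
      show (idx none).val = 23 from rfl, h23]
    cases a <;> decide
  · show GolayModule.act g (dec n) j = 0 ↔ _
    rw [CfsgLib.GolayModule.act_apply, ← hgL.2, Equiv.symm_apply_apply, dec,
      show (idx (some 0)).val = 0 from rfl, h0]
    cases b <;> decide

/-- `Co0` is transitive on the vectors of norm 64. -/
theorem exists_smul_eq_latE {x : leechLattice} (hn : sqNorm (x : GolayPt → ℤ) = 64) :
    ∃ γ : Co0, γ • x = latE none := by
  obtain ⟨γ, hγ⟩ := exists_aut_cross hn
  obtain ⟨j, hj⟩ := hγ x hn (CongTwo.refl _)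
  obtain ⟨g, hg, hgL⟩ := exists_map_eq (L := [j]) (L' := [none]) (by simp) (by simp) rfl (by simp)
  simp only [List.map_cons, List.map_nil, List.cons.injEq, and_true] at hgL
  rcases hj with hj | hj
  · exact ⟨permW ⟨g, hg⟩ * γ, by rw [mul_smul, hj, permW_latE, hgL]⟩
  · refine ⟨permW ⟨g, hg⟩ * (sgnW ⟨1, one_mem_golayCode⟩ * γ), ?_⟩
    rw [mul_smul, mul_smul, hj, smul_neg', sgnW_latE, if_neg (by simp), neg_neg, permW_latE, hgL]

theorem exists_smul_eq_norm64 {x y : leechLattice} (hx : sqNorm (x : GolayPt → ℤ) = 64)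
    (hy : sqNorm (y : GolayPt → ℤ) = 64) : ∃ γ : Co0, γ • x = y := by
  obtain ⟨a, ha⟩ := exists_smul_eq_latE hx
  obtain ⟨b, hb⟩ := exists_smul_eq_latE hy
  exact ⟨b⁻¹ * a, by rw [mul_smul, ha, ← hb, inv_smul_smul]⟩

/-! ### Norm 32 -/

theorem sqNorm_smul_lat (γ : Co0) (v : leechLattice) :
    sqNorm ((γ • v : leechLattice) : GolayPt → ℤ) = sqNorm (v : GolayPt → ℤ) := γ.2.2 v

theorem dot_smul_lat (γ : Co0) (v w : leechLattice) :
    dotInt ((γ • v : leechLattice) : GolayPt → ℤ) ((γ • w : leechLattice) : GolayPt → ℤ) =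
      dotInt (v : GolayPt → ℤ) (w : GolayPt → ℤ) := LeechEight.dotInt_addHom γ v w

theorem pair_four_mem (i j : GolayPt) (s t : ℤ) (hs : s = 4 ∨ s = -4) (ht : t = 4 ∨ t = -4) :
    Pi.single i s + Pi.single j t ∈ leechLattice := by
  refine mem_leechLattice_of_four_dvd (fun k => ?_) ?_
  · simp only [Pi.add_apply, Pi.single_apply]
    rcases hs with rfl | rfl <;> rcases ht with rfl | rfl <;> split_ifs <;> norm_num
  · simp only [Pi.add_apply, Finset.sum_add_distrib, Finset.sum_pi_single', Finset.mem_univ, if_true]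
    rcases hs with rfl | rfl <;> rcases ht with rfl | rfl <;> norm_num

theorem sqNorm_pair {i j : GolayPt} (hij : i ≠ j) (s t : ℤ) :
    sqNorm (Pi.single i s + Pi.single j t : GolayPt → ℤ) = s ^ 2 + t ^ 2 := by
  have h1 : ∀ a (r : ℤ), sqNorm (Pi.single a r : GolayPt → ℤ) = r ^ 2 := fun a r => by
    rw [← dot_self, dot_single_right, Pi.single_eq_same, sq]
  rw [sqNorm_add_eq, h1, h1, dot_single_right, Pi.single_eq_of_ne hij.symm]
  ring

/-- Every minimal vector is orthogonal to some minimal vector. -/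
theorem exists_orth_min {v : GolayPt → ℤ} (hn : sqNorm v = 32) :
    ∃ w ∈ leechLattice, sqNorm w = 32 ∧ dotInt v w = 0 := by
  obtain ⟨i, j, hij, habs⟩ : ∃ i j, i ≠ j ∧ (v i = v j ∨ v i = -v j) := by
    have hmaps : ∀ p ∈ (Finset.univ : Finset GolayPt), (v p).natAbs ∈ Finset.range 6 := by
      intro p _
      have h := int_sq_le_sqNorm v p
      rw [hn] at h
      rw [Finset.mem_range]
      have h5 : -5 ≤ v p ∧ v p ≤ 5 := ⟨by nlinarith, by nlinarith⟩
      omega
    obtain ⟨i, -, j, -, hij, h⟩ := Finset.exists_ne_map_eq_of_card_lt_of_maps_to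
      (by rw [Finset.card_univ, card_golayPt, Finset.card_range]; norm_num) hmaps
    exact ⟨i, j, hij, Int.natAbs_eq_natAbs_iff.mp h⟩
  rcases habs with h | h
  · refine ⟨_, pair_four_mem i j 4 (-4) (Or.inl rfl) (Or.inr rfl), ?_, ?_⟩
    · rw [sqNorm_pair hij]; norm_num
    · rw [dot_add_right, dot_single_right, dot_single_right, h]; ring
  · refine ⟨_, pair_four_mem i j 4 4 (Or.inl rfl) (Or.inl rfl), ?_, ?_⟩
    · rw [sqNorm_pair hij]; norm_num
    · rw [dot_add_right, dot_single_right, dot_single_right, h]; ring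

theorem exists_smul_eq_leechU {v : leechLattice} (hn : sqNorm (v : GolayPt → ℤ) = 32) :
    ∃ γ : Co0, γ • v = Spor.leechU := by
  obtain ⟨w', hw', hwn, hd⟩ := exists_orth_min hn
  set w : leechLattice := ⟨w', hw'⟩ with hw
  have hp : sqNorm ((v + w : leechLattice) : GolayPt → ℤ) = 64 := by
    rw [AddSubgroup.coe_add, sqNorm_add_eq, hn, hwn, hd]; norm_num
  have hm : sqNorm ((v - w : leechLattice) : GolayPt → ℤ) = 64 := by
    rw [AddSubgroup.coe_sub, sqNorm_sub_eq, hn, hwn, hd]; norm_num
  obtain ⟨γ, hγ⟩ := exists_aut_cross hp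
  obtain ⟨i, hi⟩ := hγ (v + w) hp (CongTwo.refl _)
  obtain ⟨j, hj⟩ := hγ (v - w) hm ⟨-(w : GolayPt → ℤ), neg_mem w.2, by
    simp only [AddSubgroup.coe_add, AddSubgroup.coe_sub]; module⟩
  obtain ⟨s, hs, hsi⟩ : ∃ s : ℤ, (s = 1 ∨ s = -1) ∧ γ • (v + w) = s • latE i := by
    rcases hi with h | h
    exacts [⟨1, Or.inl rfl, by rw [h, one_zsmul]⟩, ⟨-1, Or.inr rfl, by rw [h, neg_one_zsmul]⟩]
  obtain ⟨t, ht, htj⟩ : ∃ t : ℤ, (t = 1 ∨ t = -1) ∧ γ • (v - w) = t • latE j := by
    rcases hj with h | h
    exacts [⟨1, Or.inl rfl, by rw [h, one_zsmul]⟩, ⟨-1, Or.inr rfl, by rw [h, neg_one_zsmul]⟩]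
  have hij : i ≠ j := by
    intro e
    have h1 := dot_smul_lat γ (v + w) (v - w)
    have h2 : dotInt ((v + w : leechLattice) : GolayPt → ℤ) ((v - w : leechLattice) : GolayPt → ℤ) = 0 := by
      rw [AddSubgroup.coe_add, AddSubgroup.coe_sub, dot_add_left, dot_sub_right, dot_sub_right, dot_self,
        dot_self, dot_symm (w : GolayPt → ℤ), hn]
      show 32 - dotInt (v : GolayPt → ℤ) w' + (dotInt (v : GolayPt → ℤ) w' - sqNorm w') = 0
      rw [hwn, hd]; norm_num
    rw [hsi, htj, ← e, h2, AddSubgroup.coe_zsmul, AddSubgroup.coe_zsmul, dot_smul_left, dot_smul_right,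
      coe_latE, dot_single_right, Pi.single_eq_same] at h1
    rcases hs with rfl | rfl <;> rcases ht with rfl | rfl <;> norm_num at h1
  obtain ⟨c, hc1, hc2⟩ := exists_sgn i j hij (decide (s = 1)) (decide (t = 1))
  obtain ⟨g, hg, hgL⟩ := exists_map_eq (L := [i, j]) (L' := [none, some 0]) (by simp [hij]) (by decide) rfl
    (by simp)
  simp only [List.map_cons, List.map_nil, List.cons.injEq, and_true] at hgL
  set δ : Co0 := permW ⟨g, hg⟩ * (sgnW c * γ) with hδ
  have h1 : δ • (v + w) = latE none := by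
    rw [hδ, mul_smul, mul_smul, hsi]
    rcases hs with rfl | rfl
    · rw [one_zsmul, sgnW_latE, if_pos (hc1.mpr (by simp)), permW_latE, hgL.1]
    · rw [neg_one_zsmul, smul_neg', sgnW_latE, if_neg (fun h => by simpa using hc1.mp h), neg_neg,
        permW_latE, hgL.1]
  have h2 : δ • (v - w) = latE (some 0) := by
    rw [hδ, mul_smul, mul_smul, htj]
    rcases ht with rfl | rfl
    · rw [one_zsmul, sgnW_latE, if_pos (hc2.mpr (by simp)), permW_latE, hgL.2]
    · rw [neg_one_zsmul, smul_neg', sgnW_latE, if_neg (fun h => by simpa using hc2.mp h), neg_neg,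
        permW_latE, hgL.2]
  refine ⟨δ, Subtype.ext ?_⟩
  have h3 : δ • (v + v) = latE none + latE (some 0) := by
    rw [show v + v = (v + w) + (v - w) by abel, smul_add', h1, h2]
  rw [smul_add'] at h3
  funext k
  have h4 := congrArg (fun z : leechLattice => (z : GolayPt → ℤ) k) h3
  simp only [AddSubgroup.coe_add, Pi.add_apply, latE_apply] at h4
  show ((δ • v : leechLattice) : GolayPt → ℤ) k = Spor.vecU k
  unfold Spor.vecU
  split_ifs at h4 ⊢ <;> (try simp_all) <;> omega

theorem exists_smul_eq_norm32 {x y : leechLattice} (hx : sqNorm (x : GolayPt → ℤ) = 32)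
    (hy : sqNorm (y : GolayPt → ℤ) = 32) : ∃ γ : Co0, γ • x = y := by
  obtain ⟨a, ha⟩ := exists_smul_eq_leechU hx
  obtain ⟨b, hb⟩ := exists_smul_eq_leechU hy
  exact ⟨b⁻¹ * a, by rw [mul_smul, ha, ← hb, inv_smul_smul]⟩

/-! ### Norm 48 -/

/-- Every vector of norm 48 has a minimal vector at inner product 8. -/
theorem exists_min_dot_eight {u : GolayPt → ℤ} (hu : u ∈ leechLattice) (hn : sqNorm u = 48) :
    ∃ w ∈ leechLattice, sqNorm w = 32 ∧ dotInt u w = 8 := by
  obtain ⟨i, j, hij, s, t, hs, ht, h⟩ : ∃ i j, i ≠ j ∧ ∃ s t : ℤ, (s = 4 ∨ s = -4) ∧ (t = 4 ∨ t = -4) ∧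
      u i * s + u j * t = 8 := by
    have hbd : ∀ p, -6 ≤ u p ∧ u p ≤ 6 := fun p => by
      have h := int_sq_le_sqNorm u p
      rw [hn] at h
      exact ⟨by nlinarith, by nlinarith⟩
    rcases mem_leechLattice'.mp hu with hm | hm
    · -- some coordinate is 2 modulo 4, and some coordinate vanishes
      obtain ⟨i, hi⟩ : ∃ i, u i % 4 = 2 := by
        by_contra hall
        push Not at hall
        have e : ∀ p, u p = 4 * (u p / 4) := fun p => by
          have := (hm.1 p).symm.dvd
          have := hall p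
          omega
        have h8 := hm.2.1
        rw [Finset.sum_congr rfl fun p _ => e p, ← Finset.mul_sum, Int.modEq_iff_dvd] at h8
        have hpar : ((∑ p, (u p / 4) ^ 2 : ℤ) : ZMod 2) = ((∑ p, u p / 4 : ℤ) : ZMod 2) := by
          push_cast
          exact Finset.sum_congr rfl fun p _ => by
            generalize ((u p / 4 : ℤ) : ZMod 2) = a; revert a; decide
        rw [ZMod.intCast_eq_intCast_iff_dvd_sub] at hpar
        push_cast at hpar
        have e2 : sqNorm u = 16 * ∑ p, (u p / 4) ^ 2 := by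
          rw [Finset.mul_sum]
          refine Finset.sum_congr rfl fun p _ => ?_
          conv_lhs => rw [e p]
          ring
        rw [hn] at e2
        omega
      obtain ⟨j, hj⟩ : ∃ j, u j = 0 := by
        by_contra hall
        push Not at hall
        have h4 : ∀ p ∈ (Finset.univ : Finset GolayPt), (4 : ℤ) ≤ u p ^ 2 := fun p _ => by
          have := (hm.1 p).symm.dvd
          obtain ⟨q, hq⟩ : ∃ q, u p = 2 * q := ⟨u p / 2, by omega⟩
          have hq0 : q ≠ 0 := fun e => hall p (by rw [hq, e]; rfl)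
          rw [hq]
          nlinarith [Int.one_le_abs hq0, abs_nonneg q, sq_abs q]
        have := Finset.sum_le_sum h4
        rw [Finset.sum_const, Finset.card_univ, card_golayPt] at this
        simp only [sqNorm] at hn
        rw [hn] at this
        norm_num at this
      have hij : i ≠ j := fun e => by rw [← e] at hj; omega
      obtain ⟨hb1, hb2⟩ := hbd i
      have h6 : u i = 2 ∨ u i = -2 ∨ u i = 6 ∨ u i = -6 := by omega
      rcases h6 with h | h | h | h
      · exact ⟨i, j, hij, 4, 4, Or.inl rfl, Or.inl rfl, by rw [h, hj]; rfl⟩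
      · exact ⟨i, j, hij, -4, 4, Or.inr rfl, Or.inl rfl, by rw [h, hj]; rfl⟩
      · exfalso
        have h36 : ∑ p ∈ ({i} : Finset GolayPt), u p ^ 2 = 36 := by rw [Finset.sum_singleton, h]; rfl
        have h8 := eight_le_card_support ⟨_, hm.2.2, rfl⟩ ⟨i, by
          simp only [support₂, Finset.mem_filter, Finset.mem_univ, true_and, twoWord, intCast_ne_zero_iff]
          omega⟩
        have hle : ∑ p ∈ support₂ (twoWord u 0), (if p = i then 36 else 4 : ℤ) ≤
            ∑ p ∈ support₂ (twoWord u 0), u p ^ 2 := Finset.sum_le_sum fun p hp => by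
          rcases eq_or_ne p i with rfl | hp'
          · rw [if_pos rfl, h]; norm_num
          · rw [if_neg hp']
            simp only [support₂, Finset.mem_filter, Finset.mem_univ, true_and, twoWord, intCast_ne_zero_iff] at hp
            have hp0 : u p ≠ 0 := by omega
            have := (hm.1 p).symm.dvd
            obtain ⟨q, hq⟩ : ∃ q, u p = 2 * q := ⟨u p / 2, by omega⟩
            have hq0 : q ≠ 0 := fun e => hp0 (by rw [hq, e]; rfl)
            rw [hq]
            nlinarith [Int.one_le_abs hq0, abs_nonneg q, sq_abs q]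
        have himem : i ∈ support₂ (twoWord u 0) := by
          simp only [support₂, Finset.mem_filter, Finset.mem_univ, true_and, twoWord, intCast_ne_zero_iff]
          omega
        have hsum : ∑ p ∈ support₂ (twoWord u 0), (if p = i then 36 else 4 : ℤ) =
            32 + 4 * (support₂ (twoWord u 0)).card := by
          have : ∀ p, (if p = i then 36 else 4 : ℤ) = (if p = i then 32 else 0) + 4 := fun p => by
            split_ifs <;> norm_num
          simp only [this, Finset.sum_add_distrib, Finset.sum_ite_eq', himem, if_true, Finset.sum_const,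
            nsmul_eq_mul, mul_comm]
        have hsub : ∑ p ∈ support₂ (twoWord u 0), u p ^ 2 ≤ sqNorm u :=
          Finset.sum_le_sum_of_subset_of_nonneg (Finset.subset_univ _) fun k _ _ => sq_nonneg _
        omega
      · exfalso
        have himem : i ∈ support₂ (twoWord u 0) := by
          simp only [support₂, Finset.mem_filter, Finset.mem_univ, true_and, twoWord, intCast_ne_zero_iff]
          omega
        have h8 := eight_le_card_support ⟨_, hm.2.2, rfl⟩ ⟨i, himem⟩
        have hle : ∑ p ∈ support₂ (twoWord u 0), (if p = i then 36 else 4 : ℤ) ≤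
            ∑ p ∈ support₂ (twoWord u 0), u p ^ 2 := Finset.sum_le_sum fun p hp => by
          rcases eq_or_ne p i with rfl | hp'
          · rw [if_pos rfl, h]; norm_num
          · rw [if_neg hp']
            simp only [support₂, Finset.mem_filter, Finset.mem_univ, true_and, twoWord, intCast_ne_zero_iff] at hp
            have hp0 : u p ≠ 0 := by omega
            have := (hm.1 p).symm.dvd
            obtain ⟨q, hq⟩ : ∃ q, u p = 2 * q := ⟨u p / 2, by omega⟩
            have hq0 : q ≠ 0 := fun e => hp0 (by rw [hq, e]; rfl)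
            rw [hq]
            nlinarith [Int.one_le_abs hq0, abs_nonneg q, sq_abs q]
        have hsum : ∑ p ∈ support₂ (twoWord u 0), (if p = i then 36 else 4 : ℤ) =
            32 + 4 * (support₂ (twoWord u 0)).card := by
          have : ∀ p, (if p = i then 36 else 4 : ℤ) = (if p = i then 32 else 0) + 4 := fun p => by
            split_ifs <;> norm_num
          simp only [this, Finset.sum_add_distrib, Finset.sum_ite_eq', himem, if_true, Finset.sum_const,
            nsmul_eq_mul, mul_comm]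
        have hsub : ∑ p ∈ support₂ (twoWord u 0), u p ^ 2 ≤ sqNorm u :=
          Finset.sum_le_sum_of_subset_of_nonneg (Finset.subset_univ _) fun k _ _ => sq_nonneg _
        omega
    · -- at least two coordinates are units
      have hcard : 1 < (Finset.univ.filter fun p => u p = 1 ∨ u p = -1).card := by
        by_contra hle
        push Not at hle
        have hb : ∀ p ∈ (Finset.univ : Finset GolayPt), (if u p = 1 ∨ u p = -1 then 1 else 9 : ℤ) ≤ u p ^ 2 := by
          intro p _
          split_ifs with h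
          · rcases h with h | h <;> rw [h] <;> norm_num
          · have := (hm.1 p).symm.dvd
            have : u p ≤ -3 ∨ 3 ≤ u p := by omega
            rcases this with h | h <;> nlinarith
        have hs := Finset.sum_le_sum hb
        have hsum : ∑ p, (if u p = 1 ∨ u p = -1 then 1 else 9 : ℤ) =
            216 - 8 * ((Finset.univ.filter fun p => u p = 1 ∨ u p = -1).card : ℤ) := by
          have : ∀ p, (if u p = 1 ∨ u p = -1 then 1 else 9 : ℤ) =
              9 - 8 * (if u p = 1 ∨ u p = -1 then 1 else 0) := fun p => by split_ifs <;> norm_num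
          simp only [this, Finset.sum_sub_distrib, ← Finset.mul_sum, Finset.sum_boole, Finset.sum_const,
            Finset.card_univ, card_golayPt]
          norm_num
        rw [hsum] at hs
        have : sqNorm u = ∑ p, u p ^ 2 := rfl
        omega
      obtain ⟨i, hi, j, hj, hij⟩ := Finset.one_lt_card.mp hcard
      simp only [Finset.mem_filter, Finset.mem_univ, true_and] at hi hj
      rcases hi with hi | hi <;> rcases hj with hj | hj
      · exact ⟨i, j, hij, 4, 4, Or.inl rfl, Or.inl rfl, by rw [hi, hj]; rfl⟩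
      · exact ⟨i, j, hij, 4, -4, Or.inl rfl, Or.inr rfl, by rw [hi, hj]; rfl⟩
      · exact ⟨i, j, hij, -4, 4, Or.inr rfl, Or.inl rfl, by rw [hi, hj]; rfl⟩
      · exact ⟨i, j, hij, -4, -4, Or.inr rfl, Or.inr rfl, by rw [hi, hj]; rfl⟩
  refine ⟨_, pair_four_mem i j s t hs ht, ?_, ?_⟩
  · rw [sqNorm_pair hij]
    rcases hs with rfl | rfl <;> rcases ht with rfl | rfl <;> norm_num
  · rw [dot_add_right, dot_single_right, dot_single_right, h]

theorem exists_smul_eq_leechV {u : leechLattice} (hn : sqNorm (u : GolayPt → ℤ) = 48) :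
    ∃ γ : Co0, γ • u = Spor.leechV := by
  obtain ⟨w', hw', hwn, hd⟩ := exists_min_dot_eight u.2 hn
  set x : leechLattice := u - ⟨w', hw'⟩ with hx
  have hxn : sqNorm (x : GolayPt → ℤ) = 64 := by
    rw [hx, AddSubgroup.coe_sub]
    show sqNorm ((u : GolayPt → ℤ) - w') = 64
    rw [sqNorm_sub_eq, hn, hwn, hd]; norm_num
  obtain ⟨γ, hγ⟩ := exists_smul_eq_latE hxn
  set z : GolayPt → ℤ := ((γ • u : leechLattice) : GolayPt → ℤ) with hz
  have hzn : sqNorm z = 48 := by rw [hz, sqNorm_smul_lat, hn]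
  have hz5 : z none = 5 := by
    have h1 := dot_smul_lat γ u x
    rw [hγ, coe_latE, dot_single_right, ← hz] at h1
    have h2 : dotInt (u : GolayPt → ℤ) (x : GolayPt → ℤ) = 40 := by
      rw [hx, AddSubgroup.coe_sub]
      show dotInt (u : GolayPt → ℤ) ((u : GolayPt → ℤ) - w') = 40
      rw [dot_sub_right, dot_self, hn, hd]; norm_num
    omega
  obtain ⟨m, hzm⟩ := mem_leechLattice.mp (γ • u).2
  rw [← hz] at hzm
  have hodd : ∀ p, z p % 2 = 1 := fun p => by
    have := (hzm.1 p).symm.dvd
    have := (hzm.1 none).symm.dvd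
    omega
  have hunit : ∀ p, p ≠ none → z p = 1 ∨ z p = -1 := by
    intro p hp
    by_contra hno
    push Not at hno
    have h9 : 9 ≤ z p ^ 2 := by
      have := hodd p
      have : z p ≤ -3 ∨ 3 ≤ z p := by omega
      rcases this with h | h <;> nlinarith
    have hle : ∑ q, ((if q = none then 24 else 0) + (if q = p then 8 else 0) + 1 : ℤ) ≤ sqNorm z :=
      Finset.sum_le_sum fun q _ => by
        rcases eq_or_ne q none with rfl | hqn
        · rw [if_pos rfl, if_neg hp.symm, hz5]; norm_num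
        · rw [if_neg hqn]
          rcases eq_or_ne q p with rfl | hqp
          · rw [if_pos rfl]; omega
          · rw [if_neg hqp]
            have := hodd q
            have h0 : z q ≠ 0 := by omega
            nlinarith [Int.one_le_abs h0, abs_nonneg (z q), sq_abs (z q)]
    simp only [Finset.sum_add_distrib, Finset.sum_ite_eq', Finset.mem_univ, if_true, Finset.sum_const,
      Finset.card_univ, card_golayPt] at hle
    rw [hzn] at hle
    norm_num at hle
  have hw1 : twoWord z 1 ∈ golayCode := by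
    have h1 : InLeech z 1 := by
      have h := hzm.shift
      rwa [show m % 2 = 1 by have := (hzm.1 none).symm.dvd; omega] at h
    exact h1.2.2
  refine ⟨sgnW ⟨1, one_mem_golayCode⟩ * (sgnW ⟨_, hw1⟩ * γ), Subtype.ext (funext fun p => ?_)⟩
  rw [mul_smul, mul_smul, sgnW_apply, if_neg (by simp), sgnW_apply, ← hz]
  show -_ = Spor.vecV p
  rcases eq_or_ne p none with rfl | hp
  · rw [if_pos (by simp only [twoWord, hz5]; decide), hz5]; rfl
  · rw [Spor.vecV, if_neg hp]
    rcases hunit p hp with h | h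
    · rw [if_pos (by simp only [twoWord, h]; decide), h]
    · rw [if_neg (by simp only [twoWord, h]; decide), h]; rfl

theorem exists_smul_eq_norm48 {x y : leechLattice} (hx : sqNorm (x : GolayPt → ℤ) = 48)
    (hy : sqNorm (y : GolayPt → ℤ) = 48) : ∃ γ : Co0, γ • x = y := by
  obtain ⟨a, ha⟩ := exists_smul_eq_leechV hx
  obtain ⟨b, hb⟩ := exists_smul_eq_leechV hy
  exact ⟨b⁻¹ * a, by rw [mul_smul, ha, ← hb, inv_smul_smul]⟩

/-! ### The order -/

/-- The vectors of norm 64 in a class. -/
def classCross (q : ModTwo) : Set leechLattice :=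
  {y | sqNorm (y : GolayPt → ℤ) = 64 ∧ classOf (y : GolayPt → ℤ) = q}

/-- The standard cross, inside the lattice. -/
def stdCrossL : Set leechLattice := {y | ∃ j, y = latE j ∨ y = -latE j}

theorem sqNorm_latE (j : GolayPt) : sqNorm ((latE j : leechLattice) : GolayPt → ℤ) = 64 := by
  rw [coe_latE, ← dot_self, dot_single_right, Pi.single_eq_same]; norm_num

theorem cong_iff_congTwo (y x : leechLattice) :
    Cong y x ↔ CongTwo (y : GolayPt → ℤ) (x : GolayPt → ℤ) := by
  constructor
  · rintro ⟨u, rfl⟩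
    exact ⟨u, u.2, by simp only [AddSubgroup.coe_add]; module⟩
  · rintro ⟨z, hz, e⟩
    refine ⟨⟨z, hz⟩, Subtype.ext ?_⟩
    simp only [AddSubgroup.coe_add]
    rw [← two_nsmul, ← e, add_sub_cancel]

theorem stdCrossL_eq : stdCrossL = classCross (classOf ((latE none : leechLattice) : GolayPt → ℤ)) := by
  ext y
  simp only [stdCrossL, classCross, Set.mem_ofPred_eq]
  rw [classOf_eq_iff y.2 (latE none).2, ← cong_iff_congTwo]
  constructor
  · rintro ⟨j, rfl | rfl⟩
    · exact ⟨sqNorm_latE j, latE_cong j none⟩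
    · exact ⟨by rw [AddSubgroup.coe_neg, sqNorm_neg, sqNorm_latE], (Cong.neg' _).trans' (latE_cong j none)⟩
  · rintro ⟨hn, hc⟩
    exact class64_latE hc hn

theorem smul_classCross (γ : Co0) (x : leechLattice) :
    γ • classCross (classOf (x : GolayPt → ℤ)) =
      classCross (classOf ((γ • x : leechLattice) : GolayPt → ℤ)) := by
  ext y
  simp only [Set.mem_smul_set_iff_inv_smul_mem, classCross, Set.mem_ofPred_eq]
  rw [sqNorm_smul_lat, classOf_eq_iff (γ⁻¹ • y).2 x.2, classOf_eq_iff y.2 (γ • x).2,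
    ← cong_iff_congTwo, ← cong_iff_congTwo]
  refine and_congr_right fun _ => ⟨fun h => ?_, fun h => ?_⟩
  · have := h.smul' γ
    rwa [smul_inv_smul] at this
  · have := h.smul' γ⁻¹
    rwa [inv_smul_smul] at this

theorem orbit_stdCrossL [DecidableEq ModTwo] :
    MulAction.orbit Co0 stdCrossL = classCross '' ↑(norm64.image classOf) := by
  ext S
  rw [stdCrossL_eq, MulAction.mem_orbit_iff]
  constructor
  · rintro ⟨γ, rfl⟩
    rw [smul_classCross]
    refine ⟨_, Finset.mem_coe.mpr (Finset.mem_image.mpr ⟨_, mem_norm64.mpr ⟨(γ • latE none).2, ?_⟩, rfl⟩), rfl⟩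
    rw [sqNorm_smul_lat, sqNorm_latE]
  · rintro ⟨q, hq, rfl⟩
    rw [Finset.mem_coe, Finset.mem_image] at hq
    obtain ⟨x, hx, rfl⟩ := hq
    rw [mem_norm64] at hx
    obtain ⟨γ, hγ⟩ := exists_smul_eq_latE (x := ⟨x, hx.1⟩) hx.2
    refine ⟨γ⁻¹, ?_⟩
    rw [smul_classCross, ← hγ, inv_smul_smul]

theorem ncard_orbit_stdCrossL : (MulAction.orbit Co0 stdCrossL).ncard = 8292375 := by
  classical
  rw [orbit_stdCrossL, Set.InjOn.ncard_image, Set.ncard_coe_finset, modTwo_counting.1]
  intro q hq r _ h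
  rw [Finset.mem_coe, Finset.mem_image] at hq
  obtain ⟨x, hx, rfl⟩ := hq
  rw [mem_norm64] at hx
  have hmem : (⟨x, hx.1⟩ : leechLattice) ∈ classCross (classOf x) := ⟨hx.2, rfl⟩
  rw [h] at hmem
  exact hmem.2

theorem mem_stabilizer_stdCrossL {γ : Co0} :
    γ ∈ MulAction.stabilizer Co0 stdCrossL ↔ ∃ (c : golayCode) (σ : M24), γ = sgnW c * permW σ := by
  rw [MulAction.mem_stabilizer_iff, stdCrossL_eq, smul_classCross, ← cong_latE_iff, cong_iff_congTwo]
  constructor
  · intro h
    have hmem : (γ • latE none : leechLattice) ∈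
        classCross (classOf ((γ • latE none : leechLattice) : GolayPt → ℤ)) :=
      ⟨by rw [sqNorm_smul_lat, sqNorm_latE], rfl⟩
    rw [h] at hmem
    exact (classOf_eq_iff (γ • latE none).2 (latE none).2).mp hmem.2
  · intro h
    rw [(classOf_eq_iff (γ • latE none).2 (latE none).2).mpr h]

/-- The monomial group: sign changes on code words times the group of the code. -/
noncomputable def monoEquiv : golayCode × M24 ≃ MulAction.stabilizer Co0 stdCrossL :=
  Equiv.ofBijective (fun p => ⟨sgnW p.1 * permW p.2, mem_stabilizer_stdCrossL.mpr ⟨_, _, rfl⟩⟩)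
    ⟨fun a b h => by
      have h' := congrArg Subtype.val h
      obtain ⟨c, σ⟩ := a
      obtain ⟨d, τ⟩ := b
      obtain rfl := mono_unique h'
      have h'' : sgnW c = sgnW d := mul_right_cancel h'
      exact Prod.ext (Multiplicative.ofAdd.injective (sgnHom_injective h'')) rfl,
     fun γ => by
      obtain ⟨c, σ, h⟩ := mem_stabilizer_stdCrossL.mp γ.2
      exact ⟨(c, σ), Subtype.ext h.symm⟩⟩

theorem natCard_stabilizer_stdCrossL :
    Nat.card (MulAction.stabilizer Co0 stdCrossL) = 4096 * 244823040 := by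
  rw [← Nat.card_congr monoEquiv, Nat.card_prod, natCard_golayCode, natCard_M24]

/-- The order of the automorphism group of the lattice. -/
theorem natCard_Co0 : Nat.card Co0 = 8315553613086720000 := by
  rw [← Subgroup.index_mul_card (MulAction.stabilizer Co0 stdCrossL), MulAction.index_stabilizer,
    ncard_orbit_stdCrossL, natCard_stabilizer_stdCrossL]

theorem co0_finite : Finite Co0 := Nat.finite_of_card_ne_zero (by rw [natCard_Co0]; norm_num)

/-- A vector stabiliser in a transitive action: its order. -/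
theorem natCard_stabilizer_of_trans {v : leechLattice} {N : ℤ}
    (hv : sqNorm (v : GolayPt → ℤ) = N)
    (htrans : ∀ w : leechLattice, sqNorm (w : GolayPt → ℤ) = N → ∃ γ : Co0, γ • v = w) :
    {x : GolayPt → ℤ | x ∈ leechLattice ∧ sqNorm x = N}.ncard * Nat.card (MulAction.stabilizer Co0 v) =
      Nat.card Co0 := by
  rw [← Subgroup.index_mul_card (MulAction.stabilizer Co0 v), MulAction.index_stabilizer]
  congr 1
  rw [← Set.ncard_image_of_injective (MulAction.orbit Co0 v) Subtype.val_injective]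
  congr 1
  ext x
  simp only [Set.mem_ofPred_eq, Set.mem_image, MulAction.mem_orbit_iff]
  constructor
  · rintro ⟨hx, hn⟩
    obtain ⟨γ, hγ⟩ := htrans ⟨x, hx⟩ hn
    exact ⟨_, ⟨γ, hγ⟩, rfl⟩
  · rintro ⟨w, ⟨γ, rfl⟩, rfl⟩
    exact ⟨(γ • v).2, by rw [sqNorm_smul_lat, hv]⟩

end CfsgLib.Golay
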