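import Cfsg.Agent.Lib.Golay.OrbitTableDod

/-!
# Maximal stabilisers in the group of the length-24 code
-/

set_option autoImplicit false

namespace CfsgLib.Golay.Maximality

open Cfsg
open scoped Pointwise

section generic

variable {G α : Type*} [Group G] [MulAction G α] {x : α} {K : Subgroup G}

/-- The orbit of `x` under `K`, as a set. -/
def block (K : Subgroup G) (x : α) : Set α := {y | ∃ k ∈ K, k • x = y}

theorem self_mem_block : x ∈ block K x := ⟨1, one_mem K, one_smul G x⟩

theorem block_subset_orbit : block K x ⊆ MulAction.orbit G x := by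
  rintro _ ⟨k, -, rfl⟩
  exact ⟨k, rfl⟩

theorem mem_of_smul_mem (hK : MulAction.stabilizer G x ≤ K) {g : G} (h : g • x ∈ block K x) : g ∈ K := by
  obtain ⟨k, hk, hkx⟩ := h
  have : k⁻¹ * g ∈ K := hK (by rw [MulAction.mem_stabilizer_iff, mul_smul, ← hkx, inv_smul_smul])
  simpa using mul_mem hk this

/-- An element carrying one point of the block into the block preserves the block. -/
theorem smul_mem_block (hK : MulAction.stabilizer G x ≤ K) {a b : α} {g : G} (ha : a ∈ block K x)
    (hga : g • a ∈ block K x) (hb : b ∈ block K x) : g • b ∈ block K x := by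
  obtain ⟨k, hk, rfl⟩ := ha
  rw [← mul_smul] at hga
  have hg : g ∈ K := by simpa using mul_mem (mem_of_smul_mem hK hga) (inv_mem hk)
  obtain ⟨l, hl, rfl⟩ := hb
  exact ⟨g * l, mul_mem hg hl, mul_smul g l x⟩

theorem smul_mem_block_of_fix (hK : MulAction.stabilizer G x ≤ K) {g : G} (hg : g • x = x) {b : α}
    (hb : b ∈ block K x) : g • b ∈ block K x :=
  smul_mem_block hK self_mem_block (by rw [hg]; exact self_mem_block) hb

theorem eq_top_of_block (hK : MulAction.stabilizer G x ≤ K) (h : MulAction.orbit G x ⊆ block K x) :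
    K = ⊤ :=
  eq_top_iff.2 fun g _ => mem_of_smul_mem hK (h ⟨g, rfl⟩)

theorem ncard_block_dvd [Finite G] (hK : MulAction.stabilizer G x ≤ K) :
    (block K x).ncard ∣ (MulAction.orbit G x).ncard := by
  have h1 : block K x = MulAction.orbit K x := by
    ext y
    constructor
    · rintro ⟨k, hk, rfl⟩
      exact ⟨⟨k, hk⟩, rfl⟩
    · rintro ⟨⟨k, hk⟩, rfl⟩
      exact ⟨k, hk, rfl⟩
  have h2 := natCard_orbit_mul (G := K) x
  have h3 : Nat.card (MulAction.stabilizer K x) = Nat.card (MulAction.stabilizer G x) :=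
    Nat.card_congr
      { toFun := fun s => ⟨s.1.1, s.2⟩
        invFun := fun s => ⟨⟨s.1, hK s.2⟩, s.2⟩
        left_inv := fun _ => rfl
        right_inv := fun _ => rfl }
  have h4 := natCard_orbit_mul (G := G) x
  rw [h1]
  refine Nat.dvd_of_mul_dvd_mul_right (Nat.card_pos (α := MulAction.stabilizer G x)) ?_
  rw [h4, ← h3, h2]
  exact Subgroup.card_subgroup_dvd_card K

end generic

/-! ### Small subsets -/

theorem smul_toFinset (g : Equiv.Perm GolayPt) (L : List GolayPt) :
    g • L.toFinset = (L.map g).toFinset := by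
  ext p
  simp [Finset.mem_smul_finset, Equiv.Perm.smul_def]

/-- Two pairs of sets with the same sizes of the three parts, at most five points in all, are
conjugate. -/
theorem exists_smul_pair {A B A' B' : Finset GolayPt} (h1 : (A ∩ B).card = (A' ∩ B').card)
    (h2 : (A \ B).card = (A' \ B').card) (h3 : (B \ A).card = (B' \ A').card)
    (h5 : (A ∩ B).card + (A \ B).card + (B \ A).card ≤ 5) :
    ∃ g : M24, g • A = A' ∧ g • B = B' := by
  have hnd : ∀ A B : Finset GolayPt,
      ((A ∩ B).toList ++ ((A \ B).toList ++ (B \ A).toList)).Nodup := by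
    intro A B
    simp only [List.nodup_append, Finset.nodup_toList, Finset.mem_toList, Finset.mem_inter,
      Finset.mem_sdiff, List.mem_append, true_and]
    refine ⟨?_, ?_⟩
    · rintro a ha b hb rfl
      exact hb.2 ha.1
    · rintro a ha b hb rfl
      rcases hb with hb | hb
      · exact hb.2 ha.2
      · exact hb.2 ha.1
  obtain ⟨g, hg, hgL⟩ := exists_map_eq (hnd A B) (hnd A' B')
    (by simp [h1, h2, h3]) (by simp; omega)
  rw [List.map_append, List.map_append] at hgL
  obtain ⟨e1, e2⟩ := List.append_inj hgL (by simp [h1])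
  obtain ⟨e3, e4⟩ := List.append_inj e2 (by simp [h2])
  have f1 : g • (A ∩ B) = A' ∩ B' := by
    rw [← Finset.toList_toFinset (A ∩ B), smul_toFinset, e1, Finset.toList_toFinset]
  have f2 : g • (A \ B) = A' \ B' := by
    rw [← Finset.toList_toFinset (A \ B), smul_toFinset, e3, Finset.toList_toFinset]
  have f3 : g • (B \ A) = B' \ A' := by
    rw [← Finset.toList_toFinset (B \ A), smul_toFinset, e4, Finset.toList_toFinset]
  have hA : ∀ A B : Finset GolayPt, (A ∩ B) ∪ (A \ B) = A := fun A B => by
    rw [Finset.union_comm, Finset.sdiff_union_inter]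
  refine ⟨⟨g, hg⟩, ?_, ?_⟩
  · show g • A = A'
    conv_lhs => rw [← hA A B]
    rw [Finset.smul_finset_union, f1, f2, hA]
  · show g • B = B'
    conv_lhs => rw [← hA B A]
    rw [Finset.smul_finset_union, Finset.inter_comm B A, f1, f3, Finset.inter_comm A' B', hA]

/-- Stabilisers of 2-sets and of 3-sets are maximal. -/
theorem isCoatom_small {s : Finset GolayPt} {k : ℕ} (hk : k = 2 ∨ k = 3) (hs : s.card = k) :
    IsCoatom (MulAction.stabilizer M24 s) := by
  have htrans : ∀ t : Finset GolayPt, t.card = k → ∃ g : M24, g • s = t := by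
    intro t ht
    obtain ⟨g, hg, -⟩ := exists_smul_pair (A := s) (B := s) (A' := t) (B' := t)
      (by simp [hs, ht]) (by simp) (by simp) (by simp [hs]; omega)
    exact ⟨g, hg⟩
  have hother : ∀ u : Finset GolayPt, u.card < 24 → ∃ p, p ∉ u := by
    intro u hu
    by_contra h
    push Not at h
    have : u = Finset.univ := Finset.eq_univ_iff_forall.2 h
    rw [this, Finset.card_univ, card_golayPt] at hu
    omega
  have hne0 : ∃ t : Finset GolayPt, t.card = k ∧ t ≠ s := by
    obtain ⟨a, ha⟩ := Finset.card_pos.1 (by omega : 0 < s.card)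
    obtain ⟨b, hb⟩ := hother s (by omega)
    refine ⟨insert b (s.erase a), ?_, fun h => hb (h ▸ Finset.mem_insert_self _ _)⟩
    rw [Finset.card_insert_of_notMem (fun h => hb (Finset.mem_of_mem_erase h)),
      Finset.card_erase_of_mem ha]
    omega
  refine ⟨fun h => ?_, fun K hK => ?_⟩
  · obtain ⟨t, ht, hts⟩ := hne0
    obtain ⟨g, hg⟩ := htrans t ht
    exact hts (hg.symm.trans (MulAction.mem_stabilizer_iff.1 (h ▸ Subgroup.mem_top g)))
  have hKs := hK.le
  set D := block K s with hD
  have hDk : ∀ u ∈ D, u.card = k := by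
    rintro _ ⟨g, -, rfl⟩
    rw [← hs]
    exact Finset.card_smul_finset (g : Equiv.Perm GolayPt) s
  -- closure under translated pairs
  have hcl : ∀ {a b c e : Finset GolayPt}, a ∈ D → b ∈ D → c ∈ D → a.card = k → b.card = k →
      e.card = k → (a ∩ b).card = (c ∩ e).card → 1 ≤ (a ∩ b).card → e ∈ D := by
    intro a b c e ha hb hc hak hbk hek hi h1
    have hck := hDk c hc
    have e1 := Finset.card_sdiff_add_card_inter a b
    have e2 := Finset.card_sdiff_add_card_inter b a
    have e3 := Finset.card_sdiff_add_card_inter c e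
    have e4 := Finset.card_sdiff_add_card_inter e c
    rw [Finset.inter_comm b a] at e2
    rw [Finset.inter_comm e c] at e4
    obtain ⟨g, hga, hgb⟩ := exists_smul_pair (A := a) (B := b) (A' := c) (B' := e) hi (by omega) (by omega)
      (by omega)
    rw [← hgb]
    exact smul_mem_block hKs ha (by rw [hga]; exact hc) hb
  obtain ⟨m, hmK, hm⟩ := SetLike.exists_of_lt hK
  set u := m • s with hu
  have huD : u ∈ D := ⟨m, hmK, rfl⟩
  have hus : u ≠ s := fun h => hm (MulAction.mem_stabilizer_iff.2 h)
  have huk := hDk u huD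
  have hsub : ∀ {a b : Finset GolayPt}, a.card = k → b.card = k → a ≠ b → (a ∩ b).card < k := by
    intro a b ha hb hne
    by_contra h
    have h1 : a ∩ b = a := Finset.eq_of_subset_of_card_le Finset.inter_subset_left (by omega)
    exact hne (Finset.eq_of_subset_of_card_le (Finset.inter_eq_left.1 h1) (by omega))
  -- two members with a common point
  obtain ⟨a, b, haD, hbD, hab1, hab2⟩ :
      ∃ a b, a ∈ D ∧ b ∈ D ∧ 1 ≤ (a ∩ b).card ∧ (a ∩ b).card < k := by
    by_cases h0 : 1 ≤ (s ∩ u).card
    · exact ⟨s, u, self_mem_block, huD, h0, hsub hs huk hus.symm⟩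
    have hdisj : s ∩ u = ∅ := Finset.card_eq_zero.1 (by omega)
    obtain ⟨p, hp⟩ := Finset.card_pos.1 (by omega : 0 < u.card)
    obtain ⟨q, hq⟩ := Finset.card_pos.1 (show 0 < (u.erase p).card by
      rw [Finset.card_erase_of_mem hp]; omega)
    rw [Finset.mem_erase] at hq
    obtain ⟨r, hr⟩ := hother (s ∪ u) (by have := Finset.card_union_le s u; omega)
    rw [Finset.mem_union, not_or] at hr
    have hps : p ∉ s := fun h => by
      have : p ∈ s ∩ u := Finset.mem_inter.2 ⟨h, hp⟩
      simp [hdisj] at this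
    have hqs : q ∉ s := fun h => by
      have : q ∈ s ∩ u := Finset.mem_inter.2 ⟨h, hq.2⟩
      simp [hdisj] at this
    have hrp : r ≠ p := fun h => hr.2 (h ▸ hp)
    obtain ⟨g, hg, hgL⟩ := exists_map_eq (L := s.toList ++ [p, q]) (L' := s.toList ++ [p, r])
      (by
        simp only [List.nodup_append, Finset.nodup_toList, true_and, Finset.mem_toList]
        refine ⟨by simp [Ne.symm hq.1], ?_⟩
        rintro a ha b hb rfl
        rcases List.mem_cons.1 hb with rfl | hb
        · exact hps ha
        · rw [List.mem_singleton.1 hb] at ha; exact hqs ha)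
      (by
        simp only [List.nodup_append, Finset.nodup_toList, true_and, Finset.mem_toList]
        refine ⟨by simp [Ne.symm hrp], ?_⟩
        rintro a ha b hb rfl
        rcases List.mem_cons.1 hb with rfl | hb
        · exact hps ha
        · rw [List.mem_singleton.1 hb] at ha; exact hr.1 ha)
      (by simp) (by simp [hs]; omega)
    rw [List.map_append] at hgL
    obtain ⟨e1, e2⟩ := List.append_inj hgL (by simp)
    have hgs : g • s = s := by
      rw [← Finset.toList_toFinset s, smul_toFinset, e1]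
    simp only [List.map_cons, List.map_nil, List.cons.injEq, and_true] at e2
    set g' : M24 := ⟨g, hg⟩
    have hgu : g' • u ∈ D := smul_mem_block_of_fix hKs (g := g') hgs huD
    refine ⟨u, g' • u, huD, hgu, Finset.card_pos.2 ⟨p, Finset.mem_inter.2 ⟨hp, ?_⟩⟩,
      hsub huk (hDk _ hgu) fun h => hr.2 ?_⟩
    · show p ∈ g • u
      rw [← e2.1, ← Equiv.Perm.smul_def]
      exact Finset.smul_mem_smul_finset hp
    · rw [h]
      show r ∈ g • u
      rw [← e2.2, ← Equiv.Perm.smul_def]
      exact Finset.smul_mem_smul_finset hq.2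
  -- two members with all but one point common
  obtain ⟨a', b', ha', hb', hab'⟩ : ∃ a b, a ∈ D ∧ b ∈ D ∧ (a ∩ b).card + 1 = k := by
    by_cases h : (a ∩ b).card + 1 = k
    · exact ⟨a, b, haD, hbD, h⟩
    have hak := hDk a haD
    have hbk := hDk b hbD
    obtain ⟨c, hc⟩ := Finset.card_pos.1 hab1
    rw [Finset.mem_inter] at hc
    obtain ⟨c', hc'⟩ := Finset.card_pos.1 (show 0 < (a \ b).card by
      have := Finset.card_sdiff_add_card_inter a b; omega)
    rw [Finset.mem_sdiff] at hc'
    obtain ⟨n, hn⟩ := hother (a ∪ b) (by have := Finset.card_union_le a b; omega)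
    rw [Finset.mem_union, not_or] at hn
    have hcc : c ≠ c' := fun h => hc'.2 (h ▸ hc.2)
    have hwk : ({c, c', n} : Finset GolayPt).card = k := by
      rw [Finset.card_insert_of_notMem (by
          simp only [Finset.mem_insert, Finset.mem_singleton, not_or]
          exact ⟨hcc, fun h => hn.1 (h ▸ hc.1)⟩),
        Finset.card_insert_of_notMem (by
          simp only [Finset.mem_singleton]
          exact fun h => hn.1 (h ▸ hc'.1)), Finset.card_singleton]
      omega
    have hbw : b ∩ {c, c', n} = {c} := by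
      ext p
      simp only [Finset.mem_inter, Finset.mem_insert, Finset.mem_singleton]
      constructor
      · rintro ⟨hp, rfl | rfl | rfl⟩
        · rfl
        · exact absurd hp hc'.2
        · exact absurd hp hn.2
      · rintro rfl
        exact ⟨hc.2, Or.inl rfl⟩
    have haw : a ∩ {c, c', n} = {c, c'} := by
      ext p
      simp only [Finset.mem_inter, Finset.mem_insert, Finset.mem_singleton]
      constructor
      · rintro ⟨hp, rfl | rfl | rfl⟩
        · exact Or.inl rfl
        · exact Or.inr rfl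
        · exact absurd hp hn.1
      · rintro (rfl | rfl)
        · exact ⟨hc.1, Or.inl rfl⟩
        · exact ⟨hc'.1, Or.inr (Or.inl rfl)⟩
    refine ⟨a, {c, c', n}, haD, hcl haD hbD hbD hak hbk hwk (by rw [hbw, Finset.card_singleton]; omega) hab1,
      ?_⟩
    rw [haw, Finset.card_pair hcc]
    omega
  -- everything is in the block
  have hall : ∀ (d : ℕ) (w : Finset GolayPt), w.card = k → (s \ w).card ≤ d → w ∈ D := by
    intro d
    induction d with
    | zero =>
      intro w hw hd
      have h1 : s ⊆ w := Finset.sdiff_eq_empty_iff_subset.1 (Finset.card_eq_zero.1 (by omega))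
      rw [← Finset.eq_of_subset_of_card_le h1 (by omega)]
      exact self_mem_block
    | succ d ih =>
      intro w hw hd
      by_cases h0 : (s \ w).card ≤ d
      · exact ih w hw h0
      obtain ⟨t, ht⟩ := Finset.card_pos.1 (show 0 < (s \ w).card by omega)
      rw [Finset.mem_sdiff] at ht
      obtain ⟨v, hv⟩ := Finset.card_pos.1 (show 0 < (w \ s).card by
        have := Finset.card_sdiff_add_card_inter w s
        have := Finset.card_sdiff_add_card_inter s w
        rw [Finset.inter_comm] at this
        omega)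
      rw [Finset.mem_sdiff] at hv
      set w' := insert t (w.erase v) with hw'
      have ht' : t ∉ w.erase v := fun h => ht.2 (Finset.mem_of_mem_erase h)
      have hw'k : w'.card = k := by
        rw [hw', Finset.card_insert_of_notMem ht', Finset.card_erase_of_mem hv.1]; omega
      have hsw : s \ w' = (s \ w).erase t := by
        ext p
        simp only [hw', Finset.mem_sdiff, Finset.mem_insert, Finset.mem_erase]
        constructor
        · rintro ⟨hp, hn⟩
          exact ⟨fun h => hn (Or.inl h), hp, fun h => hn (Or.inr ⟨fun e => hv.2 (e ▸ hp), h⟩)⟩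
        · rintro ⟨hpt, hp, hpw⟩
          exact ⟨hp, fun h => h.elim hpt fun h => hpw h.2⟩
      have hw'D : w' ∈ D := ih w' hw'k (by
        rw [hsw, Finset.card_erase_of_mem (Finset.mem_sdiff.2 ht)]; omega)
      have hinter : w' ∩ w = w.erase v := by
        rw [hw', Finset.insert_inter_of_notMem ht.2]
        exact Finset.inter_eq_left.2 (Finset.erase_subset v w)
      exact hcl ha' hb' hw'D (hDk _ ha') (hDk _ hb') hw
        (by rw [hinter, Finset.card_erase_of_mem hv.1]; omega) (by omega)
  refine eq_top_of_block hKs ?_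
  rintro _ ⟨g, rfl⟩
  exact hall k _ ((Finset.card_smul_finset (g : Equiv.Perm GolayPt) s).trans hs)
    ((Finset.card_le_card Finset.sdiff_subset).trans hs.le)

/-! ### Octads -/

theorem orbit_octad {o : Finset GolayPt} (ho : o ∈ octads) : MulAction.orbit M24 o = octads := by
  ext e
  rw [MulAction.mem_orbit_iff]
  exact ⟨fun ⟨g, hg⟩ => hg ▸ octads_smul_mem g o ho, fun he => exists_m24_smul (exists_smul_octad_eq ho he)⟩

/-- Stabilisers of octads are maximal. -/
theorem isCoatom_octad {o : Finset GolayPt} (ho : o ∈ octads) :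
    IsCoatom (MulAction.stabilizer M24 o) := by
  have horb := orbit_octad ho
  refine ⟨fun h => ?_, fun K hK => ?_⟩
  · have hcard := natCard_stabilizer_octad ho
    rw [h, Subgroup.card_top, natCard_M24] at hcard
    omega
  have hKo := hK.le
  set D := block K o with hD
  have hDsub : D ⊆ octads := horb ▸ block_subset_orbit
  have hfull : ∀ X ∈ D, {Y | Y ∈ octads ∧ (o ∩ Y).card = (o ∩ X).card} ⊆ D := by
    intro X hX Y hY
    rw [← (orbit_stabilizer_octad ho (hDsub hX)).1] at hY
    obtain ⟨v, rfl⟩ := hY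
    exact smul_mem_block_of_fix hKo (g := (v : M24)) v.2 hX
  obtain ⟨m, hmK, hm⟩ := SetLike.exists_of_lt hK
  have huD : m • o ∈ D := ⟨m, hmK, rfl⟩
  have huo : m • o ≠ o := fun h => hm (MulAction.mem_stabilizer_iff.2 h)
  have hdvd : D.ncard ∣ 759 := by
    have := ncard_block_dvd hKo
    rwa [horb, ncard_octads] at this
  refine eq_top_of_block hKo ?_
  rw [horb]
  suffices hall : 759 ≤ D.ncard by
    rw [← Set.eq_of_subset_of_ncard_le hDsub (by rwa [ncard_octads]) octads_finite]
  have hsize : ∀ X ∈ D, X ≠ o → 1 + ({Y | Y ∈ octads ∧ (o ∩ Y).card = (o ∩ X).card}).ncard ≤ D.ncard ∧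
      ((o ∩ X).card = 0 ∨ (o ∩ X).card = 2 ∨ (o ∩ X).card = 4) := by
    intro X hX hne
    have hi := card_inter_octads ho (hDsub hX) hne.symm
    refine ⟨?_, hi⟩
    have hno : o ∉ {Y | Y ∈ octads ∧ (o ∩ Y).card = (o ∩ X).card} := by
      rintro ⟨-, h⟩
      rw [Finset.inter_self, card_of_mem_octads ho] at h
      omega
    rw [Nat.add_comm, ← Set.ncard_insert_of_notMem hno (Set.toFinite _)]
    exact Set.ncard_le_ncard (Set.insert_subset self_mem_block (hfull X hX)) (Set.toFinite _)
  have hcount : ∀ X ∈ octads, ((o ∩ X).card = 0 →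
      ({Y | Y ∈ octads ∧ (o ∩ Y).card = (o ∩ X).card}).ncard = 30) ∧
      ((o ∩ X).card = 4 → ({Y | Y ∈ octads ∧ (o ∩ Y).card = (o ∩ X).card}).ncard = 280) ∧
      ((o ∩ X).card = 2 → ({Y | Y ∈ octads ∧ (o ∩ Y).card = (o ∩ X).card}).ncard = 448) := by
    intro X hX
    obtain ⟨he, h⟩ := orbit_stabilizer_octad ho hX
    rwa [he] at h
  have hbig : 281 ≤ D.ncard → 759 ≤ D.ncard := by
    intro h
    by_contra hlt
    obtain ⟨j, hj⟩ := hdvd
    have h2 : 2 ≤ j := by
      by_contra hj2
      have : D.ncard * j ≤ D.ncard * 1 := Nat.mul_le_mul_left _ (by omega)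
      omega
    have : D.ncard * 2 ≤ D.ncard * j := Nat.mul_le_mul_left _ h2
    have : j ≠ 2 := by rintro rfl; omega
    have : D.ncard * 3 ≤ D.ncard * j := Nat.mul_le_mul_left _ (by omega)
    omega
  by_cases hex : ∃ X ∈ D, X ≠ o ∧ (o ∩ X).card ≠ 0
  · obtain ⟨X, hX, hne, h0⟩ := hex
    obtain ⟨h1, h2⟩ := hsize X hX hne
    obtain ⟨-, c4, c2⟩ := hcount X (hDsub hX)
    apply hbig
    rcases h2 with h | h | h
    · exact absurd h h0
    · rw [c2 h] at h1; omega
    · rw [c4 h] at h1; omega
  push Not at hex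
  exfalso
  have hmo : (o ∩ m • o).card = 0 := hex _ huD huo
  have heq : D = insert o {Y | Y ∈ octads ∧ (o ∩ Y).card = (o ∩ m • o).card} := by
    refine Set.Subset.antisymm (fun X hX => ?_) (Set.insert_subset self_mem_block (hfull _ huD))
    by_cases hXo : X = o
    · exact Or.inl hXo
    · exact Or.inr ⟨hDsub hX, by rw [hmo]; exact hex X hX hXo⟩
  have h31 : D.ncard = 31 := by
    rw [heq, Set.ncard_insert_of_notMem ?_ (Set.toFinite _), (hcount _ (hDsub huD)).1 hmo]
    rintro ⟨-, h⟩
    rw [hmo, Finset.inter_self, card_of_mem_octads ho] at h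
    omega
  rw [h31] at hdvd
  norm_num at hdvd

/-! ### Pairs of dodecads -/

theorem smul_pair_compl (g : M24) (d : Finset GolayPt) :
    g • ({d, dᶜ} : Finset (Finset GolayPt)) = {g • d, (g • d)ᶜ} := by
  show (g : Equiv.Perm GolayPt) • ({d, dᶜ} : Finset (Finset GolayPt)) = _
  rw [Finset.smul_finset_insert, Finset.smul_finset_singleton, smul_compl]
  rfl

theorem mem_stabilizer_pair {g : M24} {d : Finset GolayPt} :
    g ∈ MulAction.stabilizer M24 ({d, dᶜ} : Finset (Finset GolayPt)) ↔ g • d = d ∨ g • d = dᶜ := by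
  rw [MulAction.mem_stabilizer_iff, smul_pair_compl]
  constructor
  · intro h
    have : g • d ∈ ({d, dᶜ} : Finset (Finset GolayPt)) := h ▸ Finset.mem_insert_self _ _
    simpa using this
  · rintro (h | h) <;> rw [h]
    rw [compl_compl, Finset.pair_comm]

theorem orbit_dodecad {d : Finset GolayPt} (hd : d ∈ dodecads) : MulAction.orbit M24 d = dodecads := by
  ext e
  rw [MulAction.mem_orbit_iff]
  exact ⟨fun ⟨g, hg⟩ => hg ▸ m24_smul_mem_dodecads g d hd,
    fun he => exists_m24_smul (exists_smul_dodecad_eq hd he)⟩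

/-- Stabilisers of complementary pairs of dodecads are maximal. -/
theorem isCoatom_dodecad_pair {d : Finset GolayPt} (hd : d ∈ dodecads) :
    IsCoatom (MulAction.stabilizer M24 ({d, dᶜ} : Finset (Finset GolayPt))) := by
  have horb := orbit_dodecad hd
  have hd12 := card_of_mem_dodecads hd
  have hdc := compl_mem_dodecads hd
  refine ⟨fun h => ?_, fun K hK => ?_⟩
  · have hsub : dodecads ⊆ {d, dᶜ} := by
      rw [← horb]
      rintro _ ⟨g, rfl⟩
      exact mem_stabilizer_pair.1 (h ▸ Subgroup.mem_top g)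
    have h1 := (Set.ncard_le_ncard hsub (Set.toFinite _)).trans (Set.ncard_insert_le _ _)
    rw [ncard_dodecads, Set.ncard_singleton] at h1
    omega
  have hKd : MulAction.stabilizer M24 d ≤ K := fun g hg =>
    hK.le (mem_stabilizer_pair.2 (Or.inl hg))
  set D := block K d with hD
  have hDsub : D ⊆ dodecads := horb ▸ block_subset_orbit
  obtain ⟨w, hw⟩ := exists_m24_smul (exists_smul_dodecad_eq hd hdc)
  have hwK : w ∈ K := hK.le (mem_stabilizer_pair.2 (Or.inr hw))
  have hdcD : dᶜ ∈ D := ⟨w, hwK, hw⟩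
  have hclass : ∀ X ∈ D, ∀ Y ∈ dodecads, (d ∩ Y).card = (d ∩ X).card → Y ∈ D := by
    intro X hX Y hY hc
    have hv := card_inter_dodecads hd (hDsub hX)
    obtain ⟨n, hn⟩ : ∃ n, ((d ∩ X).card, n) ∈ [(0, 1), (4, 495), (6, 1584), (8, 495), (12, 1)] := by
      rcases hv with h | h | h | h | h <;> rw [h]
      · exact ⟨1, by simp⟩
      · exact ⟨495, by simp⟩
      · exact ⟨1584, by simp⟩
      · exact ⟨495, by simp⟩
      · exact ⟨1, by simp⟩
    obtain ⟨g, hg1, hg2⟩ := (dodecad_classes hd hn).2 X Y (hDsub hX) hY rfl hc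
    rw [← hg2]
    exact smul_mem_block_of_fix hKd hg1 hX
  have hswap : ∀ X : Finset GolayPt, (d ∩ w • X).card + (d ∩ X).card = X.card := by
    intro X
    have h1 : (dᶜ ∩ w • X).card = (d ∩ X).card := by
      rw [← hw]
      show ((w : Equiv.Perm GolayPt) • d ∩ (w : Equiv.Perm GolayPt) • X).card = _
      rw [← Finset.smul_finset_inter, Finset.card_smul_finset]
    have h2 : (d ∩ w • X).card + (dᶜ ∩ w • X).card = (w • X).card := by
      rw [← Finset.card_union_of_disjoint (Finset.disjoint_of_subset_left Finset.inter_subset_left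
        (Finset.disjoint_of_subset_right Finset.inter_subset_left disjoint_compl_right))]
      congr 1
      ext p
      simp only [Finset.mem_union, Finset.mem_inter, Finset.mem_compl]
      tauto
    have h3 : (w • X).card = X.card := Finset.card_smul_finset (w : Equiv.Perm GolayPt) X
    omega
  obtain ⟨m, hmK, hm⟩ := SetLike.exists_of_lt hK
  rw [mem_stabilizer_pair, not_or] at hm
  have huD : m • d ∈ D := ⟨m, hmK, rfl⟩
  have hdvd : D.ncard ∣ 2576 := by
    have := ncard_block_dvd hKd
    rwa [horb, ncard_dodecads] at this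
  have hcard : ∀ {c n : ℕ}, (c, n) ∈ [(0, 1), (4, 495), (6, 1584), (8, 495), (12, 1)] →
      {X | X ∈ dodecads ∧ (d ∩ X).card = c}.ncard = n := fun h => (dodecad_classes hd h).1
  have hends : ∀ X ∈ dodecads, ((d ∩ X).card = 0 → X = dᶜ) ∧ ((d ∩ X).card = 12 → X = d) := by
    intro X hX
    have hX12 := card_of_mem_dodecads hX
    constructor
    · intro h
      refine Finset.eq_of_subset_of_card_le (fun p hp => Finset.mem_compl.2 fun hpd => ?_) ?_
      · exact Finset.notMem_empty p (Finset.card_eq_zero.1 h ▸ Finset.mem_inter.2 ⟨hpd, hp⟩)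
      · rw [Finset.card_compl, card_golayPt]; omega
    · intro h
      have h1 : d ∩ X = X := Finset.eq_of_subset_of_card_le Finset.inter_subset_right (by omega)
      exact Finset.eq_of_subset_of_card_le (Finset.inter_eq_right.1 h1) (by omega)
  suffices hall : dodecads ⊆ D by
    exact eq_top_of_block hKd (horb ▸ hall)
  by_cases h6 : ∃ X ∈ D, (d ∩ X).card = 6
  · obtain ⟨X, hX, hX6⟩ := h6
    have hsub : insert d {Y | Y ∈ dodecads ∧ (d ∩ Y).card = 6} ⊆ D :=
      Set.insert_subset self_mem_block fun Y hY => hclass X hX Y hY.1 (hY.2.trans hX6.symm)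
    have h1 := Set.ncard_le_ncard hsub (Set.toFinite _)
    rw [Set.ncard_insert_of_notMem (by rintro ⟨-, h⟩; rw [Finset.inter_self] at h; omega) (Set.toFinite _),
      hcard (c := 6) (n := 1584) (by simp)] at h1
    rw [Set.eq_of_subset_of_ncard_le hDsub ?_ (Set.toFinite _)]
    rw [ncard_dodecads]
    obtain ⟨j, hj⟩ := hdvd
    have h2 : j < 2 := by
      by_contra hj2
      have : D.ncard * 2 ≤ D.ncard * j := Nat.mul_le_mul_left _ (by omega)
      omega
    interval_cases j <;> omega
  exfalso
  push Not at h6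
  have hu48 : (d ∩ m • d).card = 4 ∨ (d ∩ m • d).card = 8 := by
    obtain ⟨e0, e12⟩ := hends _ (hDsub huD)
    rcases card_inter_dodecads hd (hDsub huD) with h | h | h | h | h
    · exact absurd (e0 h) hm.2
    · exact Or.inl h
    · exact absurd h (h6 _ huD)
    · exact Or.inr h
    · exact absurd (e12 h) hm.1
  obtain ⟨X4, hX4, hX4c⟩ : ∃ X ∈ D, (d ∩ X).card = 4 := by
    rcases hu48 with h | h
    · exact ⟨_, huD, h⟩
    · refine ⟨w • (m • d), ⟨w * m, mul_mem hwK hmK, mul_smul w m d⟩, ?_⟩
      have := hswap (m • d)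
      have := card_of_mem_dodecads (hDsub huD)
      omega
  have hX8 : w • X4 ∈ D := by
    obtain ⟨k, hk, rfl⟩ := hX4
    exact ⟨w * k, mul_mem hwK hk, mul_smul w k d⟩
  have hX8c : (d ∩ w • X4).card = 8 := by
    have := hswap X4
    have := card_of_mem_dodecads (hDsub hX4)
    omega
  have heq : D = insert d (insert dᶜ ({Y | Y ∈ dodecads ∧ (d ∩ Y).card = 4} ∪
      {Y | Y ∈ dodecads ∧ (d ∩ Y).card = 8})) := by
    refine Set.Subset.antisymm (fun X hX => ?_) ?_
    · obtain ⟨e0, e12⟩ := hends X (hDsub hX)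
      rcases card_inter_dodecads hd (hDsub hX) with h | h | h | h | h
      · exact Or.inr (Or.inl (e0 h))
      · exact Or.inr (Or.inr (Or.inl ⟨hDsub hX, h⟩))
      · exact absurd h (h6 X hX)
      · exact Or.inr (Or.inr (Or.inr ⟨hDsub hX, h⟩))
      · exact Or.inl (e12 h)
    · refine Set.insert_subset self_mem_block (Set.insert_subset hdcD (Set.union_subset ?_ ?_))
      · exact fun Y hY => hclass X4 hX4 Y hY.1 (hY.2.trans hX4c.symm)
      · exact fun Y hY => hclass _ hX8 Y hY.1 (hY.2.trans hX8c.symm)
  have hdd : (d ∩ d).card = 12 := by rw [Finset.inter_self]; exact hd12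
  have hdd' : (d ∩ dᶜ).card = 0 := by simp [Finset.inter_compl]
  have h992 : D.ncard = 992 := by
    rw [heq, Set.ncard_insert_of_notMem ?_ (Set.toFinite _), Set.ncard_insert_of_notMem ?_ (Set.toFinite _),
      Set.ncard_union_eq ?_ (Set.toFinite _) (Set.toFinite _), hcard (c := 4) (n := 495) (by simp),
      hcard (c := 8) (n := 495) (by simp)]
    · rw [Set.disjoint_left]
      rintro Y ⟨-, h⟩ ⟨-, h'⟩
      omega
    · rintro (⟨-, h⟩ | ⟨-, h⟩) <;> omega
    · rintro (h | ⟨-, h⟩ | ⟨-, h⟩)
      · rw [← h] at hdd'; omega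
      · omega
      · omega
  rw [h992] at hdvd
  norm_num at hdvd

end CfsgLib.Golay.Maximality
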