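import Cfsg.Agent.Lib.Golay.M24Group

/-!
# Ordered six-point sets: two orbits
-/

set_option autoImplicit false

namespace CfsgLib.Golay

open Cfsg
open scoped Pointwise

/-- Six base points inside an octad. -/
def octadSix : List GolayPt := basePts.take 6

/-- Six base points in no octad. -/
def genericSix : List GolayPt := basePts.take 5 ++ [basePt 6]

/-- All the points of the list lie in one octad. -/
def InOctad (L : List GolayPt) : Prop := ∃ o ∈ octads, ∀ p ∈ L, p ∈ o

theorem inOctad_map {g : Equiv.Perm GolayPt} (hg : g ∈ M24) {L : List GolayPt} :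
    InOctad (L.map g) ↔ InOctad L := by
  constructor
  · rintro ⟨o, ho, h⟩
    refine ⟨g⁻¹ • o, smul_mem_octads (inv_mem hg) ho, fun p hp => ?_⟩
    rw [Finset.mem_inv_smul_finset_iff, Equiv.Perm.smul_def]
    exact h _ (List.mem_map_of_mem hp)
  · rintro ⟨o, ho, h⟩
    refine ⟨g • o, smul_mem_octads hg ho, fun p hp => ?_⟩
    obtain ⟨q, hq, rfl⟩ := List.mem_map.mp hp
    exact Finset.smul_mem_smul_finset (h q hq)

theorem inOctad_octadSix : InOctad octadSix := ⟨baseOctad, baseOctad_mem, basePts_subset_baseOctad⟩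

theorem octad_through_five {o : Finset GolayPt} (ho : o ∈ octads) (h : ∀ p ∈ basePts.take 5, p ∈ o) :
    o = baseOctad := by
  refine octad_eq_of_five_le ho baseOctad_mem (five_le_card_take.trans (Finset.card_le_card fun p hp => ?_))
  rw [List.mem_toFinset] at hp
  exact Finset.mem_inter.mpr ⟨h p hp,
    basePts_subset_baseOctad p (List.take_subset_take_left _ (by norm_num : 5 ≤ 6) hp)⟩

theorem basePt_six_notMem : basePt 6 ∉ baseOctad := by unfold baseOctad; decide +kernel

theorem not_inOctad_genericSix : ¬ InOctad genericSix := by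
  rintro ⟨o, ho, h⟩
  have := octad_through_five ho fun p hp => h p (List.mem_append_left _ hp)
  exact basePt_six_notMem (this ▸ h _ (List.mem_append_right _ (List.mem_singleton_self _)))

/-- Six distinct points are the image of one of the two standard sextuples. -/
theorem exists_map_six_base (L : List GolayPt) (hL : L.Nodup) (h6 : L.length = 6) :
    (InOctad L → ∃ g ∈ M24, octadSix.map g = L) ∧ (¬ InOctad L → ∃ g ∈ M24, genericSix.map g = L) := by
  obtain ⟨L5, p, rfl⟩ : ∃ L5 p, L = L5 ++ [p] := by
    rcases List.eq_nil_or_concat L with rfl | ⟨a, b, rfl⟩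
    · simp at h6
    · exact ⟨a, b, List.concat_eq_append⟩
  rw [List.length_append, List.length_singleton] at h6
  obtain ⟨hL5, -, hdisj⟩ := List.nodup_append.mp hL
  obtain ⟨g, hg, hgL⟩ := exists_map_basePts L5 hL5 (by omega)
  rw [show L5.length = 5 by omega] at hgL
  set q := g⁻¹ p with hq
  have hgq : g q = p := by simp [hq]
  have hqnot : q ∉ basePts.take 5 := fun hmem => by
    refine hdisj p ?_ p (List.mem_singleton_self p) rfl
    rw [← hgL]
    exact List.mem_map.mpr ⟨q, hmem, hgq⟩
  have hin : InOctad (L5 ++ [p]) ↔ q ∈ baseOctad := by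
    rw [← hgL, ← hgq, ← List.map_singleton, ← List.map_append, inOctad_map hg]
    constructor
    · rintro ⟨o, ho, h⟩
      exact octad_through_five ho (fun x hx => h x (List.mem_append_left _ hx)) ▸
        h q (List.mem_append_right _ (List.mem_singleton_self q))
    · intro hmem
      refine ⟨baseOctad, baseOctad_mem, fun x hx => ?_⟩
      rcases List.mem_append.mp hx with hx | hx
      · exact basePts_subset_baseOctad x (List.take_subset_take_left _ (by norm_num : 5 ≤ 6) hx)
      · rwa [List.mem_singleton.mp hx]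
  have finish : ∀ ρ ∈ M24, ∀ c : GolayPt, (∀ b ∈ basePts.take 5, ρ b = b) → ρ c = q →
      ∃ h ∈ M24, (basePts.take 5 ++ [c]).map h = L5 ++ [p] := by
    intro ρ hρ c hfix hval
    refine ⟨g * ρ, mul_mem hg hρ, ?_⟩
    rw [List.map_append, List.map_singleton]
    congr 1
    · conv_rhs => rw [← hgL]
      exact List.map_congr_left fun b hb => by rw [Equiv.Perm.mul_apply, hfix b hb]
    · rw [Equiv.Perm.mul_apply, hval, hgq]
  constructor
  · intro h
    have ht : (idx q).val ∈ targets.getD 5 [] :=
      (targets_five (idx q)).mpr ⟨mem_decS.mp (hin.mp h), fun h' => hqnot (mem_basePos_take.mp h')⟩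
    obtain ⟨ρ, hρ, hfix, hval⟩ := exists_level (by norm_num) ht
    exact finish ρ (G0_le_M24 hρ) (basePt 5) hfix hval
  · intro h
    have ht : (idx q).val ∈ targets.getD 6 [] := by
      rw [targets_six (idx q), ← Bool.not_eq_true, ← mem_decS]
      exact fun h' => h (hin.mpr h')
    obtain ⟨ρ, hρ, hfix, hval⟩ := exists_level (by norm_num) ht
    exact finish ρ (G0_le_M24 hρ) (basePt 6)
      (fun b hb => hfix b (List.take_subset_take_left _ (by norm_num : 5 ≤ 6) hb)) hval

/-- Two sextuples of the same type are conjugate. -/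
theorem exists_map_six {L L' : List GolayPt} (hL : L.Nodup) (hL' : L'.Nodup) (h : L.length = 6)
    (h' : L'.length = 6) (htype : InOctad L ↔ InOctad L') : ∃ g ∈ M24, L.map g = L' := by
  obtain ⟨a, b⟩ := exists_map_six_base L hL h
  obtain ⟨a', b'⟩ := exists_map_six_base L' hL' h'
  have key : ∀ B : List GolayPt, (∃ g ∈ M24, B.map g = L) → (∃ g ∈ M24, B.map g = L') →
      ∃ g ∈ M24, L.map g = L' := by
    rintro B ⟨g, hg, rfl⟩ ⟨g', hg', rfl⟩
    refine ⟨g' * g⁻¹, mul_mem hg' (inv_mem hg), ?_⟩
    rw [List.map_map]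
    exact List.map_congr_left fun x _ => by simp
  by_cases hin : InOctad L
  · exact key _ (a hin) (a' (htype.mp hin))
  · exact key _ (b hin) (b' (fun h'' => hin (htype.mpr h'')))

theorem natCard_fixPts_genericSix : Nat.card (fixPts genericSix) = 3 := by
  have h := natCard_eq_ncard_mul_natCard (stdStab 5) (basePt 6) (targetPts 6)
    (fun σ hσ => ?_) (fun t ht => ?_)
  · rw [show Nat.card (stdStab 5) = 48 from natCard_stdStab 5, show (targetPts 6).card = 16 from card_targetPts 6] at h
    have h2 : stdStab 5 ⊓ MulAction.stabilizer (Equiv.Perm GolayPt) (basePt 6) = fixPts genericSix :=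
      (fixPts_concat _ _).symm
    rw [h2] at h
    norm_num at h
    omega
  · obtain ⟨h1, h2⟩ := mem_fixPts.mp hσ
    have hoct : σ • baseOctad = baseOctad := by
      refine smul_octad_eq h1 baseOctad_mem five_le_card_take (fun p hp => ?_) (fun p hp => ?_)
      · rw [List.mem_toFinset] at hp
        exact basePts_subset_baseOctad p (List.take_subset_take_left _ (by norm_num : 5 ≤ 6) hp)
      · rw [List.mem_toFinset] at hp
        exact h2 p hp
    rw [mem_targets_iff, targets_six (idx _), ← Bool.not_eq_true, ← mem_decS, ← baseOctad, ← hoct,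
      ← Equiv.Perm.smul_def, Finset.smul_mem_smul_finset_iff]
    exact basePt_six_notMem
  · obtain ⟨τ, hτ, hfix, hval⟩ := exists_level (by norm_num) (mem_targets_iff.mp ht)
    exact ⟨τ, mem_fixPts.mpr ⟨G0_le_M24 hτ, fun b hb =>
      hfix b (List.take_subset_take_left _ (by norm_num : 5 ≤ 6) hb)⟩, hval⟩

/-- Pointwise stabilisers of six points have order 16 or 3. -/
theorem natCard_fixPts_six {L : List GolayPt} (hL : L.Nodup) (h6 : L.length = 6) :
    (InOctad L → Nat.card (fixPts L) = 16) ∧ (¬ InOctad L → Nat.card (fixPts L) = 3) := by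
  obtain ⟨a, b⟩ := exists_map_six_base L hL h6
  have key : ∀ B : List GolayPt, ∀ g ∈ M24, B.map g = L → Nat.card (fixPts L) = Nat.card (fixPts B) := by
    intro B g hg hgB
    rw [← hgB, ← map_conj_fixPts hg, Subgroup.card_map_of_injective (MulAut.conj g).injective]
  constructor
  · intro h
    obtain ⟨g, hg, hgL⟩ := a h
    rw [key _ g hg hgL]
    exact natCard_stdStab 6
  · intro h
    obtain ⟨g, hg, hgL⟩ := b h
    rw [key _ g hg hgL]
    exact natCard_fixPts_genericSix

end CfsgLib.Golay
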