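import Cfsg.Agent.Lib.Golay.OrbitApps
import Cfsg.Agent.Lib.Golay.SixPoints

/-!
# The stabiliser of an octad induces the alternating group and splits
-/

set_option autoImplicit false

namespace CfsgLib.Golay

open Cfsg
open scoped Pointwise

/-- The stabiliser of an octad among all permutations. -/
def octStab (o : Finset GolayPt) : Subgroup (Equiv.Perm GolayPt) :=
  M24 ⊓ MulAction.stabilizer (Equiv.Perm GolayPt) o

theorem apply_mem_iff_of_mem_octStab {o : Finset GolayPt} {g : Equiv.Perm GolayPt} (hg : g ∈ octStab o)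
    (x : GolayPt) : g x ∈ o ↔ x ∈ o :=
  apply_mem_iff_of_smul_eq hg.2 x

/-- Restriction to the octad. -/
noncomputable def octRes (o : Finset GolayPt) : octStab o →* Equiv.Perm ↥o where
  toFun g := (g : Equiv.Perm GolayPt).subtypePerm (fun x => apply_mem_iff_of_mem_octStab g.2 x)
  map_one' := Equiv.ext fun x => rfl
  map_mul' g h := Equiv.ext fun x => rfl

theorem octRes_apply (o : Finset GolayPt) (g : octStab o) (x : ↥o) :
    ((octRes o g x : ↥o) : GolayPt) = (g : Equiv.Perm GolayPt) x := rfl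

theorem map_ker_octRes (o : Finset GolayPt) :
    (octRes o).ker.map (octStab o).subtype =
      M24 ⊓ fixingSubgroup (Equiv.Perm GolayPt) (o : Set GolayPt) := by
  ext σ
  rw [Subgroup.mem_map, Subgroup.mem_inf, mem_fixingSubgroup_iff]
  constructor
  · rintro ⟨g, hg, rfl⟩
    refine ⟨g.2.1, fun x hx => ?_⟩
    have h1 := congrArg (fun e : Equiv.Perm ↥o => ((e ⟨x, hx⟩ : ↥o) : GolayPt)) (MonoidHom.mem_ker.mp hg)
    exact h1
  · rintro ⟨hσ, hfix⟩
    have hmem : σ ∈ octStab o := by
      refine ⟨hσ, ?_⟩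
      show σ • o = o
      refine Finset.eq_of_subset_of_card_le (fun x hx => ?_) (by rw [Finset.card_smul_finset])
      obtain ⟨y, hy, rfl⟩ := Finset.mem_smul_finset.mp hx
      rw [hfix y (Finset.mem_coe.mpr hy)]
      exact hy
    refine ⟨⟨σ, hmem⟩, ?_, rfl⟩
    rw [MonoidHom.mem_ker]
    exact Equiv.ext fun x => Subtype.ext (hfix x x.2)

theorem natCard_octStab {o : Finset GolayPt} (ho : o ∈ octads) : Nat.card (octStab o) = 322560 := by
  rw [octStab, ← map_subtype_stabilizer, Subgroup.card_map_of_injective (Subgroup.subtype_injective _),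
    natCard_stabilizer_octad ho]

theorem range_octRes {o : Finset GolayPt} (ho : o ∈ octads) : (octRes o).range = alternatingGroup ↥o := by
  have h8 : Nat.card (Equiv.Perm ↥o) = 40320 := by
    rw [Nat.card_perm, Nat.card_eq_fintype_card, Fintype.card_coe, card_of_mem_octads ho]
    rfl
  have hker : Nat.card (octRes o).ker = 16 := by
    rw [← Subgroup.card_map_of_injective (octStab o).subtype_injective, map_ker_octRes]
    exact (octad_fixing ho).1
  have h1 := Subgroup.index_mul_card (octRes o).ker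
  rw [Subgroup.index_ker, hker, natCard_octStab ho] at h1
  have h2 := Subgroup.index_mul_card (octRes o).range
  rw [h8] at h2
  refine Equiv.Perm.eq_alternatingGroup_of_index_eq_two ?_
  rcases Nat.lt_trichotomy (octRes o).range.index 2 with h | h | h <;> nlinarith

theorem induces_alternating {o : Finset GolayPt} (ho : o ∈ octads) :
    {e : Equiv.Perm ↥o | ∃ g : Equiv.Perm GolayPt, g ∈ M24 ∧ ∃ h : (∀ x, g x ∈ o ↔ x ∈ o),
      g.subtypePerm h = e} = (alternatingGroup ↥o : Set (Equiv.Perm ↥o)) := by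
  rw [← range_octRes ho]
  ext e
  simp only [Set.mem_setOf_eq, MonoidHom.coe_range, Set.mem_range]
  constructor
  · rintro ⟨g, hg, h, rfl⟩
    refine ⟨⟨g, hg, ?_⟩, rfl⟩
    show g • o = o
    refine Finset.eq_of_subset_of_card_le (fun x hx => ?_) (by rw [Finset.card_smul_finset])
    obtain ⟨y, hy, rfl⟩ := Finset.mem_smul_finset.mp hx
    exact (h y).mpr hy
  · rintro ⟨g, rfl⟩
    exact ⟨g, g.2.1, fun x => apply_mem_iff_of_mem_octStab g.2 x, rfl⟩

/-- The octad stabiliser splits over the pointwise stabiliser. -/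
theorem octad_splits {o : Finset GolayPt} (ho : o ∈ octads) {p : GolayPt} (hp : p ∉ o) :
    (M24 ⊓ fixingSubgroup (Equiv.Perm GolayPt) (o : Set GolayPt)) ⊓
        (octStab o ⊓ MulAction.stabilizer (Equiv.Perm GolayPt) p) = ⊥ ∧
    (M24 ⊓ fixingSubgroup (Equiv.Perm GolayPt) (o : Set GolayPt)) ⊔
        (octStab o ⊓ MulAction.stabilizer (Equiv.Perm GolayPt) p) = octStab o ∧
    Nonempty (↥(octStab o ⊓ MulAction.stabilizer (Equiv.Perm GolayPt) p) ≃* alternatingGroup (Fin 8)) := by
  classical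
  set K := M24 ⊓ fixingSubgroup (Equiv.Perm GolayPt) (o : Set GolayPt) with hK
  set A := octStab o ⊓ MulAction.stabilizer (Equiv.Perm GolayPt) p with hA
  obtain ⟨hK16, hK2⟩ := octad_fixing ho
  -- only the identity of `K` fixes a further point
  have hfree : ∀ q, q ∉ o → ∀ g ∈ K, g q = q → g = 1 := by
    intro q hq g hg hgq
    obtain ⟨t, ht, htc⟩ := Finset.exists_subset_card_eq (n := 5) (s := o)
      (by rw [card_of_mem_octads ho]; norm_num)
    have hnd : (t.toList ++ [q]).Nodup := by
      simp only [List.nodup_append, Finset.nodup_toList, Finset.mem_toList, List.nodup_singleton,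
        List.mem_singleton, true_and]
      rintro a ha b rfl rfl
      exact hq (ht ha)
    have hnin : ¬ InOctad (t.toList ++ [q]) := by
      rintro ⟨o', ho', h⟩
      have hto : t ⊆ o' := fun x hx => h x (List.mem_append_left _ (Finset.mem_toList.mpr hx))
      have heq : o' = o := octad_eq_of_five_le ho' ho (htc ▸ Finset.card_le_card (Finset.subset_inter hto ht))
      exact hq (heq ▸ h q (List.mem_append_right _ (List.mem_singleton_self q)))
    have h3 : Nat.card (fixPts (t.toList ++ [q])) = 3 := (natCard_fixPts_six hnd (by simp [htc])).2 hnin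
    have hg' : g ∈ fixPts (t.toList ++ [q]) := by
      refine mem_fixPts.mpr ⟨hg.1, fun x hx => ?_⟩
      rcases List.mem_append.mp hx with hx | hx
      · exact (mem_fixingSubgroup_iff _).mp hg.2 x (ht (Finset.mem_toList.mp hx))
      · rw [List.mem_singleton.mp hx, hgq]
    have h1 : orderOf g ∣ 3 := h3 ▸ Subgroup.orderOf_dvd_natCard _ hg'
    have h2 : orderOf g ∣ 2 := orderOf_dvd_of_pow_eq_one (by rw [pow_two]; exact hK2 g hg)
    exact orderOf_eq_one_iff.mp (Nat.eq_one_of_dvd_coprimes (by norm_num : Nat.Coprime 3 2) h1 h2)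
  have hKle : K ≤ octStab o := by rw [hK, ← map_ker_octRes]; exact Subgroup.map_subtype_le _
  -- transitivity outside the octad
  have htrans : ∀ q, q ∉ o → ∃ k ∈ K, k p = q := by
    intro q hq
    let f : K → {x : GolayPt // x ∈ oᶜ} := fun k => ⟨(k : Equiv.Perm GolayPt) p,
      Finset.mem_compl.mpr fun h => hp ((apply_mem_iff_of_mem_octStab (hKle k.2) p).mp h)⟩
    have hinj : Function.Injective f := by
      intro a b h
      have h' : (a : Equiv.Perm GolayPt) p = (b : Equiv.Perm GolayPt) p := congrArg Subtype.val h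
      have := hfree p hp _ (mul_mem (inv_mem b.2) a.2) (by rw [Equiv.Perm.mul_apply, h']; simp)
      exact Subtype.ext (inv_mul_eq_one.mp this).symm
    haveI : Fintype K := Fintype.ofFinite _
    have hb : Function.Bijective f := (Fintype.bijective_iff_injective_and_card f).mpr ⟨hinj, by
      rw [← Nat.card_eq_fintype_card, hK16, Fintype.card_coe, Finset.card_compl, card_golayPt,
        card_of_mem_octads ho]⟩
    obtain ⟨k, hk⟩ := hb.2 ⟨q, Finset.mem_compl.mpr hq⟩
    exact ⟨k, k.2, congrArg Subtype.val hk⟩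
  have hbot : K ⊓ A = ⊥ := eq_bot_iff.mpr fun g hg => Subgroup.mem_bot.mpr (hfree p hp g hg.1 hg.2.2)
  have hdec : ∀ h ∈ octStab o, ∃ k ∈ K, k⁻¹ * h ∈ A := by
    intro h hh
    obtain ⟨k, hk, hkp⟩ := htrans (h p) (fun hmem => hp ((apply_mem_iff_of_mem_octStab hh p).mp hmem))
    refine ⟨k, hk, Subgroup.mem_inf.mpr ⟨mul_mem (inv_mem (hKle hk)) hh, ?_⟩⟩
    show (k⁻¹ * h) p = p
    rw [Equiv.Perm.mul_apply, ← hkp]
    simp
  refine ⟨hbot, le_antisymm (sup_le hKle inf_le_left) fun h hh => ?_, ?_⟩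
  · obtain ⟨k, hk, hkA⟩ := hdec h hh
    rw [← mul_inv_cancel_left k h]
    exact mul_mem (Subgroup.mem_sup_left hk) (Subgroup.mem_sup_right hkA)
  let f : A →* alternatingGroup ↥o :=
    ((octRes o).comp (Subgroup.inclusion (inf_le_left : A ≤ octStab o))).codRestrict _
      fun a => by rw [← range_octRes ho]; exact ⟨_, rfl⟩
  have hfker : ∀ a : A, f a = 1 → a = 1 := by
    intro a ha
    have hk : ((a : Equiv.Perm GolayPt)) ∈ K := by
      rw [hK, ← map_ker_octRes]
      exact ⟨Subgroup.inclusion inf_le_left a, congrArg Subtype.val ha, rfl⟩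
    exact Subtype.ext (Subgroup.mem_bot.mp (hbot ▸ Subgroup.mem_inf.mpr ⟨hk, a.2⟩))
  have hfs : Function.Surjective f := by
    rintro ⟨e, he⟩
    rw [← range_octRes ho] at he
    obtain ⟨h, rfl⟩ := he
    obtain ⟨k, hk, hkA⟩ := hdec h h.2
    refine ⟨⟨_, hkA⟩, Subtype.ext ?_⟩
    have hk1 : octRes o ⟨k, hKle hk⟩ = 1 :=
      Equiv.ext fun x => Subtype.ext ((mem_fixingSubgroup_iff _).mp hk.2 x x.2)
    show octRes o ⟨k⁻¹ * (h : Equiv.Perm GolayPt), _⟩ = octRes o h
    rw [show (⟨k⁻¹ * (h : Equiv.Perm GolayPt), _⟩ : octStab o) = ⟨k, hKle hk⟩⁻¹ * h from rfl, map_mul,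
      map_inv, hk1, inv_one, one_mul]
  let e₁ := MulEquiv.ofBijective f ⟨(injective_iff_map_eq_one f).mpr hfker, hfs⟩
  have e8 : ↥o ≃ Fin 8 := Fintype.equivFinOfCardEq (by rw [Fintype.card_coe, card_of_mem_octads ho])
  exact ⟨e₁.trans e8.altCongrHom⟩

end CfsgLib.Golay
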