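import Cfsg.Agent.Lib.Golay.M24

/-!
# Data for the classes of involutions and of elements of order 3 in `M24`

Representatives, pointwise stabilisers of the two kinds of six points and conjugating elements, as image lists.
Found by a search; checked in `Classes.lean`.
-/

set_option autoImplicit false

namespace CfsgLib.Golay.Classes

/-- An involution with 8 fixed points. -/
def invEight : List ℕ :=
  [23,2,1,5,13,3,6,7,11,9,10,8,18,4,17,15,22,14,12,19,20,21,16,0]

/-- A fixed-point-free involution. -/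
def invFree : List ℕ :=
  [23,2,1,5,8,3,10,9,4,7,6,13,16,11,17,21,12,14,22,20,19,15,18,0]

/-- An element of order 3 with 6 fixed points. -/
def thrSix : List ℕ :=
  [1,23,3,5,12,2,4,11,8,9,7,10,6,15,14,18,21,17,13,19,16,20,22,0]

/-- A fixed-point-free element of order 3. -/
def thrFree : List ℕ :=
  [1,23,3,4,2,20,21,15,10,7,18,13,6,14,11,9,5,19,8,22,16,12,17,0]

/-- The pointwise stabiliser of the generic six points. -/
def fixGenList : List (List ℕ) :=
  [
    [0,1,2,3,4,5,6,7,8,9,10,11,12,13,14,15,16,17,18,19,20,21,22,23],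
    [0,1,2,3,4,14,15,10,21,8,12,19,7,22,17,18,13,5,6,20,11,9,16,23],
    [0,1,2,3,4,17,18,12,9,21,7,20,10,16,5,6,22,14,15,11,19,8,13,23]]

/-- The pointwise stabiliser of the six points in an octad. -/
def fixOctList : List (List ℕ) :=
  [
    [0,1,2,3,4,5,6,7,8,9,10,11,12,13,14,15,16,17,18,19,20,21,22,23],
    [0,1,2,3,6,5,4,22,20,12,11,10,9,19,14,18,21,17,15,13,8,16,7,23],
    [0,1,2,3,7,5,22,4,15,11,12,9,10,21,14,8,19,17,20,16,18,13,6,23],
    [0,1,2,3,8,5,20,15,4,21,19,13,16,11,14,7,12,17,22,10,6,9,18,23],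
    [0,1,2,3,9,5,12,11,21,4,22,7,6,15,14,13,20,17,19,18,16,8,10,23],
    [0,1,2,3,10,5,11,12,19,22,4,6,7,20,14,16,15,17,21,8,13,18,9,23],
    [0,1,2,3,11,5,10,9,13,7,6,4,22,8,14,21,18,17,16,20,19,15,12,23],
    [0,1,2,3,12,5,9,10,16,6,7,22,4,18,14,19,8,17,13,15,21,20,11,23],
    [0,1,2,3,13,5,19,21,11,15,20,8,18,4,14,9,22,17,12,6,10,7,16,23],
    [0,1,2,3,15,5,18,8,7,13,16,21,19,9,14,4,10,17,6,12,22,11,20,23],
    [0,1,2,3,16,5,21,19,12,20,15,18,8,22,14,10,4,17,11,7,9,6,13,23],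
    [0,1,2,3,18,5,15,20,22,19,21,16,13,12,14,6,11,17,4,9,7,10,8,23],
    [0,1,2,3,19,5,13,16,10,18,8,20,15,6,14,12,7,17,9,4,11,22,21,23],
    [0,1,2,3,20,5,8,18,6,16,13,19,21,10,14,22,9,17,7,11,4,12,15,23],
    [0,1,2,3,21,5,16,13,9,8,18,15,20,7,14,11,6,17,10,22,12,4,19,23],
    [0,1,2,3,22,5,7,6,18,10,9,12,11,16,14,20,13,17,8,21,15,19,4,23]]

/-- One element with the involution pattern on six points in an octad. -/
def invOctBase : List ℕ :=
  [23,2,1,5,10,3,8,18,19,16,13,6,7,20,17,22,15,14,21,11,4,12,9,0]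

/-- Conjugators to the representatives, for the involution pattern on six points in an octad. -/
def invOctConj : List (List ℕ) :=
  [
    [23,1,2,3,4,5,10,15,8,21,6,11,18,13,17,7,22,14,12,20,19,9,16,0],
    [23,1,2,14,4,17,20,9,12,19,7,18,11,13,5,6,22,3,8,10,21,15,16,0],
    [23,14,17,1,6,2,22,18,9,4,8,15,7,19,5,13,10,3,21,16,11,12,20,0],
    [23,1,2,3,4,5,10,15,8,21,6,11,18,13,17,7,22,14,12,20,19,9,16,0],
    [23,14,17,1,4,2,7,15,12,6,20,18,22,13,5,19,11,3,16,21,10,9,8,0],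
    [23,1,2,3,6,5,11,18,20,16,4,10,15,19,17,22,7,14,9,8,13,12,21,0],
    [23,1,2,3,6,5,11,18,20,16,4,10,15,19,17,22,7,14,9,8,13,12,21,0],
    [23,1,2,14,6,17,8,12,9,13,22,15,10,19,5,4,7,3,20,11,16,18,21,0]]

/-- One element with the involution pattern on generic six points. -/
def invGenBase : List ℕ :=
  [23,2,1,4,3,13,10,15,11,19,6,8,18,5,16,7,14,22,12,9,21,20,17,0]

/-- Conjugators to the representatives, for the involution pattern on generic six points. -/
def invGenConj : List (List ℕ) :=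
  [
    [23,1,2,4,8,13,20,10,3,21,19,5,17,11,22,6,18,16,14,15,7,9,12,0],
    [23,1,2,4,8,16,14,17,21,9,10,7,19,18,13,20,12,22,6,5,15,3,11,0],
    [23,1,2,4,8,22,6,19,9,3,17,15,10,12,16,14,11,13,20,7,5,21,18,0]]

/-- One element with the two 3-cycle pattern on six points in an octad. -/
def thrOctBase : List ℕ :=
  [1,23,3,5,11,2,22,12,18,10,6,9,7,20,14,8,19,17,16,21,13,15,4,0]

/-- Conjugators to the representatives, for the two 3-cycle pattern on six points in an octad. -/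
def thrOctConj : List (List ℕ) :=
  [
    [1,23,2,3,6,5,12,18,22,9,15,13,4,21,14,20,7,17,16,8,10,11,19,0],
    [1,23,2,3,7,5,11,8,4,10,20,16,22,19,14,15,6,17,13,18,9,12,21,0],
    [1,23,2,3,4,5,9,15,7,12,18,19,6,16,14,8,22,17,21,20,11,10,13,0],
    [1,23,2,3,8,5,21,7,15,16,22,10,20,12,14,4,18,17,9,6,13,19,11,0]]

/-- One element with the two 3-cycle pattern on generic six points. -/
def thrGenBase : List ℕ :=
  [1,23,3,4,2,20,21,15,10,7,18,13,6,14,11,9,5,19,8,22,16,12,17,0]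

/-- Conjugators to the representatives, for the two 3-cycle pattern on generic six points. -/
def thrGenConj : List (List ℕ) :=
  [
    [1,23,3,4,2,11,9,18,12,10,6,22,15,17,19,8,14,20,21,16,13,7,5,0],
    [1,23,4,2,3,13,9,6,10,7,15,14,18,20,22,8,19,16,21,17,5,12,11,0],
    [1,23,2,3,4,5,9,15,7,12,18,19,6,16,14,8,22,17,21,20,11,10,13,0]]

end CfsgLib.Golay.Classes
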