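import Cfsg.Agent.Lib.Golay.Config

/-!
# Kernel-checked orbits of stabilisers in `M24`

A certificate is a depth-first spanning tree of an orbit: entries `(pop, i, y)` say that generator `i` carries the
entry left on top of the stack, after `pop` entries are dropped, to `y`.
-/

set_option autoImplicit false

namespace CfsgLib.Golay

open Cfsg
open scoped Pointwise

/-! ### Image lists of elements of `M24` -/

/-- `l` is the image list of a permutation preserving the code. -/
def genOK (l : List ℕ) : Bool :=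
  Nat.beq l.length 24 && l.all (fun x => Nat.blt x 24) && Nat.beq (bitsOf l) 16777215 && isPres l

theorem exists_perm {l : List ℕ} (h : genOK l = true) : ∃ σ ∈ M24, toList σ = l := by
  simp only [genOK, Bool.and_eq_true, List.all_eq_true] at h
  obtain ⟨⟨⟨h1, h2⟩, h3⟩, h4⟩ := h
  have hlen : l.length = 24 := Nat.eq_of_beq_eq_true h1
  have hlt : ∀ i : Fin 24, l.getD i.val 0 < 24 := fun i => by
    rw [List.getD_eq_getElem _ _ (by rw [hlen]; exact i.isLt)]
    exact Nat.le_of_ble_eq_true (h2 _ (List.getElem_mem _))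
  let f : GolayPt → GolayPt := fun p => pt ⟨l.getD (idx p).val 0, hlt _⟩
  have hf : Function.Surjective f := by
    intro q
    have hq : (idx q).val ∈ l := by
      rw [← testBit_bitsOf, Nat.eq_of_beq_eq_true h3, ← encS_univ, testBit_encS]
      simp
    obtain ⟨i, hi, hil⟩ := List.getElem_of_mem hq
    refine ⟨pt ⟨i, hlen ▸ hi⟩, ?_⟩
    show pt _ = q
    rw [← pt_idx q]
    congr 1
    apply Fin.ext
    simp only [idx_pt, List.getD_eq_getElem _ _ hi, hil]
  have hl : toList (Equiv.ofBijective f (Finite.surjective_iff_bijective.mp hf)) = l := by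
    apply List.ext_getElem
    · rw [toList_length, hlen]
    · intro i h1' h2'
      rw [toList_getElem]
      simp only [Equiv.ofBijective_apply, f, idx_pt, List.getD_eq_getElem _ _ h2']
  exact ⟨_, by rw [mem_M24_iff_isPres, hl]; exact h4, hl⟩

/-- All the lists are generators fixing something, recognised by `fixes`. -/
def gensOK (fixes : List ℕ → Bool) (gens : List (List ℕ)) : Bool :=
  gens.all fun l => genOK l && fixes l

theorem exists_gen {β : Type*} [MulAction M24 β] {base : β} {fixes : List ℕ → Bool}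
    (hfix : ∀ g : M24, fixes (toList (g : Equiv.Perm GolayPt)) = true → g • base = base)
    {gens : List (List ℕ)} (h : gensOK fixes gens = true) :
    ∀ l ∈ gens, ∃ g : M24, toList (g : Equiv.Perm GolayPt) = l ∧ g • base = base := by
  intro l hl
  have := List.all_eq_true.mp h l hl
  rw [Bool.and_eq_true] at this
  obtain ⟨σ, hσ, rfl⟩ := exists_perm this.1
  exact ⟨⟨σ, hσ⟩, rfl, hfix ⟨σ, hσ⟩ this.2⟩

/-! ### The search tree -/

/-- Replay of a depth-first search. -/
def dfsOK (step : List ℕ → ℕ → ℕ → Bool) (gens : List (List ℕ)) : List (ℕ × ℕ × ℕ) → List ℕ → Bool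
  | [], _ => true
  | (pop, i, y) :: r, st =>
    match gens[i]?, st.drop pop with
    | some l, top :: st' => step l top y && dfsOK step gens r (y :: top :: st')
    | _, _ => false

/-- The keys reached by a search. -/
def reached (rep : ℕ) (cert : List (ℕ × ℕ × ℕ)) : List ℕ := rep :: cert.map fun c => c.2.2

theorem dfsOK_sound (P : ℕ → Prop) (step : List ℕ → ℕ → ℕ → Bool) (gens : List (List ℕ))
    (hP : ∀ l ∈ gens, ∀ k y, P k → step l k y = true → P y) :
    ∀ (cert : List (ℕ × ℕ × ℕ)) (st : List ℕ), (∀ k ∈ st, P k) → dfsOK step gens cert st = true →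
      ∀ c ∈ cert, P c.2.2 := by
  intro cert
  induction cert with
  | nil => simp
  | cons c r ih =>
    obtain ⟨pop, i, y⟩ := c
    intro st hst h
    rw [dfsOK] at h
    cases hg : gens[i]? with
    | none => simp [hg] at h
    | some l =>
      cases hd : st.drop pop with
      | nil => simp [hg, hd] at h
      | cons top st' =>
        simp only [hg, hd, Bool.and_eq_true] at h
        have hmem : ∀ k ∈ top :: st', P k := fun k hk => hst k (List.mem_of_mem_drop (hd ▸ hk))
        have hy : P y := hP l (List.mem_of_getElem? hg) top y (hmem top List.mem_cons_self) h.1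
        intro c hc
        rcases List.mem_cons.mp hc with rfl | hc
        · exact hy
        · refine ih (y :: top :: st') (fun k hk => ?_) h.2 c hc
          rcases List.mem_cons.mp hk with rfl | hk
          · exact hy
          · exact hmem k hk

/-- Everything reached is in the orbit of the root. -/
theorem reached_mem_orbit {α β : Type*} [MulAction M24 α] [MulAction M24 β] {base : β} (dec : ℕ → α)
    {V : List ℕ} {step : List ℕ → ℕ → ℕ → Bool}
    (hstep : ∀ (g : M24) (k y : ℕ), k ∈ V → step (toList (g : Equiv.Perm GolayPt)) k y = true →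
      g • dec k = dec y ∧ y ∈ V)
    {gens : List (List ℕ)}
    (hgens : ∀ l ∈ gens, ∃ g : M24, toList (g : Equiv.Perm GolayPt) = l ∧ g • base = base)
    {rep : ℕ} (hrep : rep ∈ V) {cert : List (ℕ × ℕ × ℕ)} (h : dfsOK step gens cert [rep] = true)
    {k : ℕ} (hk : k ∈ reached rep cert) :
    dec k ∈ MulAction.orbit ↥(MulAction.stabilizer M24 base) (dec rep) := by
  have hs := dfsOK_sound
    (fun k => k ∈ V ∧ dec k ∈ MulAction.orbit ↥(MulAction.stabilizer M24 base) (dec rep)) step gens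
    (fun l hl k y hk hst => ?_) cert [rep]
    (fun k hk => by rw [List.mem_singleton.mp hk]; exact ⟨hrep, MulAction.mem_orbit_self _⟩) h
  · rcases List.mem_cons.mp hk with rfl | hk
    · exact MulAction.mem_orbit_self _
    · obtain ⟨c, hc, rfl⟩ := List.mem_map.mp hk
      exact (hs c hc).2
  · obtain ⟨g, rfl, hg⟩ := hgens l hl
    obtain ⟨h1, h2⟩ := hstep g k y hk.1 hst
    refine ⟨h2, ?_⟩
    obtain ⟨u, hu⟩ := hk.2
    refine ⟨⟨g, hg⟩ * u, ?_⟩
    show (g * (u : M24)) • dec rep = dec y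
    rw [mul_smul, ← h1]
    congr 1

/-- Keys with a given value of the invariant. -/
def classKeys (W : List ℕ) (key kφ : ℕ → ℕ) (c : ℕ) : List ℕ :=
  (W.filter fun e => Nat.beq (kφ e) c).map key

/-- The check that a search fills a class. -/
def classOK (W : List ℕ) (key kφ : ℕ → ℕ) (step : List ℕ → ℕ → ℕ → Bool) (gens : List (List ℕ))
    (c n rep : ℕ) (cert : List (ℕ × ℕ × ℕ)) : Bool :=
  dfsOK step gens cert [rep] && Nat.beq (bitsOf (reached rep cert)) (bitsOf (classKeys W key kφ c)) &&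
    Nat.beq (classKeys W key kφ c).length n

/-- A family of objects with keys. -/
structure Keyed (α : Type*) [MulAction M24 α] (U : Set α) where
  /-- entries -/
  W : List ℕ
  /-- key of an entry -/
  key : ℕ → ℕ
  /-- object of a key -/
  dec : ℕ → α
  /-- recogniser of the action -/
  step : List ℕ → ℕ → ℕ → Bool
  nodup : (W.map key).Nodup
  eq_image : U = dec '' {k | k ∈ W.map key}
  injOn : Set.InjOn dec {k | k ∈ W.map key}
  step_spec : ∀ (g : M24) (k y : ℕ), k ∈ W.map key → step (toList (g : Equiv.Perm GolayPt)) k y = true →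
    g • dec k = dec y ∧ y ∈ W.map key
  smul_mem : ∀ (g : M24) (X : α), X ∈ U → g • X ∈ U

/-- An invariant of a stabiliser, computable on entries. -/
structure Invariant {α β : Type*} [MulAction M24 α] [MulAction M24 β] {U : Set α} (K : Keyed α U)
    (base : β) where
  /-- the invariant -/
  φ : α → ℕ
  /-- on entries -/
  kφ : ℕ → ℕ
  inv : ∀ g : M24, g • base = base → ∀ X ∈ U, φ (g • X) = φ X
  spec : ∀ e ∈ K.W, φ (K.dec (K.key e)) = kφ e

variable {α β : Type*} [MulAction M24 α] [MulAction M24 β] {U : Set α} {K : Keyed α U} {base : β}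

theorem Invariant.classSet_eq (I : Invariant K base) (c : ℕ) :
    {X | X ∈ U ∧ I.φ X = c} = K.dec '' {k | k ∈ classKeys K.W K.key I.kφ c} := by
  ext X
  simp only [Set.mem_setOf_eq, Set.mem_image, classKeys, List.mem_map, List.mem_filter]
  constructor
  · rintro ⟨hX, hc⟩
    obtain ⟨k, hk, rfl⟩ := K.eq_image.le hX
    obtain ⟨e, he, rfl⟩ := List.mem_map.mp hk
    rw [I.spec e he] at hc
    exact ⟨K.key e, ⟨e, ⟨he, by rw [hc]; exact Nat.beq_refl c⟩, rfl⟩, rfl⟩
  · rintro ⟨k, ⟨e, ⟨he, hc⟩, rfl⟩, rfl⟩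
    refine ⟨?_, ?_⟩
    · exact K.eq_image.ge ⟨K.key e, List.mem_map.mpr ⟨e, he, rfl⟩, rfl⟩
    · rw [I.spec e he]; exact Nat.eq_of_beq_eq_true hc

theorem classKeys_subset (W : List ℕ) (key kφ : ℕ → ℕ) (c : ℕ) :
    ∀ k ∈ classKeys W key kφ c, k ∈ W.map key := by
  intro k hk
  obtain ⟨e, he, rfl⟩ := List.mem_map.mp hk
  exact List.mem_map.mpr ⟨e, (List.mem_filter.mp he).1, rfl⟩

theorem classKeys_nodup {W : List ℕ} {key : ℕ → ℕ} (h : (W.map key).Nodup) (kφ : ℕ → ℕ) (c : ℕ) :
    (classKeys W key kφ c).Nodup :=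
  h.sublist (List.filter_sublist.map key)

/-- A checked class is one orbit, of the stated size. -/
theorem Invariant.orbit_eq (I : Invariant K base) {gens : List (List ℕ)}
    (hgens : ∀ l ∈ gens, ∃ g : M24, toList (g : Equiv.Perm GolayPt) = l ∧ g • base = base)
    {c n rep : ℕ} {cert : List (ℕ × ℕ × ℕ)}
    (h : classOK K.W K.key I.kφ K.step gens c n rep cert = true) :
    K.dec rep ∈ U ∧
      MulAction.orbit ↥(MulAction.stabilizer M24 base) (K.dec rep) = {X | X ∈ U ∧ I.φ X = c} ∧
      (MulAction.orbit ↥(MulAction.stabilizer M24 base) (K.dec rep)).ncard = n := by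
  simp only [classOK, Bool.and_eq_true] at h
  obtain ⟨⟨h1, h2⟩, h3⟩ := h
  have hmem := mem_iff_of_bitsOf_eq (Nat.eq_of_beq_eq_true h2)
  have hrep : rep ∈ classKeys K.W K.key I.kφ c := (hmem rep).mp List.mem_cons_self
  have hrepV := classKeys_subset _ _ _ _ rep hrep
  have hrepC : K.dec rep ∈ {X | X ∈ U ∧ I.φ X = c} := by
    rw [I.classSet_eq]; exact ⟨rep, hrep, rfl⟩
  have heq : MulAction.orbit ↥(MulAction.stabilizer M24 base) (K.dec rep) = {X | X ∈ U ∧ I.φ X = c} := by
    refine Set.Subset.antisymm ?_ ?_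
    · rintro _ ⟨u, rfl⟩
      exact ⟨K.smul_mem (u : M24) _ hrepC.1, (I.inv (u : M24) u.2 _ hrepC.1).trans hrepC.2⟩
    · rw [I.classSet_eq]
      rintro _ ⟨k, hk, rfl⟩
      exact reached_mem_orbit K.dec K.step_spec hgens hrepV h1 ((hmem k).mpr hk)
  refine ⟨hrepC.1, heq, ?_⟩
  rw [heq, I.classSet_eq, ncard_image_of_nodup (classKeys_nodup K.nodup _ _)
    (K.injOn.mono (classKeys_subset _ _ _ _)), Nat.eq_of_beq_eq_true h3]

/-- `n k` orbits with the given sizes exhaust the family. -/
def HasOrbits (U : Set α) (b : β) (sizes : List ℕ) : Prop :=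
  ∃ reps : List α, (∀ X ∈ reps, X ∈ U) ∧
    reps.map (fun X => (MulAction.orbit ↥(MulAction.stabilizer M24 b) X).ncard) = sizes ∧
    U = {Y | ∃ X ∈ reps, Y ∈ MulAction.orbit ↥(MulAction.stabilizer M24 b) X}

/-- The check of a full decomposition: the listed classes are orbits and cover everything. -/
def orbitsOK (W : List ℕ) (key kφ : ℕ → ℕ) (step : List ℕ → ℕ → ℕ → Bool) (gens : List (List ℕ))
    (classes : List (ℕ × ℕ × ℕ × List (ℕ × ℕ × ℕ))) : Bool :=
  (classes.all fun d => classOK W key kφ step gens d.1 d.2.1 d.2.2.1 d.2.2.2) &&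
    W.all fun e => classes.any fun d => Nat.beq (kφ e) d.1

theorem Invariant.hasOrbits (I : Invariant K base) {gens : List (List ℕ)}
    (hgens : ∀ l ∈ gens, ∃ g : M24, toList (g : Equiv.Perm GolayPt) = l ∧ g • base = base)
    {classes : List (ℕ × ℕ × ℕ × List (ℕ × ℕ × ℕ))}
    (h : orbitsOK K.W K.key I.kφ K.step gens classes = true) :
    HasOrbits U base (classes.map fun d => d.2.1) := by
  simp only [orbitsOK, Bool.and_eq_true, List.all_eq_true] at h
  refine ⟨classes.map fun d => K.dec d.2.2.1, ?_, ?_, ?_⟩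
  · intro X hX
    obtain ⟨d, hd, rfl⟩ := List.mem_map.mp hX
    exact (I.orbit_eq hgens (h.1 d hd)).1
  · rw [List.map_map]
    exact List.map_congr_left fun d hd => (I.orbit_eq hgens (h.1 d hd)).2.2
  · ext Y
    constructor
    · intro hY
      obtain ⟨k, hk, rfl⟩ := K.eq_image.le hY
      obtain ⟨e, he, rfl⟩ := List.mem_map.mp hk
      have h2 := h.2 e he
      rw [List.any_eq_true] at h2
      obtain ⟨d, hd, hde⟩ := h2
      refine ⟨_, List.mem_map.mpr ⟨d, hd, rfl⟩, ?_⟩
      rw [(I.orbit_eq hgens (h.1 d hd)).2.1]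
      exact ⟨hY, (I.spec e he).trans (Nat.eq_of_beq_eq_true hde)⟩
    · rintro ⟨X, hX, hY⟩
      obtain ⟨d, hd, rfl⟩ := List.mem_map.mp hX
      rw [(I.orbit_eq hgens (h.1 d hd)).2.1] at hY
      exact hY.1

/-- Decompositions transport along the group. -/
theorem HasOrbits.smul (hU : ∀ (g : M24) (X : α), X ∈ U → g • X ∈ U) {b : β} {sizes : List ℕ}
    (h : HasOrbits U b sizes) (g : M24) : HasOrbits U (g • b) sizes := by
  obtain ⟨reps, hreps, hsz, hcov⟩ := h
  have horb : ∀ X : α, MulAction.orbit ↥(MulAction.stabilizer M24 (g • b)) (g • X) =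
      (g • ·) '' MulAction.orbit ↥(MulAction.stabilizer M24 b) X := by
    intro X
    ext Y
    constructor
    · rintro ⟨⟨u, hu⟩, rfl⟩
      have hu' : g⁻¹ * u * g ∈ MulAction.stabilizer M24 b := by
        rw [MulAction.mem_stabilizer_iff] at hu ⊢
        rw [mul_smul, mul_smul, hu, inv_smul_smul]
      refine ⟨_, ⟨⟨_, hu'⟩, rfl⟩, ?_⟩
      show g • ((g⁻¹ * u * g) • X) = u • g • X
      rw [← mul_smul, ← mul_smul]
      congr 1
      group
    · rintro ⟨_, ⟨⟨u, hu⟩, rfl⟩, rfl⟩
      have hu' : g * u * g⁻¹ ∈ MulAction.stabilizer M24 (g • b) := by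
        rw [MulAction.mem_stabilizer_iff] at hu ⊢
        rw [mul_smul, mul_smul, inv_smul_smul, hu]
      refine ⟨⟨_, hu'⟩, ?_⟩
      show (g * u * g⁻¹) • g • X = g • u • X
      rw [mul_smul, mul_smul, inv_smul_smul]
  refine ⟨reps.map (g • ·), ?_, ?_, ?_⟩
  · intro X hX
    obtain ⟨Z, hZ, rfl⟩ := List.mem_map.mp hX
    exact hU g Z (hreps Z hZ)
  · rw [List.map_map, ← hsz]
    refine List.map_congr_left fun X _ => ?_
    show (MulAction.orbit ↥(MulAction.stabilizer M24 (g • b)) (g • X)).ncard = _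
    rw [horb, Set.ncard_image_of_injective _ (MulAction.injective g)]
  · ext Y
    constructor
    · intro hY
      have h1 := hU g⁻¹ Y hY
      rw [hcov] at h1
      obtain ⟨X, hX, hY'⟩ := h1
      refine ⟨g • X, List.mem_map.mpr ⟨X, hX, rfl⟩, ?_⟩
      rw [horb]
      exact ⟨_, hY', smul_inv_smul g Y⟩
    · rintro ⟨X, hX, hY⟩
      obtain ⟨Z, hZ, rfl⟩ := List.mem_map.mp hX
      rw [horb] at hY
      obtain ⟨W, hW, rfl⟩ := hY
      have hW' : W ∈ U := by rw [hcov]; exact ⟨Z, hZ, hW⟩
      exact hU g W hW'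

theorem HasOrbits.three {b : β} {n₁ n₂ n₃ : ℕ} (h : HasOrbits U b [n₁, n₂, n₃]) :
    ∃ X₁ ∈ U, ∃ X₂ ∈ U, ∃ X₃ ∈ U,
      (MulAction.orbit ↥(MulAction.stabilizer M24 b) X₁).ncard = n₁ ∧
      (MulAction.orbit ↥(MulAction.stabilizer M24 b) X₂).ncard = n₂ ∧
      (MulAction.orbit ↥(MulAction.stabilizer M24 b) X₃).ncard = n₃ ∧
      U = MulAction.orbit ↥(MulAction.stabilizer M24 b) X₁ ∪ MulAction.orbit ↥(MulAction.stabilizer M24 b) X₂ ∪
        MulAction.orbit ↥(MulAction.stabilizer M24 b) X₃ := by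
  obtain ⟨reps, hreps, hsz, hcov⟩ := h
  match reps, hsz with
  | [X₁, X₂, X₃], hsz =>
    simp only [List.map_cons, List.map_nil, List.cons.injEq, and_true] at hsz
    refine ⟨X₁, hreps _ (by simp), X₂, hreps _ (by simp), X₃, hreps _ (by simp),
      hsz.1, hsz.2.1, hsz.2.2, ?_⟩
    rw [hcov]
    ext Y
    simp [or_assoc]

theorem HasOrbits.four {b : β} {n₁ n₂ n₃ n₄ : ℕ} (h : HasOrbits U b [n₁, n₂, n₃, n₄]) :
    ∃ X₁ ∈ U, ∃ X₂ ∈ U, ∃ X₃ ∈ U, ∃ X₄ ∈ U,
      (MulAction.orbit ↥(MulAction.stabilizer M24 b) X₁).ncard = n₁ ∧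
      (MulAction.orbit ↥(MulAction.stabilizer M24 b) X₂).ncard = n₂ ∧
      (MulAction.orbit ↥(MulAction.stabilizer M24 b) X₃).ncard = n₃ ∧
      (MulAction.orbit ↥(MulAction.stabilizer M24 b) X₄).ncard = n₄ ∧
      U = MulAction.orbit ↥(MulAction.stabilizer M24 b) X₁ ∪ MulAction.orbit ↥(MulAction.stabilizer M24 b) X₂ ∪
        MulAction.orbit ↥(MulAction.stabilizer M24 b) X₃ ∪ MulAction.orbit ↥(MulAction.stabilizer M24 b) X₄ := by
  obtain ⟨reps, hreps, hsz, hcov⟩ := h
  match reps, hsz with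
  | [X₁, X₂, X₃, X₄], hsz =>
    simp only [List.map_cons, List.map_nil, List.cons.injEq, and_true] at hsz
    refine ⟨X₁, hreps _ (by simp), X₂, hreps _ (by simp), X₃, hreps _ (by simp), X₄, hreps _ (by simp),
      hsz.1, hsz.2.1, hsz.2.2.1, hsz.2.2.2, ?_⟩
    rw [hcov]
    ext Y
    simp [or_assoc]

end CfsgLib.Golay
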