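import Cfsg.Agent.Lib.Golay.SixPoints
import Cfsg.Agent.Lib.Golay.Orbits
import Cfsg.Agent.Lib.Golay.ClassesData

/-!
# Involutions and elements of order 3 of `M24`: two classes each

Three cycles of such an element single out six points, which are either in an octad or generic; the elements of `M24`
with a given action on six points form a coset of a pointwise stabiliser of order 16 or 3, listed explicitly.
-/

set_option autoImplicit false

namespace CfsgLib.Golay.Classes

open Cfsg CfsgLib.Golay
open scoped Pointwise symmDiff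

/-! ### Fixed points -/

/-- The number of fixed positions of an image list. -/
def fixCount (l : List ℕ) : ℕ :=
  ((Finset.univ : Finset (Fin 24)).filter fun i => l.getD i.val 0 = i.val).card

/-- Fixed points are read off the image list. -/
theorem card_fixed (σ : Equiv.Perm GolayPt) :
    (Finset.univ.filter fun p => σ p = p).card = fixCount (toList σ) := by
  refine Finset.card_bij (fun p _ => idx p) (fun p hp => ?_) (fun p _ q _ h => idx_injective h)
    (fun i hi => ⟨pt i, ?_, idx_pt i⟩)
  · simp only [Finset.mem_filter, Finset.mem_univ, true_and] at hp ⊢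
    rw [toList_getD, hp]
  · simp only [Finset.mem_filter, Finset.mem_univ, true_and] at hi ⊢
    have h := toList_getD σ (pt i)
    rw [idx_pt, hi] at h
    exact idx_injective (Fin.ext (h.symm.trans (by rw [idx_pt])))

/-- The number of fixed points is invariant under conjugation. -/
theorem card_fixed_conj (g σ : Equiv.Perm GolayPt) :
    (Finset.univ.filter fun p => (g * σ * g⁻¹) p = p).card =
      (Finset.univ.filter fun p => σ p = p).card := by
  refine Finset.card_bij (fun p _ => g⁻¹ p) (fun p hp => ?_) (fun p _ q _ h => (g⁻¹).injective h)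
    (fun q hq => ⟨g q, ?_, by simp⟩)
  · rw [Finset.mem_filter, Equiv.Perm.mul_apply, Equiv.Perm.mul_apply] at hp
    rw [Finset.mem_filter]
    refine ⟨Finset.mem_univ _, g.injective ?_⟩
    rw [hp.2, Equiv.Perm.inv_def, Equiv.apply_symm_apply]
  · rw [Finset.mem_filter] at hq ⊢
    refine ⟨Finset.mem_univ _, ?_⟩
    rw [Equiv.Perm.mul_apply, Equiv.Perm.mul_apply, Equiv.Perm.inv_def, Equiv.symm_apply_apply, hq.2]

/-- An element of `M24` other than the identity moves at least 8 points. -/
theorem eq_one_of_moved {σ : Equiv.Perm GolayPt} (hσ : σ ∈ M24)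
    (h : (Finset.univ.filter fun p => σ p ≠ p).card < 8) : σ = 1 := by
  have hfix : ∀ b ∈ supports (golayCode : Set (GolayPt → ZMod 2)), σ • b = b := by
    intro b hb
    by_contra hne
    have h8 := eight_le_card_support (symmDiff_mem_supports (smul_mem_supports hσ hb) hb)
      (Finset.symmDiff_nonempty.mpr hne)
    have hsub : (σ • b) ∆ b ⊆ Finset.univ.filter fun p => σ p ≠ p := by
      intro p hp
      rw [Finset.mem_filter]
      refine ⟨Finset.mem_univ p, fun hpp => ?_⟩
      have hiff : p ∈ σ • b ↔ p ∈ b := by
        conv_lhs => rw [← hpp, ← Equiv.Perm.smul_def, Finset.smul_mem_smul_finset_iff]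
      rw [Finset.mem_symmDiff] at hp
      tauto
    have := Finset.card_le_card hsub
    omega
  by_contra hne
  obtain ⟨p, hp⟩ : ∃ p, σ p ≠ p := by
    by_contra hall
    push Not at hall
    exact hne (Equiv.ext hall)
  obtain ⟨g, hg, hgL⟩ := exists_map_eq (L := [basePt 0, basePt 6]) (L' := [p, σ p])
    (by decide +kernel) (List.nodup_cons.mpr ⟨by simpa using Ne.symm hp, List.nodup_singleton _⟩)
    rfl (by simp)
  simp only [List.map_cons, List.map_nil, List.cons.injEq, and_true] at hgL
  have hb := mem_supports_of_mem_octads (smul_mem_octads hg baseOctad_mem)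
  have h1 : p ∈ g • baseOctad := by
    rw [← hgL.1, ← Equiv.Perm.smul_def, Finset.smul_mem_smul_finset_iff]
    exact basePts_subset_baseOctad _ (by decide +kernel)
  have h2 : σ p ∈ g • baseOctad := by
    rw [← hfix _ hb, ← Equiv.Perm.smul_def, Finset.smul_mem_smul_finset_iff]
    exact h1
  rw [← hgL.2, ← Equiv.Perm.smul_def, Finset.smul_mem_smul_finset_iff] at h2
  exact basePt_six_notMem h2

/-- A nontrivial element moves at least 8 points. -/
theorem eight_le_moved {σ : Equiv.Perm GolayPt} (hσ : σ ∈ M24) (h : σ ≠ 1) :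
    8 ≤ (Finset.univ.filter fun p => σ p ≠ p).card :=
  not_lt.mp fun hlt => h (eq_one_of_moved hσ hlt)

/-! ### Complete lists for the pointwise stabilisers of six points -/

/-- The listed image lists are distinct elements fixing the positions. -/
def fixListOK (ps : List ℕ) (Ls : List (List ℕ)) : Bool :=
  decide Ls.Nodup && Ls.all fun l => genOK l && ps.all fun b => Nat.beq (l.getD b 0) b

/-- A list of the right length is the whole pointwise stabiliser. -/
theorem mem_fixList {P : List GolayPt} {ps : List ℕ} {Ls : List (List ℕ)}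
    (hps : ps = P.map fun p => (idx p).val) (hcard : Nat.card (fixPts P) = Ls.length)
    (hok : fixListOK ps Ls = true) {σ : Equiv.Perm GolayPt} (hσ : σ ∈ fixPts P) : toList σ ∈ Ls := by
  rw [fixListOK, Bool.and_eq_true, decide_eq_true_eq] at hok
  obtain ⟨hnd, hall⟩ := hok
  let U : Finset (List ℕ) := (fixPts P : Set (Equiv.Perm GolayPt)).toFinite.toFinset.image toList
  have hU : U.card = Ls.length := by
    rw [Finset.card_image_of_injective _ toList_injective, ← hcard, ← Set.ncard_eq_toFinset_card]
    rfl
  have hsub : Ls.toFinset ⊆ U := by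
    intro l hl
    rw [List.mem_toFinset] at hl
    have h := List.all_eq_true.mp hall l hl
    rw [Bool.and_eq_true] at h
    obtain ⟨τ, hτ, rfl⟩ := exists_perm h.1
    refine Finset.mem_image.mpr ⟨τ, ?_, rfl⟩
    rw [Set.Finite.mem_toFinset, SetLike.mem_coe, mem_fixPts]
    refine ⟨hτ, fun p hp => ?_⟩
    have h' := Nat.eq_of_beq_eq_true
      (List.all_eq_true.mp h.2 _ (hps ▸ List.mem_map.mpr ⟨p, hp, rfl⟩))
    rw [toList_getD] at h'
    exact idx_injective (Fin.ext h')
  have heq := Finset.eq_of_subset_of_card_le hsub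
    (by rw [hU, List.toFinset_card_of_nodup hnd])
  rw [← List.mem_toFinset, heq]
  exact Finset.mem_image.mpr ⟨σ, by rw [Set.Finite.mem_toFinset]; exact hσ, rfl⟩

/-- The positions of the six base points in an octad. -/
def octPos : List ℕ := [23, 0, 1, 2, 3, 5]

/-- The positions of the six generic base points. -/
def genPos : List ℕ := [23, 0, 1, 2, 3, 4]

theorem toList_mem_fixGen {σ : Equiv.Perm GolayPt} (hσ : σ ∈ fixPts genericSix) :
    toList σ ∈ fixGenList :=
  mem_fixList (ps := genPos) (by decide +kernel) (by rw [natCard_fixPts_genericSix]; decide +kernel)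
    (by decide +kernel) hσ

theorem toList_mem_fixOct {σ : Equiv.Perm GolayPt} (hσ : σ ∈ fixPts octadSix) :
    toList σ ∈ fixOctList :=
  mem_fixList (ps := octPos) (by decide +kernel)
    (by rw [(natCard_fixPts_six (by decide +kernel) rfl).1 inOctad_octadSix]; decide +kernel)
    (by decide +kernel) hσ

/-- The elements with the action of a listed element on given points. -/
theorem mem_coset_list {P : List GolayPt} {Ls : List (List ℕ)}
    (hfix : ∀ τ ∈ fixPts P, toList τ ∈ Ls) {base : List ℕ} (hbase : genOK base = true)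
    {σ : Equiv.Perm GolayPt} (hσ : σ ∈ M24)
    (h : ∀ p ∈ P, base.getD (idx p).val 0 = (idx (σ p)).val) :
    toList σ ∈ Ls.map (comp base) := by
  obtain ⟨t, ht, rfl⟩ := exists_perm hbase
  refine List.mem_map.mpr ⟨toList (t⁻¹ * σ),
    hfix _ (mem_fixPts.mpr ⟨mul_mem (inv_mem ht) hσ, fun p hp => ?_⟩), ?_⟩
  · have h' := h p hp
    rw [toList_getD] at h'
    rw [Equiv.Perm.mul_apply, ← idx_injective (Fin.ext h'), Equiv.Perm.inv_def, Equiv.symm_apply_apply]
  · rw [← toList_mul, mul_inv_cancel_left]

/-! ### The candidates are conjugate to the representatives -/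

/-- Every listed candidate with `l ^ m = 1` is conjugate to one of two representatives. -/
def candOK (m : List ℕ → List ℕ) (r₁ r₂ : List ℕ) (base : List ℕ) (Ls K : List (List ℕ)) : Bool :=
  genOK base && K.all genOK &&
    (Ls.map (comp base)).all fun l =>
      !(m l == List.range 24) ||
        K.any fun k => comp k l == comp r₁ k || comp k l == comp r₂ k

/-- Reading a conjugator off the check. -/
theorem exists_conj_of_candOK {m : List ℕ → List ℕ} {r₁ r₂ base : List ℕ} {Ls K : List (List ℕ)}
    (hok : candOK m r₁ r₂ base Ls K = true) {σ : Equiv.Perm GolayPt}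
    (hl : toList σ ∈ Ls.map (comp base)) (hm : m (toList σ) = List.range 24) :
    ∃ k ∈ M24, comp r₁ (toList k) = comp (toList k) (toList σ) ∨
      comp r₂ (toList k) = comp (toList k) (toList σ) := by
  simp only [candOK, Bool.and_eq_true, List.all_eq_true, Bool.or_eq_true, List.any_eq_true,
    beq_iff_eq] at hok
  obtain ⟨⟨-, hK⟩, h⟩ := hok
  rcases h _ hl with h' | ⟨k, hk, hk'⟩
  · simp [hm] at h'
  · obtain ⟨τ, hτ, rfl⟩ := exists_perm (hK k hk)
    exact ⟨τ, hτ, hk'.imp Eq.symm Eq.symm⟩

theorem toList_conj_of_comp {k σ : Equiv.Perm GolayPt} {r : List ℕ} (hr : genOK r = true)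
    (h : comp r (toList k) = comp (toList k) (toList σ)) : toList (k * σ * k⁻¹) = r := by
  obtain ⟨ρ, -, rfl⟩ := exists_perm hr
  rw [← toList_mul, ← toList_mul] at h
  rw [← toList_injective h, mul_inv_cancel_right]

/-- Square of an image list. -/
def sq (l : List ℕ) : List ℕ := comp l l

/-- Cube of an image list. -/
def cube (l : List ℕ) : List ℕ := comp l (comp l l)

theorem cand_invOct : candOK sq invEight invFree invOctBase fixOctList invOctConj = true := by
  decide +kernel

theorem cand_invGen : candOK sq invEight invFree invGenBase fixGenList invGenConj = true := by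
  decide +kernel

theorem cand_thrOct : candOK cube thrSix thrFree thrOctBase fixOctList thrOctConj = true := by
  decide +kernel

theorem cand_thrGen : candOK cube thrSix thrFree thrGenBase fixGenList thrGenConj = true := by
  decide +kernel

theorem genOK_reps :
    genOK invEight = true ∧ genOK invFree = true ∧ genOK thrSix = true ∧ genOK thrFree = true ∧
    genOK invOctBase = true ∧ genOK invGenBase = true ∧
    genOK thrOctBase = true ∧ genOK thrGenBase = true := by
  decide +kernel

theorem fixCount_reps :
    fixCount invEight = 8 ∧ fixCount invFree = 0 ∧ fixCount thrSix = 6 ∧ fixCount thrFree = 0 := by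
  decide +kernel

/-! ### The classes -/

/-- A point of a finset outside a smaller one. -/
theorem exists_mem_notMem {s t : Finset GolayPt} (h : t.card < s.card) : ∃ a ∈ s, a ∉ t := by
  by_contra hcon
  push Not at hcon
  have := Finset.card_le_card (s := s) (t := t) hcon
  omega

theorem sq_toList {σ : Equiv.Perm GolayPt} (h : orderOf σ = 2) : sq (toList σ) = List.range 24 := by
  have h2 := pow_orderOf_eq_one σ
  rw [h, pow_two] at h2
  rw [sq, ← toList_mul, h2, toList_one]

theorem cube_toList {σ : Equiv.Perm GolayPt} (h : orderOf σ = 3) : cube (toList σ) = List.range 24 := by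
  have h2 := pow_orderOf_eq_one σ
  rw [h, pow_three] at h2
  rw [cube, ← toList_mul, ← toList_mul, h2, toList_one]

/-- Involutions: two classes, with representatives `invEight` and `invFree`. -/
theorem exists_conj_involution {σ : Equiv.Perm GolayPt} (hσ : σ ∈ M24) (h : orderOf σ = 2) :
    ∃ g ∈ M24, toList (g * σ * g⁻¹) = invEight ∨ toList (g * σ * g⁻¹) = invFree := by
  have hne : σ ≠ 1 := fun h' => by simp [h'] at h
  have hmv := eight_le_moved hσ hne
  have hss : ∀ p, σ (σ p) = p := fun p => by
    have h2 := pow_orderOf_eq_one σ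
    rw [h, pow_two] at h2
    simpa using congrArg (fun e : Equiv.Perm GolayPt => e p) h2
  obtain ⟨a, ha⟩ := Finset.card_pos.mp (lt_of_lt_of_le (by norm_num) hmv)
  obtain ⟨b, hb, hb'⟩ := exists_mem_notMem (t := {a, σ a})
    (lt_of_le_of_lt (Finset.card_le_two) (lt_of_lt_of_le (by norm_num) hmv))
  obtain ⟨c, hc, hc'⟩ := exists_mem_notMem (t := {a, σ a, b, σ b})
    (lt_of_le_of_lt (Finset.card_le_four) (lt_of_lt_of_le (by norm_num) hmv))
  simp only [Finset.mem_filter, Finset.mem_univ, true_and, ne_eq] at ha hb hc
  simp only [Finset.mem_insert, Finset.mem_singleton, not_or] at hb' hc'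
  have hL : [a, σ a, b, σ b, c, σ c].Nodup := by
    have hinj : ∀ x y, σ x = σ y ↔ x = y := fun x y => σ.injective.eq_iff
    have hflip : ∀ x y, x = σ y ↔ σ x = y := fun x y =>
      ⟨fun e => by rw [e, hss], fun e => by rw [← e, hss]⟩
    simp only [List.nodup_cons, List.mem_cons, List.not_mem_nil, List.nodup_nil, or_false, not_or,
      not_false_iff, and_true]
    grind
  have hconj : ∀ (g : Equiv.Perm GolayPt) (x : GolayPt), (g * σ * g⁻¹) (g x) = g (σ x) := fun g x => by
    simp
  by_cases hin : InOctad [a, σ a, b, σ b, c, σ c]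
  · obtain ⟨g, hg, hgL⟩ := exists_map_six (L' := octadSix) hL (by decide +kernel) rfl rfl
      (iff_of_true hin inOctad_octadSix)
    rw [show octadSix = [none, some 0, some 1, some 2, some 3, some 5] from rfl] at hgL
    simp only [List.map_cons, List.map_nil, List.cons.injEq, and_true] at hgL
    obtain ⟨e1, e2, e3, e4, e5, e6⟩ := hgL
    have hmem : toList (g * σ * g⁻¹) ∈ fixOctList.map (comp invOctBase) := by
      refine mem_coset_list (fun τ hτ => toList_mem_fixOct hτ) genOK_reps.2.2.2.2.1
        (mul_mem (mul_mem hg hσ) (inv_mem hg)) fun p hp => ?_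
      rw [show octadSix = [none, some 0, some 1, some 2, some 3, some 5] from rfl] at hp
      simp only [List.mem_cons, List.not_mem_nil, or_false] at hp
      rcases hp with rfl | rfl | rfl | rfl | rfl | rfl
      · rw [← e1, hconj, e1, e2]; decide +kernel
      · rw [← e2, hconj, hss, e1, e2]; decide +kernel
      · rw [← e3, hconj, e3, e4]; decide +kernel
      · rw [← e4, hconj, hss, e3, e4]; decide +kernel
      · rw [← e5, hconj, e5, e6]; decide +kernel
      · rw [← e6, hconj, hss, e5, e6]; decide +kernel
    have hord : orderOf (g * σ * g⁻¹) = 2 := by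
      rw [← h]; exact orderOf_injective (MulAut.conj g).toMonoidHom (MulAut.conj g).injective σ
    obtain ⟨k, hk, hk'⟩ := exists_conj_of_candOK cand_invOct hmem (sq_toList hord)
    refine ⟨k * g, mul_mem hk hg, ?_⟩
    rw [show k * g * σ * (k * g)⁻¹ = k * (g * σ * g⁻¹) * k⁻¹ by group]
    exact hk'.imp (toList_conj_of_comp genOK_reps.1) (toList_conj_of_comp genOK_reps.2.1)
  · obtain ⟨g, hg, hgL⟩ := exists_map_six (L' := genericSix) hL (by decide +kernel) rfl rfl
      (iff_of_false hin not_inOctad_genericSix)
    rw [show genericSix = [none, some 0, some 1, some 2, some 3, some 4] from rfl] at hgL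
    simp only [List.map_cons, List.map_nil, List.cons.injEq, and_true] at hgL
    obtain ⟨e1, e2, e3, e4, e5, e6⟩ := hgL
    have hmem : toList (g * σ * g⁻¹) ∈ fixGenList.map (comp invGenBase) := by
      refine mem_coset_list (fun τ hτ => toList_mem_fixGen hτ) genOK_reps.2.2.2.2.2.1
        (mul_mem (mul_mem hg hσ) (inv_mem hg)) fun p hp => ?_
      rw [show genericSix = [none, some 0, some 1, some 2, some 3, some 4] from rfl] at hp
      simp only [List.mem_cons, List.not_mem_nil, or_false] at hp
      rcases hp with rfl | rfl | rfl | rfl | rfl | rfl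
      · rw [← e1, hconj, e1, e2]; decide +kernel
      · rw [← e2, hconj, hss, e1, e2]; decide +kernel
      · rw [← e3, hconj, e3, e4]; decide +kernel
      · rw [← e4, hconj, hss, e3, e4]; decide +kernel
      · rw [← e5, hconj, e5, e6]; decide +kernel
      · rw [← e6, hconj, hss, e5, e6]; decide +kernel
    have hord : orderOf (g * σ * g⁻¹) = 2 := by
      rw [← h]; exact orderOf_injective (MulAut.conj g).toMonoidHom (MulAut.conj g).injective σ
    obtain ⟨k, hk, hk'⟩ := exists_conj_of_candOK cand_invGen hmem (sq_toList hord)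
    refine ⟨k * g, mul_mem hk hg, ?_⟩
    rw [show k * g * σ * (k * g)⁻¹ = k * (g * σ * g⁻¹) * k⁻¹ by group]
    exact hk'.imp (toList_conj_of_comp genOK_reps.1) (toList_conj_of_comp genOK_reps.2.1)

/-- Elements of order 3: two classes, with representatives `thrSix` and `thrFree`. -/
theorem exists_conj_three {σ : Equiv.Perm GolayPt} (hσ : σ ∈ M24) (h : orderOf σ = 3) :
    ∃ g ∈ M24, toList (g * σ * g⁻¹) = thrSix ∨ toList (g * σ * g⁻¹) = thrFree := by
  have hne : σ ≠ 1 := fun h' => by simp [h'] at h
  have hmv := eight_le_moved hσ hne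
  have hsss : ∀ p, σ (σ (σ p)) = p := fun p => by
    have h2 := pow_orderOf_eq_one σ
    rw [h, pow_three] at h2
    simpa using congrArg (fun e : Equiv.Perm GolayPt => e p) h2
  obtain ⟨a, ha⟩ := Finset.card_pos.mp (lt_of_lt_of_le (by norm_num) hmv)
  obtain ⟨b, hb, hb'⟩ := exists_mem_notMem (t := {a, σ a, σ (σ a)})
    (lt_of_le_of_lt (Finset.card_le_three) (lt_of_lt_of_le (by norm_num) hmv))
  simp only [Finset.mem_filter, Finset.mem_univ, true_and, ne_eq] at ha hb
  simp only [Finset.mem_insert, Finset.mem_singleton, not_or] at hb'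
  have hL : [a, σ a, σ (σ a), b, σ b, σ (σ b)].Nodup := by
    have hinj : ∀ x y, σ x = σ y ↔ x = y := fun x y => σ.injective.eq_iff
    have h1 : ∀ x, σ x ≠ x → σ (σ x) ≠ x := fun x hx e => by
      have e' := hsss x
      rw [e] at e'
      exact hx e'
    simp only [List.nodup_cons, List.mem_cons, List.not_mem_nil, List.nodup_nil, or_false, not_or,
      not_false_iff, and_true]
    grind
  have hconj : ∀ (g : Equiv.Perm GolayPt) (x : GolayPt), (g * σ * g⁻¹) (g x) = g (σ x) := fun g x => by
    simp
  by_cases hin : InOctad [a, σ a, σ (σ a), b, σ b, σ (σ b)]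
  · obtain ⟨g, hg, hgL⟩ := exists_map_six (L' := octadSix) hL (by decide +kernel) rfl rfl
      (iff_of_true hin inOctad_octadSix)
    rw [show octadSix = [none, some 0, some 1, some 2, some 3, some 5] from rfl] at hgL
    simp only [List.map_cons, List.map_nil, List.cons.injEq, and_true] at hgL
    obtain ⟨e1, e2, e3, e4, e5, e6⟩ := hgL
    have hmem : toList (g * σ * g⁻¹) ∈ fixOctList.map (comp thrOctBase) := by
      refine mem_coset_list (fun τ hτ => toList_mem_fixOct hτ) genOK_reps.2.2.2.2.2.2.1
        (mul_mem (mul_mem hg hσ) (inv_mem hg)) fun p hp => ?_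
      rw [show octadSix = [none, some 0, some 1, some 2, some 3, some 5] from rfl] at hp
      simp only [List.mem_cons, List.not_mem_nil, or_false] at hp
      rcases hp with rfl | rfl | rfl | rfl | rfl | rfl
      · rw [← e1, hconj, e1, e2]; decide +kernel
      · rw [← e2, hconj, e2, e3]; decide +kernel
      · rw [← e3, hconj, hsss, e1, e3]; decide +kernel
      · rw [← e4, hconj, e4, e5]; decide +kernel
      · rw [← e5, hconj, e5, e6]; decide +kernel
      · rw [← e6, hconj, hsss, e4, e6]; decide +kernel
    have hord : orderOf (g * σ * g⁻¹) = 3 := by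
      rw [← h]; exact orderOf_injective (MulAut.conj g).toMonoidHom (MulAut.conj g).injective σ
    obtain ⟨k, hk, hk'⟩ := exists_conj_of_candOK cand_thrOct hmem (cube_toList hord)
    refine ⟨k * g, mul_mem hk hg, ?_⟩
    rw [show k * g * σ * (k * g)⁻¹ = k * (g * σ * g⁻¹) * k⁻¹ by group]
    exact hk'.imp (toList_conj_of_comp genOK_reps.2.2.1) (toList_conj_of_comp genOK_reps.2.2.2.1)
  · obtain ⟨g, hg, hgL⟩ := exists_map_six (L' := genericSix) hL (by decide +kernel) rfl rfl
      (iff_of_false hin not_inOctad_genericSix)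
    rw [show genericSix = [none, some 0, some 1, some 2, some 3, some 4] from rfl] at hgL
    simp only [List.map_cons, List.map_nil, List.cons.injEq, and_true] at hgL
    obtain ⟨e1, e2, e3, e4, e5, e6⟩ := hgL
    have hmem : toList (g * σ * g⁻¹) ∈ fixGenList.map (comp thrGenBase) := by
      refine mem_coset_list (fun τ hτ => toList_mem_fixGen hτ) genOK_reps.2.2.2.2.2.2.2
        (mul_mem (mul_mem hg hσ) (inv_mem hg)) fun p hp => ?_
      rw [show genericSix = [none, some 0, some 1, some 2, some 3, some 4] from rfl] at hp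
      simp only [List.mem_cons, List.not_mem_nil, or_false] at hp
      rcases hp with rfl | rfl | rfl | rfl | rfl | rfl
      · rw [← e1, hconj, e1, e2]; decide +kernel
      · rw [← e2, hconj, e2, e3]; decide +kernel
      · rw [← e3, hconj, hsss, e1, e3]; decide +kernel
      · rw [← e4, hconj, e4, e5]; decide +kernel
      · rw [← e5, hconj, e5, e6]; decide +kernel
      · rw [← e6, hconj, hsss, e4, e6]; decide +kernel
    have hord : orderOf (g * σ * g⁻¹) = 3 := by
      rw [← h]; exact orderOf_injective (MulAut.conj g).toMonoidHom (MulAut.conj g).injective σ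
    obtain ⟨k, hk, hk'⟩ := exists_conj_of_candOK cand_thrGen hmem (cube_toList hord)
    refine ⟨k * g, mul_mem hk hg, ?_⟩
    rw [show k * g * σ * (k * g)⁻¹ = k * (g * σ * g⁻¹) * k⁻¹ by group]
    exact hk'.imp (toList_conj_of_comp genOK_reps.2.2.1) (toList_conj_of_comp genOK_reps.2.2.2.1)

/-- The involutions with 8 fixed points form one class, the others are fixed-point-free. -/
theorem involution_cases {σ : Equiv.Perm GolayPt} (hσ : σ ∈ M24) (h : orderOf σ = 2) :
    ((Finset.univ.filter fun p => σ p = p).card = 8 ∧
        ∃ g ∈ M24, toList (g * σ * g⁻¹) = invEight) ∨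
      ((Finset.univ.filter fun p => σ p = p).card = 0 ∧
        ∃ g ∈ M24, toList (g * σ * g⁻¹) = invFree) := by
  obtain ⟨g, hg, h' | h'⟩ := exists_conj_involution hσ h
  · exact Or.inl ⟨by rw [← card_fixed_conj g σ, card_fixed, h', fixCount_reps.1], g, hg, h'⟩
  · exact Or.inr ⟨by rw [← card_fixed_conj g σ, card_fixed, h', fixCount_reps.2.1], g, hg, h'⟩

/-- The elements of order 3 with 6 fixed points form one class, the others are fixed-point-free. -/
theorem three_cases {σ : Equiv.Perm GolayPt} (hσ : σ ∈ M24) (h : orderOf σ = 3) :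
    ((Finset.univ.filter fun p => σ p = p).card = 6 ∧
        ∃ g ∈ M24, toList (g * σ * g⁻¹) = thrSix) ∨
      ((Finset.univ.filter fun p => σ p = p).card = 0 ∧
        ∃ g ∈ M24, toList (g * σ * g⁻¹) = thrFree) := by
  obtain ⟨g, hg, h' | h'⟩ := exists_conj_three hσ h
  · exact Or.inl ⟨by rw [← card_fixed_conj g σ, card_fixed, h', fixCount_reps.2.2.1], g, hg, h'⟩
  · exact Or.inr ⟨by rw [← card_fixed_conj g σ, card_fixed, h', fixCount_reps.2.2.2], g, hg, h'⟩

end CfsgLib.Golay.Classes
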