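import Cfsg.Agent.Lib.Golay.Trios
import Cfsg.Agent.Lib.Golay.Classes

/-!
# Octads, dodecads, trios and sextets left invariant by an element of `M24`, counted on keys
-/

set_option autoImplicit false

namespace CfsgLib.Golay.Classes

open Cfsg CfsgLib.Golay
open scoped Pointwise

set_option maxRecDepth 20000

/-- Indices of the invariant octads, or other supports. -/
def fixedCode (l : List ℕ) (K : List ℕ) : List ℕ :=
  K.filter fun k => Nat.beq (pmap l (codeWord k)) (codeWord k)

/-- The indices of the dodecads. -/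
def dodKeys : List ℕ := (List.range 4096).filter fun k => Nat.beq (popc (codeWord k)) 12

theorem mem_dodKeys {k : ℕ} : k ∈ dodKeys ↔ k < 4096 ∧ popc (codeWord k) = 12 := by
  rw [dodKeys, List.mem_filter, List.mem_range]
  exact and_congr_right fun _ => ⟨Nat.eq_of_beq_eq_true, fun h => by rw [h]; rfl⟩

theorem dodecads_eq : dodecads = codeSet '' {k | k ∈ dodKeys} := by
  rw [dodecads, wordsOfWeight_eq]
  have h : {k | k ∈ dodKeys} =
      (↑((Finset.range 4096).filter fun k => popc (codeWord k) = 12) : Set ℕ) := by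
    ext k; simp [mem_dodKeys]
  rw [h]
  rfl

theorem smul_codeSet_eq_iff (σ : Equiv.Perm GolayPt) (k : ℕ) :
    σ • codeSet k = codeSet k ↔ Nat.beq (pmap (toList σ) (codeWord k)) (codeWord k) = true := by
  rw [← encS_injective.eq_iff, encS_smul, encS_codeSet]
  exact ⟨fun h => by rw [h]; exact Nat.beq_refl _, Nat.eq_of_beq_eq_true⟩

/-- Counting the invariant members of a keyed family. -/
theorem ncard_fixed_of_keys {α : Type*} [MulAction (Equiv.Perm GolayPt) α] {U : Set α} {dec : ℕ → α}
    {K : List ℕ} (hnd : K.Nodup) (hU : U = dec '' {k | k ∈ K}) (hinj : Set.InjOn dec {k | k ∈ K})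
    (σ : Equiv.Perm GolayPt) (f : ℕ → Bool) (hf : ∀ k ∈ K, (σ • dec k = dec k ↔ f k = true)) :
    {X | X ∈ U ∧ σ • X = X}.ncard = (K.filter f).length := by
  have h : {X | X ∈ U ∧ σ • X = X} = dec '' {k | k ∈ K.filter f} := by
    ext X
    simp only [Set.mem_setOf_eq, Set.mem_image, List.mem_filter, hU]
    constructor
    · rintro ⟨⟨k, hk, rfl⟩, hX⟩
      exact ⟨k, ⟨hk, (hf k hk).mp hX⟩, rfl⟩
    · rintro ⟨k, ⟨hk, hfk⟩, rfl⟩
      exact ⟨⟨k, hk, rfl⟩, (hf k hk).mpr hfk⟩
  rw [h, ncard_image_of_nodup (hnd.filter _) (hinj.mono fun k hk => (List.mem_filter.mp hk).1)]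

theorem ncard_fixed_octads (σ : Equiv.Perm GolayPt) :
    {o : Finset GolayPt | o ∈ octads ∧ σ • o = o}.ncard =
      (fixedCode (toList σ) octKeys).length := by
  rw [fixedCode]
  exact ncard_fixed_of_keys (nodup_of_incr incr_octKeys) octads_eq
    (codeSet_injOn.mono fun _ hk => (mem_octKeys.mp hk).1) σ _ fun k _ => smul_codeSet_eq_iff σ k

theorem ncard_fixed_dodecads (σ : Equiv.Perm GolayPt) :
    {d : Finset GolayPt | d ∈ dodecads ∧ σ • d = d}.ncard =
      (fixedCode (toList σ) dodKeys).length := by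
  rw [fixedCode]
  exact ncard_fixed_of_keys (List.Nodup.filter _ List.nodup_range) dodecads_eq
    (codeSet_injOn.mono fun _ hk => (mem_dodKeys.mp hk).1) σ _ fun k _ => smul_codeSet_eq_iff σ k

/-- Keys of the invariant sextets. -/
def fixedSext (l : List ℕ) : List ℕ := sextetKeys.filter fun k => Nat.beq (synAct l k) k

theorem ncard_fixed_sextets {σ : Equiv.Perm GolayPt} (hσ : σ ∈ M24) :
    {S : Finset (Finset GolayPt) | S ∈ sextets ∧ σ • S = S}.ncard =
      (fixedSext (toList σ)).length := by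
  refine ncard_fixed_of_keys (nodup_of_incr incr_sextetKeys) sextets_eq sextetOfKey_injOn σ _
    fun k hk => ?_
  rw [smul_sextetOfKey hσ hk]
  constructor
  · intro h
    have hmem : synAct (toList σ) k ∈ sextetKeys := by
      obtain ⟨t, ht⟩ := Finset.card_pos.mp
        (by rw [(sextetOfKey_mem hk).1]; norm_num : 0 < (sextetOfKey k).card)
      have h' := mem_sextetOfKey.mp ht
      rw [← h'.2, ← syn_encS_smul hσ]
      exact syn_mem_sextetKeys (by rw [Finset.card_smul_finset, h'.1])
    rw [sextetOfKey_injOn hmem hk h]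
    exact Nat.beq_refl _
  · intro h
    rw [Nat.eq_of_beq_eq_true h]

/-- An octad index is mapped into a trio. -/
def imgInTrio (l : List ℕ) (k e : ℕ) : Bool :=
  Nat.beq (pmap l (codeWord k)) (codeWord (trioA e)) ||
    Nat.beq (pmap l (codeWord k)) (codeWord (trioB e)) ||
    Nat.beq (pmap l (codeWord k)) (codeWord (trioC e))

/-- A trio is invariant. -/
def trioFixed (l : List ℕ) (e : ℕ) : Bool :=
  imgInTrio l (trioA e) e && imgInTrio l (trioB e) e && imgInTrio l (trioC e) e

/-- Positions of the invariant trios. -/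
def fixedTrio (l : List ℕ) : List ℕ := (List.range 3795).filter fun p => trioFixed l (trioAt p)

theorem smul_mem_trioOf_iff (σ : Equiv.Perm GolayPt) (k p : ℕ) :
    σ • codeSet k ∈ trioOf p ↔ imgInTrio (toList σ) k (trioAt p) = true := by
  simp only [trioOf, Finset.mem_insert, Finset.mem_singleton, imgInTrio, Bool.or_eq_true]
  rw [← encS_injective.eq_iff, ← encS_injective.eq_iff (b := codeSet (trioB (trioAt p))),
    ← encS_injective.eq_iff (b := codeSet (trioC (trioAt p))), encS_smul, encS_codeSet, encS_codeSet,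
    encS_codeSet, encS_codeSet]
  constructor
  · rintro (h | h | h) <;> simp [h]
  · rintro ((h | h) | h) <;> simp [Nat.eq_of_beq_eq_true h]

theorem ncard_fixed_trios (σ : Equiv.Perm GolayPt) :
    {T : Finset (Finset GolayPt) | T ∈ trios ∧ σ • T = T}.ncard =
      (fixedTrio (toList σ)).length := by
  refine ncard_fixed_of_keys List.nodup_range (by rw [trios_eq, List.map_id])
    (trioOf_injOn.mono fun p hp => List.mem_range.mp hp) σ _ fun p _ => ?_
  simp only [trioFixed, Bool.and_eq_true, ← smul_mem_trioOf_iff]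
  constructor
  · intro h
    have hin : ∀ Y ∈ trioOf p, σ • Y ∈ trioOf p := fun Y hY => by
      have h' := Finset.smul_mem_smul_finset (a := σ) hY
      rwa [h] at h'
    exact ⟨⟨hin _ (by simp [trioOf]), hin _ (by simp [trioOf])⟩, hin _ (by simp [trioOf])⟩
  · rintro ⟨⟨h1, h2⟩, h3⟩
    refine Finset.eq_of_subset_of_card_le ?_ (Finset.card_smul_finset σ _).ge
    intro X hX
    obtain ⟨Y, hY, rfl⟩ := Finset.mem_smul_finset.mp hX
    simp only [trioOf, Finset.mem_insert, Finset.mem_singleton] at hY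
    rcases hY with rfl | rfl | rfl <;> assumption

/-- Transport of a count along conjugation. -/
theorem ncard_fixed_conj {α : Type*} [MulAction (Equiv.Perm GolayPt) α] {U : Set α}
    {g : Equiv.Perm GolayPt} (hU : ∀ X, X ∈ U → g • X ∈ U) (hU' : ∀ X, X ∈ U → g⁻¹ • X ∈ U)
    (σ : Equiv.Perm GolayPt) :
    {X | X ∈ U ∧ σ • X = X}.ncard = {X | X ∈ U ∧ (g * σ * g⁻¹) • X = X}.ncard := by
  have h : {X | X ∈ U ∧ (g * σ * g⁻¹) • X = X} = (g • ·) '' {X | X ∈ U ∧ σ • X = X} := by
    ext X
    simp only [Set.mem_setOf_eq, Set.mem_image]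
    constructor
    · rintro ⟨hX, hfix⟩
      refine ⟨g⁻¹ • X, ⟨hU' X hX, ?_⟩, smul_inv_smul g X⟩
      conv_rhs => rw [← hfix]
      rw [mul_smul, mul_smul, inv_smul_smul]
    · rintro ⟨Y, ⟨hY, hfix⟩, rfl⟩
      exact ⟨hU Y hY, by rw [mul_smul, mul_smul, inv_smul_smul, hfix]⟩
  rw [h, Set.ncard_image_of_injective _ (MulAction.injective g)]

/-- All four counts of an element are those read off a conjugate image list. -/
theorem counts_of_conj {σ g : Equiv.Perm GolayPt} (hσ : σ ∈ M24) (hg : g ∈ M24) {l : List ℕ}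
    (h : toList (g * σ * g⁻¹) = l) :
    {o : Finset GolayPt | o ∈ octads ∧ σ • o = o}.ncard = (fixedCode l octKeys).length ∧
    {T : Finset (Finset GolayPt) | T ∈ trios ∧ σ • T = T}.ncard = (fixedTrio l).length ∧
    {S : Finset (Finset GolayPt) | S ∈ sextets ∧ σ • S = S}.ncard = (fixedSext l).length ∧
    {d : Finset GolayPt | d ∈ dodecads ∧ σ • d = d}.ncard = (fixedCode l dodKeys).length := by
  subst h
  refine ⟨?_, ?_, ?_, ?_⟩
  · rw [ncard_fixed_conj (fun X => smul_mem_octads hg) (fun X => smul_mem_octads (inv_mem hg)) σ,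
      ncard_fixed_octads]
  · rw [ncard_fixed_conj (fun X => smul_mem_trios hg) (fun X => smul_mem_trios (inv_mem hg)) σ,
      ncard_fixed_trios]
  · rw [ncard_fixed_conj (fun X => smul_mem_sextets hg) (fun X => smul_mem_sextets (inv_mem hg)) σ,
      ncard_fixed_sextets (mul_mem (mul_mem hg hσ) (inv_mem hg))]
  · rw [ncard_fixed_conj (fun X => smul_mem_dodecads hg) (fun X => smul_mem_dodecads (inv_mem hg)) σ,
      ncard_fixed_dodecads]

end CfsgLib.Golay.Classes
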