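import Cfsg.Agent.Lib.Schur.GolaySearch
import Cfsg.Agent.Lib.Golay.FixedConfigs

/-!
# An element of order 7 of `M24`: complete search for its normaliser

Stages and results found by a search; the replay is checked by the kernel.
-/

set_option autoImplicit false
set_option maxRecDepth 20000

namespace CfsgLib.Golay.Seven

open Cfsg CfsgLib.Golay CfsgLib.Schur.GolaySearch


/-- An element of order 7. -/
def sevenL : List ℕ := [12,15,7,22,5,8,18,10,2,9,20,16,1,13,11,3,19,14,17,6,4,0,21,23]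

/-- Its fixed positions. -/
def sevenFix : List ℕ := [9,13,23]

/-- The stages of the search. -/
def stages : List Stage :=
  [([23], [], sevenFix), ([0,12,1,15,3,22,21], [14716939], (List.range 24)), ([9], [], sevenFix), ([13], [], sevenFix), ([2,7,10,20,4,5,8], [11538486,3182981,7340691,14714004], (List.range 24)), ([6,18,17,14,11,16,19], [13062145,4845570,13938692,10170384,15515712,2019456,14919680], (List.range 24))]

/-- Two non-commuting elements centralising it. -/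
def centA : List ℕ := [2,10,19,4,14,11,12,6,16,13,18,22,7,23,3,20,21,15,1,0,17,8,5,9]

/-- The second one. -/
def centB : List ℕ := [2,10,0,4,3,22,6,12,21,23,1,11,7,13,14,20,16,17,18,19,15,8,5,9]

/-- The position of the invariant trio. -/
def sevenTrio : ℕ := 163

/-- Results of the search for exponent 0. -/
def found0 : List (List ℕ) :=
  []

/-- Results of the search for exponent 1. -/
def found1 : List (List ℕ) :=
  [
    [2,10,19,4,14,11,12,6,16,13,18,22,7,23,3,20,21,15,1,0,17,8,5,9],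
    [2,10,0,4,3,22,6,12,21,23,1,11,7,13,14,20,16,17,18,19,15,8,5,9],
    [4,8,14,7,6,18,22,11,17,13,16,1,5,23,12,2,15,0,21,3,19,20,10,9],
    [4,8,3,7,12,1,11,22,15,23,21,18,5,13,6,2,17,19,16,14,0,20,10,9],
    [5,2,11,10,18,17,21,16,14,13,19,15,8,23,1,7,3,12,0,22,6,4,20,9],
    [5,2,22,10,1,15,16,21,3,23,0,17,8,13,18,7,14,6,19,11,12,4,20,9],
    [7,20,6,5,11,16,1,18,19,13,17,21,10,23,22,4,0,3,15,12,14,2,8,9],
    [7,20,12,5,22,21,18,1,0,23,15,16,10,13,11,4,19,14,17,6,3,2,8,9],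
    [8,7,16,20,17,14,0,19,11,13,6,3,2,23,15,10,22,1,12,21,18,5,4,9],
    [8,7,21,20,15,3,19,0,22,23,12,14,2,13,17,10,11,18,6,16,1,5,4,9],
    [10,4,18,8,16,19,15,17,6,13,14,0,20,23,21,5,12,22,3,1,11,7,2,9],
    [10,4,1,8,21,0,17,15,12,23,3,19,20,13,16,5,6,11,14,18,22,7,2,9],
    [20,5,17,2,19,6,3,14,18,13,11,12,4,23,0,8,1,21,22,15,16,10,7,9],
    [20,5,15,2,0,12,14,3,1,23,22,6,4,13,19,8,18,16,11,17,21,10,7,9],
    [6,17,7,11,5,8,1,10,2,9,20,21,18,23,22,14,0,3,15,12,4,19,16,13],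
    [6,17,12,11,22,21,10,1,0,23,15,8,18,9,5,14,2,4,20,7,3,19,16,13],
    [11,19,5,18,10,20,21,8,4,9,2,15,16,23,1,6,3,12,0,22,7,14,17,13],
    [11,19,22,18,1,15,8,21,3,23,0,20,16,9,10,6,4,7,2,5,12,14,17,13],
    [14,16,4,6,7,10,22,5,20,9,8,1,11,23,12,19,15,0,21,3,2,17,18,13],
    [14,16,3,6,12,1,5,22,15,23,21,10,11,9,7,19,20,2,8,4,0,17,18,13],
    [16,6,8,17,20,4,0,2,5,9,7,3,19,23,15,18,22,1,12,21,10,11,14,13],
    [16,6,21,17,15,3,2,0,22,23,12,4,19,9,20,18,5,10,7,8,1,11,14,13],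
    [17,11,20,19,2,7,3,4,10,9,5,12,14,23,0,16,1,21,22,15,8,18,6,13],
    [17,11,15,19,0,12,4,3,1,23,22,7,14,9,2,16,10,8,5,20,21,18,6,13],
    [18,14,10,16,8,2,15,20,7,9,4,0,17,23,21,11,12,22,3,1,5,6,19,13],
    [18,14,1,16,21,0,20,15,12,23,3,2,17,9,8,11,7,5,4,10,22,6,19,13],
    [19,18,2,14,4,5,12,7,8,9,10,22,6,23,3,17,21,15,1,0,20,16,11,13],
    [19,18,0,14,3,22,7,12,21,23,1,5,6,9,4,17,8,20,10,2,15,16,11,13],
    [0,1,2,3,4,5,6,7,8,9,10,11,12,13,14,15,16,17,18,19,20,21,22,23],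
    [0,1,19,3,14,11,7,6,16,13,18,5,12,9,4,15,8,20,10,2,17,21,22,23],
    [1,3,10,21,8,2,17,20,7,9,4,19,15,13,16,22,6,11,14,18,5,12,0,23],
    [1,3,18,21,16,19,20,17,6,13,14,2,15,9,8,22,7,5,4,10,11,12,0,23],
    [3,21,4,12,7,10,11,5,20,9,8,18,22,13,6,0,17,19,16,14,2,15,1,23],
    [3,21,14,12,6,18,5,11,17,13,16,10,22,9,7,0,20,2,8,4,19,15,1,23],
    [12,15,7,22,5,8,18,10,2,9,20,16,1,13,11,3,19,14,17,6,4,0,21,23],
    [12,15,6,22,11,16,10,18,19,13,17,8,1,9,5,3,2,4,20,7,14,0,21,23],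
    [15,22,20,0,2,7,14,4,10,9,5,6,3,13,19,21,18,16,11,17,8,1,12,23],
    [15,22,17,0,19,6,4,14,18,13,11,7,3,9,2,21,10,8,5,20,16,1,12,23],
    [21,12,8,15,20,4,19,2,5,9,7,14,0,13,17,1,11,18,6,16,10,22,3,23],
    [21,12,16,15,17,14,2,19,11,13,6,4,0,9,20,1,5,10,7,8,18,22,3,23],
    [22,0,5,1,10,20,16,8,4,9,2,17,21,13,18,12,14,6,19,11,7,3,15,23],
    [22,0,11,1,18,17,8,16,14,13,19,20,21,9,10,12,4,7,2,5,6,3,15,23]]

/-- Results of the search for exponent 2. -/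
def found2 : List (List ℕ) :=
  [
    [2,4,19,7,6,17,1,18,11,13,14,15,10,23,12,8,22,21,3,0,16,5,20,9],
    [2,4,0,7,12,15,18,1,22,23,3,17,10,13,6,8,11,16,14,19,21,5,20,9],
    [4,7,14,5,11,19,21,16,18,13,6,0,8,23,22,20,1,15,12,3,17,10,2,9],
    [4,7,3,5,22,0,16,21,1,23,12,19,8,13,11,20,18,17,6,14,15,10,2,9],
    [5,10,11,8,16,6,0,19,17,13,18,12,2,23,21,4,15,3,1,22,14,20,7,9],
    [5,10,22,8,21,12,19,0,15,23,1,6,2,13,16,4,17,14,18,11,3,20,7,9],
    [7,5,6,10,18,14,15,17,16,13,11,3,20,23,1,2,21,0,22,12,19,8,4,9],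
    [7,5,12,10,1,3,17,15,21,23,22,14,20,13,18,2,16,19,11,6,0,8,4,9],
    [8,20,16,2,19,18,12,6,14,13,17,1,7,23,0,5,3,22,15,21,11,4,10,9],
    [8,20,21,2,0,1,6,12,3,23,15,18,7,13,19,5,14,11,17,16,22,4,10,9],
    [10,8,18,20,17,11,3,14,19,13,16,22,4,23,15,7,0,12,21,1,6,2,5,9],
    [10,8,1,20,15,22,14,3,0,23,21,11,4,13,17,7,19,6,16,18,12,2,5,9],
    [20,2,17,4,14,16,22,11,6,13,19,21,5,23,3,10,12,1,0,15,18,7,8,9],
    [20,2,15,4,3,21,11,22,12,23,0,16,5,13,14,10,6,18,19,17,1,7,8,9],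
    [6,11,7,18,10,4,15,20,8,9,5,3,17,23,1,19,21,0,22,12,2,16,14,13],
    [6,11,12,18,1,3,20,15,21,23,22,4,17,9,10,19,8,2,5,7,0,16,14,13],
    [11,18,5,16,8,7,0,2,20,9,10,12,19,23,21,14,15,3,1,22,4,17,6,13],
    [11,18,22,16,21,12,2,0,15,23,1,7,19,9,8,14,20,4,10,5,3,17,6,13],
    [14,6,4,11,5,2,21,8,10,9,7,0,16,23,22,17,1,15,12,3,20,18,19,13],
    [14,6,3,11,22,0,8,21,1,23,12,2,16,9,5,17,10,20,7,4,15,18,19,13],
    [16,17,8,19,2,10,12,7,4,9,20,1,6,23,0,11,3,22,15,21,5,14,18,13],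
    [16,17,21,19,0,1,7,12,3,23,15,10,6,9,2,11,4,5,20,8,22,14,18,13],
    [17,19,20,14,4,8,22,5,7,9,2,21,11,23,3,18,12,1,0,15,10,6,16,13],
    [17,19,15,14,3,21,5,22,12,23,0,8,11,9,4,18,7,10,2,20,1,6,16,13],
    [18,16,10,17,20,5,3,4,2,9,8,22,14,23,15,6,0,12,21,1,7,19,11,13],
    [18,16,1,17,15,22,4,3,0,23,21,5,14,9,20,6,2,7,8,10,12,19,11,13],
    [19,14,2,6,7,20,1,10,5,9,4,15,18,23,12,16,22,21,3,0,8,11,17,13],
    [19,14,0,6,12,15,10,1,22,23,3,20,18,9,7,16,5,8,4,2,21,11,17,13],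
    [0,3,2,12,7,20,18,10,5,9,4,17,1,13,6,21,11,16,14,19,8,22,15,23],
    [0,3,19,12,6,17,10,18,11,13,14,20,1,9,7,21,5,8,4,2,16,22,15,23],
    [1,21,10,15,20,5,14,4,2,9,8,11,3,13,17,12,19,6,16,18,7,0,22,23],
    [1,21,18,15,17,11,4,14,19,13,16,5,3,9,20,12,2,7,8,10,6,0,22,23],
    [3,12,4,22,5,2,16,8,10,9,7,19,21,13,11,15,18,17,6,14,20,1,0,23],
    [3,12,14,22,11,19,8,16,18,13,6,2,21,9,5,15,10,20,7,4,17,1,0,23],
    [12,22,7,1,10,4,17,20,8,9,5,14,15,13,18,0,16,19,11,6,2,21,3,23],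
    [12,22,6,1,18,14,20,17,16,13,11,4,15,9,10,0,8,2,5,7,19,21,3,23],
    [15,0,20,3,4,8,11,5,7,9,2,16,22,13,14,1,6,18,19,17,10,12,21,23],
    [15,0,17,3,14,16,5,11,6,13,19,8,22,9,4,1,7,10,2,20,18,12,21,23],
    [21,15,8,0,2,10,6,7,4,9,20,18,12,13,19,22,14,11,17,16,5,3,1,23],
    [21,15,16,0,19,18,7,6,14,13,17,10,12,9,2,22,4,5,20,8,11,3,1,23],
    [22,1,5,21,8,7,19,2,20,9,10,6,0,13,16,3,17,14,18,11,4,15,12,23],
    [22,1,11,21,16,6,2,19,17,13,18,7,0,9,8,3,20,4,10,5,14,15,12,23]]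

/-- Results of the search for exponent 3. -/
def found3 : List (List ℕ) :=
  []

/-- Results of the search for exponent 4. -/
def found4 : List (List ℕ) :=
  [
    [2,7,19,10,18,16,3,14,17,13,6,21,4,23,1,5,15,22,12,0,11,20,8,9],
    [2,7,0,10,1,21,14,3,15,23,12,16,4,13,18,5,17,11,6,19,22,20,8,9],
    [4,5,14,8,16,17,12,6,19,13,11,15,7,23,21,10,0,1,22,3,18,2,20,9],
    [4,5,3,8,21,15,6,12,0,23,22,17,7,13,16,10,19,18,11,14,1,2,20,9],
    [5,8,11,2,19,14,1,18,6,13,16,3,10,23,0,20,12,15,21,22,17,7,4,9],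
    [5,8,22,2,0,3,18,1,12,23,21,14,10,13,19,20,6,17,16,11,15,7,4,9],
    [7,10,6,20,17,19,22,11,14,13,18,0,5,23,15,8,3,21,1,12,16,4,2,9],
    [7,10,12,20,15,0,11,22,3,23,1,19,5,13,17,8,14,16,18,6,21,4,2,9],
    [8,2,16,7,6,11,15,17,18,13,19,22,20,23,12,4,1,3,0,21,14,10,5,9],
    [8,2,21,7,12,22,17,15,1,23,0,11,20,13,6,4,18,14,19,16,3,10,5,9],
    [10,20,18,4,14,6,21,16,11,13,17,12,8,23,3,2,22,0,15,1,19,5,7,9],
    [10,20,1,4,3,12,16,21,22,23,15,6,8,13,14,2,11,19,17,18,0,5,7,9],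
    [20,4,17,5,11,18,0,19,16,13,14,1,2,23,22,7,21,12,3,15,6,8,10,9],
    [20,4,15,5,22,1,19,0,21,23,3,18,2,13,11,7,16,6,14,17,12,8,10,9],
    [6,18,7,17,20,2,22,5,4,9,10,0,11,23,15,16,3,21,1,12,8,14,19,13],
    [6,18,12,17,15,0,5,22,3,23,1,2,11,9,20,16,4,8,10,7,21,14,19,13],
    [11,16,5,19,2,4,1,10,7,9,8,3,18,23,0,17,12,15,21,22,20,6,14,13],
    [11,16,22,19,0,3,10,1,12,23,21,4,18,9,2,17,7,20,8,5,15,6,14,13],
    [14,11,4,16,8,20,12,7,2,9,5,15,6,23,21,18,0,1,22,3,10,19,17,13],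
    [14,11,3,16,21,15,7,12,0,23,22,20,6,9,8,18,2,10,5,4,1,19,17,13],
    [16,19,8,6,7,5,15,20,10,9,2,22,17,23,12,14,1,3,0,21,4,18,11,13],
    [16,19,21,6,12,22,20,15,1,23,0,5,17,9,7,14,10,4,2,8,3,18,11,13],
    [17,14,20,11,5,10,0,2,8,9,4,1,19,23,22,6,21,12,3,15,7,16,18,13],
    [17,14,15,11,22,1,2,0,21,23,3,10,19,9,5,6,8,7,4,20,12,16,18,13],
    [18,17,10,14,4,7,21,8,5,9,20,12,16,23,3,19,22,0,15,1,2,11,6,13],
    [18,17,1,14,3,12,8,21,22,23,15,7,16,9,4,19,5,2,20,10,0,11,6,13],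
    [19,6,2,18,10,8,3,4,20,9,7,21,14,23,1,11,15,22,12,0,5,17,16,13],
    [19,6,0,18,1,21,4,3,15,23,12,8,14,9,10,11,20,5,7,2,22,17,16,13],
    [0,12,2,1,10,8,14,4,20,9,7,16,3,13,18,22,17,11,6,19,5,15,21,23],
    [0,12,19,1,18,16,4,14,17,13,6,8,3,9,10,22,20,5,7,2,11,15,21,23],
    [1,15,10,3,4,7,16,8,5,9,20,6,21,13,14,0,11,19,17,18,2,22,12,23],
    [1,15,18,3,14,6,8,16,11,13,17,7,21,9,4,0,5,2,20,10,19,22,12,23],
    [3,22,4,21,8,20,6,7,2,9,5,17,12,13,16,1,19,18,11,14,10,0,15,23],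
    [3,22,14,21,16,17,7,6,19,13,11,20,12,9,8,1,2,10,5,4,18,0,15,23],
    [12,1,7,15,20,2,11,5,4,9,10,19,22,13,17,21,14,16,18,6,8,3,0,23],
    [12,1,6,15,17,19,5,11,14,13,18,2,22,9,20,21,4,8,10,7,16,3,0,23],
    [15,3,20,22,5,10,19,2,8,9,4,18,0,13,11,12,16,6,14,17,7,21,1,23],
    [15,3,17,22,11,18,2,19,16,13,14,10,0,9,5,12,8,7,4,20,6,21,1,23],
    [21,0,8,12,7,5,17,20,10,9,2,11,15,13,6,3,18,14,19,16,4,1,22,23],
    [21,0,16,12,6,11,20,17,18,13,19,5,15,9,7,3,10,4,2,8,14,1,22,23],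
    [22,21,5,0,2,4,18,10,7,9,8,14,1,13,19,15,6,17,16,11,20,12,3,23],
    [22,21,11,0,19,14,10,18,6,13,16,4,1,9,2,15,7,20,8,5,17,12,3,23]]

/-- Results of the search for exponent 5. -/
def found5 : List (List ℕ) :=
  []

/-- Results of the search for exponent 6. -/
def found6 : List (List ℕ) :=
  []

/-- All the results. -/
def found : List (List (List ℕ)) := [found0,found1,found2,found3,found4,found5,found6]

/-- Powers of an image list. -/
def powL (l : List ℕ) : ℕ → List ℕ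
  | 0 => List.range 24
  | n + 1 => comp l (powL l n)

theorem toList_pow (σ : Equiv.Perm Cfsg.GolayPt) : ∀ n, toList (σ ^ n) = powL (toList σ) n
  | 0 => by rw [pow_zero, toList_one, powL]
  | n + 1 => by rw [pow_succ', toList_mul, toList_pow σ n, powL]

/-- The elements conjugating the fixed element to its `k`-th power. -/
def searchK (k : ℕ) : List (List ℕ) :=
  searchImg (powL sevenL k) 0 stages (List.replicate 24 0)

/-- All image lists of the normaliser. -/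
def normList : List (List ℕ) := found.flatten

/-- The searches give the stored results. -/
theorem searchK_eq : ((List.range 6).all fun k => searchK (k + 1) == found.getD (k + 1) []) = true := by
  decide +kernel

theorem searchK_found {k : ℕ} (hk : k < 7) (hk0 : k ≠ 0) : searchK k = found.getD k [] := by
  obtain ⟨j, rfl⟩ : ∃ j, k = j + 1 := ⟨k - 1, by omega⟩
  exact beq_iff_eq.mp (List.all_eq_true.mp searchK_eq j (List.mem_range.mpr (by omega)))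

theorem sevenL_facts : genOK sevenL = true ∧ powL sevenL 7 = List.range 24 ∧
    sevenL ≠ List.range 24 ∧ stagesOK sevenL 0 stages = true := by decide +kernel

theorem sevenFix_spec : ((List.range 7).all fun k => k == 0 || (List.range 24).all fun i =>
    !((powL sevenL k).getD i 0 == i) || sevenFix.contains i) = true := by decide +kernel

theorem sevenFix_fixed : (sevenFix.all fun i => sevenL.getD i 0 == i) = true := by decide +kernel

theorem stages_heads : (stages.all fun s =>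
    s.2.2 == List.range 24 || (s.2.2 == sevenFix && s.1.all fun i => sevenFix.contains i)) = true := by
  decide +kernel

theorem norm_valid : ((List.range 7).all fun k => k == 0 || (found.getD k []).all fun l =>
    genOK l && comp l sevenL == comp (powL sevenL k) l) = true := by decide +kernel

theorem norm_counts : normList.Nodup ∧ normList.length = 126 ∧ found1.Nodup ∧
    found1.length = 42 := by decide +kernel

theorem norm_trio : (normList.all fun l => Classes.trioFixed l (trioAt sevenTrio)) = true := by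
  decide +kernel

theorem cent_facts : centA ∈ found1 ∧ centB ∈ found1 ∧
    comp centA centB ≠ comp centB centA := by decide +kernel


end CfsgLib.Golay.Seven
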