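import Cfsg.Agent.Lib.Golay.Leech

/-!
# Counting short vectors of the lattice

For a parity and a code word the vectors are 24-tuples from short lists of values; they are counted by
expanding a product of polynomials, evaluated at a large power of two.
-/

set_option autoImplicit false

namespace CfsgLib.Golay

open Cfsg

/-! ### Digits -/

theorem sum_digits_lt (B : ℕ) : ∀ (K : ℕ) (c : ℕ → ℕ), (∀ j, c j + 2 ≤ B) →
    ∑ j ∈ Finset.range K, c j * B ^ j + 1 ≤ B ^ K := by
  intro K
  induction K with
  | zero => intro c _; simp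
  | succ K ih =>
    intro c hc
    rw [Finset.sum_range_succ, pow_succ']
    have h1 := ih c hc
    have h2 := Nat.mul_le_mul_right (B ^ K) (hc K)
    rw [Nat.add_mul] at h2
    have h3 := Nat.zero_le (B ^ K)
    linarith

theorem digit_sum (B : ℕ) : ∀ (K : ℕ) (c : ℕ → ℕ), (∀ j, c j < B) → ∀ i < K,
    (∑ j ∈ Finset.range K, c j * B ^ j) / B ^ i % B = c i := by
  intro K
  induction K with
  | zero => intro c _ i hi; omega
  | succ K ih =>
    intro c hc i hi
    have hB : 0 < B := (Nat.zero_le _).trans_lt (hc 0)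
    have hS : ∑ j ∈ Finset.range (K + 1), c j * B ^ j =
        c 0 + B * ∑ j ∈ Finset.range K, c (j + 1) * B ^ j := by
      rw [Finset.sum_range_succ', Finset.mul_sum, add_comm]
      refine congrArg₂ _ (by simp) (Finset.sum_congr rfl fun j _ => by ring)
    rw [hS]
    cases i with
    | zero => simp [Nat.add_mul_mod_self_left, Nat.mod_eq_of_lt (hc 0)]
    | succ i =>
      rw [pow_succ', ← Nat.div_div_eq_div_mul, Nat.add_mul_div_left _ _ hB, Nat.div_eq_of_lt (hc 0),
        Nat.zero_add]
      exact ih (fun j => c (j + 1)) (fun j => hc (j + 1)) i (by omega)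

/-- Fibre sizes are digits of the fibre sum reduced modulo `B ^ K - 1`. -/
theorem card_fiber_eq_digit {β : Type*} [DecidableEq β] (F : Finset β) (key : β → ℕ) (B K E : ℕ)
    (hkey : ∀ f ∈ F, key f < K) (hF : F.card + 2 ≤ B)
    (hE : ∑ f ∈ F, B ^ key f ≡ E [MOD B ^ K - 1]) {i : ℕ} (hi : i < K) :
    (F.filter fun f => key f = i).card = E % (B ^ K - 1) / B ^ i % B := by
  classical
  set c : ℕ → ℕ := fun j => (F.filter fun f => key f = j).card
  have hc : ∀ j, c j + 2 ≤ B := fun j =>
    (Nat.add_le_add_right (Finset.card_filter_le _ _) 2).trans hF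
  have hsum : ∑ f ∈ F, B ^ key f = ∑ j ∈ Finset.range K, c j * B ^ j := by
    rw [← Finset.sum_fiberwise_of_maps_to (fun f hf => Finset.mem_range.mpr (hkey f hf))]
    refine Finset.sum_congr rfl fun j _ => ?_
    rw [Finset.sum_congr rfl (g := fun _ => B ^ j) fun f hf => by rw [(Finset.mem_filter.mp hf).2],
      Finset.sum_const, smul_eq_mul]
  have hlt := sum_digits_lt B K c hc
  have hstrict : ∑ j ∈ Finset.range K, c j * B ^ j < B ^ K - 1 := by
    cases K with
    | zero => omega
    | succ K =>
      rw [Finset.sum_range_succ]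
      have h1 := sum_digits_lt B K c hc
      have h2 := Nat.mul_le_mul_right (B ^ K) (hc K)
      rw [Nat.add_mul] at h2
      have h3 : B ^ (K + 1) = B * B ^ K := by rw [pow_succ']
      have h4 : 0 < B ^ K := Nat.pow_pos (by omega)
      omega
  have hmod : E % (B ^ K - 1) = ∑ j ∈ Finset.range K, c j * B ^ j := by
    rw [← hE, hsum, Nat.mod_eq_of_lt hstrict]
  rw [hmod, digit_sum B K c (fun j => by have := hc j; omega) i hi]

theorem pow_modEq_pow {B K : ℕ} (hB : 1 ≤ B ^ K) (a q : ℕ) :
    B ^ (a + K * q) ≡ B ^ a [MOD B ^ K - 1] := by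
  have h1 : B ^ K ≡ 1 [MOD B ^ K - 1] := ((Nat.modEq_iff_dvd' hB).mpr dvd_rfl).symm
  have h2 := (h1.pow q).mul_left (B ^ a)
  rw [one_pow, mul_one] at h2
  rw [pow_add, pow_mul]
  exact h2

/-! ### The polynomials -/

/-- The base of the expansion. -/
def radix : ℕ := 2 ^ 64

theorem one_le_radix : 1 ≤ radix := Nat.one_le_pow _ _ (by norm_num)

/-- Allowed values of half a coordinate, with the given parity. -/
def opts (m : ℤ) (b : Bool) : Finset ℤ :=
  ([-4, -3, -2, -1, 0, 1, 2, 3, 4] : List ℤ).toFinset.filter fun v => v % 2 = (if b then 1 else 0) ∧ (m + 2 * v) ^ 2 ≤ 64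

/-- Reduced squared length of a coordinate. -/
def lenW (m v : ℤ) : ℕ := if m = 0 then (v ^ 2).toNat else ((v ^ 2 + v) / 2).toNat

/-- Contribution of a coordinate to the sum condition. -/
def sumW (v : ℤ) : ℕ := ((v + 8) % 4).toNat

/-- The coordinate polynomial at a power of two. -/
def coordPoly (m : ℤ) (b : Bool) : ℕ := ∑ v ∈ opts m b, radix ^ (lenW m v + 390 * sumW v)

/-- The number of tuples for a parity, a weight and a key. -/
def shapeCount (m : ℤ) (w j : ℕ) : ℕ :=
  coordPoly m true ^ w * coordPoly m false ^ (24 - w) % (radix ^ 1560 - 1) / radix ^ j % radix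

theorem lenW_le : ∀ m ∈ ([0, 1] : List ℤ), ∀ b, ∀ v ∈ opts m b, lenW m v ≤ 16 := by decide +kernel

theorem card_opts_le : ∀ m ∈ ([0, 1] : List ℤ), ∀ b, (opts m b).card ≤ 5 := by decide +kernel

/-- Tuples for a parity and a set of positions. -/
def tuples (m : ℤ) (s : Finset GolayPt) : Finset (GolayPt → ℤ) :=
  Fintype.piFinset fun i => opts m (decide (i ∈ s))

/-- The key of a tuple. -/
def tupleKey (m : ℤ) (y : GolayPt → ℤ) : ℕ :=
  (∑ i, lenW m (y i)) + 390 * ((∑ i, sumW (y i)) % 4)

theorem card_tuples_filter {m : ℤ} (hm : m ∈ ([0, 1] : List ℤ)) (s : Finset GolayPt) {j : ℕ}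
    (hj : j < 1560) :
    ((tuples m s).filter fun y => tupleKey m y = j).card = shapeCount m s.card j := by
  have hA : ∀ y ∈ tuples m s, ∑ i, lenW m (y i) ≤ 384 := fun y hy => by
    refine (Finset.sum_le_sum (g := fun _ => 16) fun i _ => ?_).trans
      (le_of_eq (by rw [Finset.sum_const, Finset.card_univ, card_golayPt]; rfl))
    exact lenW_le m hm _ _ (Fintype.mem_piFinset.mp hy i)
  refine card_fiber_eq_digit _ _ _ _ _ (fun y hy => ?_) ?_ ?_ hj
  · have := hA y hy
    rw [tupleKey]; omega
  · rw [tuples, Fintype.card_piFinset]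
    calc (∏ i, (opts m (decide (i ∈ s))).card) + 2 ≤ (∏ _i : GolayPt, 5) + 2 :=
          Nat.add_le_add_right (Finset.prod_le_prod' fun i _ => card_opts_le m hm _) 2
      _ ≤ radix := by
          rw [Finset.prod_const, Finset.card_univ, card_golayPt, radix]; norm_num
  · have hprod : coordPoly m true ^ s.card * coordPoly m false ^ (24 - s.card) =
        ∏ i, coordPoly m (decide (i ∈ s)) := by
      rw [← Finset.prod_mul_prod_compl s, Finset.prod_congr rfl (g := fun _ => coordPoly m true)
        (fun i hi => by simp [hi]), Finset.prod_const,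
        Finset.prod_congr rfl (g := fun _ => coordPoly m false)
          (fun i hi => by simp [Finset.mem_compl.mp hi]), Finset.prod_const, Finset.card_compl,
        card_golayPt]
    rw [hprod]
    simp only [coordPoly]
    rw [Finset.prod_univ_sum]
    refine Nat.ModEq.sum fun y _ => ?_
    rw [Finset.prod_pow_eq_pow_sum, Finset.sum_add_distrib, ← Finset.mul_sum, tupleKey]
    generalize (∑ i, lenW m (y i)) = A
    generalize (∑ i, sumW (y i)) = S
    have h : A + 390 * S = A + 390 * (S % 4) + 1560 * (S / 4) := by omega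
    rw [h]
    exact (pow_modEq_pow (Nat.one_le_pow _ _ one_le_radix) _ _).symm

/-! ### The vectors -/

theorem int_sq_le_sqNorm (x : GolayPt → ℤ) (i : GolayPt) : x i ^ 2 ≤ sqNorm x :=
  Finset.single_le_sum (f := fun k => x k ^ 2) (fun k _ => sq_nonneg _) (Finset.mem_univ i)

theorem abs_le_eight {a : ℤ} (h : a ^ 2 ≤ 64) : -8 ≤ a ∧ a ≤ 8 := by
  constructor <;> nlinarith

/-- The key of the tuples belonging to a norm and parity: reduced length and the class `2 m`. -/
def normKey (m : ℤ) (N : ℕ) : ℕ := (if m = 0 then N / 4 else (N - 24) / 8) + 390 * (2 * m).toNat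

theorem lenW_cast_zero (v : ℤ) : ((lenW 0 v : ℕ) : ℤ) = v ^ 2 := by
  rw [lenW, if_pos rfl, Int.toNat_of_nonneg (sq_nonneg v)]

theorem two_mul_lenW_cast_one (v : ℤ) : 2 * ((lenW 1 v : ℕ) : ℤ) = v ^ 2 + v := by
  have h0 : 0 ≤ v ^ 2 + v := by
    rcases le_or_gt 0 v with h | h <;> nlinarith
  have h2 : (2 : ℤ) ∣ v ^ 2 + v := by
    have := Int.even_mul_succ_self v
    rw [even_iff_two_dvd] at this
    have e : v ^ 2 + v = v * (v + 1) := by ring
    rw [e]; exact this
  rw [lenW, if_neg (by norm_num), Int.toNat_of_nonneg (by omega)]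
  omega

/-- For `x = m + 2 y` with `y` a tuple, the key decides norm and sum. -/
theorem key_iff {m : ℤ} (hm : m ∈ ([0, 1] : List ℤ)) (s : Finset GolayPt) {y : GolayPt → ℤ}
    (hy : y ∈ tuples m s) {N : ℕ} (hN : N ∈ ([32, 48, 64] : List ℕ)) :
    tupleKey m y = normKey m N ↔
      (sqNorm (fun i => m + 2 * y i) = N ∧ (∑ i, y i - 2 * m) % 4 = 0) := by
  have hA : ∑ i, lenW m (y i) ≤ 384 := by
    refine (Finset.sum_le_sum (g := fun _ => 16) fun i _ => ?_).trans
      (le_of_eq (by rw [Finset.sum_const, Finset.card_univ, card_golayPt]; rfl))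
    exact lenW_le m hm _ _ (Fintype.mem_piFinset.mp hy i)
  have hS : (((∑ i, sumW (y i)) % 4 : ℕ) : ℤ) = (∑ i, y i) % 4 := by
    push_cast
    have : ∀ v : ℤ, ((sumW v : ℕ) : ℤ) = (v + 8) % 4 := fun v => by
      rw [sumW, Int.toNat_of_nonneg (by omega)]
    simp only [this]
    rw [← Finset.sum_int_mod, Finset.sum_add_distrib, Finset.sum_const, Finset.card_univ, card_golayPt]
    simp only [nsmul_eq_mul]
    push_cast
    omega
  have hnorm : sqNorm (fun i => m + 2 * y i) = 24 * m ^ 2 + 4 * ∑ i, (y i ^ 2 + m * y i) := by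
    simp only [sqNorm]
    rw [Finset.sum_congr rfl (g := fun i => m ^ 2 + 4 * (y i ^ 2 + m * y i)) fun i _ => by ring,
      Finset.sum_add_distrib, Finset.sum_const, Finset.card_univ, card_golayPt, ← Finset.mul_sum]
    simp [nsmul_eq_mul]
  rw [tupleKey, normKey]
  simp only [List.mem_cons, List.not_mem_nil, or_false] at hm hN
  rcases hm with rfl | rfl
  · have hL : ((∑ i, lenW 0 (y i) : ℕ) : ℤ) = ∑ i, (y i ^ 2 + 0 * y i) := by
      push_cast
      exact Finset.sum_congr rfl fun i _ => by simp [lenW_cast_zero]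
    rw [hnorm, if_pos rfl, ← hL, show ((2 * 0 : ℤ)).toNat = 0 from rfl]
    generalize (∑ i, lenW 0 (y i)) = A at hA hL
    generalize (∑ i, sumW (y i)) = S at hS
    generalize (∑ i, y i) = T at hS
    omega
  · have hL : 2 * ((∑ i, lenW 1 (y i) : ℕ) : ℤ) = ∑ i, (y i ^ 2 + 1 * y i) := by
      push_cast
      rw [Finset.mul_sum]
      exact Finset.sum_congr rfl fun i _ => by rw [two_mul_lenW_cast_one]; ring
    rw [hnorm, if_neg (by norm_num), ← hL, show ((2 * 1 : ℤ)).toNat = 2 from rfl]
    generalize (∑ i, lenW 1 (y i)) = A at hA hL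
    generalize (∑ i, sumW (y i)) = S at hS
    generalize (∑ i, y i) = T at hS
    omega

/-- Vectors of a given parity, code word and norm. -/
def shapeVecs (m : ℤ) (N : ℕ) (k : ℕ) : Finset (GolayPt → ℤ) :=
  ((tuples m (decS (codeWord k))).filter fun y => tupleKey m y = normKey m N).image
    fun y i => m + 2 * y i

theorem card_shapeVecs {m : ℤ} (hm : m ∈ ([0, 1] : List ℤ)) {N : ℕ} (hN : N ∈ ([32, 48, 64] : List ℕ))
    (k : ℕ) : (shapeVecs m N k).card = shapeCount m (popc (codeWord k)) (normKey m N) := by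
  rw [shapeVecs, Finset.card_image_of_injective _ (fun a b h => funext fun i => by
      have : m + 2 * a i = m + 2 * b i := congrFun h i
      omega), card_tuples_filter hm, card_decS (codeWord_lt k)]
  simp only [List.mem_cons, List.not_mem_nil, or_false] at hm hN
  rcases hm with rfl | rfl <;> rcases hN with rfl | rfl | rfl <;> decide

theorem mem_shapeVecs {m : ℤ} (hm : m ∈ ([0, 1] : List ℤ)) {N : ℕ} (hN : N ∈ ([32, 48, 64] : List ℕ))
    {k : ℕ} {x : GolayPt → ℤ} :
    x ∈ shapeVecs m N k ↔ InLeech x m ∧ twoWord x m = dec (codeWord k) ∧ sqNorm x = N := by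
  have hm' : m = 0 ∨ m = 1 := by simpa using hm
  have hNle : (N : ℤ) ≤ 64 := by
    simp only [List.mem_cons, List.not_mem_nil, or_false] at hN
    omega
  constructor
  · intro hx
    obtain ⟨y, hy, rfl⟩ := Finset.mem_image.mp hx
    rw [Finset.mem_filter] at hy
    obtain ⟨hnorm, hsum⟩ := (key_iff hm _ hy.1 hN).mp hy.2
    have htw : twoWord (fun i => m + 2 * y i) m = dec (codeWord k) := by
      funext i
      have hv := Fintype.mem_piFinset.mp hy.1 i
      simp only [opts, Finset.mem_filter] at hv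
      have e : (m + 2 * y i - m) / 2 = y i := by omega
      simp only [twoWord, dec, e]
      cases hb : (codeWord k).testBit (idx i).val
      · have : y i % 2 = 0 := by simpa [mem_decS, hb] using hv.2.1
        rw [if_neg (by simp), ZMod.intCast_zmod_eq_zero_iff_dvd]
        push_cast; omega
      · have : y i % 2 = 1 := by simpa [mem_decS, hb] using hv.2.1
        rw [if_pos rfl, show (1 : ZMod 2) = ((1 : ℤ) : ZMod 2) by norm_num,
          ZMod.intCast_eq_intCast_iff_dvd_sub]
        push_cast; omega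
    refine ⟨⟨fun i => ?_, ?_, htw ▸ dec_codeWord_mem k⟩, htw, hnorm⟩
    · show m + 2 * y i ≡ m [ZMOD 2]
      rw [Int.modEq_iff_dvd]; omega
    · rw [Int.modEq_iff_dvd, Finset.sum_add_distrib, Finset.sum_const, Finset.card_univ, card_golayPt,
        ← Finset.mul_sum]
      simp only [nsmul_eq_mul]
      push_cast
      omega
  · rintro ⟨hx, hw, hnorm⟩
    have e : x = fun i => m + 2 * ((x i - m) / 2) := funext fun i => by
      have := (hx.1 i).symm.dvd; omega
    have hy : (fun i => (x i - m) / 2) ∈ tuples m (decS (codeWord k)) := by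
      rw [tuples, Fintype.mem_piFinset]
      intro i
      have h8 := abs_le_eight (((int_sq_le_sqNorm x i).trans hnorm.le).trans hNle)
      have hi := (hx.1 i).symm.dvd
      simp only [opts, Finset.mem_filter, List.mem_toFinset, List.mem_cons, List.not_mem_nil, or_false]
      refine ⟨by omega, ?_, ?_⟩
      · have := congrFun hw i
        simp only [twoWord, dec] at this
        cases hb : (codeWord k).testBit (idx i).val
        · rw [hb, if_neg (by simp), ZMod.intCast_zmod_eq_zero_iff_dvd] at this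
          push_cast at this
          simp [mem_decS, hb]; omega
        · rw [hb, if_pos rfl, show (1 : ZMod 2) = ((1 : ℤ) : ZMod 2) by norm_num,
            ZMod.intCast_eq_intCast_iff_dvd_sub] at this
          push_cast at this
          simp [mem_decS, hb]; omega
      · rw [show m + 2 * ((x i - m) / 2) = x i by omega]
        exact ((int_sq_le_sqNorm x i).trans hnorm.le).trans hNle
    refine Finset.mem_image.mpr ⟨_, Finset.mem_filter.mpr ⟨hy, (key_iff hm _ hy hN).mpr ⟨?_, ?_⟩⟩, e.symm⟩
    · rw [← e]; exact hnorm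
    · exact sum_twoPart hx

theorem ncard_norm_eq {N : ℕ} (hN : N ∈ ([32, 48, 64] : List ℕ)) :
    {x : GolayPt → ℤ | x ∈ leechLattice ∧ sqNorm x = N}.ncard =
      ∑ m ∈ ({0, 1} : Finset ℤ), ∑ k ∈ Finset.range 4096, shapeCount m (popc (codeWord k)) (normKey m N) := by
  classical
  have hset : {x : GolayPt → ℤ | x ∈ leechLattice ∧ sqNorm x = N} =
      ↑((({0, 1} : Finset ℤ) ×ˢ Finset.range 4096).biUnion fun p => shapeVecs p.1 N p.2) := by
    ext x
    simp only [Set.mem_ofPred_eq, Finset.coe_biUnion, Set.mem_iUnion, Finset.mem_coe,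
      Finset.mem_product, Finset.mem_insert, Finset.mem_singleton, Finset.mem_range, exists_prop]
    constructor
    · rintro ⟨hx, hn⟩
      have hex : ∃ m, (m = 0 ∨ m = 1) ∧ InLeech x m := by
        rcases mem_leechLattice'.mp hx with h | h
        exacts [⟨0, Or.inl rfl, h⟩, ⟨1, Or.inr rfl, h⟩]
      obtain ⟨m, hm, h⟩ := hex
      obtain ⟨k, hk, hkw⟩ := exists_codeWord (mem_golayCode.mp h.2.2)
      exact ⟨(m, k), ⟨hm, hk⟩, (mem_shapeVecs (by simpa using hm) hN).mpr
        ⟨h, by rw [hkw, dec_enc], hn⟩⟩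
    · rintro ⟨⟨m, k⟩, ⟨hm, -⟩, hx⟩
      obtain ⟨h1, -, h3⟩ := (mem_shapeVecs (by simpa using hm) hN).mp hx
      exact ⟨mem_leechLattice.mpr ⟨m, h1⟩, h3⟩
  have hdisj : ((({0, 1} : Finset ℤ) ×ˢ Finset.range 4096 : Finset (ℤ × ℕ)) :
      Set (ℤ × ℕ)).PairwiseDisjoint fun p => shapeVecs p.1 N p.2 := by
    rintro ⟨m, k⟩ hp ⟨m', k'⟩ hp' hne
    simp only [Finset.mem_coe, Finset.mem_product, Finset.mem_insert, Finset.mem_singleton,
      Finset.mem_range] at hp hp'
    rw [Function.onFun, Finset.disjoint_left]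
    intro x hx hx'
    obtain ⟨h1, h2, -⟩ := (mem_shapeVecs (by simpa using hp.1) hN).mp hx
    obtain ⟨h1', h2', -⟩ := (mem_shapeVecs (by simpa using hp'.1) hN).mp hx'
    have hmm : m = m' := by
      have e1 := (h1.1 none).symm.dvd
      have e2 := (h1'.1 none).symm.dvd
      rcases hp.1 with rfl | rfl <;> rcases hp'.1 with rfl | rfl <;> omega
    subst hmm
    refine hne (Prod.ext rfl (codeWord_injOn hp.2 hp'.2 ?_))
    have := congrArg enc (h2.symm.trans h2')
    rwa [enc_dec (codeWord_lt k), enc_dec (codeWord_lt k')] at this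
  rw [hset, Set.ncard_coe_finset, Finset.card_biUnion hdisj, Finset.sum_product]
  refine Finset.sum_congr rfl fun m hm => Finset.sum_congr rfl fun k _ => ?_
  exact card_shapeVecs (by simpa using hm) hN k

theorem card_weight_fibres :
    ((Finset.range 4096).filter fun k => popc (codeWord k) = 0).card = 1 ∧
    ((Finset.range 4096).filter fun k => popc (codeWord k) = 16).card = 759 ∧
    ((Finset.range 4096).filter fun k => popc (codeWord k) = 24).card = 1 := by
  decide +kernel

theorem sum_by_weight (f : ℕ → ℕ) : ∑ k ∈ Finset.range 4096, f (popc (codeWord k)) =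
    f 0 + 759 * f 8 + 2576 * f 12 + 759 * f 16 + f 24 := by
  rw [← Finset.sum_fiberwise_of_maps_to (g := fun k => popc (codeWord k)) (t := {0, 8, 12, 16, 24})]
  · have h8 := ncard_octads
    have h12 := ncard_dodecads
    rw [octads, ncard_wordsOfWeight] at h8
    rw [dodecads, ncard_wordsOfWeight] at h12
    obtain ⟨h0, h16, h24⟩ := card_weight_fibres
    rw [Finset.sum_insert (by decide), Finset.sum_insert (by decide), Finset.sum_insert (by decide),
      Finset.sum_insert (by decide), Finset.sum_singleton]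
    have hc : ∀ w, ∑ k ∈ (Finset.range 4096).filter (fun k => popc (codeWord k) = w),
        f (popc (codeWord k)) = ((Finset.range 4096).filter fun k => popc (codeWord k) = w).card * f w := by
      intro w
      rw [Finset.sum_congr rfl (g := fun _ => f w) (fun k hk => by rw [(Finset.mem_filter.mp hk).2]),
        Finset.sum_const, smul_eq_mul]
    rw [hc 0, hc 8, hc 12, hc 16, hc 24, h0, h8, h12, h16, h24]
    ring
  · intro k hk
    have := popc_codeWord k (Finset.mem_range.mp hk)
    simpa using this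

theorem ncard_norm {N : ℕ} (hN : N ∈ ([32, 48, 64] : List ℕ)) :
    {x : GolayPt → ℤ | x ∈ leechLattice ∧ sqNorm x = N}.ncard =
      ([(0 : ℤ), 1].map fun m => shapeCount m 0 (normKey m N) + 759 * shapeCount m 8 (normKey m N) +
        2576 * shapeCount m 12 (normKey m N) + 759 * shapeCount m 16 (normKey m N) +
        shapeCount m 24 (normKey m N)).sum := by
  rw [ncard_norm_eq hN, Finset.sum_pair (by norm_num), sum_by_weight (fun w => shapeCount 0 w (normKey 0 N)),
    sum_by_weight (fun w => shapeCount 1 w (normKey 1 N))]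
  rw [List.map_cons, List.map_cons, List.map_nil, List.sum_cons, List.sum_cons, List.sum_nil,
    Nat.add_zero]

theorem ncard_norm_32 : {x : GolayPt → ℤ | x ∈ leechLattice ∧ sqNorm x = 32}.ncard = 196560 := by
  refine Eq.trans (ncard_norm (N := 32) (by simp)) ?_
  decide +kernel

theorem ncard_norm_48 : {x : GolayPt → ℤ | x ∈ leechLattice ∧ sqNorm x = 48}.ncard = 16773120 := by
  refine Eq.trans (ncard_norm (N := 48) (by simp)) ?_
  decide +kernel

theorem ncard_norm_64 : {x : GolayPt → ℤ | x ∈ leechLattice ∧ sqNorm x = 64}.ncard = 398034000 := by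
  refine Eq.trans (ncard_norm (N := 64) (by simp)) ?_
  decide +kernel

end CfsgLib.Golay
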