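import Cfsg.Prelude.Def_SporadicCombinatorics
import Cfsg.Agent.Lib.Golay.LeechCount

/-!
# The lattice is unimodular; congruence classes modulo twice the lattice
-/

set_option autoImplicit false

namespace CfsgLib.Golay

open Cfsg

/-! ### Inner products -/

theorem dot_symm (x y : GolayPt → ℤ) : dotInt x y = dotInt y x := by
  simp only [dotInt, mul_comm]

theorem dot_add_right (x y z : GolayPt → ℤ) : dotInt x (y + z) = dotInt x y + dotInt x z := by
  simp only [dotInt, Pi.add_apply, mul_add, Finset.sum_add_distrib]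

theorem dot_add_left (x y z : GolayPt → ℤ) : dotInt (x + y) z = dotInt x z + dotInt y z := by
  simp only [dotInt, Pi.add_apply, add_mul, Finset.sum_add_distrib]

theorem dot_sub_right (x y z : GolayPt → ℤ) : dotInt x (y - z) = dotInt x y - dotInt x z := by
  simp only [dotInt, Pi.sub_apply, mul_sub, Finset.sum_sub_distrib]

theorem dot_sub_left (x y z : GolayPt → ℤ) : dotInt (x - y) z = dotInt x z - dotInt y z := by
  simp only [dotInt, Pi.sub_apply, sub_mul, Finset.sum_sub_distrib]

theorem dot_smul_right (a : ℤ) (x y : GolayPt → ℤ) : dotInt x (a • y) = a * dotInt x y := by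
  simp only [dotInt, Pi.smul_apply, smul_eq_mul, Finset.mul_sum, mul_left_comm]

theorem dot_smul_left (a : ℤ) (x y : GolayPt → ℤ) : dotInt (a • x) y = a * dotInt x y := by
  rw [dot_symm, dot_smul_right, dot_symm]

theorem dot_neg_right (x y : GolayPt → ℤ) : dotInt x (-y) = -dotInt x y := by
  simp only [dotInt, Pi.neg_apply, mul_neg, Finset.sum_neg_distrib]

theorem dot_sum_right {ι : Type*} (s : Finset ι) (x : GolayPt → ℤ) (f : ι → GolayPt → ℤ) :
    dotInt x (∑ k ∈ s, f k) = ∑ k ∈ s, dotInt x (f k) := by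
  simp only [dotInt, Finset.sum_apply, Finset.mul_sum]
  exact Finset.sum_comm

theorem dot_self (x : GolayPt → ℤ) : dotInt x x = sqNorm x := by
  simp only [dotInt, sqNorm, sq]

theorem sqNorm_add_eq (x y : GolayPt → ℤ) : sqNorm (x + y) = sqNorm x + sqNorm y + 2 * dotInt x y := by
  rw [← dot_self, ← dot_self, ← dot_self, dot_add_left, dot_add_right, dot_add_right, dot_symm y x]
  ring

theorem sqNorm_sub_eq (x y : GolayPt → ℤ) : sqNorm (x - y) = sqNorm x + sqNorm y - 2 * dotInt x y := by
  rw [← dot_self, ← dot_self, ← dot_self, dot_sub_left, dot_sub_right, dot_sub_right, dot_symm y x]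
  ring

theorem sqNorm_smul (a : ℤ) (x : GolayPt → ℤ) : sqNorm (a • x) = a ^ 2 * sqNorm x := by
  rw [← dot_self, ← dot_self, dot_smul_left, dot_smul_right]; ring

theorem sqNorm_neg (x : GolayPt → ℤ) : sqNorm (-x) = sqNorm x := by
  simp [sqNorm]

theorem sqNorm_nonneg (x : GolayPt → ℤ) : 0 ≤ sqNorm x := Finset.sum_nonneg fun _ _ => sq_nonneg _

theorem sqNorm_eq_zero {x : GolayPt → ℤ} : sqNorm x = 0 ↔ x = 0 := by
  constructor
  · intro h
    funext i
    have := (Finset.sum_eq_zero_iff_of_nonneg fun i _ => sq_nonneg (x i)).mp h i (Finset.mem_univ i)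
    simpa using this
  · rintro rfl; simp [sqNorm]

theorem sqNorm_pos {x : GolayPt → ℤ} (h : x ≠ 0) : 0 < sqNorm x :=
  lt_of_le_of_ne (sqNorm_nonneg x) fun e => h (sqNorm_eq_zero.mp e.symm)

theorem dot_single_right (x : GolayPt → ℤ) (i : GolayPt) (a : ℤ) :
    dotInt x (Pi.single i a) = x i * a := by
  rw [dotInt, Finset.sum_eq_single i (fun j _ hj => by simp [Pi.single_eq_of_ne hj]) (by simp)]
  simp

theorem eight_dvd_dot {x y : GolayPt → ℤ} (hx : x ∈ leechLattice) (hy : y ∈ leechLattice) :
    (8 : ℤ) ∣ dotInt x y := by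
  have h1 := sixteen_dvd_sqNorm (add_mem hx hy)
  have h2 := sixteen_dvd_sqNorm hx
  have h3 := sixteen_dvd_sqNorm hy
  rw [sqNorm_add_eq] at h1
  omega

/-! ### Special members -/

theorem mem_leechLattice_of_four_dvd {x : GolayPt → ℤ} (h4 : ∀ i, (4 : ℤ) ∣ x i)
    (h8 : (8 : ℤ) ∣ ∑ i, x i) : x ∈ leechLattice := by
  refine mem_leechLattice.mpr ⟨0, fun i => ?_, ?_, ?_⟩
  · rw [Int.modEq_iff_dvd]; have := h4 i; omega
  · rw [Int.modEq_iff_dvd]; omega
  · have : twoWord x 0 = 0 := by
      funext i
      simp only [twoWord, Pi.zero_apply, ZMod.intCast_zmod_eq_zero_iff_dvd]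
      have := h4 i
      push_cast; omega
    rw [this]; exact zero_mem _

/-- Twice the indicator of a set. -/
def twoInd (s : Finset GolayPt) : GolayPt → ℤ := fun i => if i ∈ s then 2 else 0

theorem sum_twoInd (s : Finset GolayPt) : ∑ i, twoInd s i = 2 * (s.card : ℤ) := by
  simp [twoInd, mul_comm]

theorem twoWord_twoInd (s : Finset GolayPt) : twoWord (twoInd s) 0 = dec (encS s) := by
  funext i
  simp only [twoWord, twoInd, dec, testBit_encS]
  by_cases h : i ∈ s <;> simp [h]

theorem twoInd_mem {s : Finset GolayPt} (hs : isCode (encS s) = true) : twoInd s ∈ leechLattice := by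
  refine mem_leechLattice.mpr ⟨0, fun i => ?_, ?_, ?_⟩
  · rw [Int.modEq_iff_dvd, twoInd]; split <;> omega
  · rw [sum_twoInd, Int.modEq_iff_dvd]
    have := four_dvd_card_support (mem_supports.mpr hs)
    omega
  · rw [twoWord_twoInd]; exact dec_mem_of_isCode hs

theorem dot_twoInd (x : GolayPt → ℤ) (s : Finset GolayPt) :
    dotInt x (twoInd s) = 2 * ∑ i ∈ s, x i := by
  simp only [dotInt, twoInd, mul_ite, mul_zero, Finset.sum_ite_mem, Finset.univ_inter]
  rw [Finset.mul_sum]
  exact Finset.sum_congr rfl fun i _ => mul_comm _ _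

/-- The vector (-3, 1^23). -/
def oddVec : GolayPt → ℤ := fun p => if p = none then -3 else 1

theorem oddVec_mem : oddVec ∈ leechLattice := by
  refine mem_leechLattice.mpr ⟨1, ?_, by decide +kernel, mem_golayCode.mpr (by decide +kernel)⟩
  intro i; revert i; decide +kernel

theorem dot_oddVec (x : GolayPt → ℤ) : dotInt x oddVec = ∑ i, x i - 4 * x none := by
  have h : ∀ i, x i * oddVec i = x i - (if i = none then 4 * x i else 0) := by
    intro i; unfold oddVec; split <;> ring
  simp only [dotInt, h, Finset.sum_sub_distrib, Finset.sum_ite_eq', Finset.mem_univ, if_true]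

/-! ### The code is its own dual -/

theorem sum_mul_eq_popc (v w : GolayPt → ZMod 2) :
    ∑ i, v i * w i = ((popc (Nat.land (enc v) (enc w)) : ℕ) : ZMod 2) := by
  rw [sum_mul_eq_card, ← popc_encS, encS_inter, ← enc_eq_encS, ← enc_eq_encS]
  rfl

theorem dual_check : ((List.range 4096).all fun h => Nat.beq h 0 ||
    gens.any fun g => Nat.beq (Nat.mod (popc (Nat.land (Nat.mul h 4096) g)) 2) 1) = true := by
  decide +kernel

theorem mem_golayCode_of_orth {w : GolayPt → ZMod 2}
    (h : ∀ g ∈ gens, ∑ i, w i * dec g i = 0) : w ∈ golayCode := by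
  set n := enc w with hn
  set c := codeWord (n &&& 4095) with hc
  have hclt : c < 2 ^ 24 := codeWord_lt _
  set d := n ^^^ c with hd
  have hdlt : d < 2 ^ 24 := Nat.xor_lt_two_pow (enc_lt w) hclt
  have hlow : d &&& 4095 = 0 := by
    rw [hd, Nat.and_xor_distrib_right, hc,
      codeWord_and _ (Nat.lt_succ_of_le Nat.and_le_right), Nat.xor_self]
  have hmod : d % 4096 = 0 := by
    rw [show (4096 : ℕ) = 2 ^ 12 by rfl, ← Nat.and_two_pow_sub_one_eq_mod]
    exact hlow
  have hd4096 : d = d / 4096 * 4096 := by omega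
  have horth : ∀ g ∈ gens, popc (Nat.land d g) % 2 = 0 := by
    intro g hg
    have hglt : g < 2 ^ 24 := by revert g; decide +kernel
    have h1 : ∑ i, dec d i * dec g i = 0 := by
      rw [hd, dec_xor, hn, dec_enc]
      simp only [Pi.add_apply, add_mul, Finset.sum_add_distrib, h g hg, zero_add]
      exact self_orthogonal (dec_codeWord_mem _) (dec_mem_of_isCode (isCode_gens g hg))
    rw [sum_mul_eq_popc, enc_dec hdlt, enc_dec hglt, ZMod.natCast_eq_zero_iff] at h1
    exact Nat.dvd_iff_mod_eq_zero.mp h1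
  rw [mem_golayCode, isCode_iff, ← hn, ← hc]
  have hz : d / 4096 = 0 := by
    have hlt : d / 4096 < 4096 := by omega
    have hb := List.all_eq_true.mp dual_check (d / 4096) (List.mem_range.mpr hlt)
    rw [Bool.or_eq_true] at hb
    rcases hb with hb | hb
    · exact Nat.eq_of_beq_eq_true hb
    · obtain ⟨g, hg, hg'⟩ := List.any_eq_true.mp hb
      have h1 : popc (Nat.land (d / 4096 * 4096) g) % 2 = 1 := Nat.eq_of_beq_eq_true hg'
      rw [← hd4096, horth g hg] at h1
      omega
  have h0 : n ^^^ c = 0 := by rw [← hd]; omega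
  calc c = (n ^^^ c) ^^^ c := by rw [h0, Nat.zero_xor]
    _ = n := by rw [Nat.xor_assoc, Nat.xor_self, Nat.xor_zero]

/-- The lattice is its own dual, at scale 1/8. -/
theorem mem_leechLattice_of_dual {z : GolayPt → ℤ}
    (h : ∀ x ∈ leechLattice, (8 : ℤ) ∣ dotInt z x) : z ∈ leechLattice := by
  set m := z none with hm
  have hpar : ∀ i, z i ≡ m [ZMOD 2] := by
    intro i
    have hmem : (Pi.single i 4 + Pi.single none 4 : GolayPt → ℤ) ∈ leechLattice := by
      refine mem_leechLattice_of_four_dvd (fun j => ?_) ?_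
      · simp only [Pi.add_apply, Pi.single_apply]; split_ifs <;> norm_num
      · simp [Finset.sum_add_distrib]
    have := h _ hmem
    rw [dot_add_right, dot_single_right, dot_single_right] at this
    rw [Int.modEq_iff_dvd]
    omega
  refine mem_leechLattice.mpr ⟨m, hpar, ?_, mem_golayCode_of_orth fun g hg => ?_⟩
  · have := h _ oddVec_mem
    rw [dot_oddVec] at this
    rw [Int.modEq_iff_dvd]
    omega
  · have hglt : g < 2 ^ 24 := by revert g; decide +kernel
    have hgc : isCode (encS (decS g)) = true := by rw [encS_decS hglt]; exact isCode_gens g hg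
    have h1 := h _ (twoInd_mem hgc)
    rw [dot_twoInd] at h1
    have hcard : (decS g).card = 8 := by
      have h8 : ∀ g ∈ gens, popc g = 8 := by decide +kernel
      rw [card_decS hglt, h8 g hg]
    have e : ∀ i, z i = m + 2 * ((z i - m) / 2) := fun i => by
      have := (hpar i).symm.dvd; omega
    rw [Finset.sum_congr rfl fun i _ => e i, Finset.sum_add_distrib, Finset.sum_const, hcard,
      ← Finset.mul_sum] at h1
    simp only [nsmul_eq_mul, Nat.cast_ofNat] at h1
    have h2 : ∑ i, twoWord z m i * dec g i = ((∑ i ∈ decS g, (z i - m) / 2 : ℤ) : ZMod 2) := by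
      have h3 : ∀ i, twoWord z m i * dec g i = if i ∈ decS g then twoWord z m i else 0 := fun i => by
        simp only [dec, mem_decS, mul_ite, mul_one, mul_zero]
      rw [Finset.sum_congr rfl fun i _ => h3 i, Finset.sum_ite_mem, Finset.univ_inter, Int.cast_sum]
      rfl
    rw [h2, ZMod.intCast_zmod_eq_zero_iff_dvd]
    push_cast; omega

/-! ### Congruence modulo twice the lattice -/

/-- Congruence modulo twice the lattice. -/
def CongTwo (x y : GolayPt → ℤ) : Prop := ∃ z ∈ leechLattice, x - y = 2 • z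

theorem CongTwo.refl (x : GolayPt → ℤ) : CongTwo x x := ⟨0, zero_mem _, by simp⟩

theorem CongTwo.symm {x y : GolayPt → ℤ} (h : CongTwo x y) : CongTwo y x := by
  obtain ⟨z, hz, e⟩ := h
  exact ⟨-z, neg_mem hz, by rw [smul_neg, ← e, neg_sub]⟩

theorem CongTwo.trans {x y w : GolayPt → ℤ} (h : CongTwo x y) (h' : CongTwo y w) : CongTwo x w := by
  obtain ⟨z, hz, e⟩ := h
  obtain ⟨z', hz', e'⟩ := h'
  exact ⟨z + z', add_mem hz hz', by rw [smul_add, ← e, ← e', sub_add_sub_cancel]⟩

theorem congTwo_neg {x : GolayPt → ℤ} (hx : x ∈ leechLattice) : CongTwo x (-x) :=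
  ⟨x, hx, by rw [sub_neg_eq_add, two_nsmul]⟩

/-- Congruent vectors of norm at most 64 are equal, opposite, or of norm 64 and orthogonal. -/
theorem short_congTwo {x y : GolayPt → ℤ} (hy : y ∈ leechLattice)
    (hxn : sqNorm x ≤ 64) (hyn : sqNorm y ≤ 64) (hc : CongTwo x y) :
    x = y ∨ x = -y ∨ (sqNorm x = 64 ∧ sqNorm y = 64 ∧ dotInt x y = 0) := by
  obtain ⟨z, hz, e⟩ := hc
  rcases eq_or_ne z 0 with rfl | hz0
  · left; rwa [smul_zero, sub_eq_zero] at e
  rcases eq_or_ne (z + y) 0 with hz1 | hz1
  · right; left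
    have h1 : z = -y := eq_neg_of_add_eq_zero_left hz1
    rw [h1, sub_eq_iff_eq_add] at e
    rw [e]; module
  right; right
  have e1 : x - y = (2 : ℤ) • z := by rw [e]; module
  have e2 : x + y = (2 : ℤ) • (z + y) := by rw [smul_add, ← e1]; module
  have h1 := thirtytwo_le_sqNorm hz hz0
  have h2 := thirtytwo_le_sqNorm (add_mem hz hy) hz1
  have n1 := sqNorm_sub_eq x y
  have n2 := sqNorm_add_eq x y
  rw [e1, sqNorm_smul] at n1
  rw [e2, sqNorm_smul] at n2
  norm_num at n1 n2
  omega

/-- Pairwise orthogonal nonzero vectors: at most 24. -/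
theorem card_le_of_pairwise_orth (T : Finset (GolayPt → ℤ)) (hne : ∀ t ∈ T, t ≠ 0)
    (ho : ∀ t ∈ T, ∀ u ∈ T, t ≠ u → dotInt t u = 0) : T.card ≤ 24 := by
  have hli : LinearIndependent ℤ (fun t : T => (t : GolayPt → ℤ)) := by
    rw [Fintype.linearIndependent_iff]
    intro c hc t
    have h := congrArg (dotInt (t : GolayPt → ℤ)) hc
    rw [dot_sum_right, Finset.sum_eq_single t (fun u _ hu => by
        rw [dot_smul_right, ho t t.2 u u.2 (fun e => hu (Subtype.ext e).symm), mul_zero]) (by simp),
      dot_smul_right, dot_self] at h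
    have h0 : dotInt (t : GolayPt → ℤ) 0 = 0 := by simp [dotInt]
    rw [h0] at h
    exact (mul_eq_zero.mp h).resolve_right (sqNorm_pos (hne t t.2)).ne'
  have := hli.fintype_card_le_finrank
  rwa [Module.finrank_pi, card_golayPt, Fintype.card_coe] at this

/-- A set of vectors, any two of which are equal, opposite or orthogonal, has a choice of signs: at most
24 orthogonal representatives. -/
theorem exists_orth_reps (S : Finset (GolayPt → ℤ)) (hne : ∀ s ∈ S, s ≠ 0)
    (h : ∀ s ∈ S, ∀ t ∈ S, s = t ∨ s = -t ∨ dotInt s t = 0) :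
    ∃ T ⊆ S, (∀ t ∈ T, ∀ u ∈ T, t ≠ u → dotInt t u = 0) ∧ T.card ≤ 24 ∧
      (∀ s ∈ S, s ∈ T ∨ -s ∈ T) ∧ S.card ≤ 2 * T.card := by
  classical
  obtain ⟨T, hT, hmax⟩ := Finset.exists_max_image
    (S.powerset.filter fun T => ∀ t ∈ T, ∀ u ∈ T, t ≠ u → dotInt t u = 0) Finset.card
    ⟨∅, by simp⟩
  rw [Finset.mem_filter, Finset.mem_powerset] at hT
  obtain ⟨hTS, hTo⟩ := hT
  have hcov : ∀ s ∈ S, s ∈ T ∨ -s ∈ T := by
    intro s hs
    by_contra hno
    push Not at hno
    obtain ⟨h1, h2⟩ := hno
    have ho : ∀ t ∈ T, dotInt s t = 0 := by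
      intro t ht
      rcases h s hs t (hTS ht) with rfl | rfl | h3
      · exact absurd ht h1
      · exact absurd (by rwa [neg_neg]) h2
      · exact h3
    have hins := hmax (insert s T) (Finset.mem_filter.mpr
      ⟨Finset.mem_powerset.mpr (Finset.insert_subset hs hTS), fun t ht u hu htu => ?_⟩)
    · rw [Finset.card_insert_of_notMem h1] at hins
      omega
    · rw [Finset.mem_insert] at ht hu
      rcases ht with rfl | ht <;> rcases hu with rfl | hu
      · exact absurd rfl htu
      · exact ho u hu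
      · rw [dot_symm]; exact ho t ht
      · exact hTo t ht u hu htu
  refine ⟨T, hTS, hTo, card_le_of_pairwise_orth T (fun t ht => hne t (hTS ht)) hTo, hcov, ?_⟩
  refine (Finset.card_le_card (t := T ∪ T.image (fun t => -t)) fun s hs => ?_).trans
    ((Finset.card_union_le _ _).trans (by have := Finset.card_image_le (s := T) (f := fun t => -t); omega))
  rcases hcov s hs with h1 | h1
  · exact Finset.mem_union_left _ h1
  · exact Finset.mem_union_right _ (Finset.mem_image.mpr ⟨-s, h1, neg_neg s⟩)

/-! ### The quotient -/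

/-- Twice the lattice. -/
def twoLattice : AddSubgroup (GolayPt → ℤ) := leechLattice.map (nsmulAddMonoidHom 2)

theorem mem_twoLattice_iff {x : GolayPt → ℤ} : x ∈ twoLattice ↔ ∃ z ∈ leechLattice, x = 2 • z := by
  simp [twoLattice, AddSubgroup.mem_map, eq_comm]

/-- The lattice modulo twice itself. -/
abbrev ModTwo : Type := leechLattice ⧸ twoLattice.addSubgroupOf leechLattice

theorem twoLattice_le : twoLattice ≤ leechLattice := by
  intro x hx
  obtain ⟨z, hz, rfl⟩ := mem_twoLattice_iff.mp hx
  exact nsmul_mem hz 2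

theorem natCard_modTwo : Nat.card ModTwo = 2 ^ 24 := by
  have hinj : Function.Injective (nsmulAddMonoidHom 2 : (GolayPt → ℤ) →+ (GolayPt → ℤ)) := by
    intro a b hab
    funext i
    have := congrFun hab i
    simp only [nsmulAddMonoidHom_apply, Pi.smul_apply, nsmul_eq_mul, Nat.cast_ofNat] at this
    omega
  have hrange : (nsmulAddMonoidHom 2 : (GolayPt → ℤ) →+ (GolayPt → ℤ)).range = evenVectors := by
    ext x
    constructor
    · rintro ⟨z, rfl⟩ i; exact ⟨z i, by simp [two_mul]⟩
    · intro h
      refine ⟨fun i => x i / 2, funext fun i => ?_⟩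
      have := h i
      simp only [nsmulAddMonoidHom_apply, Pi.smul_apply, nsmul_eq_mul, Nat.cast_ofNat]
      omega
  have h1 : twoLattice.index = 2 ^ 60 := by
    rw [twoLattice, AddSubgroup.index_map_of_injective _ hinj, hrange, index_evenVectors,
      index_leechLattice]
    norm_num
  have h2 := AddSubgroup.relIndex_mul_index twoLattice_le
  rw [h1, index_leechLattice] at h2
  show twoLattice.relIndex leechLattice = 2 ^ 24
  refine Nat.eq_of_mul_eq_mul_right (Nat.two_pow_pos 36) ?_
  rw [h2, ← pow_add]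

/-- The class of a vector (the class of zero outside the lattice). -/
noncomputable def classOf (x : GolayPt → ℤ) : ModTwo := by
  classical exact if h : x ∈ leechLattice then QuotientAddGroup.mk ⟨x, h⟩ else 0

theorem classOf_eq_iff {x y : GolayPt → ℤ} (hx : x ∈ leechLattice) (hy : y ∈ leechLattice) :
    classOf x = classOf y ↔ CongTwo x y := by
  rw [classOf, classOf, dif_pos hx, dif_pos hy, eq_comm, QuotientAddGroup.eq, AddSubgroup.mem_addSubgroupOf,
    mem_twoLattice_iff]
  simp only [CongTwo, neg_add_eq_sub, AddSubgroup.coe_sub]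

/-- The vectors of one squared length, as a finset. -/
noncomputable def normSet (N : ℤ) (h : {x : GolayPt → ℤ | x ∈ leechLattice ∧ sqNorm x = N}.Finite) :
    Finset (GolayPt → ℤ) := h.toFinset

theorem normSet_finite {N : ℕ} (hN : N ∈ ([32, 48, 64] : List ℕ)) :
    {x : GolayPt → ℤ | x ∈ leechLattice ∧ sqNorm x = (N : ℤ)}.Finite := by
  refine Set.finite_of_ncard_ne_zero ?_
  simp only [List.mem_cons, List.not_mem_nil, or_false] at hN
  rcases hN with rfl | rfl | rfl
  · rw [Nat.cast_ofNat, ncard_norm_32]; norm_num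
  · rw [Nat.cast_ofNat, ncard_norm_48]; norm_num
  · rw [Nat.cast_ofNat, ncard_norm_64]; norm_num

/-- Vectors of norm 32, 48, 64. -/
noncomputable def norm32 : Finset (GolayPt → ℤ) := (normSet_finite (N := 32) (by simp)).toFinset

/-- Vectors of norm 48. -/
noncomputable def norm48 : Finset (GolayPt → ℤ) := (normSet_finite (N := 48) (by simp)).toFinset

/-- Vectors of norm 64. -/
noncomputable def norm64 : Finset (GolayPt → ℤ) := (normSet_finite (N := 64) (by simp)).toFinset

theorem mem_norm32 {x : GolayPt → ℤ} : x ∈ norm32 ↔ x ∈ leechLattice ∧ sqNorm x = 32 := by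
  simp [norm32]

theorem mem_norm48 {x : GolayPt → ℤ} : x ∈ norm48 ↔ x ∈ leechLattice ∧ sqNorm x = 48 := by
  simp [norm48]

theorem mem_norm64 {x : GolayPt → ℤ} : x ∈ norm64 ↔ x ∈ leechLattice ∧ sqNorm x = 64 := by
  simp [norm64]

theorem card_norm32 : norm32.card = 196560 := by
  rw [norm32, ← Set.ncard_eq_toFinset_card _ (normSet_finite (N := 32) (by simp))]; exact ncard_norm_32

theorem card_norm48 : norm48.card = 16773120 := by
  rw [norm48, ← Set.ncard_eq_toFinset_card _ (normSet_finite (N := 48) (by simp))]; exact ncard_norm_48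

theorem card_norm64 : norm64.card = 398034000 := by
  rw [norm64, ← Set.ncard_eq_toFinset_card _ (normSet_finite (N := 64) (by simp))]; exact ncard_norm_64

/-- The fibre of a class among the vectors of norm 64. -/
noncomputable def fibre64 (q : ModTwo) : Finset (GolayPt → ℤ) := by
  classical exact norm64.filter fun x => classOf x = q

theorem mem_fibre64 {q : ModTwo} {x : GolayPt → ℤ} : x ∈ fibre64 q ↔ x ∈ norm64 ∧ classOf x = q := by
  classical simp [fibre64]

theorem fibre64_pairwise (q : ModTwo) : ∀ s ∈ fibre64 q, ∀ t ∈ fibre64 q, s = t ∨ s = -t ∨ dotInt s t = 0 := by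
  intro s hs t ht
  rw [mem_fibre64, mem_norm64] at hs ht
  rcases short_congTwo ht.1.1 hs.1.2.le ht.1.2.le
    ((classOf_eq_iff hs.1.1 ht.1.1).mp (hs.2.trans ht.2.symm)) with h | h | h
  exacts [Or.inl h, Or.inr (Or.inl h), Or.inr (Or.inr h.2.2)]

theorem fibre64_ne_zero (q : ModTwo) : ∀ s ∈ fibre64 q, s ≠ 0 := by
  intro s hs e
  rw [mem_fibre64, mem_norm64, e, sqNorm_eq_zero.mpr rfl] at hs
  exact absurd hs.1.2 (by norm_num)

theorem card_fibre64_le (q : ModTwo) : (fibre64 q).card ≤ 48 := by
  obtain ⟨T, -, -, hT, -, hS⟩ := exists_orth_reps _ (fibre64_ne_zero q) (fibre64_pairwise q)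
  omega

/-- The counting: all classes are met, norm 64 classes have 48 members and number 8292375. -/
theorem modTwo_counting [DecidableEq ModTwo] :
    (norm64.image classOf).card = 8292375 ∧ (∀ q ∈ norm64.image classOf, (fibre64 q).card = 48) ∧
      ∀ q : ModTwo, ∃ x ∈ leechLattice, sqNorm x ≤ 64 ∧ classOf x = q := by
  have := Nat.finite_of_card_ne_zero (α := ModTwo) (by rw [natCard_modTwo]; norm_num)
  have := Fintype.ofFinite ModTwo
  have hpair : ∀ (N : Finset (GolayPt → ℤ)), (∀ x ∈ N, x ∈ leechLattice ∧ sqNorm x < 64) →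
      N.card ≤ 2 * (N.image classOf).card := by
    intro N hN
    refine Finset.card_le_mul_card_image N 2 fun q _ => ?_
    rcases (N.filter fun x => classOf x = q).eq_empty_or_nonempty with h | ⟨a, ha⟩
    · rw [h]; simp
    · rw [Finset.mem_filter] at ha
      refine (Finset.card_le_card (t := {a, -a}) fun b hb => ?_).trans Finset.card_le_two
      rw [Finset.mem_filter] at hb
      rcases short_congTwo (hN a ha.1).1 (hN b hb.1).2.le (hN a ha.1).2.le
        ((classOf_eq_iff (hN b hb.1).1 (hN a ha.1).1).mp (hb.2.trans ha.2.symm)) with h | h | h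
      · simp [h]
      · simp [h]
      · exact absurd h.1 (hN b hb.1).2.ne
  have h32 := hpair norm32 fun x hx => by rw [mem_norm32] at hx; exact ⟨hx.1, by omega⟩
  have h48 := hpair norm48 fun x hx => by rw [mem_norm48] at hx; exact ⟨hx.1, by omega⟩
  have h64 : norm64.card ≤ 48 * (norm64.image classOf).card := by
    refine Finset.card_le_mul_card_image norm64 48 fun q _ => ?_
    refine le_trans (le_of_eq ?_) (card_fibre64_le q)
    congr 1
    ext x
    simp [mem_fibre64]
  rw [card_norm32] at h32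
  rw [card_norm48] at h48
  rw [card_norm64] at h64
  have hne : ∀ x y : GolayPt → ℤ, x ∈ leechLattice → y ∈ leechLattice → sqNorm x < sqNorm y →
      sqNorm y ≤ 64 → classOf x ≠ classOf y := by
    intro x y hx hy hlt hy64 e
    rcases short_congTwo hy (hlt.le.trans hy64) hy64 ((classOf_eq_iff hx hy).mp e) with h | h | h
    · rw [h] at hlt; exact lt_irrefl _ hlt
    · rw [h, sqNorm_neg] at hlt; exact lt_irrefl _ hlt
    · omega
  have hn0 : sqNorm (0 : GolayPt → ℤ) = 0 := sqNorm_eq_zero.mpr rfl
  set U0 : Finset ModTwo := {classOf 0}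
  set U : Finset ModTwo := U0 ∪ norm32.image classOf ∪ norm48.image classOf ∪ norm64.image classOf with hU
  have hdisj : U.card = 1 + (norm32.image classOf).card + (norm48.image classOf).card +
      (norm64.image classOf).card := by
    have d : ∀ (A : Finset ModTwo) (N : Finset (GolayPt → ℤ)), (∀ q ∈ A, ∀ y ∈ N, classOf y ≠ q) →
        Disjoint A (N.image classOf) := fun A N h => by
      rw [Finset.disjoint_left]
      intro q hq hq'
      obtain ⟨y, hy, hyq⟩ := Finset.mem_image.mp hq'
      exact h q hq y hy hyq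
    rw [hU, Finset.card_union_of_disjoint, Finset.card_union_of_disjoint, Finset.card_union_of_disjoint,
      Finset.card_singleton]
    · refine d _ _ fun q hq y hy e => ?_
      rw [Finset.mem_singleton] at hq; rw [mem_norm32] at hy
      exact hne 0 y (zero_mem _) hy.1 (by omega) (by omega) (hq ▸ e.symm)
    · refine d _ _ fun q hq y hy e => ?_
      rw [mem_norm48] at hy
      rcases Finset.mem_union.mp hq with hq | hq
      · rw [Finset.mem_singleton] at hq
        exact hne 0 y (zero_mem _) hy.1 (by omega) (by omega) (hq ▸ e.symm)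
      · obtain ⟨x, hx, rfl⟩ := Finset.mem_image.mp hq
        rw [mem_norm32] at hx
        exact hne x y hx.1 hy.1 (by omega) (by omega) e.symm
    · refine d _ _ fun q hq y hy e => ?_
      rw [mem_norm64] at hy
      rcases Finset.mem_union.mp hq with hq | hq
      · rcases Finset.mem_union.mp hq with hq | hq
        · rw [Finset.mem_singleton] at hq
          exact hne 0 y (zero_mem _) hy.1 (by omega) (by omega) (hq ▸ e.symm)
        · obtain ⟨x, hx, rfl⟩ := Finset.mem_image.mp hq
          rw [mem_norm32] at hx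
          exact hne x y hx.1 hy.1 (by omega) (by omega) e.symm
      · obtain ⟨x, hx, rfl⟩ := Finset.mem_image.mp hq
        rw [mem_norm48] at hx
        exact hne x y hx.1 hy.1 (by omega) (by omega) e.symm
  have hle : U.card ≤ 16777216 := by
    refine (Finset.card_le_univ U).trans (le_of_eq ?_)
    rw [← Nat.card_eq_fintype_card, natCard_modTwo]; norm_num
  rw [hdisj] at hle
  have h64' : (norm64.image classOf).card = 8292375 := by omega
  refine ⟨h64', fun q hq => ?_, fun q => ?_⟩
  · by_contra h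
    have hlt : (fibre64 q).card < 48 := lt_of_le_of_ne (card_fibre64_le q) h
    have hsum : norm64.card = ∑ r ∈ norm64.image classOf, (fibre64 r).card := by
      rw [Finset.card_eq_sum_card_image classOf norm64]
      refine Finset.sum_congr rfl fun r _ => congrArg Finset.card ?_
      ext x
      simp [mem_fibre64]
    have := Finset.sum_lt_sum (s := norm64.image classOf) (f := fun r => (fibre64 r).card)
      (g := fun _ => 48) (fun r _ => card_fibre64_le r) ⟨q, hq, hlt⟩
    rw [Finset.sum_const, h64', ← hsum, card_norm64, smul_eq_mul] at this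
    norm_num at this
  · have hUuniv : U = Finset.univ := by
      refine Finset.eq_univ_of_card U ?_
      rw [hdisj, ← Nat.card_eq_fintype_card, natCard_modTwo, h64']
      omega
    have hq : q ∈ U := hUuniv ▸ Finset.mem_univ q
    simp only [hU, U0, Finset.mem_union, Finset.mem_singleton, Finset.mem_image] at hq
    rcases hq with ((rfl | ⟨x, hx, rfl⟩) | ⟨x, hx, rfl⟩) | ⟨x, hx, rfl⟩
    · exact ⟨0, zero_mem _, by omega, rfl⟩
    · rw [mem_norm32] at hx; exact ⟨x, hx.1, by omega, rfl⟩
    · rw [mem_norm48] at hx; exact ⟨x, hx.1, by omega, rfl⟩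
    · rw [mem_norm64] at hx; exact ⟨x, hx.1, by omega, rfl⟩

theorem card_fibre64_classOf {x : GolayPt → ℤ} (hx : x ∈ leechLattice) (hn : sqNorm x = 64) :
    (fibre64 (classOf x)).card = 48 := by
  classical
  exact modTwo_counting.2.1 _ (Finset.mem_image.mpr ⟨x, mem_norm64.mpr ⟨hx, hn⟩, rfl⟩)

theorem cross_eq_fibre64 {x : GolayPt → ℤ} (hx : x ∈ leechLattice) (hn : sqNorm x = 64) :
    cross x = ↑(fibre64 (classOf x)) := by
  ext y
  simp only [cross, Set.mem_ofPred_eq, Finset.mem_coe, mem_fibre64, mem_norm64, hn]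
  constructor
  · rintro ⟨hy, hyn, z, hz, e⟩
    exact ⟨⟨hy, hyn⟩, (classOf_eq_iff hy hx).mpr (CongTwo.symm ⟨z, hz, e⟩)⟩
  · rintro ⟨⟨hy, hyn⟩, hc⟩
    obtain ⟨z, hz, e⟩ := ((classOf_eq_iff hy hx).mp hc).symm
    exact ⟨hy, hyn, z, hz, e⟩

theorem ncard_cross {x : GolayPt → ℤ} (hx : x ∈ leechLattice) (hn : sqNorm x = 64) :
    (cross x).ncard = 48 := by
  rw [cross_eq_fibre64 hx hn, Set.ncard_coe_finset, card_fibre64_classOf hx hn]

theorem exists_short_congTwo {x : GolayPt → ℤ} (hx : x ∈ leechLattice) :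
    ∃ y ∈ leechLattice, sqNorm y ≤ 64 ∧ CongTwo x y := by
  classical
  obtain ⟨y, hy, hyn, hc⟩ := modTwo_counting.2.2 (classOf x)
  exact ⟨y, hy, hyn, (classOf_eq_iff hx hy).mp hc.symm⟩

end CfsgLib.Golay
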