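import Cfsg.Agent.Lib.Golay.Code

/-!
# The lattice built from the length-24 code: membership, minimum, evenness, index
-/

set_option autoImplicit false

namespace CfsgLib.Golay

open Cfsg

/-- The word recording, for a vector of parity `m`, which coordinates are `m + 2` modulo 4. -/
def twoWord (x : GolayPt → ℤ) (m : ℤ) : GolayPt → ZMod 2 := fun i => (((x i - m) / 2 : ℤ) : ZMod 2)

/-- Membership in the lattice with parity witness `m`. -/
def InLeech (x : GolayPt → ℤ) (m : ℤ) : Prop :=
  (∀ i, x i ≡ m [ZMOD 2]) ∧ (∑ i, x i ≡ 4 * m [ZMOD 8]) ∧ twoWord x m ∈ golayCode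

theorem one_mem_golayCode : (1 : GolayPt → ZMod 2) ∈ golayCode :=
  Submodule.subset_span (Set.mem_union_right _ rfl)

theorem intCast_ne_zero_iff {a : ℤ} : (a : ZMod 2) ≠ 0 ↔ a % 2 = 1 := by
  rw [ne_eq, ZMod.intCast_zmod_eq_zero_iff_dvd]
  push_cast
  omega

theorem filter_class_eq {x : GolayPt → ℤ} {m k : ℤ} (hpar : ∀ i, x i ≡ m [ZMOD 2]) :
    (Finset.univ.filter fun i => x i ≡ k [ZMOD 4]) =
      if (k - m) % 4 = 0 then support₂ (twoWord x m + 1)
      else if (k - m) % 4 = 2 then support₂ (twoWord x m) else ∅ := by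
  ext i
  have h2 : (x i - m) % 2 = 0 := by
    have := (hpar i).symm.dvd
    omega
  have h1 : ∀ a : ZMod 2, a + 1 ≠ 0 ↔ ¬ a ≠ 0 := by decide
  have hmod : x i ≡ k [ZMOD 4] ↔ (k - x i) % 4 = 0 := by
    rw [Int.modEq_iff_dvd]; omega
  split_ifs with hk hk' <;>
    simp only [Finset.mem_filter, Finset.mem_univ, true_and, support₂, twoWord, Pi.add_apply,
      Pi.one_apply, Finset.notMem_empty, iff_false, h1, intCast_ne_zero_iff, hmod] <;>
    omega

theorem mem_leechSet_iff {x : GolayPt → ℤ} : x ∈ leechSet ↔ ∃ m, InLeech x m := by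
  constructor
  · rintro ⟨m, hpar, hsum, hcls⟩
    refine ⟨m, hpar, hsum, ?_⟩
    have h := hcls (m + 2)
    rw [filter_class_eq hpar, if_neg (by omega), if_pos (by omega)] at h
    obtain ⟨w, hw, hwe⟩ := h
    have : twoWord x m = w := enc_injective (by rw [enc_eq_encS, enc_eq_encS, hwe])
    rwa [this]
  · rintro ⟨m, hpar, hsum, hw⟩
    refine ⟨m, hpar, hsum, fun k => ?_⟩
    rw [filter_class_eq hpar]
    split_ifs
    · exact ⟨_, add_mem hw one_mem_golayCode, rfl⟩
    · exact ⟨_, hw, rfl⟩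
    · exact empty_mem_supports

theorem InLeech.zero : InLeech 0 0 := by
  refine ⟨fun _ => by simp, by simp, ?_⟩
  have : twoWord 0 0 = 0 := by funext i; simp [twoWord]
  rw [this]; exact zero_mem _

theorem InLeech.add {x y : GolayPt → ℤ} {m n : ℤ} (hx : InLeech x m) (hy : InLeech y n) :
    InLeech (x + y) (m + n) := by
  refine ⟨fun i => (hx.1 i).add (hy.1 i), ?_, ?_⟩
  · simp only [Pi.add_apply, Finset.sum_add_distrib, mul_add]
    exact hx.2.1.add hy.2.1
  · have : twoWord (x + y) (m + n) = twoWord x m + twoWord y n := by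
      funext i
      simp only [twoWord, Pi.add_apply, ← Int.cast_add]
      congr 1
      have h1 := (hx.1 i).symm.dvd
      have h2 := (hy.1 i).symm.dvd
      omega
    rw [this]; exact add_mem hx.2.2 hy.2.2

theorem InLeech.neg {x : GolayPt → ℤ} {m : ℤ} (hx : InLeech x m) : InLeech (-x) (-m) := by
  refine ⟨fun i => (hx.1 i).neg, ?_, ?_⟩
  · simp only [Pi.neg_apply, Finset.sum_neg_distrib, mul_neg]
    exact hx.2.1.neg
  · have : twoWord (-x) (-m) = -twoWord x m := by
      funext i
      simp only [twoWord, Pi.neg_apply, ← Int.cast_neg]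
      congr 1
      have h1 := (hx.1 i).symm.dvd
      omega
    rw [this]; exact neg_mem hx.2.2

/-- `leechSet` as an additive subgroup. -/
def leechGroup : AddSubgroup (GolayPt → ℤ) where
  carrier := leechSet
  zero_mem' := mem_leechSet_iff.mpr ⟨0, InLeech.zero⟩
  add_mem' := fun ha hb => by
    obtain ⟨m, hm⟩ := mem_leechSet_iff.mp ha
    obtain ⟨n, hn⟩ := mem_leechSet_iff.mp hb
    exact mem_leechSet_iff.mpr ⟨_, hm.add hn⟩
  neg_mem' := fun ha => by
    obtain ⟨m, hm⟩ := mem_leechSet_iff.mp ha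
    exact mem_leechSet_iff.mpr ⟨_, hm.neg⟩

theorem leechLattice_eq : leechLattice = leechGroup := AddSubgroup.closure_eq leechGroup

theorem mem_leechLattice {x : GolayPt → ℤ} : x ∈ leechLattice ↔ ∃ m, InLeech x m := by
  rw [leechLattice_eq]; exact mem_leechSet_iff

/-- The parity witness can be taken in `{0, 1}`. -/
theorem InLeech.shift {x : GolayPt → ℤ} {m : ℤ} (hx : InLeech x m) : InLeech x (m % 2) := by
  refine ⟨fun i => (hx.1 i).trans (Int.mod_modEq m 2).symm, ?_, ?_⟩
  · refine hx.2.1.trans ?_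
    rw [Int.modEq_iff_dvd]
    omega
  · have hkey : twoWord x (m % 2) = twoWord x m + if m / 2 % 2 = 0 then 0 else 1 := by
      funext i
      have h1 := (hx.1 i).symm.dvd
      have e : (x i - m % 2) / 2 = (x i - m) / 2 + m / 2 := by omega
      simp only [twoWord, Pi.add_apply, e, Int.cast_add]
      congr 1
      split_ifs with h
      · rw [Pi.zero_apply, ZMod.intCast_zmod_eq_zero_iff_dvd]; push_cast; omega
      · rw [Pi.one_apply, show (1 : ZMod 2) = ((1 : ℤ) : ZMod 2) by norm_num,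
          ZMod.intCast_eq_intCast_iff_dvd_sub]
        push_cast; omega
    rw [hkey]
    refine add_mem hx.2.2 ?_
    split_ifs
    exacts [zero_mem _, one_mem_golayCode]

theorem mem_leechLattice' {x : GolayPt → ℤ} :
    x ∈ leechLattice ↔ InLeech x 0 ∨ InLeech x 1 := by
  rw [mem_leechLattice]
  constructor
  · rintro ⟨m, hm⟩
    rcases Int.emod_two_eq_zero_or_one m with h | h
    · exact Or.inl (h ▸ hm.shift)
    · exact Or.inr (h ▸ hm.shift)
  · rintro (h | h)
    exacts [⟨0, h⟩, ⟨1, h⟩]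

theorem vecE8_mem (i : GolayPt) (s : ℤ) (hs : 8 ∣ s) : Pi.single i s ∈ leechLattice := by
  refine mem_leechLattice.mpr ⟨0, fun j => ?_, ?_, ?_⟩
  · rw [Int.modEq_iff_dvd]
    rcases eq_or_ne j i with rfl | h
    · simp only [Pi.single_eq_same]; omega
    · simp [Pi.single_eq_of_ne h]
  · rw [Finset.sum_pi_single', if_pos (Finset.mem_univ i), Int.modEq_iff_dvd]
    omega
  · have : twoWord (Pi.single i s) 0 = 0 := by
      funext j
      rcases eq_or_ne j i with rfl | h
      · simp only [twoWord, Pi.single_eq_same, Pi.zero_apply, sub_zero,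
          ZMod.intCast_zmod_eq_zero_iff_dvd]
        push_cast; omega
      · simp [twoWord, Pi.single_eq_of_ne h]
    rw [this]; exact zero_mem _

/-! ### Evenness and minimum -/

theorem sum_twoPart {x : GolayPt → ℤ} {m : ℤ} (hx : InLeech x m) :
    (∑ i, (x i - m) / 2 - 2 * m) % 4 = 0 := by
  have e : ∀ i, x i = m + 2 * ((x i - m) / 2) := fun i => by
    have := (hx.1 i).symm.dvd; omega
  have h := hx.2.1
  rw [Int.modEq_iff_dvd, Finset.sum_congr rfl fun i _ => e i, Finset.sum_add_distrib,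
    ← Finset.mul_sum, Finset.sum_const, Finset.card_univ, card_golayPt] at h
  simp only [nsmul_eq_mul] at h
  push_cast at h
  omega

theorem sum_sq_twoPart {x : GolayPt → ℤ} {m : ℤ} (hx : InLeech x m) :
    (4 : ℤ) ∣ ∑ i, ((x i - m) / 2) ^ 2 := by
  have h1 : ∀ y : ℤ, (4 : ℤ) ∣ y ^ 2 - if y % 2 = 1 then 1 else 0 := by
    intro y
    obtain ⟨q, rfl | rfl⟩ : ∃ q, y = 2 * q ∨ y = 2 * q + 1 := ⟨y / 2, by omega⟩
    · rw [if_neg (by omega)]; exact ⟨q ^ 2, by ring⟩
    · rw [if_pos (by omega)]; exact ⟨q ^ 2 + q, by ring⟩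
  have h2 : (4 : ℤ) ∣ ∑ i, (if (x i - m) / 2 % 2 = 1 then 1 else 0 : ℤ) := by
    have h3 : (∑ i, (if (x i - m) / 2 % 2 = 1 then 1 else 0 : ℤ)) =
        ((support₂ (twoWord x m)).card : ℤ) := by
      rw [Finset.sum_boole]
      congr 2
      ext i
      simp [support₂, twoWord, intCast_ne_zero_iff]
    rw [h3]
    exact Int.natCast_dvd_natCast.mpr (four_dvd_card_support ⟨_, hx.2.2, rfl⟩)
  have h4 := (Finset.dvd_sum fun i (_ : i ∈ Finset.univ) => h1 ((x i - m) / 2)).add h2
  rwa [Finset.sum_sub_distrib, sub_add_cancel] at h4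

theorem sqNorm_expand {x : GolayPt → ℤ} {m : ℤ} (hx : InLeech x m) :
    sqNorm x = 24 * m ^ 2 + 4 * m * ∑ i, (x i - m) / 2 + 4 * ∑ i, ((x i - m) / 2) ^ 2 := by
  have e : ∀ i, x i ^ 2 = m ^ 2 + 4 * m * ((x i - m) / 2) + 4 * ((x i - m) / 2) ^ 2 := fun i => by
    have h : x i = m + 2 * ((x i - m) / 2) := by have := (hx.1 i).symm.dvd; omega
    generalize (x i - m) / 2 = y at h ⊢
    rw [h]; ring
  rw [sqNorm, Finset.sum_congr rfl fun i _ => e i, Finset.sum_add_distrib, Finset.sum_add_distrib,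
    Finset.sum_const, Finset.card_univ, card_golayPt, ← Finset.mul_sum, ← Finset.mul_sum]
  simp [nsmul_eq_mul]

theorem sixteen_dvd_sqNorm {x : GolayPt → ℤ} (hx : x ∈ leechLattice) : (16 : ℤ) ∣ sqNorm x := by
  obtain ⟨m, hm⟩ := mem_leechLattice.mp hx
  rw [sqNorm_expand hm]
  obtain ⟨b, hb⟩ := sum_sq_twoPart hm
  obtain ⟨a, ha⟩ : ∃ a, ∑ i, (x i - m) / 2 = 2 * m + 4 * a := by
    have := sum_twoPart hm
    exact ⟨(∑ i, (x i - m) / 2 - 2 * m) / 4, by omega⟩
  rw [ha, hb]
  exact ⟨2 * m ^ 2 + m * a + b, by ring⟩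

theorem thirtytwo_le_sqNorm {x : GolayPt → ℤ} (hx : x ∈ leechLattice) (h0 : x ≠ 0) :
    32 ≤ sqNorm x := by
  rcases mem_leechLattice'.mp hx with hm | hm
  · have e : ∀ i, x i = 2 * ((x i - 0) / 2) := fun i => by have := (hm.1 i).symm.dvd; omega
    have hw := hm.2.2
    set w := twoWord x 0 with hwdef
    rcases Finset.eq_empty_or_nonempty (support₂ w) with hS | hS
    · -- all coordinates divisible by four
      have h4 : ∀ i, (4 : ℤ) ∣ x i := fun i => by
        have h1 : ¬ (w i ≠ 0) := fun h =>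
          Finset.notMem_empty i (hS ▸ Finset.mem_filter.mpr ⟨Finset.mem_univ _, h⟩)
        rw [hwdef, twoWord, intCast_ne_zero_iff] at h1
        have := (hm.1 i).symm.dvd
        omega
      obtain ⟨i, hi⟩ : ∃ i, x i ≠ 0 := Function.ne_iff.mp h0
      have hne : ∃ j, j ≠ i ∧ x j ≠ 0 ∨ 32 ≤ x i ^ 2 := by
        by_cases hbig : 32 ≤ x i ^ 2
        · exact ⟨i, Or.inr hbig⟩
        · by_contra hall
          push Not at hall
          have hsum : ∑ j, x j = x i :=
            Finset.sum_eq_single_of_mem i (Finset.mem_univ i) fun j _ hj => (hall j).1 hj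
          have h8 := hm.2.1
          rw [hsum, Int.modEq_iff_dvd] at h8
          obtain ⟨q, hq⟩ : ∃ q, x i = 8 * q := ⟨x i / 8, by omega⟩
          rw [hq] at hbig
          have : q ^ 2 ≥ 1 := by
            have hq0 : q ≠ 0 := fun h => hi (by rw [hq, h]; ring)
            nlinarith [Int.one_le_abs hq0, abs_nonneg q, sq_abs q]
          nlinarith
      obtain ⟨j, hj⟩ := hne
      rcases hj with ⟨hji, hxj⟩ | hbig
      · have hb : ∀ k, x k ≠ 0 → 16 ≤ x k ^ 2 := by
          intro k hk
          obtain ⟨q, hq⟩ := h4 k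
          have hq0 : q ≠ 0 := fun h => hk (by rw [hq, h]; ring)
          rw [hq]
          nlinarith [Int.one_le_abs hq0, abs_nonneg q, sq_abs q]
        have hle : ∑ k ∈ ({i, j} : Finset GolayPt), x k ^ 2 ≤ sqNorm x :=
          Finset.sum_le_sum_of_subset_of_nonneg (Finset.subset_univ _) fun k _ _ => sq_nonneg _
        rw [Finset.sum_pair hji.symm] at hle
        linarith [hb i hi, hb j hxj]
      · exact hbig.trans (Finset.single_le_sum (f := fun k => x k ^ 2) (fun k _ => sq_nonneg _)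
          (Finset.mem_univ i))
    · have h8 := eight_le_card_support ⟨w, hw, rfl⟩ hS
      have hle : ∑ k ∈ support₂ w, (4 : ℤ) ≤ ∑ k ∈ support₂ w, x k ^ 2 := by
        refine Finset.sum_le_sum fun k hk => ?_
        rw [support₂, Finset.mem_filter, hwdef, twoWord, intCast_ne_zero_iff] at hk
        obtain ⟨q, hq⟩ : ∃ q, x k = 4 * q + 2 := ⟨x k / 4, by
          have := (hm.1 k).symm.dvd
          omega⟩
        rw [hq]
        nlinarith [sq_nonneg (2 * q + 1), show 0 ≤ q * (q + 1) from by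
          rcases le_or_gt 0 q with h | h <;> nlinarith]
      rw [Finset.sum_const, nsmul_eq_mul] at hle
      have : ∑ k ∈ support₂ w, x k ^ 2 ≤ sqNorm x :=
        Finset.sum_le_sum_of_subset_of_nonneg (Finset.subset_univ _) fun k _ _ => sq_nonneg _
      have h8' : (8 : ℤ) ≤ ((support₂ w).card : ℤ) := by exact_mod_cast h8
      linarith
  · have h1 : ∀ i, 1 ≤ x i ^ 2 := fun i => by
      have h2 := (hm.1 i).symm.dvd
      have h3 : x i ≠ 0 := by omega
      nlinarith [Int.one_le_abs h3, abs_nonneg (x i), sq_abs (x i)]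
    have h24 : (24 : ℤ) ≤ sqNorm x := by
      have := Finset.sum_le_sum (s := Finset.univ) fun i (_ : i ∈ Finset.univ) => h1 i
      rw [Finset.sum_const, Finset.card_univ, card_golayPt] at this
      simpa [sqNorm] using this
    have := sixteen_dvd_sqNorm hx
    omega

/-! ### Index -/

/-- Vectors with all coordinates even. -/
def evenVectors : AddSubgroup (GolayPt → ℤ) where
  carrier := {x | ∀ i, 2 ∣ x i}
  zero_mem' := fun _ => dvd_zero _
  add_mem' := fun ha hb i => dvd_add (ha i) (hb i)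
  neg_mem' := fun ha i => (ha i).neg_right

theorem index_evenVectors : evenVectors.index = 2 ^ 24 := by
  let f : (GolayPt → ℤ) →+ (GolayPt → ZMod 2) := (Int.castAddHom (ZMod 2)).compLeft GolayPt
  have hker : f.ker = evenVectors := by
    ext x
    simp [f, evenVectors, funext_iff, ZMod.intCast_zmod_eq_zero_iff_dvd]
  have hrange : f.range = ⊤ := AddMonoidHom.range_eq_top.mpr fun v =>
    ⟨fun i => ((v i).val : ℤ), funext fun i => by simp [f]⟩
  rw [← hker, AddSubgroup.index_ker, hrange]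
  simp [Nat.card_eq_fintype_card]

theorem natCard_quot_golayCode : Nat.card ((GolayPt → ZMod 2) ⧸ golayCode) = 4096 := by
  have h := Submodule.card_eq_card_quotient_mul_card golayCode
  rw [natCard_golayCode] at h
  have h24 : Nat.card (GolayPt → ZMod 2) = 4096 * 4096 := by
    simp [Nat.card_eq_fintype_card]
  rw [h24] at h
  omega

/-- Half of an even vector, modulo 2. -/
def halfMod : evenVectors →+ (GolayPt → ZMod 2) where
  toFun x := twoWord x.val 0
  map_zero' := by funext i; simp [twoWord]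
  map_add' x y := by
    funext i
    simp only [twoWord, AddSubgroup.coe_add, Pi.add_apply, sub_zero, ← Int.cast_add]
    congr 1
    exact Int.add_ediv_of_dvd_left (x.2 i)

/-- Half a vector, modulo the code. -/
def halfClass : evenVectors →+ ((GolayPt → ZMod 2) ⧸ golayCode) :=
  (Submodule.mkQ golayCode).toAddMonoidHom.comp halfMod

theorem halfClass_surjective : Function.Surjective halfClass := by
  intro q
  obtain ⟨v, rfl⟩ := Submodule.mkQ_surjective golayCode q
  refine ⟨⟨fun i => 2 * ((v i).val : ℤ), fun i => dvd_mul_right 2 _⟩, ?_⟩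
  show Submodule.mkQ golayCode (twoWord (fun i => 2 * ((v i).val : ℤ)) 0) = _
  congr 1
  funext i
  simp [twoWord]

theorem index_leechLattice : leechLattice.index = 2 ^ 36 := by
  -- the even part, and one step below it the vectors satisfying the sum condition
  let S2 : AddSubgroup (GolayPt → ℤ) := halfClass.ker.map evenVectors.subtype
  let S3 : AddSubgroup (GolayPt → ℤ) := leechLattice ⊓ evenVectors
  have hS2 : ∀ x, x ∈ S2 ↔ (∀ i, 2 ∣ x i) ∧ twoWord x 0 ∈ golayCode := by
    intro x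
    simp only [S2, AddSubgroup.mem_map, AddMonoidHom.mem_ker]
    constructor
    · rintro ⟨y, hy, rfl⟩
      exact ⟨y.2, (Submodule.Quotient.mk_eq_zero _).mp hy⟩
    · rintro ⟨h1, h2⟩
      exact ⟨⟨x, h1⟩, (Submodule.Quotient.mk_eq_zero _).mpr h2, rfl⟩
  have hS3 : ∀ x, x ∈ S3 ↔ (x ∈ S2 ∧ (8 : ℤ) ∣ ∑ i, x i) := by
    intro x
    rw [hS2]
    constructor
    · rintro ⟨hL, hE⟩
      rcases mem_leechLattice'.mp hL with h | h
      · have h3 := h.2.1
        rw [Int.modEq_iff_dvd] at h3
        exact ⟨⟨hE, h.2.2⟩, by omega⟩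
      · have := (h.1 none).symm.dvd
        have := hE none
        omega
    · rintro ⟨⟨h1, h2⟩, h3⟩
      refine ⟨mem_leechLattice.mpr ⟨0, fun i => ?_, ?_, h2⟩, h1⟩
      · rw [Int.modEq_iff_dvd]; have := h1 i; omega
      · rw [Int.modEq_iff_dvd]; omega
  have hidx2 : S2.index = 2 ^ 24 * 4096 := by
    rw [AddSubgroup.index_map_subtype, AddSubgroup.index_ker,
      AddMonoidHom.range_eq_top.mpr halfClass_surjective, AddSubgroup.card_top, natCard_quot_golayCode,
      index_evenVectors, mul_comm]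
  have h4 : ∀ x : S2, (4 : ℤ) ∣ ∑ i, x.val i := by
    rintro ⟨x, hx⟩
    obtain ⟨h1, h2⟩ := (hS2 x).mp hx
    have e : ∀ i, x i = 2 * ((x i - 0) / 2) := fun i => by have := h1 i; omega
    have heven := four_dvd_card_support ⟨_, h2, rfl⟩
    have h5 : ((∑ i, (x i - 0) / 2 : ℤ) : ZMod 2) = ((support₂ (twoWord x 0)).card : ZMod 2) := by
      rw [Int.cast_sum, support₂, Finset.natCast_card_filter]
      refine Finset.sum_congr rfl fun i _ => ?_
      have : ∀ a : ZMod 2, a = if a ≠ 0 then 1 else 0 := by decide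
      exact this _
    rw [(ZMod.natCast_eq_zero_iff _ _).mpr (Dvd.dvd.trans (by norm_num) heven),
      ZMod.intCast_zmod_eq_zero_iff_dvd] at h5
    show (4 : ℤ) ∣ ∑ i, x i
    rw [Finset.sum_congr rfl fun i _ => e i, ← Finset.mul_sum]
    omega
  let g : S2 →+ ZMod 2 :=
    { toFun := fun x => (((∑ i, x.val i) / 4 : ℤ) : ZMod 2)
      map_zero' := by simp
      map_add' := fun x y => by
        simp only [AddSubgroup.coe_add, Pi.add_apply, Finset.sum_add_distrib, ← Int.cast_add]
        congr 1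
        exact Int.add_ediv_of_dvd_left (h4 x) }
  have hg : S3 = g.ker.map S2.subtype := by
    ext x
    rw [hS3]
    simp only [AddSubgroup.mem_map, AddMonoidHom.mem_ker]
    constructor
    · rintro ⟨hx, h8⟩
      refine ⟨⟨x, hx⟩, ?_, rfl⟩
      show (((∑ i, x i) / 4 : ℤ) : ZMod 2) = 0
      rw [ZMod.intCast_zmod_eq_zero_iff_dvd]
      push_cast; omega
    · rintro ⟨⟨y, hy⟩, h8, rfl⟩
      refine ⟨hy, ?_⟩
      have h8' : (((∑ i, y i) / 4 : ℤ) : ZMod 2) = 0 := h8
      rw [ZMod.intCast_zmod_eq_zero_iff_dvd] at h8'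
      have : (4 : ℤ) ∣ ∑ i, y i := h4 ⟨y, hy⟩
      show (8 : ℤ) ∣ ∑ i, y i
      omega
  have hgsurj : Function.Surjective g := by
    intro a
    have hmem : (Pi.single none 4 : GolayPt → ℤ) ∈ S2 := by
      rw [hS2, mem_golayCode]; decide +kernel
    have hval : g ⟨_, hmem⟩ = 1 := by
      show (((∑ i, (Pi.single none 4 : GolayPt → ℤ) i) / 4 : ℤ) : ZMod 2) = 1
      rw [Finset.sum_pi_single', if_pos (Finset.mem_univ _)]
      norm_num
    rcases (show a = 0 ∨ a = 1 by revert a; decide) with rfl | rfl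
    exacts [⟨0, map_zero g⟩, ⟨_, hval⟩]
  have hidx3 : S3.index = 2 ^ 37 := by
    rw [hg, AddSubgroup.index_map_subtype, AddSubgroup.index_ker,
      AddMonoidHom.range_eq_top.mpr hgsurj, AddSubgroup.card_top, hidx2, Nat.card_zmod]
    norm_num
  let h : leechLattice →+ ZMod 2 :=
    { toFun := fun x => ((x.val none : ℤ) : ZMod 2)
      map_zero' := by simp
      map_add' := fun x y => by simp }
  have hh : S3 = h.ker.map leechLattice.subtype := by
    ext x
    simp only [AddSubgroup.mem_map, AddMonoidHom.mem_ker]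
    constructor
    · rintro ⟨hL, hE⟩
      refine ⟨⟨x, hL⟩, ?_, rfl⟩
      show ((x none : ℤ) : ZMod 2) = 0
      rw [ZMod.intCast_zmod_eq_zero_iff_dvd]; exact hE none
    · rintro ⟨⟨y, hy⟩, h0, rfl⟩
      refine ⟨hy, fun i => ?_⟩
      have h0' : ((y none : ℤ) : ZMod 2) = 0 := h0
      rw [ZMod.intCast_zmod_eq_zero_iff_dvd] at h0'
      obtain ⟨m, hm⟩ := mem_leechLattice.mp hy
      have h1 := (hm.1 i).symm.dvd
      have h2 := (hm.1 none).symm.dvd
      show (2 : ℤ) ∣ y i
      omega
  have hodd : (fun p : GolayPt => if p = none then -3 else 1 : GolayPt → ℤ) ∈ leechLattice := by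
    refine mem_leechLattice.mpr ⟨1, ?_, by decide +kernel, mem_golayCode.mpr (by decide +kernel)⟩
    intro i; revert i; decide +kernel
  have hhsurj : Function.Surjective h := by
    intro a
    rcases (show a = 0 ∨ a = 1 by revert a; decide) with rfl | rfl
    exacts [⟨0, map_zero h⟩, ⟨⟨_, hodd⟩, show (((-3 : ℤ) : ℤ) : ZMod 2) = 1 by decide⟩]
  have := hh ▸ hidx3
  rw [AddSubgroup.index_map_subtype, AddSubgroup.index_ker, AddMonoidHom.range_eq_top.mpr hhsurj,
    AddSubgroup.card_top, Nat.card_zmod] at this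
  omega

end CfsgLib.Golay
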