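import Cfsg.Agent.Lib.Golay.Co0

/-!
# Explicit elements of the automorphism group of the lattice from frames

A finite list spans the lattice, so a frame given by 24 explicit rows can be checked by computation.
-/

set_option autoImplicit false

namespace CfsgLib.Golay

open Cfsg

/-! ### A spanning list -/

/-- The membership test. -/
def leechTest (x : GolayPt → ℤ) : Bool :=
  let m := x none % 2
  decide (∀ i, (x i - m) % 2 = 0) && decide ((∑ i, x i - 4 * m) % 8 = 0) && isCode (enc (twoWord x m))

theorem mem_of_leechTest {x : GolayPt → ℤ} (h : leechTest x = true) : x ∈ leechLattice := by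
  simp only [leechTest, Bool.and_eq_true, decide_eq_true_eq] at h
  obtain ⟨⟨h1, h2⟩, h3⟩ := h
  refine mem_leechLattice.mpr ⟨x none % 2, fun i => ?_, ?_, mem_golayCode.mpr h3⟩
  · rw [Int.modEq_iff_dvd]; have := h1 i; omega
  · rw [Int.modEq_iff_dvd]; omega

theorem leechTest_of_mem {x : GolayPt → ℤ} (hx : x ∈ leechLattice) : leechTest x = true := by
  simp only [leechTest, Bool.and_eq_true, decide_eq_true_eq]
  rcases mem_leechLattice'.mp hx with h | h
  · have e : x none % 2 = 0 := by have := (h.1 none).symm.dvd; omega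
    rw [e]
    refine ⟨⟨fun i => ?_, ?_⟩, mem_golayCode.mp h.2.2⟩
    · have := (h.1 i).symm.dvd; omega
    · have := h.2.1.symm.dvd; omega
  · have e : x none % 2 = 1 := by have := (h.1 none).symm.dvd; omega
    rw [e]
    refine ⟨⟨fun i => ?_, ?_⟩, mem_golayCode.mp h.2.2⟩
    · have := (h.1 i).symm.dvd; omega
    · have := h.2.1.symm.dvd; omega

/-- The vectors with fours at the extra point and at one more point. -/
def fourPair (i : GolayPt) : GolayPt → ℤ := fun k => if k = none ∨ k = i then 4 else 0

/-- The odd spanning vector. -/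
def oddSpan : GolayPt → ℤ := fun k => if k = none then -3 else 1

/-- A list spanning the lattice. -/
def spanVecs : List (GolayPt → ℤ) :=
  (fun k => if k = none then 8 else 0) :: oddSpan ::
    ((List.ofFn fun j : Fin 23 => fourPair (some (j.val : ZMod 23))) ++ gens.map fun g => twoInd (decS g))

theorem spanVecs_mem : ∀ s ∈ spanVecs, s ∈ leechLattice := by
  have h : (spanVecs.all leechTest) = true := by decide +kernel
  exact fun s hs => mem_of_leechTest (List.all_eq_true.mp h s hs)

theorem leech_le_of_spanVecs (M : AddSubgroup (GolayPt → ℤ)) (h : ∀ s ∈ spanVecs, s ∈ M) :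
    leechLattice ≤ M := by
  classical
  have he : (fun k : GolayPt => if k = none then (8 : ℤ) else 0) ∈ M := h _ (List.mem_cons_self ..)
  have hodd : oddSpan ∈ M := h _ (by simp [spanVecs])
  have hfour : ∀ i, i ≠ none → fourPair i ∈ M := by
    intro i hi
    obtain ⟨x, rfl⟩ := Option.ne_none_iff_exists'.mp hi
    refine h _ ?_
    simp only [spanVecs, List.mem_cons, List.mem_append, List.mem_ofFn]
    exact Or.inr (Or.inr (Or.inl ⟨⟨x.val, ZMod.val_lt x⟩, by simp⟩))
  -- vectors divisible by four
  have hdiv : ∀ x : GolayPt → ℤ, (∀ i, (4 : ℤ) ∣ x i) → (8 : ℤ) ∣ ∑ i, x i → x ∈ M := by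
    intro x h4 h8
    set R : Finset GolayPt := Finset.univ.erase none with hR
    set t : ℤ := ∑ i ∈ R, x i / 4 with ht
    have hsum : ∑ i, x i = x none + 4 * t := by
      rw [← Finset.add_sum_erase _ _ (Finset.mem_univ none), ht, Finset.mul_sum]
      exact congrArg _ (Finset.sum_congr rfl fun i _ => (Int.mul_ediv_cancel' (h4 i)).symm)
    obtain ⟨q, hq⟩ : (8 : ℤ) ∣ x none - 4 * t := by
      rw [hsum] at h8
      have := h4 none
      omega
    have hx : x = q • (fun k : GolayPt => if k = none then (8 : ℤ) else 0) +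
        ∑ i ∈ R, (x i / 4) • fourPair i := by
      funext k
      simp only [Pi.add_apply, Pi.smul_apply, Finset.sum_apply, smul_eq_mul, fourPair]
      rcases eq_or_ne k none with rfl | hk
      · simp only [if_true, true_or, ← Finset.sum_mul, ← ht]
        omega
      · rw [if_neg hk, mul_zero, zero_add, Finset.sum_eq_single k]
        · rw [if_pos (Or.inr rfl)]; exact (Int.ediv_mul_cancel (h4 k)).symm
        · intro b _ hb; simp [hk, Ne.symm hb]
        · intro hk'; simp [hR, hk] at hk'
    rw [hx]
    exact add_mem (zsmul_mem he q) (sum_mem fun i hi => zsmul_mem (hfour i (Finset.ne_of_mem_erase hi)) _)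
  -- one vector for each code word
  have hcode : ∀ k, ∃ y ∈ M, y ∈ leechLattice ∧
      ∀ i, y i % 4 = if (codeWord k).testBit (idx i).val then 2 else 0 := by
    intro k
    refine spanWord_induction (P := fun n => ∃ y ∈ M, y ∈ leechLattice ∧
      ∀ i, y i % 4 = if n.testBit (idx i).val then 2 else 0) gens ?_ ?_ ?_ k
    · exact ⟨0, zero_mem _, zero_mem _, fun i => by simp⟩
    · rintro a b ⟨y, hy, hyL, hy4⟩ ⟨z, hz, hzL, hz4⟩
      refine ⟨y + z, add_mem hy hz, add_mem hyL hzL, fun i => ?_⟩
      have := hy4 i
      have := hz4 i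
      rw [Nat.testBit_xor, Pi.add_apply]
      cases ea : a.testBit (idx i).val <;> cases eb : b.testBit (idx i).val <;>
        simp only [ea, eb, Bool.false_eq_true, if_true, if_false] at * <;> simp <;> omega
    · intro g hg
      have hmem : twoInd (decS g) ∈ spanVecs := by
        simp only [spanVecs, List.mem_cons, List.mem_append, List.mem_map]
        exact Or.inr (Or.inr (Or.inr ⟨g, hg, rfl⟩))
      refine ⟨_, h _ hmem, spanVecs_mem _ hmem, fun i => ?_⟩
      simp only [twoInd, mem_decS]
      split_ifs <;> rfl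
  intro x hx
  obtain ⟨m, hm⟩ : ∃ m : ℤ, InLeech (x - m • oddSpan) 0 := by
    rcases mem_leechLattice'.mp hx with h0 | h1
    · exact ⟨0, by simpa using h0⟩
    · refine ⟨1, ?_⟩
      have hL : x - (1 : ℤ) • oddSpan ∈ leechLattice :=
        sub_mem hx (zsmul_mem (spanVecs_mem _ (by simp [spanVecs])) _)
      rcases mem_leechLattice'.mp hL with h | h
      · exact h
      · have e1 := (h.1 none).symm.dvd
        have e2 := (h1.1 none).symm.dvd
        simp [oddSpan] at e1
        omega
  obtain ⟨k, -, hk⟩ := exists_codeWord (mem_golayCode.mp hm.2.2)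
  obtain ⟨y, hy, hyL, hy4⟩ := hcode k
  have h4 : ∀ i, (4 : ℤ) ∣ (x - m • oddSpan - y) i := by
    intro i
    have e1 := hy4 i
    have e2 := (hm.1 i).symm.dvd
    rw [hk, testBit_enc] at e1
    have e3 : twoWord (x - m • oddSpan) 0 i = ((((x - m • oddSpan) i - 0) / 2 : ℤ) : ZMod 2) := rfl
    by_cases hb : twoWord (x - m • oddSpan) 0 i = 1
    · rw [if_pos (decide_eq_true hb)] at e1
      rw [e3, show (1 : ZMod 2) = ((1 : ℤ) : ZMod 2) by norm_num, ZMod.intCast_eq_intCast_iff_dvd_sub] at hb
      simp only [Pi.sub_apply] at hb e2 ⊢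
      push_cast at hb
      omega
    · rw [if_neg (fun hd => hb (of_decide_eq_true hd))] at e1
      rw [e3, show (1 : ZMod 2) = ((1 : ℤ) : ZMod 2) by norm_num, ZMod.intCast_eq_intCast_iff_dvd_sub] at hb
      simp only [Pi.sub_apply] at hb e2 ⊢
      push_cast at hb
      omega
  have hL : x - m • oddSpan - y ∈ leechLattice := sub_mem (mem_leechLattice.mpr ⟨0, hm⟩) hyL
  have hd : x - m • oddSpan - y ∈ M := by
    refine hdiv _ h4 ?_
    rcases mem_leechLattice'.mp hL with h0 | h1
    · have := h0.2.1.symm.dvd
      omega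
    · have e1 := (h1.1 none).symm.dvd
      have := h4 none
      omega
  have := add_mem (add_mem hd hy) (zsmul_mem hodd m)
  rwa [sub_add_cancel, sub_add_cancel] at this

/-! ### Frames given by rows -/

/-- The vector of a row. -/
def rowVec (r : List ℤ) : GolayPt → ℤ := fun k => r.getD (idx k).val 0

/-- The frame of a list of rows. -/
def rowsFrame (R : List (List ℤ)) : GolayPt → GolayPt → ℤ := fun i => rowVec (R.getD (idx i).val [])

/-- The check of a list of rows. -/
def frameTest (R : List (List ℤ)) : Bool :=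
  decide (∀ i, leechTest (rowsFrame R i) = true) &&
    decide (∀ i j, dotInt (rowsFrame R i) (rowsFrame R j) = if i = j then 64 else 0) &&
    decide (∀ i k, (rowsFrame R i k - rowsFrame R none k) % 2 = 0) &&
    decide (∀ i, leechTest (fun k => (rowsFrame R i k - rowsFrame R none k) / 2) = true) &&
    spanVecs.all (fun s => leechTest fun i => dotInt s (rowsFrame R i) / 8)

theorem isFrame_of_test {R : List (List ℤ)} (h : frameTest R = true) : IsFrame (rowsFrame R) := by
  simp only [frameTest, Bool.and_eq_true, decide_eq_true_eq] at h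
  obtain ⟨⟨⟨⟨h1, h2⟩, h3⟩, h4⟩, -⟩ := h
  have hnone : ∀ i, CongTwo (rowsFrame R i) (rowsFrame R none) := by
    intro i
    refine ⟨fun k => (rowsFrame R i k - rowsFrame R none k) / 2, mem_of_leechTest (h4 i), funext fun k => ?_⟩
    have := h3 i k
    simp only [Pi.sub_apply, Pi.smul_apply, nsmul_eq_mul, Nat.cast_ofNat]
    omega
  exact ⟨fun i => mem_of_leechTest (h1 i), h2, fun i j => (hnone i).trans (hnone j).symm⟩

theorem coordLattice_of_test {R : List (List ℤ)} (h : frameTest R = true) :
    coordLattice (isFrame_of_test h) = leechLattice := by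
  have hv := isFrame_of_test h
  have h5 : ∀ s ∈ spanVecs, coord (rowsFrame R) s ∈ leechLattice := by
    simp only [frameTest, Bool.and_eq_true] at h
    exact fun s hs => mem_of_leechTest (List.all_eq_true.mp h.2 s hs)
  let M : AddSubgroup (GolayPt → ℤ) :=
    { carrier := {u | u ∈ leechLattice ∧ coord (rowsFrame R) u ∈ leechLattice}
      zero_mem' := ⟨zero_mem _, by
        have : coord (rowsFrame R) 0 = 0 := by funext i; simp [coord, dotInt]
        rw [this]; exact zero_mem _⟩
      add_mem' := fun {a b} ha hb => ⟨add_mem ha.1 hb.1, by rw [coord_add hv ha.1]; exact add_mem ha.2 hb.2⟩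
      neg_mem' := fun {a} ha => ⟨neg_mem ha.1, by
        have h0 := coord_add hv (w := -a) ha.1
        have h1 : coord (rowsFrame R) 0 = 0 := by funext i; simp [coord, dotInt]
        rw [add_neg_cancel, h1] at h0
        rw [← neg_eq_of_add_eq_zero_right h0.symm]
        exact neg_mem ha.2⟩ }
  have hle : leechLattice ≤ M := leech_le_of_spanVecs M fun s hs => ⟨spanVecs_mem s hs, h5 s hs⟩
  have hsub : coordLattice (isFrame_of_test h) ≤ leechLattice := by
    rintro _ ⟨u, hu, rfl⟩
    exact (hle hu).2
  exact le_antisymm hsub fun z hz =>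
    mem_coordLattice_of_dual _ fun x hx => eight_dvd_dot hz (hsub hx)

/-- The automorphism of a checked list of rows. -/
noncomputable def rowsAut {R : List (List ℤ)} (h : frameTest R = true) : Co0 :=
  frameAut (isFrame_of_test h) (coordLattice_of_test h)

theorem coe_rowsAut {R : List (List ℤ)} (h : frameTest R = true) (u : leechLattice) :
    ((rowsAut h • u : leechLattice) : GolayPt → ℤ) =
      fun i => dotInt (u : GolayPt → ℤ) (rowsFrame R i) / 8 := rfl

end CfsgLib.Golay
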