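import Mathlib
import Cfsg.Prelude.Def_Transfer
import Cfsg.Prelude.Def_Solvable
import Cfsg.Agent.Lib.PGroup.Frattini
import Cfsg.Agent.Lib.PCore.Basic
import Cfsg.Agent.Classical.SLGen
import Cfsg.Agent.Classical.SLBasic

/-!
# The centraliser of a transvection in `SL(5, 2)`

It is `2^(1+6) : L3(2)`: in the coordinates `x = mk a r c B` the kernel of `x ↦ B` is extraspecial.
-/

set_option autoImplicit false

namespace CfsgLib.Transvection

open Matrix
open scoped commutatorElement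

set_option maxRecDepth 4000

/-- The field with two elements. -/
abbrev F2 := ZMod 2

theorem f2_cases (a : F2) : a = 0 ∨ a = 1 := by
  revert a; decide

/-- The determinant of an invertible matrix over two elements is one. -/
theorem det_eq_one {n : ℕ} {A B : Matrix (Fin n) (Fin n) F2} (h : A * B = 1) : A.det = 1 := by
  rcases f2_cases A.det with h0 | h1
  · have := congrArg Matrix.det h
    rw [Matrix.det_mul, Matrix.det_one, h0, zero_mul] at this
    exact absurd this zero_ne_one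
  · exact h1

/-- The transvection. -/
def s5 : SpecialLinearGroup (Fin 5) F2 :=
  ⟨Matrix.transvection 0 1 1, Matrix.det_transvection_of_ne 0 1 (by decide) 1⟩

/-- Its centraliser. -/
abbrev C5 : Subgroup (SpecialLinearGroup (Fin 5) F2) := Subgroup.centralizer {s5}

/-- The position of the block. -/
def blk : Fin 3 → Fin 5 := ![2, 3, 4]

/-- The shape of the elements of the centraliser. -/
def mk (a : F2) (r c : Fin 3 → F2) (B : Matrix (Fin 3) (Fin 3) F2) : Matrix (Fin 5) (Fin 5) F2 :=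
  !![1, a, r 0, r 1, r 2;
     0, 1, 0, 0, 0;
     0, c 0, B 0 0, B 0 1, B 0 2;
     0, c 1, B 1 0, B 1 1, B 1 2;
     0, c 2, B 2 0, B 2 1, B 2 2]

theorem mk_mul (a a' : F2) (r c r' c' : Fin 3 → F2) (B B' : Matrix (Fin 3) (Fin 3) F2) :
    mk a r c B * mk a' r' c' B' =
      mk (a + a' + r ⬝ᵥ c') (r' + r ᵥ* B') (c + B *ᵥ c') (B * B') := by
  ext i j
  fin_cases i <;> fin_cases j <;>
    simp [mk, Matrix.mul_apply, Fin.sum_univ_five, Fin.sum_univ_three, dotProduct, Matrix.mulVec,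
      Matrix.vecMul, add_assoc, add_comm, add_left_comm, mul_comm]

theorem mk_one : mk 0 0 0 1 = 1 := by
  ext i j
  fin_cases i <;> fin_cases j <;> simp [mk, Matrix.one_apply]

theorem mk_comm_transvection (a : F2) (r c : Fin 3 → F2) (B : Matrix (Fin 3) (Fin 3) F2) :
    mk a r c B * Matrix.transvection 0 1 1 = Matrix.transvection 0 1 1 * mk a r c B := by
  ext i j
  fin_cases i <;> fin_cases j <;>
    simp [mk, Matrix.transvection, Matrix.mul_apply, Fin.sum_univ_five, Matrix.one_apply, Matrix.single_apply,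
      add_comm]

theorem exists_mk (x : ↥C5) : ∃ a r c B, (x : SpecialLinearGroup (Fin 5) F2).1 = mk a r c B := by
  set M := (x : SpecialLinearGroup (Fin 5) F2).1 with hM
  have hcomm : M * Matrix.transvection 0 1 1 = Matrix.transvection 0 1 1 * M :=
    congrArg (fun y : SpecialLinearGroup (Fin 5) F2 => y.1) (Subgroup.mem_centralizer_singleton_iff.mp x.2)
  rw [Matrix.transvection, mul_add, add_mul, mul_one, one_mul] at hcomm
  have hE := add_left_cancel hcomm
  have hent : ∀ i j, (if 1 = j then M i 0 else 0) = (if 0 = i then M 1 j else 0) := by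
    intro i j
    have h := congrFun (congrFun hE i) j
    by_cases hj : 1 = j <;> by_cases hi : 0 = i
    · subst hj hi; simpa using h
    · subst hj
      rw [Matrix.mul_single_apply_same, Matrix.single_mul_apply_of_ne _ _ _ _ _ (Ne.symm hi), mul_one] at h
      simpa [hi] using h
    · subst hi
      rw [Matrix.mul_single_apply_of_ne _ _ _ _ _ (Ne.symm hj), Matrix.single_mul_apply_same, one_mul] at h
      simpa [hj] using h
    · simp [hi, hj]
  have h00 : M 0 0 = M 1 1 := by simpa using hent 0 1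
  have hcol : ∀ i, i ≠ 0 → M i 0 = 0 := fun i hi => by simpa [Ne.symm hi] using hent i 1
  have hrow : ∀ j, j ≠ 1 → M 1 j = 0 := fun j hj => by simpa [Ne.symm hj, eq_comm] using hent 0 j
  have h1 : M 0 0 = 1 := by
    rcases f2_cases (M 0 0) with h | h
    · refine absurd ((x : SpecialLinearGroup (Fin 5) F2).2) ?_
      rw [← hM, Matrix.det_eq_zero_of_column_eq_zero 0 fun i => ?_]
      · exact zero_ne_one
      · by_cases hi : i = 0
        · rw [hi, h]
        · exact hcol i hi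
    · exact h
  refine ⟨M 0 1, fun j => M 0 (blk j), fun i => M (blk i) 1, Matrix.of fun i j => M (blk i) (blk j), ?_⟩
  ext i j
  fin_cases i <;> fin_cases j <;> simp [mk, blk, h1, h00.symm.trans h1, hcol, hrow]

theorem block_mk (a : F2) (r c : Fin 3 → F2) (B : Matrix (Fin 3) (Fin 3) F2) :
    (mk a r c B).submatrix blk blk = B := by
  ext i j
  fin_cases i <;> fin_cases j <;> simp [mk, blk]

theorem mk_inj {a a' : F2} {r c r' c' : Fin 3 → F2} {B B' : Matrix (Fin 3) (Fin 3) F2}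
    (h : mk a r c B = mk a' r' c' B') : a = a' ∧ r = r' ∧ c = c' ∧ B = B' := by
  have e := fun i j => congrFun (congrFun h i) j
  refine ⟨by simpa [mk] using e 0 1, funext fun j => ?_, funext fun i => ?_, ?_⟩
  · fin_cases j
    · simpa [mk] using e 0 2
    · simpa [mk] using e 0 3
    · simpa [mk] using e 0 4
  · fin_cases i
    · simpa [mk] using e 2 1
    · simpa [mk] using e 3 1
    · simpa [mk] using e 4 1
  · rw [← block_mk a r c B, h, block_mk]

theorem block_mul (x y : ↥C5) : ((x * y : ↥C5) : SpecialLinearGroup (Fin 5) F2).1.submatrix blk blk =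
    (x : SpecialLinearGroup (Fin 5) F2).1.submatrix blk blk *
      (y : SpecialLinearGroup (Fin 5) F2).1.submatrix blk blk := by
  obtain ⟨a, r, c, B, hx⟩ := exists_mk x
  obtain ⟨a', r', c', B', hy⟩ := exists_mk y
  rw [show ((x * y : ↥C5) : SpecialLinearGroup (Fin 5) F2).1 = mk a r c B * mk a' r' c' B' by
      rw [← hx, ← hy]; rfl, mk_mul, hx, hy, block_mk, block_mk, block_mk]

theorem block_one : ((1 : ↥C5) : SpecialLinearGroup (Fin 5) F2).1.submatrix blk blk = 1 := by
  rw [show ((1 : ↥C5) : SpecialLinearGroup (Fin 5) F2).1 = mk 0 0 0 1 from mk_one.symm, block_mk]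

/-- The block as a homomorphism. -/
def block : ↥C5 →* SpecialLinearGroup (Fin 3) F2 where
  toFun x := ⟨(x : SpecialLinearGroup (Fin 5) F2).1.submatrix blk blk,
    det_eq_one (B := ((x⁻¹ : ↥C5) : SpecialLinearGroup (Fin 5) F2).1.submatrix blk blk)
      (by rw [← block_mul, mul_inv_cancel, block_one])⟩
  map_one' := Subtype.ext block_one
  map_mul' x y := Subtype.ext (block_mul x y)

theorem block_val (x : ↥C5) :
    (block x).1 = (x : SpecialLinearGroup (Fin 5) F2).1.submatrix blk blk := rfl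

/-- An element from its coordinates. -/
def mkC (a : F2) (r c : Fin 3 → F2) (B B' : Matrix (Fin 3) (Fin 3) F2) (h : B * B' = 1) : ↥C5 :=
  ⟨⟨mk a r c B, det_eq_one (B := mk (-(a + r ⬝ᵥ (-(B' *ᵥ c)))) (-(r ᵥ* B')) (-(B' *ᵥ c)) B') (by
    rw [mk_mul, h, ← mk_one]
    congr 1
    · abel
    · abel
    · rw [Matrix.mulVec_neg, Matrix.mulVec_mulVec, h, Matrix.one_mulVec, add_neg_cancel])⟩,
    Subgroup.mem_centralizer_singleton_iff.mpr (Subtype.ext (mk_comm_transvection a r c B))⟩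

/-- The complement. -/
def sec : SpecialLinearGroup (Fin 3) F2 →* ↥C5 where
  toFun B := mkC 0 0 0 B.1 (B⁻¹).1
    (congrArg (fun y : SpecialLinearGroup (Fin 3) F2 => y.1) (mul_inv_cancel B))
  map_one' := Subtype.ext (Subtype.ext mk_one)
  map_mul' B B' := Subtype.ext (Subtype.ext (by
    show mk 0 0 0 (B.1 * B'.1) = mk 0 0 0 B.1 * mk 0 0 0 B'.1
    rw [mk_mul]
    simp))

theorem block_sec (B : SpecialLinearGroup (Fin 3) F2) : block (sec B) = B :=
  Subtype.ext (block_mk 0 0 0 B.1)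

theorem surjective_block : Function.Surjective block := fun B => ⟨sec B, block_sec B⟩

/-- The normal extraspecial subgroup. -/
abbrev Q5 : Subgroup ↥C5 := block.ker

/-- Its elements. -/
def qel (v : F2 × (Fin 3 → F2) × (Fin 3 → F2)) : ↥Q5 :=
  ⟨mkC v.1 v.2.1 v.2.2 1 1 (one_mul 1), Subtype.ext (block_mk _ _ _ _)⟩

theorem qel_mul (v w : F2 × (Fin 3 → F2) × (Fin 3 → F2)) :
    qel v * qel w = qel (v.1 + w.1 + v.2.1 ⬝ᵥ w.2.2, w.2.1 + v.2.1, v.2.2 + w.2.2) := by
  refine Subtype.ext (Subtype.ext (Subtype.ext ?_))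
  show mk v.1 v.2.1 v.2.2 1 * mk w.1 w.2.1 w.2.2 1 = _
  rw [mk_mul, mul_one, Matrix.vecMul_one, Matrix.one_mulVec]
  rfl

theorem bijective_qel : Function.Bijective qel := by
  refine ⟨fun v w h => ?_, fun x => ?_⟩
  · obtain ⟨h1, h2, h3, -⟩ := mk_inj (congrArg (fun z : ↥Q5 => ((z : ↥C5) : SpecialLinearGroup (Fin 5) F2).1) h)
    exact Prod.ext h1 (Prod.ext h2 h3)
  · obtain ⟨a, r, c, B, hx⟩ := exists_mk (x : ↥C5)
    have hB : B = 1 := by
      have h : (x : ↥C5).1.1.submatrix blk blk = (1 : Matrix (Fin 3) (Fin 3) F2) :=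
        congrArg (fun y : SpecialLinearGroup (Fin 3) F2 => y.1) (MonoidHom.mem_ker.mp x.2)
      rw [hx, block_mk] at h
      exact h
    exact ⟨(a, r, c), Subtype.ext (Subtype.ext (Subtype.ext (by rw [hB] at hx; exact hx.symm)))⟩

theorem natCard_Q5 : Nat.card ↥Q5 = 128 := by
  rw [← Nat.card_congr (Equiv.ofBijective qel bijective_qel), Nat.card_eq_fintype_card]
  rfl

theorem natCard_SL3 : Nat.card (SpecialLinearGroup (Fin 3) F2) = 168 := by
  have h := Cfsg.Agent.Classical.card_sl_mul (F := F2) 3 (by norm_num)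
  rw [ZMod.card, Fin.prod_univ_three] at h
  norm_num at h
  rw [Nat.card_eq_fintype_card]
  exact h

theorem natCard_C5 : Nat.card ↥C5 = 21504 := by
  have h := Q5.index_mul_card
  rw [Subgroup.index_ker, MonoidHom.range_eq_top.mpr surjective_block, Subgroup.card_top, natCard_SL3,
    natCard_Q5] at h
  exact h.symm

theorem isPGroup_Q5 : IsPGroup 2 ↥Q5 := IsPGroup.of_card (n := 7) natCard_Q5

theorem qel_one : qel (0, 0, 0) = 1 := Subtype.ext (Subtype.ext (Subtype.ext mk_one))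

theorem qel_commute_iff (v w : F2 × (Fin 3 → F2) × (Fin 3 → F2)) :
    qel v * qel w = qel w * qel v ↔ v.2.1 ⬝ᵥ w.2.2 = w.2.1 ⬝ᵥ v.2.2 := by
  rw [qel_mul, qel_mul, bijective_qel.1.eq_iff, Prod.ext_iff, Prod.ext_iff]
  constructor
  · intro h
    have h1 : v.1 + w.1 + v.2.1 ⬝ᵥ w.2.2 = v.1 + w.1 + w.2.1 ⬝ᵥ v.2.2 := h.1.trans (by rw [add_comm w.1 v.1])
    exact add_left_cancel h1
  · exact fun h => ⟨by simp only [h, add_comm w.1 v.1], add_comm _ _, add_comm _ _⟩

theorem form_nondeg : ∀ r c : Fin 3 → F2, (∀ r' c' : Fin 3 → F2, r ⬝ᵥ c' = r' ⬝ᵥ c) → r = 0 ∧ c = 0 := by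
  intro r c h
  constructor
  · funext i
    simpa using h 0 (Pi.single i 1)
  · funext i
    simpa using (h (Pi.single i 1) 0).symm

theorem mem_center_iff {x : ↥Q5} : x ∈ Subgroup.center ↥Q5 ↔ ∃ a, x = qel (a, 0, 0) := by
  obtain ⟨⟨a, r, c⟩, rfl⟩ := bijective_qel.2 x
  constructor
  · intro h
    obtain ⟨rfl, rfl⟩ := form_nondeg r c fun r' c' =>
      (qel_commute_iff (a, r, c) (0, r', c')).mp (Subgroup.mem_center_iff.mp h (qel (0, r', c'))).symm
    exact ⟨a, rfl⟩
  · rintro ⟨a', h⟩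
    rw [h]
    refine Subgroup.mem_center_iff.mpr fun y => ?_
    obtain ⟨w, rfl⟩ := bijective_qel.2 y
    rw [qel_commute_iff]
    simp

theorem natCard_center : Nat.card (Subgroup.center ↥Q5) = 2 := by
  have e : F2 ≃ ↥(Subgroup.center ↥Q5) := Equiv.ofBijective
    (fun a => ⟨qel (a, 0, 0), mem_center_iff.mpr ⟨a, rfl⟩⟩)
    ⟨fun a b h => (Prod.ext_iff.mp (bijective_qel.1 (congrArg Subtype.val h))).1,
      fun x => by obtain ⟨a, ha⟩ := mem_center_iff.mp x.2; exact ⟨a, Subtype.ext ha.symm⟩⟩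
  rw [← Nat.card_congr e, Nat.card_zmod]

theorem center_of_parts {x : ↥Q5} {a : F2} {v : F2 × (Fin 3 → F2) × (Fin 3 → F2)} (h : x = qel v)
    (h1 : v = (a, 0, 0)) : x ∈ Subgroup.center ↥Q5 :=
  mem_center_iff.mpr ⟨a, h1 ▸ h⟩

theorem commutatorElement_eq (v w : F2 × (Fin 3 → F2) × (Fin 3 → F2)) :
    ⁅qel v, qel w⁆ = qel (v.2.1 ⬝ᵥ w.2.2 + w.2.1 ⬝ᵥ v.2.2, 0, 0) := by
  have h : qel (v.2.1 ⬝ᵥ w.2.2 + w.2.1 ⬝ᵥ v.2.2, 0, 0) * (qel w * qel v) = qel v * qel w := by
    rw [qel_mul w v, qel_mul v w, qel_mul]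
    refine congrArg qel (Prod.ext ?_ (Prod.ext ?_ ?_))
    · simp only [zero_dotProduct, add_zero]
      linear_combination (CharTwo.add_self_eq_zero (w.2.1 ⬝ᵥ v.2.2))
    · simp only [add_zero]; abel
    · simp only [zero_add]; abel
  rw [commutatorElement_def, ← h]
  group

theorem isExtraspecial_Q5 : Cfsg.IsExtraspecial 2 ↥Q5 := by
  haveI : Fact (Nat.Prime 2) := ⟨Nat.prime_two⟩
  have hsq : ∀ x : ↥Q5, x ^ 2 ∈ Subgroup.center ↥Q5 := fun x => by
    obtain ⟨v, rfl⟩ := bijective_qel.2 x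
    rw [pow_two, qel_mul]
    refine center_of_parts rfl (a := v.1 + v.1 + v.2.1 ⬝ᵥ v.2.2) (Prod.ext rfl (Prod.ext ?_ ?_))
    · funext i; exact CharTwo.add_self_eq_zero _
    · funext i; exact CharTwo.add_self_eq_zero _
  have hcomm : commutator ↥Q5 = Subgroup.center ↥Q5 := by
    refine le_antisymm ?_ ?_
    · rw [commutator_def, Subgroup.commutator_le]
      intro x _ y _
      obtain ⟨v, rfl⟩ := bijective_qel.2 x
      obtain ⟨w, rfl⟩ := bijective_qel.2 y
      rw [commutatorElement_eq]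
      exact mem_center_iff.mpr ⟨_, rfl⟩
    · intro x hx
      obtain ⟨a, rfl⟩ := mem_center_iff.mp hx
      rcases f2_cases a with rfl | rfl
      · rw [qel_one]; exact one_mem _
      · have h := commutatorElement_eq (0, Pi.single 0 1, 0) (0, 0, Pi.single 0 1)
        rw [show ((Pi.single 0 1 : Fin 3 → F2) ⬝ᵥ (Pi.single 0 1) + (0 : Fin 3 → F2) ⬝ᵥ 0) = 1 by simp] at h
        rw [← h, commutator_def]
        exact Subgroup.commutator_mem_commutator (Subgroup.mem_top _) (Subgroup.mem_top _)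
  refine ⟨⟨isPGroup_Q5, le_antisymm (CfsgLib.PGroup.frattini_le_of (p := 2) _ hcomm.le hsq)
    (hcomm.ge.trans (CfsgLib.PGroup.commutator_le_frattini isPGroup_Q5)), hcomm⟩, natCard_center⟩

theorem eq_bot_of_normal_two_subgroup {N : Subgroup (SpecialLinearGroup (Fin 3) F2)} (hn : N.Normal)
    (hp : IsPGroup 2 ↥N) : N = ⊥ := by
  haveI : Fact (Nat.Prime 2) := ⟨Nat.prime_two⟩
  have hsim := Cfsg.Agent.Classical.psl_isSimpleGroup (F := F2) (ι := Fin 3) (by norm_num)
  have hc : Subgroup.center (SpecialLinearGroup (Fin 3) F2) = ⊥ := by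
    apply Subgroup.eq_bot_of_card_eq
    rw [Cfsg.Agent.Classical.card_center_sl 3 (by norm_num), ZMod.card]
    rfl
  let e : SpecialLinearGroup (Fin 3) F2 ≃* ProjectiveSpecialLinearGroup (Fin 3) F2 :=
    ((QuotientGroup.quotientBot).symm).trans (QuotientGroup.quotientMulEquivOfEq hc.symm)
  have hsim' : IsSimpleGroup (SpecialLinearGroup (Fin 3) F2) := e.isSimpleGroup
  rcases hn.eq_bot_or_eq_top with h | h
  · exact h
  · obtain ⟨n, hn'⟩ := IsPGroup.iff_card.mp hp
    rw [h, Subgroup.card_top, natCard_SL3] at hn'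
    have h7 : 7 ∣ 2 ^ n := ⟨24, by omega⟩
    have := (Nat.prime_dvd_prime_iff_eq (by norm_num) Nat.prime_two).mp ((by norm_num : Nat.Prime 7).dvd_of_dvd_pow h7)
    omega

theorem pCore_C5 : Cfsg.pCore 2 ↥C5 = Q5 := by
  haveI : Fact (Nat.Prime 2) := ⟨Nat.prime_two⟩
  refine le_antisymm ?_ (CfsgLib.PCore.le_pCore (MonoidHom.normal_ker block) isPGroup_Q5)
  rw [← Subgroup.map_eq_bot_iff]
  exact eq_bot_of_normal_two_subgroup (((inferInstance : (Cfsg.pCore 2 ↥C5).Normal)).map block surjective_block)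
    (CfsgLib.PCore.pCore_isPGroup.map block)

theorem centralizer_Q5 (x : ↥C5) (h : ∀ q ∈ Q5, q * x = x * q) : x ∈ Q5 := by
  obtain ⟨a, r, c, B, hx⟩ := exists_mk x
  rw [MonoidHom.mem_ker]
  refine Subtype.ext ?_
  rw [block_val, hx, block_mk]
  have hr : ∀ r₀ : Fin 3 → F2, r₀ ᵥ* B = r₀ := by
    intro r₀
    have h1 := congrArg (fun z : ↥C5 => (z : SpecialLinearGroup (Fin 5) F2).1)
      (h (qel (0, r₀, 0) : ↥Q5) (qel (0, r₀, 0)).2)
    have h2 : mk 0 r₀ 0 1 * mk a r c B = mk a r c B * mk 0 r₀ 0 1 := hx ▸ h1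
    rw [mk_mul, mk_mul, Matrix.vecMul_one] at h2
    obtain ⟨-, h3, -, -⟩ := mk_inj h2
    exact add_left_cancel (h3.trans (add_comm r₀ r))
  ext i j
  have := congrFun (hr (Pi.single i 1)) j
  simpa [Matrix.one_apply, Pi.single_apply, eq_comm] using this

end CfsgLib.Transvection
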