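import Cfsg.Agent.Lib.Golay.LeechCensus
import Cfsg.Agent.Lib.MonsterType.Monomial

/-!
# Maximality of the monomial group

A group above the monomial group has, on minimal vectors, an orbit made of classes of monomial shapes; likewise
the stabiliser of one of them on the minimal vectors orthogonal to it.  The divisibility of the resulting order
leaves only the two extremes.
-/

set_option autoImplicit false

namespace CfsgLib.Golay

open Cfsg CfsgLib.MonsterType CfsgLib.LeechEight
open scoped Pointwise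

/-! ### Octads missing two points -/

/-- An octad missing the extra point and zero. -/
def missBase : ℕ := 10558

/-- Three elements fixing the two points. -/
def missGens : List (List ℕ) := [27, 251, 8].map fun i => perms.getD i (List.range 24)

/-- The search tree: source position and generator. -/
def missCert : List (ℕ × ℕ) :=
  [(0,0), (0,1), (0,2), (1,1), (1,2), (2,0), (2,1), (2,2), (3,0), (3,1), (3,2), (4,0), (4,1), (4,2),
    (5,0), (5,1), (5,2), (6,1), (6,2), (7,0), (7,1), (7,2), (8,0), (8,1), (8,2), (9,1), (9,2), (10,0),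
    (10,1), (10,2), (11,0), (11,1), (11,2), (12,1), (12,2), (13,0), (13,1), (13,2), (14,0), (14,2), (15,1), (15,2),
    (16,0), (16,1), (16,2), (17,0), (17,1), (17,2), (18,0), (18,1), (18,2), (19,0), (19,2), (20,2), (21,0), (21,1),
    (21,2), (22,0), (22,1), (22,2), (23,1), (23,2), (24,0), (24,1), (24,2), (25,0), (25,1), (26,2), (27,0), (27,2),
    (28,1), (28,2), (29,0), (29,1), (29,2), (30,1), (30,2), (31,1), (32,0), (32,1), (32,2), (33,1), (34,0), (34,1),
    (34,2), (35,1), (35,2), (36,1), (36,2), (37,0), (37,1), (37,2), (38,0), (39,1), (39,2), (40,0), (40,2), (41,0),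
    (41,1), (41,2), (42,1), (42,2), (43,1), (43,2), (44,0), (44,1), (45,0), (45,1), (45,2), (46,1), (46,2), (47,0),
    (47,1), (47,2), (48,0), (48,2), (49,1), (49,2), (50,0), (50,1), (50,2), (51,0), (51,1), (51,2), (52,1), (53,0),
    (53,2), (54,1), (54,2), (55,1), (55,2), (56,0), (56,2), (57,1), (57,2), (58,2), (59,1), (60,1), (60,2), (61,0),
    (61,1), (61,2), (63,1), (63,2), (64,1), (64,2), (65,1), (65,2), (66,2), (67,0), (67,1), (68,0), (68,1), (68,2),
    (69,1), (69,2), (70,0), (70,1), (71,0), (71,1), (72,0), (73,1), (73,2), (74,2), (75,2), (76,0), (76,2), (77,1),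
    (78,0), (78,1), (79,1), (79,2), (80,2), (81,1), (81,2), (82,1), (83,1), (83,2), (84,0), (84,2), (85,2), (86,0),
    (86,1), (86,2), (87,1), (87,2), (88,0), (89,1), (89,2), (90,2), (91,1), (91,2), (92,1), (93,1), (93,2), (94,0),
    (94,1), (95,1), (95,2), (96,1), (96,2), (99,1), (100,0), (100,1), (100,2), (101,1), (102,1), (102,2), (104,0), (104,1),
    (104,2), (106,0), (106,2), (107,1), (107,2), (109,1), (110,1), (110,2), (111,0), (111,1), (111,2), (113,2), (114,2), (115,1),
    (116,0), (116,1), (117,1), (117,2), (118,0), (119,1), (120,0), (120,2), (121,0), (121,1), (123,2), (124,0), (124,2), (125,0),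
    (125,1), (126,1), (127,0), (127,1), (128,0), (128,1), (129,0), (129,1), (129,2), (130,0), (132,1), (133,0), (133,1), (136,0),
    (136,2), (137,1), (139,0), (140,1), (141,1), (141,2), (142,0), (143,2), (146,1), (147,0), (147,1), (147,2), (149,2), (150,1),
    (150,2), (151,0), (152,1), (153,0), (153,2), (154,0), (154,1), (155,1), (156,0), (158,0), (158,1), (159,2), (160,2), (162,0),
    (162,1), (162,2), (165,1), (168,2), (169,2), (170,0), (170,1), (172,2), (179,1), (181,0), (181,2), (189,2), (197,0), (199,0),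
    (200,2), (202,2), (204,2), (205,2), (207,1), (209,1), (210,1), (213,2), (215,2), (216,2), (218,2), (219,1), (219,2), (221,0),
    (225,2), (227,1), (232,2), (233,2), (234,1), (236,2), (239,2), (241,1), (243,2), (244,1), (244,2), (254,2), (255,1), (258,1),
    (260,1), (286,2), (287,1), (294,1), (297,0), (297,1), (305,1)]

/-- Replay of the tree. -/
def missRun : List (ℕ × ℕ) → List ℕ → List ℕ
  | [], acc => acc
  | (k, j) :: r, acc => missRun r (acc ++ [pmap (missGens.getD j (List.range 24)) (acc.getD k missBase)])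

theorem exists_missGen (j : ℕ) :
    ∃ σ ∈ M24, σ none = none ∧ σ (some 0) = some 0 ∧ toList σ = missGens.getD j (List.range 24) := by
  have hall : (missGens.all fun l => l.getD 23 0 == 23 && l.getD 0 0 == 0) = true := by decide +kernel
  by_cases hj : j < missGens.length
  · have hmem : missGens.getD j (List.range 24) ∈ missGens := by
      rw [List.getD_eq_getElem _ _ hj]; exact List.getElem_mem _
    have hl := List.all_eq_true.mp hall _ hmem
    rw [Bool.and_eq_true, beq_iff_eq, beq_iff_eq] at hl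
    simp only [missGens, List.mem_map] at hmem
    obtain ⟨i, -, hi⟩ := hmem
    obtain ⟨σ, hσ, hσl⟩ := inG0_getD inG0_perms i
    rw [hi] at hσl
    change toList σ = missGens.getD j (List.range 24) at hσl
    refine ⟨σ, G0_le_M24 hσ, ?_, ?_, hσl⟩
    · apply idx_injective; apply Fin.ext
      rw [← toList_getD σ none, hσl]; exact hl.1
    · apply idx_injective; apply Fin.ext
      rw [← toList_getD σ (some 0), hσl]; exact hl.2
  · rw [List.getD_eq_default _ _ (not_lt.mp hj)]
    exact ⟨1, one_mem _, rfl, rfl, toList_one⟩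

/-- Images of the base octad under elements fixing the two points. -/
def Reach (n : ℕ) : Prop :=
  ∃ σ ∈ M24, σ none = none ∧ σ (some 0) = some 0 ∧ encS (σ • decS missBase) = n

theorem reach_base : Reach missBase :=
  ⟨1, one_mem _, rfl, rfl, by rw [one_smul, encS_decS (by decide)]⟩

theorem reach_run : ∀ (P : List (ℕ × ℕ)) (acc : List ℕ), (∀ n ∈ acc, Reach n) → ∀ n ∈ missRun P acc, Reach n := by
  intro P
  induction P with
  | nil => intro acc h; exact h
  | cons x P ih =>
    intro acc h
    obtain ⟨k, j⟩ := x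
    refine ih _ fun n hn => ?_
    rcases List.mem_append.mp hn with hn | hn
    · exact h n hn
    · rw [List.mem_singleton] at hn
      have hk : Reach (acc.getD k missBase) := by
        by_cases hk : k < acc.length
        · rw [List.getD_eq_getElem _ _ hk]; exact h _ (List.getElem_mem _)
        · rw [List.getD_eq_default _ _ (not_lt.mp hk)]; exact reach_base
      obtain ⟨τ, hτ, h1, h2, h3⟩ := hk
      obtain ⟨σ, hσ, g1, g2, g3⟩ := exists_missGen j
      refine ⟨σ * τ, mul_mem hσ hτ, by simp [h1, g1], by simp [h2, g2], ?_⟩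
      rw [hn, mul_smul, encS_smul, h3, g3]

theorem exists_missing {o : Finset GolayPt} (ho : o ∈ octads) (h1 : none ∉ o) (h2 : some 0 ∉ o) :
    ∃ σ ∈ M24, σ none = none ∧ σ (some 0) = some 0 ∧ σ • decS missBase = o := by
  have hall : ((List.range 4096).all fun k => !(popc (codeWord k) == 8 && !(codeWord k).testBit 23 &&
      !(codeWord k).testBit 0) || (missRun missCert [missBase]).contains (codeWord k)) = true := by
    decide +kernel
  obtain ⟨hc, hw⟩ := mem_octads.mp ho
  obtain ⟨k, hk, hkn⟩ := exists_codeWord hc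
  have h := List.all_eq_true.mp hall k (List.mem_range.mpr hk)
  rw [hkn] at h
  have e1 : (encS o).testBit 23 = false := by
    rw [show 23 = (idx none).val from rfl, testBit_encS]; simp [h1]
  have e2 : (encS o).testBit 0 = false := by
    rw [show 0 = (idx (some 0)).val from rfl, testBit_encS]; simp [h2]
  simp only [hw, e1, e2, beq_self_eq_true, Bool.not_false, Bool.and_true, Bool.not_true, Bool.false_or,
    List.contains_iff_mem] at h
  obtain ⟨σ, hσ, g1, g2, g3⟩ := reach_run _ _ (by intro n hn; rw [List.mem_singleton] at hn; exact hn ▸ reach_base) _ h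
  exact ⟨σ, hσ, g1, g2, encS_injective g3⟩

theorem decS_missBase_mem : decS missBase ∈ octads := by
  rw [mem_octads, encS_decS (by decide)]
  decide +kernel

/-! ### Code words with prescribed values -/

theorem exists_word_four (S : Finset GolayPt) (hS : S.card ≤ 4) (f : GolayPt → ZMod 2) :
    ∃ c : golayCode, ∀ p ∈ S, c.1 p = f p := by
  classical
  obtain ⟨T, hST, hT⟩ := Finset.exists_superset_card_eq hS (by rw [card_golayPt]; norm_num : (4 : ℕ) ≤ _)
  obtain ⟨g, hg, hgL⟩ := exists_map_eq (L := [none, some 0, some 1, some 2]) (L' := T.toList) (by decide)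
    T.nodup_toList (by rw [Finset.length_toList, hT]; rfl) (by simp)
  have hstd : ∀ a b c d : Bool, (List.range 4096).any (fun k => (codeWord k).testBit 23 == a &&
      (codeWord k).testBit 0 == b && (codeWord k).testBit 1 == c && (codeWord k).testBit 2 == d) = true := by
    decide +kernel
  obtain ⟨k, -, hk⟩ := List.any_eq_true.mp (hstd (decide (f (g none) = 1)) (decide (f (g (some 0)) = 1))
    (decide (f (g (some 1)) = 1)) (decide (f (g (some 2)) = 1)))
  simp only [Bool.and_eq_true, beq_iff_eq] at hk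
  obtain ⟨⟨⟨k1, k2⟩, k3⟩, k4⟩ := hk
  refine ⟨⟨_, act_code hg ⟨dec (codeWord k), dec_codeWord_mem k⟩⟩, fun p hp => ?_⟩
  have hpT : p ∈ T.toList := Finset.mem_toList.mpr (hST hp)
  rw [← hgL, List.mem_map] at hpT
  obtain ⟨q, hq, rfl⟩ := hpT
  show CfsgLib.GolayModule.act g (dec (codeWord k)) (g q) = f (g q)
  rw [CfsgLib.GolayModule.act_apply, Equiv.symm_apply_apply, dec]
  have hcase : ∀ (b : Bool) (a : ZMod 2), b = decide (a = 1) → (if b then (1 : ZMod 2) else 0) = a := by
    decide
  simp only [List.mem_cons, List.not_mem_nil, or_false] at hq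
  rcases hq with rfl | rfl | rfl | rfl
  exacts [hcase _ _ k1, hcase _ _ k2, hcase _ _ k3, hcase _ _ k4]

theorem exists_word_base_mask :
    ((List.range 10559).all fun n => !(Nat.land n missBase == n && popc n % 2 == 0) ||
      (List.range 4096).any fun k => Nat.land (codeWord k) (missBase + 8388609) == n) = true := by
  decide +kernel

theorem exists_word_base {D : Finset GolayPt} (hD : D ⊆ decS missBase) (heven : D.card % 2 = 0) :
    (List.range 4096).any (fun k => Nat.land (codeWord k) (missBase + 8388609) == encS D) = true := by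
  have hand : Nat.land (encS D) missBase = encS D := by
    have h := subset_iff_and.mp hD
    rwa [encS_decS (by decide)] at h
  have hlt : encS D < 10559 := by
    have h : encS D &&& missBase ≤ missBase := Nat.and_le_right
    rw [show encS D &&& missBase = Nat.land (encS D) missBase from rfl, hand] at h
    exact Nat.lt_succ_of_le h
  have h := List.all_eq_true.mp exists_word_base_mask _ (List.mem_range.mpr hlt)
  simpa [hand, show encS D &&& missBase = encS D from hand, popc_encS, heven] using h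

/-- Even subsets of an octad are cut out by code words. -/
theorem exists_word_octad {o : Finset GolayPt} (ho : o ∈ octads) {D : Finset GolayPt} (hD : D ⊆ o)
    (heven : D.card % 2 = 0) :
    ∃ c : golayCode, (∀ p ∈ o, (c.1 p = 0 ↔ p ∉ D)) ∧
      (none ∉ o → some 0 ∉ o → c.1 none = 0 ∧ c.1 (some 0) = 0) := by
  classical
  obtain ⟨σ, hσ, hσo, hfix⟩ : ∃ σ ∈ M24, σ • decS missBase = o ∧
      (none ∉ o → some 0 ∉ o → σ none = none ∧ σ (some 0) = some 0) := by
    by_cases h : none ∉ o ∧ some 0 ∉ o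
    · obtain ⟨σ, hσ, g1, g2, g3⟩ := exists_missing ho h.1 h.2
      exact ⟨σ, hσ, g3, fun _ _ => ⟨g1, g2⟩⟩
    · obtain ⟨σ, hσ, g⟩ := exists_smul_octad_eq decS_missBase_mem ho
      exact ⟨σ, hσ, g, fun h1 h2 => absurd ⟨h1, h2⟩ h⟩
  have hD0 : σ⁻¹ • D ⊆ decS missBase := by
    rw [← inv_smul_smul σ (decS missBase), hσo]; exact Finset.smul_finset_subset_smul_finset hD
  obtain ⟨k, -, hk⟩ := List.any_eq_true.mp (exists_word_base (D := σ⁻¹ • D) hD0
    (by rwa [Finset.card_smul_finset]))
  rw [beq_iff_eq] at hk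
  have hbit : ∀ q, (missBase + 8388609).testBit (idx q).val = true →
      (codeWord k).testBit (idx q).val = decide (q ∈ σ⁻¹ • D) := by
    intro q hq
    rw [← testBit_encS, ← hk, show Nat.land (codeWord k) (missBase + 8388609) =
      codeWord k &&& (missBase + 8388609) from rfl, Nat.testBit_and, hq, Bool.and_true]
  have hmask : ∀ q, q ∈ decS missBase ∨ q = none ∨ q = some 0 →
      (missBase + 8388609).testBit (idx q).val = true := by decide +kernel
  refine ⟨⟨_, act_code hσ ⟨dec (codeWord k), dec_codeWord_mem k⟩⟩, fun p hp => ?_, fun h1 h2 => ?_⟩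
  · show CfsgLib.GolayModule.act σ (dec (codeWord k)) p = 0 ↔ _
    rw [← hσo, Finset.mem_smul_finset] at hp
    obtain ⟨q, hq, rfl⟩ := hp
    have hb := hbit q (hmask q (Or.inl hq))
    have hi : q ∈ σ⁻¹ • D ↔ σ q ∈ D := by rw [Finset.mem_inv_smul_finset_iff]; rfl
    rw [CfsgLib.GolayModule.act_apply, Equiv.Perm.smul_def, Equiv.symm_apply_apply]
    by_cases h : σ q ∈ D <;> simp [dec, hb, hi, h]
  · obtain ⟨g1, g2⟩ := hfix h1 h2
    refine ⟨?_, ?_⟩
    · show CfsgLib.GolayModule.act σ (dec (codeWord k)) none = 0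
      have hn : none ∉ σ⁻¹ • D := by
        rw [Finset.mem_inv_smul_finset_iff, Equiv.Perm.smul_def, g1]; exact fun h => h1 (hD h)
      rw [CfsgLib.GolayModule.act_apply, (Equiv.symm_apply_eq σ).mpr g1.symm, dec,
        hbit none (hmask none (Or.inr (Or.inl rfl)))]
      simp [hn]
    · show CfsgLib.GolayModule.act σ (dec (codeWord k)) (some 0) = 0
      have hn : some 0 ∉ σ⁻¹ • D := by
        rw [Finset.mem_inv_smul_finset_iff, Equiv.Perm.smul_def, g2]; exact fun h => h2 (hD h)
      rw [CfsgLib.GolayModule.act_apply, (Equiv.symm_apply_eq σ).mpr g2.symm, dec,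
        hbit _ (hmask _ (Or.inr (Or.inr rfl)))]
      simp [hn]

/-! ### The classes of minimal vectors -/

/-- The admissible entries of a shape. -/
def okT (t : Fin 3) (v : ℤ) : Bool :=
  if t = 0 then decide (v = 0 ∨ v = 4 ∨ v = -4)
  else if t = 1 then decide (v = 0 ∨ v = 2 ∨ v = -2) else decide (v = 1 ∨ v = -1 ∨ v = 3 ∨ v = -3)

theorem okT_neg (t : Fin 3) (v : ℤ) : okT t (-v) = okT t v := by
  rw [Bool.eq_iff_iff]
  fin_cases t <;> simp [okT] <;> omega

/-- The large absolute value of a shape. -/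
def bigT (t : Fin 3) : ℤ := ![4, 2, 3] t

/-- The small absolute value of a shape. -/
def smallT (t : Fin 3) : ℤ := ![0, 0, 1] t

theorem abs_cases {t : Fin 3} {v : ℤ} (h : okT t v = true) : |v| = bigT t ∨ |v| = smallT t := by
  fin_cases t <;> simp [okT, bigT, smallT] at h ⊢ <;> rcases h with rfl | rfl | h <;>
    (try rcases h with rfl | rfl) <;> simp_all

/-- The minimal vectors of one shape. -/
def clsA (t : Fin 3) : Set leechLattice :=
  {x | sqNorm (x : GolayPt → ℤ) = 32 ∧ ∀ p, okT t ((x : GolayPt → ℤ) p) = true}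

/-- The positions of the large entries. -/
def keyPts (t : Fin 3) (x : GolayPt → ℤ) : Finset GolayPt := Finset.univ.filter fun p => |x p| = bigT t

theorem abs_eq_ite {t : Fin 3} {x : leechLattice} (hx : x ∈ clsA t) (p : GolayPt) :
    |(x : GolayPt → ℤ) p| = if p ∈ keyPts t x then bigT t else smallT t := by
  simp only [keyPts, Finset.mem_filter, Finset.mem_univ, true_and]
  rcases abs_cases (hx.2 p) with h | h <;> split_ifs with h' <;> simp_all

theorem card_keyPts {t : Fin 3} {x : leechLattice} (hx : x ∈ clsA t) :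
    (keyPts t (x : GolayPt → ℤ)).card = ![2, 8, 1] t := by
  have h : ∑ p, (if p ∈ keyPts t x then bigT t ^ 2 else smallT t ^ 2) = 32 := by
    rw [← hx.1]
    refine Finset.sum_congr rfl fun p _ => ?_
    rw [← sq_abs ((x : GolayPt → ℤ) p), abs_eq_ite hx p]
    split_ifs <;> rfl
  rw [Finset.sum_ite, Finset.sum_const, Finset.sum_const, Finset.filter_mem_eq_inter, Finset.univ_inter,
    Finset.filter_not, Finset.filter_mem_eq_inter, Finset.univ_inter, Finset.card_univ_diff, card_golayPt] at h
  have hle : (keyPts t (x : GolayPt → ℤ)).card ≤ 24 := card_golayPt ▸ Finset.card_le_univ _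
  simp only [nsmul_eq_mul] at h
  push_cast [hle] at h
  fin_cases t <;> simp [bigT, smallT] at h ⊢ <;> omega

theorem shape_unique {i j : Fin 3} {x : leechLattice} (hx : x ∈ clsA i) (hx' : x ∈ clsA j) : i = j := by
  obtain ⟨p, hp⟩ : (keyPts i (x : GolayPt → ℤ)).Nonempty := by
    rw [← Finset.card_pos, card_keyPts hx]; fin_cases i <;> simp
  obtain ⟨q, hq⟩ : (keyPts j (x : GolayPt → ℤ)).Nonempty := by
    rw [← Finset.card_pos, card_keyPts hx']; fin_cases j <;> simp
  simp only [keyPts, Finset.mem_filter, Finset.mem_univ, true_and] at hp hq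
  have e1 := hx'.2 p
  have e2 := hx.2 q
  fin_cases i <;> fin_cases j <;> simp [okT, bigT] at hp hq e1 e2 ⊢
  all_goals first
    | (rcases abs_cases (hx.2 p) with e | e <;> rcases e1 with h | h | h <;> simp [h] at hp) 
    | (rcases e2 with h | h | h <;> simp [h] at hq)

theorem inLeech_zero_of_one {x : leechLattice} (hx : x ∈ clsA 1) : InLeech (x : GolayPt → ℤ) 0 := by
  rcases mem_leechLattice'.mp x.2 with h | h
  · exact h
  · have h1 := (h.1 none).symm.dvd
    have h2 := hx.2 none
    simp [okT] at h2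
    omega

theorem inLeech_one_of_two {x : leechLattice} (hx : x ∈ clsA 2) : InLeech (x : GolayPt → ℤ) 1 := by
  rcases mem_leechLattice'.mp x.2 with h | h
  · have h1 := (h.1 none).symm.dvd
    have h2 := hx.2 none
    simp [okT] at h2
    omega
  · exact h

theorem keyPts_octad {x : leechLattice} (hx : x ∈ clsA 1) : keyPts 1 (x : GolayPt → ℤ) ∈ octads := by
  have e : keyPts 1 (x : GolayPt → ℤ) = support₂ (twoWord (x : GolayPt → ℤ) 0) := by
    ext p
    have h := hx.2 p
    simp only [keyPts, support₂, Finset.mem_filter, Finset.mem_univ, true_and, twoWord, intCast_ne_zero_iff]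
    simp [okT, bigT] at h ⊢
    rcases h with e | e | e <;> simp [e]
  refine ⟨?_, by simpa using card_keyPts hx⟩
  rw [e]
  exact ⟨_, (inLeech_zero_of_one hx).2.2, rfl⟩

theorem sgnW_smul_eq {z y : leechLattice} {c : golayCode}
    (habs : ∀ p, |(z : GolayPt → ℤ) p| = |(y : GolayPt → ℤ) p|)
    (hc : ∀ p, (z : GolayPt → ℤ) p ≠ 0 → (c.1 p = 0 ↔ (z : GolayPt → ℤ) p = (y : GolayPt → ℤ) p)) :
    sgnW c • z = y := by
  refine Subtype.ext (funext fun p => ?_)
  rw [sgnW_apply]
  by_cases h0 : (z : GolayPt → ℤ) p = 0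
  · have := habs p
    rw [h0, abs_zero, eq_comm, abs_eq_zero] at this
    simp [h0, this]
  · rcases abs_eq_abs.mp (habs p) with h | h
    · rw [if_pos ((hc p h0).mpr h), h]
    · rw [if_neg fun h' => h0 (by have := (hc p h0).mp h'; omega), h, neg_neg]

/-- Two vectors of a shape with the same absolute values differ by a code word of signs. -/
theorem exists_sign {t : Fin 3} {z y : leechLattice} (hz : z ∈ clsA t) (hy : y ∈ clsA t)
    (habs : ∀ p, |(z : GolayPt → ℤ) p| = |(y : GolayPt → ℤ) p|) :
    ∃ c : golayCode, sgnW c • z = y ∧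
      (((y : GolayPt → ℤ) none = 0 ↔ (y : GolayPt → ℤ) (some 0) = 0) →
        (z : GolayPt → ℤ) none = (y : GolayPt → ℤ) none →
        (z : GolayPt → ℤ) (some 0) = (y : GolayPt → ℤ) (some 0) → c.1 none = 0 ∧ c.1 (some 0) = 0) := by
  classical
  fin_cases t
  · obtain ⟨c, hc⟩ := exists_word_four (keyPts 0 z ∪ {none, some 0})
      ((Finset.card_union_le _ _).trans (by
        have h1 := card_keyPts hz
        have h2 := Finset.card_le_two (a := (none : GolayPt)) (b := some 0)
        simp at h1
        omega))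
      (fun p => if (z : GolayPt → ℤ) p = (y : GolayPt → ℤ) p then 0 else 1)
    refine ⟨c, sgnW_smul_eq habs fun p hp => ?_, fun _ e1 e2 => ⟨?_, ?_⟩⟩
    · rw [hc p (Finset.mem_union_left _ ?_)]
      · split_ifs with h <;> simp [h]
      · simp only [keyPts, Finset.mem_filter, Finset.mem_univ, true_and]
        rcases abs_cases (hz.2 p) with h | h
        · exact h
        · exact absurd (abs_eq_zero.mp (by simpa [smallT] using h)) hp
    · rw [hc none (by simp), if_pos e1]
    · rw [hc (some 0) (by simp), if_pos e2]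
  · set o := keyPts 1 (z : GolayPt → ℤ) with ho
    set D := o.filter fun p => (z : GolayPt → ℤ) p ≠ (y : GolayPt → ℤ) p with hD
    have hzero : ∀ p, p ∉ o ↔ (z : GolayPt → ℤ) p = 0 := fun p => by
      have h := hz.2 p
      simp only [ho, keyPts, Finset.mem_filter, Finset.mem_univ, true_and]
      simp [okT, bigT] at h ⊢
      rcases h with e | e | e <;> simp [e]
    have heven : D.card % 2 = 0 := by
      have h1 := (inLeech_zero_of_one hz).2.1
      have h2 := (inLeech_zero_of_one hy).2.1
      have h3 : (∑ p, ((z : GolayPt → ℤ) p - (y : GolayPt → ℤ) p)) ≡ ∑ p, (if p ∈ D then 4 else 0) [ZMOD 8] := by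
        refine Int.ModEq.sum fun p _ => ?_
        by_cases hp : p ∈ D
        · rw [if_pos hp, Int.modEq_iff_dvd]
          simp only [hD, Finset.mem_filter] at hp
          have h := hz.2 p
          have hne : (z : GolayPt → ℤ) p ≠ 0 := fun e => ((hzero p).mpr e) hp.1
          simp [okT] at h
          rcases abs_eq_abs.mp (habs p) with e | e
          · exact absurd e hp.2
          · omega
        · rw [if_neg hp]
          simp only [hD, Finset.mem_filter, not_and, not_not] at hp
          by_cases hpo : p ∈ o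
          · rw [hp hpo, sub_self]
          · have := habs p
            rw [(hzero p).mp hpo, abs_zero, eq_comm, abs_eq_zero] at this
            rw [(hzero p).mp hpo, this, sub_self]
      rw [Finset.sum_sub_distrib, ← Finset.sum_filter, Finset.sum_const, nsmul_eq_mul,
        Finset.filter_mem_eq_inter, Finset.univ_inter] at h3
      have h4 := (h1.sub h2).symm.trans h3
      have h5 := h4.dvd
      omega
    obtain ⟨c, hc, hc'⟩ := exists_word_octad (keyPts_octad hz) (D := D) (Finset.filter_subset _ _) heven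
    refine ⟨c, sgnW_smul_eq habs fun p hp => ?_, fun e0 e1 e2 => ?_⟩
    · have hpo : p ∈ o := by_contra fun h => hp ((hzero p).mp h)
      rw [hc p hpo]
      simp [hD, hpo]
    · by_cases hn : (none : GolayPt) ∈ o
      · have hs : (some 0 : GolayPt) ∈ o := by
          by_contra h
          have h' := (hzero _).mp h
          rw [e2, ← e0, ← e1] at h'
          exact (hzero _).mpr h' hn
        exact ⟨(hc _ hn).mpr (by simp [hD, e1]), (hc _ hs).mpr (by simp [hD, e2])⟩
      · refine hc' hn ((hzero _).mpr ?_)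
        have h' := (hzero _).mp hn
        rw [e1, e0, ← e2] at h'
        exact h'
  · have hmem := sub_mem (inLeech_one_of_two hz).2.2 (inLeech_one_of_two hy).2.2
    have key : ∀ p, (twoWord (z : GolayPt → ℤ) 1 - twoWord (y : GolayPt → ℤ) 1) p = 0 ↔
        (z : GolayPt → ℤ) p = (y : GolayPt → ℤ) p := by
      intro p
      have h := hz.2 p
      simp only [Pi.sub_apply, sub_eq_zero, twoWord, ZMod.intCast_eq_intCast_iff_dvd_sub]
      simp [okT] at h
      rcases abs_eq_abs.mp (habs p) with e | e <;> omega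
    exact ⟨⟨_, hmem⟩, sgnW_smul_eq habs fun p _ => key p, fun _ e1 e2 => ⟨(key _).mpr e1, (key _).mpr e2⟩⟩

theorem permW_mem_clsA {t : Fin 3} {x : leechLattice} (hx : x ∈ clsA t) (σ : M24) : permW σ • x ∈ clsA t :=
  ⟨by rw [sqNorm_smul_lat]; exact hx.1, fun p => by rw [permW_apply]; exact hx.2 _⟩

theorem exists_move {t : Fin 3} {x y : leechLattice} (hx : x ∈ clsA t) (hy : y ∈ clsA t) (σ : M24)
    (hK : (σ : Equiv.Perm GolayPt) • keyPts t (x : GolayPt → ℤ) = keyPts t y) :
    ∃ c : golayCode, (sgnW c * permW σ) • x = y ∧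
      (((y : GolayPt → ℤ) none = 0 ↔ (y : GolayPt → ℤ) (some 0) = 0) →
        ((permW σ • x : leechLattice) : GolayPt → ℤ) none = (y : GolayPt → ℤ) none →
        ((permW σ • x : leechLattice) : GolayPt → ℤ) (some 0) = (y : GolayPt → ℤ) (some 0) →
        c.1 none = 0 ∧ c.1 (some 0) = 0) := by
  obtain ⟨c, hc, hc'⟩ := exists_sign (permW_mem_clsA hx σ) hy fun p => by
    rw [permW_apply, abs_eq_ite hx, abs_eq_ite hy, ← hK]
    refine if_congr ?_ rfl rfl
    rw [← Finset.smul_mem_smul_finset_iff (σ : Equiv.Perm GolayPt), Equiv.Perm.smul_def,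
      Equiv.apply_symm_apply]
  exact ⟨c, by rw [mul_smul, hc], hc'⟩

theorem perm_smul_pair (σ : Equiv.Perm GolayPt) (a b : GolayPt) :
    σ • ({a, b} : Finset GolayPt) = {σ a, σ b} := by
  simp [Finset.smul_finset_insert]

theorem transitive_clsA {t : Fin 3} {x y : leechLattice} (hx : x ∈ clsA t) (hy : y ∈ clsA t) :
    ∃ γ ∈ MulAction.stabilizer Co0 stdCrossL, γ • x = y := by
  have key : ∀ σ : M24, (σ : Equiv.Perm GolayPt) • keyPts t (x : GolayPt → ℤ) = keyPts t y →
      ∃ γ ∈ MulAction.stabilizer Co0 stdCrossL, γ • x = y := fun σ h => by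
    obtain ⟨c, hc, -⟩ := exists_move hx hy σ h
    exact ⟨_, mem_stabilizer_stdCrossL.mpr ⟨c, σ, rfl⟩, hc⟩
  fin_cases t
  · obtain ⟨a, b, hab, e⟩ := Finset.card_eq_two.mp (by simpa using card_keyPts hx)
    obtain ⟨a', b', hab', e'⟩ := Finset.card_eq_two.mp (by simpa using card_keyPts hy)
    obtain ⟨g, hg, hgL⟩ := exists_map_eq (L := [a, b]) (L' := [a', b']) (by simp [hab]) (by simp [hab']) rfl
      (by simp)
    simp only [List.map_cons, List.map_nil, List.cons.injEq, and_true] at hgL
    refine key ⟨g, hg⟩ ?_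
    show g • keyPts 0 (x : GolayPt → ℤ) = keyPts 0 y
    rw [e, e', perm_smul_pair, hgL.1, hgL.2]
  · obtain ⟨g, hg, e⟩ := exists_smul_octad_eq (keyPts_octad hx) (keyPts_octad hy)
    exact key ⟨g, hg⟩ e
  · obtain ⟨a, e⟩ := Finset.card_eq_one.mp (by simpa using card_keyPts hx)
    obtain ⟨a', e'⟩ := Finset.card_eq_one.mp (by simpa using card_keyPts hy)
    obtain ⟨g, hg, hgL⟩ := exists_map_eq (L := [a]) (L' := [a']) (by simp) (by simp) rfl (by simp)
    simp only [List.map_cons, List.map_nil, List.cons.injEq, and_true] at hgL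
    refine key ⟨g, hg⟩ ?_
    show g • keyPts 2 (x : GolayPt → ℤ) = keyPts 2 y
    rw [e, e', Finset.smul_finset_singleton, Equiv.Perm.smul_def, hgL]

/-! ### The classes orthogonal to the fixed vector -/

/-- Shape of a class. -/
def tB (i : Fin 5) : Fin 3 := ![0, 0, 1, 1, 2] i

/-- Whether the class vanishes at the two points. -/
def zB (i : Fin 5) : Bool := ![false, true, true, false, false] i

/-- The values at the extra point. -/
def valsB (i : Fin 5) : List ℤ := ![[4, -4], [0], [0], [2, -2], [1, -1, 3, -3]] i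

/-- A class of minimal vectors orthogonal to the fixed one. -/
def clsB (i : Fin 5) : Set leechLattice :=
  {x | x ∈ clsA (tB i) ∧ (x : GolayPt → ℤ) none + (x : GolayPt → ℤ) (some 0) = 0 ∧
    decide ((x : GolayPt → ℤ) none = 0) = zB i}

theorem permW_swap_fix_leechU {σ : M24} (h1 : (σ : Equiv.Perm GolayPt) none = some 0)
    (h2 : (σ : Equiv.Perm GolayPt) (some 0) = none) : permW σ • Spor.leechU = Spor.leechU := by
  apply Subtype.ext
  funext i
  rw [permW_apply, leechU_apply, leechU_apply]
  simp only [Equiv.symm_apply_eq, h1, h2, or_comm]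

theorem abs_none_eq {i : Fin 5} {x : leechLattice} (hx : x ∈ clsB i) :
    |(x : GolayPt → ℤ) none| = if zB i then 0 else if tB i = 2 then 1 else bigT (tB i) := by
  obtain ⟨hA, hsum, hz⟩ := hx
  have hK := card_keyPts hA
  have hno : tB i = 2 → |(x : GolayPt → ℤ) none| ≠ 3 := fun ht h3 => by
    have hsub : ({none, some 0} : Finset GolayPt) ⊆ keyPts (tB i) x := by
      intro p hp
      simp only [Finset.mem_insert, Finset.mem_singleton] at hp
      simp only [keyPts, Finset.mem_filter, Finset.mem_univ, true_and, ht]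
      rcases hp with rfl | rfl
      · exact h3
      · rw [show (x : GolayPt → ℤ) (some 0) = -(x : GolayPt → ℤ) none by omega, abs_neg]; exact h3
    have := Finset.card_le_card hsub
    rw [Finset.card_pair (by simp), hK, ht] at this
    simp at this
  have h := hA.2 none
  fin_cases i <;> simp [tB, zB, bigT, okT] at h hz hno ⊢ <;>
    rcases h with e | e | h <;> (try rcases h with e | e) <;> simp_all

theorem transitive_clsB {i : Fin 5} {x y : leechLattice} (hx : x ∈ clsB i) (hy : y ∈ clsB i) :
    ∃ γ ∈ MulAction.stabilizer Co0 stdCrossL ⊓ MulAction.stabilizer Co0 Spor.leechU, γ • x = y := by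
  classical
  set P : GolayPt := if (x : GolayPt → ℤ) none = (y : GolayPt → ℤ) none then none else some 0 with hP
  set Q : GolayPt := if (x : GolayPt → ℤ) none = (y : GolayPt → ℤ) none then some 0 else none with hQ
  have hPQ : P ≠ Q := by rw [hP, hQ]; split_ifs <;> simp
  have key : ∀ σ : M24, (σ : Equiv.Perm GolayPt) none = P → (σ : Equiv.Perm GolayPt) (some 0) = Q →
      (σ : Equiv.Perm GolayPt) • keyPts (tB i) (x : GolayPt → ℤ) = keyPts (tB i) y →
      ∃ γ ∈ MulAction.stabilizer Co0 stdCrossL ⊓ MulAction.stabilizer Co0 Spor.leechU, γ • x = y := by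
    intro σ hn hs hK
    obtain ⟨c, hc, hc'⟩ := exists_move hx.1 hy.1 σ hK
    have hvals : ((permW σ • x : leechLattice) : GolayPt → ℤ) none = (y : GolayPt → ℤ) none ∧
        ((permW σ • x : leechLattice) : GolayPt → ℤ) (some 0) = (y : GolayPt → ℤ) (some 0) ∧
        permW σ • Spor.leechU = Spor.leechU := by
      have h1 := abs_none_eq hx
      rw [← abs_none_eq hy, abs_eq_abs] at h1
      have h2 := hx.2.1
      have h3 := hy.2.1
      rw [permW_apply, permW_apply]
      by_cases e : (x : GolayPt → ℤ) none = (y : GolayPt → ℤ) none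
      · simp only [hP, hQ, if_pos e] at hn hs
        refine ⟨?_, ?_, permW_fix_leechU hn hs⟩
        · rw [(Equiv.symm_apply_eq _).mpr hn.symm]; exact e
        · rw [(Equiv.symm_apply_eq _).mpr hs.symm]; omega
      · simp only [hP, hQ, if_neg e] at hn hs
        refine ⟨?_, ?_, permW_swap_fix_leechU hn hs⟩
        · rw [(Equiv.symm_apply_eq _).mpr hs.symm]; omega
        · rw [(Equiv.symm_apply_eq _).mpr hn.symm]; omega
    have h0 := hc' (by have := hy.2.1; omega) hvals.1 hvals.2.1
    refine ⟨_, Subgroup.mem_inf.mpr ⟨mem_stabilizer_stdCrossL.mpr ⟨c, σ, rfl⟩, ?_⟩, hc⟩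
    rw [MulAction.mem_stabilizer_iff, mul_smul, hvals.2.2, sgnW_fix_leechU h0]
  have hmem : ∀ {w : leechLattice}, w ∈ clsB i → ∀ p, p = none ∨ p = some 0 →
      (p ∈ keyPts (tB i) (w : GolayPt → ℤ) ↔ (zB i = false ∧ tB i ≠ 2)) := by
    intro w hw p hp
    have h1 := abs_none_eq hw
    have h2 : |(w : GolayPt → ℤ) p| = |(w : GolayPt → ℤ) none| := by
      rcases hp with rfl | rfl
      · rfl
      · rw [show (w : GolayPt → ℤ) (some 0) = -(w : GolayPt → ℤ) none by have := hw.2.1; omega, abs_neg]
    simp only [keyPts, Finset.mem_filter, Finset.mem_univ, true_and, h2, h1]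
    fin_cases i <;> simp [zB, tB, bigT]
  have hkx := card_keyPts hx.1
  have hky := card_keyPts hy.1
  have mx := fun p hp => hmem hx p hp
  have my := fun p hp => hmem hy p hp
  have hP' : P = none ∧ Q = some 0 ∨ P = some 0 ∧ Q = none := by rw [hP, hQ]; split_ifs <;> simp
  fin_cases i
  · obtain ⟨g, hg, hgL⟩ := exists_map_eq (L := [none, some 0]) (L' := [P, Q]) (by simp) (by simp [hPQ]) rfl
      (by simp)
    simp only [List.map_cons, List.map_nil, List.cons.injEq, and_true] at hgL
    refine key ⟨g, hg⟩ hgL.1 hgL.2 ?_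
    have ex : ∀ {w : leechLattice}, w ∈ clsB 0 →
        keyPts (tB 0) (w : GolayPt → ℤ) = ({none, some 0} : Finset GolayPt) := fun {w} hw => by
      refine (Finset.eq_of_subset_of_card_le ?_ ?_).symm
      · intro p hp
        simp only [Finset.mem_insert, Finset.mem_singleton] at hp
        exact (hmem hw p hp).mpr (by simp [zB, tB])
      · rw [card_keyPts hw.1, Finset.card_pair (by simp)]; simp [tB]
    show g • keyPts (tB 0) (x : GolayPt → ℤ) = keyPts (tB 0) y
    rw [ex hx, ex hy, perm_smul_pair, hgL.1, hgL.2]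
    rcases hP' with ⟨a, b⟩ | ⟨a, b⟩ <;> rw [a, b]
    exact Finset.pair_comm _ _
  · obtain ⟨k, l, hkl, e⟩ := Finset.card_eq_two.mp (by simpa [tB] using hkx)
    obtain ⟨k', l', hkl', e'⟩ := Finset.card_eq_two.mp (by simpa [tB] using hky)
    simp [zB, tB] at mx my e e'
    rw [e] at mx
    rw [e'] at my
    simp [not_or] at mx my
    have hk' : P ≠ k' ∧ P ≠ l' ∧ Q ≠ k' ∧ Q ≠ l' := by
      rcases hP' with ⟨a, b⟩ | ⟨a, b⟩ <;> rw [a, b] <;> simp [my]
    obtain ⟨g, hg, hgL⟩ := exists_map_eq (L := [none, some 0, k, l]) (L' := [P, Q, k', l'])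
      (by simp [hkl, mx]) (by simp [hkl', hPQ, hk']) rfl (by simp)
    simp only [List.map_cons, List.map_nil, List.cons.injEq, and_true] at hgL
    refine key ⟨g, hg⟩ hgL.1 hgL.2.1 ?_
    simp [tB, e, e', perm_smul_pair, hgL.2.2.1, hgL.2.2.2]
  · simp [zB, tB] at mx my
    obtain ⟨σ, hσ, g1, g2, g3⟩ := exists_missing (keyPts_octad (x := x) hx.1) mx.1 mx.2
    obtain ⟨τ, hτ, t1, t2, t3⟩ := exists_missing (keyPts_octad (x := y) hy.1) my.1 my.2
    have hxy : (x : GolayPt → ℤ) none = (y : GolayPt → ℤ) none := by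
      have a := hx.2.2; have b := hy.2.2
      simp [zB] at a b
      rw [a, b]
    simp only [hP, hQ, if_pos hxy] at key
    refine key ⟨τ * σ⁻¹, mul_mem hτ (inv_mem hσ)⟩ ?_ ?_ ?_
    · show τ (σ⁻¹ none) = none
      rw [Equiv.Perm.inv_eq_iff_eq.mpr g1.symm, t1]
    · show τ (σ⁻¹ (some 0)) = some 0
      rw [Equiv.Perm.inv_eq_iff_eq.mpr g2.symm, t2]
    · show (τ * σ⁻¹) • keyPts (tB 2) (x : GolayPt → ℤ) = keyPts (tB 2) y
      have ex : keyPts (tB 2) (x : GolayPt → ℤ) = σ • decS missBase := g3.symm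
      rw [ex, mul_smul, inv_smul_smul, t3]
      rfl
  · simp [zB, tB] at mx my
    have pick : ∀ {o : Finset GolayPt}, o.card = 8 → none ∈ o → some 0 ∈ o → ∀ p q : GolayPt,
        p ∈ o → q ∈ o → p ≠ q → ∃ a b c, a ∈ o ∧ b ∈ o ∧ c ∈ o ∧ [p, q, a, b, c].Nodup := by
      intro o ho _ _ p q hp hq hpq
      have h6 : ((o.erase p).erase q).card = 6 := by
        rw [Finset.card_erase_of_mem (by simp [hq, hpq.symm]), Finset.card_erase_of_mem hp, ho]
      obtain ⟨U, hU, hU3⟩ := Finset.exists_subset_card_eq (s := (o.erase p).erase q) (n := 3) (by omega)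
      obtain ⟨a, b, c, hab, hac, hbc, e⟩ := Finset.card_eq_three.mp hU3
      have ha := hU (show a ∈ U by rw [e]; simp)
      have hb := hU (show b ∈ U by rw [e]; simp)
      have hc := hU (show c ∈ U by rw [e]; simp)
      simp only [Finset.mem_erase] at ha hb hc
      exact ⟨a, b, c, ha.2.2, hb.2.2, hc.2.2, by
        simp [hpq, hab, hac, hbc, Ne.symm ha.1, Ne.symm ha.2.1, Ne.symm hb.1, Ne.symm hb.2.1, Ne.symm hc.1,
          Ne.symm hc.2.1]⟩
    have hox := keyPts_octad (x := x) hx.1
    have hoy := keyPts_octad (x := y) hy.1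
    obtain ⟨a, b, c, ha, hb, hc, hnd⟩ := pick (card_of_mem_octads hox) mx.1 mx.2 none (some 0) mx.1 mx.2 (by simp)
    have hPy : P ∈ keyPts 1 (y : GolayPt → ℤ) ∧ Q ∈ keyPts 1 (y : GolayPt → ℤ) := by
      rcases hP' with ⟨p1, p2⟩ | ⟨p1, p2⟩ <;> rw [p1, p2]
      exacts [⟨my.1, my.2⟩, ⟨my.2, my.1⟩]
    obtain ⟨a', b', c', ha', hb', hc', hnd'⟩ := pick (card_of_mem_octads hoy) my.1 my.2 P Q hPy.1 hPy.2 hPQ
    obtain ⟨g, hg, hgL⟩ := exists_map_eq hnd hnd' rfl (by simp)
    simp only [List.map_cons, List.map_nil, List.cons.injEq, and_true] at hgL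
    obtain ⟨g1, g2, g3, g4, g5⟩ := hgL
    refine key ⟨g, hg⟩ g1 g2 ?_
    show g • keyPts 1 (x : GolayPt → ℤ) = keyPts 1 y
    refine octad_eq_of_five_le (smul_mem_octads hg hox) hoy ?_
    refine le_trans (le_of_eq (List.toFinset_card_of_nodup hnd').symm) (Finset.card_le_card fun p hp => ?_)
    simp only [List.mem_toFinset, List.mem_cons, List.not_mem_nil, or_false] at hp
    rw [Finset.mem_inter]
    refine ⟨?_, ?_⟩
    · rw [Finset.mem_smul_finset]
      rcases hp with rfl | rfl | rfl | rfl | rfl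
      exacts [⟨none, mx.1, g1⟩, ⟨some 0, mx.2, g2⟩, ⟨a, ha, g3⟩, ⟨b, hb, g4⟩, ⟨c, hc, g5⟩]
    · rcases hp with rfl | rfl | rfl | rfl | rfl
      exacts [hPy.1, hPy.2, ha', hb', hc']
  · obtain ⟨k, e⟩ := Finset.card_eq_one.mp (by simpa [tB] using hkx)
    obtain ⟨k', e'⟩ := Finset.card_eq_one.mp (by simpa [tB] using hky)
    simp [zB, tB] at mx my e e'
    rw [e] at mx
    rw [e'] at my
    simp at mx my
    have hk' : P ≠ k' ∧ Q ≠ k' := by
      rcases hP' with ⟨a, b⟩ | ⟨a, b⟩ <;> rw [a, b] <;> simp [my]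
    obtain ⟨g, hg, hgL⟩ := exists_map_eq (L := [none, some 0, k]) (L' := [P, Q, k'])
      (by simp [mx]) (by simp [hPQ, hk']) rfl (by simp)
    simp only [List.map_cons, List.map_nil, List.cons.injEq, and_true] at hgL
    refine key ⟨g, hg⟩ hgL.1 hgL.2.1 ?_
    simp [tB, e, e', hgL.2.2]

/-! ### Sizes of the classes -/

theorem ncard_lift (P : (GolayPt → ℤ) → Prop) :
    {x : leechLattice | P (x : GolayPt → ℤ)}.ncard = {x : GolayPt → ℤ | x ∈ leechLattice ∧ P x}.ncard := by
  rw [← Set.ncard_image_of_injective _ Subtype.val_injective]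
  congr 1
  ext x
  simp only [Set.mem_image, Set.mem_ofPred_eq]
  exact ⟨fun ⟨w, h, e⟩ => e ▸ ⟨w.2, h⟩, fun ⟨h1, h2⟩ => ⟨⟨x, h1⟩, h2, rfl⟩⟩

theorem finite_norm32_sub {S : Set leechLattice} (h : ∀ x ∈ S, sqNorm (x : GolayPt → ℤ) = 32) : S.Finite := by
  refine Set.Finite.of_finite_image ?_ Subtype.val_injective.injOn
  exact (normSet_finite (N := 32) (by simp)).subset fun _ ⟨w, hw, e⟩ => e ▸ ⟨w.2, h w hw⟩

theorem ncard_clsA (t : Fin 3) : (clsA t).ncard = ![1104, 97152, 98304] t := by
  rw [clsA, ncard_lift (fun x => sqNorm x = 32 ∧ ∀ p, okT t (x p) = true)]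
  refine (ncard_uniform (okT t) (N := 32) (by simp)).trans ?_
  revert t
  decide +kernel

theorem pairCount_valsB : ∀ i : Fin 5, (∑ a ∈ (valsB i).toFinset,
    (kindTable.map fun e => e.2 * (pairTerm (okT (tB i)) a (-a) 0 32 e.1 +
      pairTerm (okT (tB i)) a (-a) 1 32 e.1)).sum) = ![2, 924, 42240, 4928, 45056] i := by
  decide +kernel

theorem ncard_clsB (i : Fin 5) : (clsB i).ncard = ![2, 924, 42240, 4928, 45056] i := by
  classical
  set V : ℤ → Set (GolayPt → ℤ) := fun a => {x | x ∈ leechLattice ∧ sqNorm x = 32 ∧ x none = a ∧ x (some 0) = -a ∧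
    ∀ p, p ≠ none → p ≠ some 0 → okT (tB i) (x p) = true} with hVdef
  have hV : ∀ a, (V a).Finite := fun a => (normSet_finite (N := 32) (by simp)).subset fun x hx => ⟨hx.1, hx.2.1⟩
  have hvals : ∀ i : Fin 5, ∀ v : ℤ, okT (tB i) v = true → decide (v = 0) = zB i → v ∈ valsB i := by
    intro i v
    fin_cases i <;> simp [okT, tB, zB, valsB] <;> omega
  have hvals' : ∀ i : Fin 5, ∀ v ∈ valsB i, okT (tB i) v = true ∧ okT (tB i) (-v) = true ∧
      decide (v = 0) = zB i := by decide +kernel
  have hU : Subtype.val '' clsB i = ↑((valsB i).toFinset.biUnion fun a => (hV a).toFinset) := by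
    ext x
    simp only [Set.mem_image, clsB, clsA, Set.mem_ofPred_eq, Finset.coe_biUnion, Set.mem_iUnion, Finset.mem_coe,
      List.mem_toFinset, Set.Finite.mem_toFinset, hVdef, exists_prop]
    constructor
    · rintro ⟨w, ⟨⟨h1, h2⟩, h3, h4⟩, rfl⟩
      exact ⟨(w : GolayPt → ℤ) none, hvals i _ (h2 none) h4, w.2, h1, rfl, by omega, fun p _ _ => h2 p⟩
    · rintro ⟨a, ha, h1, h2, h3, h4, h5⟩
      obtain ⟨o1, o2, o3⟩ := hvals' i a ha
      refine ⟨⟨x, h1⟩, ⟨⟨h2, fun p => ?_⟩, (show x none + x (some 0) = 0 by omega),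
        (show decide (x none = 0) = zB i by rw [h3]; exact o3)⟩, rfl⟩
      show okT (tB i) (x p) = true
      rcases eq_or_ne p none with rfl | hp
      · rw [h3]; exact o1
      rcases eq_or_ne p (some 0) with rfl | hp'
      · rw [h4]; exact o2
      exact h5 p hp hp'
  rw [← Set.ncard_image_of_injective _ Subtype.val_injective, hU, Set.ncard_coe_finset, Finset.card_biUnion]
  · rw [Finset.sum_congr rfl (g := fun a => (kindTable.map fun e => e.2 * (pairTerm (okT (tB i)) a (-a) 0 32 e.1 +
        pairTerm (okT (tB i)) a (-a) 1 32 e.1)).sum) fun a _ => by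
          rw [← Set.ncard_eq_toFinset_card _ (hV a)]
          exact ncard_pair (okT (tB i)) a (-a) (N := 32) (by simp)]
    exact pairCount_valsB i
  · intro a _ b _ hab
    rw [Function.onFun, Finset.disjoint_left]
    intro x hx hx'
    simp only [Set.Finite.mem_toFinset, hVdef, Set.mem_ofPred_eq] at hx hx'
    omega

/-- The size of a subset made of whole classes. -/
theorem ncard_of_classes {α : Type*} {K : ℕ} (W : Set α) (hW : W.Finite) (C : Fin K → Set α)
    (hsub : ∀ i, C i ⊆ W) (hdisj : ∀ i j, i ≠ j → Disjoint (C i) (C j))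
    (hcount : ∑ i, (C i).ncard = W.ncard) (S : Set α) (hSW : S ⊆ W)
    (hS : ∀ i, (∃ x ∈ C i, x ∈ S) → C i ⊆ S) :
    ∃ f : Fin K → Bool, (∀ i, (∃ x ∈ C i, x ∈ S) → f i = true) ∧
      S.ncard = ∑ i, if f i then (C i).ncard else 0 := by
  classical
  have hfin : ∀ i, (C i).Finite := fun i => hW.subset (hsub i)
  have hcard : ∀ F : Finset (Fin K), (⋃ i ∈ F, C i).ncard = ∑ i ∈ F, (C i).ncard := by
    intro F
    induction F using Finset.induction_on with
    | empty => simp
    | @insert a F ha ih =>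
      rw [Finset.set_biUnion_insert, Finset.sum_insert ha, ← ih,
        Set.ncard_union_eq _ (hfin a) (show (⋃ i ∈ F, C i).Finite from Set.Finite.biUnion F.finite_toSet fun i _ => hfin i)]
      simp only [Set.disjoint_iUnion_right]
      exact fun i hi => hdisj a i fun e => ha (e ▸ hi)
  have hWeq : (⋃ i ∈ (Finset.univ : Finset (Fin K)), C i) = W :=
    Set.eq_of_subset_of_ncard_le (Set.iUnion₂_subset fun i _ => hsub i) (by rw [hcard, hcount]) hW
  refine ⟨fun i => decide (∃ x ∈ C i, x ∈ S), fun i h => decide_eq_true h, ?_⟩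
  rw [← Finset.sum_filter, ← hcard]
  congr 1
  ext x
  simp only [Set.mem_iUnion, Finset.mem_filter, Finset.mem_univ, true_and, decide_eq_true_eq, exists_prop]
  constructor
  · intro hx
    have := hSW hx
    rw [← hWeq] at this
    simp only [Set.mem_iUnion, Finset.mem_univ, exists_prop, true_and] at this
    obtain ⟨i, hi⟩ := this
    exact ⟨i, ⟨x, hi, hx⟩, hi⟩
  · rintro ⟨i, hi, hx⟩
    exact hS i hi hx

/-! ### The theorem -/

theorem dot_leechU (w : GolayPt → ℤ) :
    dotInt (Spor.leechU : GolayPt → ℤ) w = 4 * (w none + w (some 0)) := by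
  have : (Spor.leechU : GolayPt → ℤ) = Pi.single none 4 + Pi.single (some 0) 4 := by
    funext k
    show Spor.vecU k = _
    unfold Spor.vecU
    simp only [Pi.add_apply, Pi.single_apply]
    split_ifs <;> simp_all
  rw [this, dot_add_left, dot_symm, dot_single_right, dot_symm, dot_single_right]
  ring

theorem natCard_eq_orbit_mul (K : Subgroup Co0) (a : leechLattice) :
    Nat.card K = (MulAction.orbit K a).ncard * Nat.card ↥(K ⊓ MulAction.stabilizer Co0 a) := by
  have hmap : (MulAction.stabilizer K a).map K.subtype = K ⊓ MulAction.stabilizer Co0 a := by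
    ext σ
    simp only [Subgroup.mem_map, Subgroup.mem_inf, MulAction.mem_stabilizer_iff]
    constructor
    · rintro ⟨τ, hτ, rfl⟩; exact ⟨τ.2, hτ⟩
    · rintro ⟨hσ, hp⟩; exact ⟨⟨σ, hσ⟩, hp, rfl⟩
  rw [← hmap, ← Nat.card_congr
    ((MulAction.stabilizer K a).equivMapOfInjective K.subtype K.subtype_injective).toEquiv,
    ← MulAction.index_stabilizer, Subgroup.index_mul_card]

theorem classB_unique : ∀ i j : Fin 5, tB i = tB j → zB i = zB j → i = j := by decide

/-- The second vector of the pair. -/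
noncomputable def leechW : leechLattice := latE none - Spor.leechU

theorem leechU_mem_clsA : (Spor.leechU : leechLattice) ∈ clsA 0 := by
  refine ⟨?_, fun p => ?_⟩
  · show sqNorm Spor.vecU = 32
    decide +kernel
  · show okT 0 (Spor.vecU p) = true
    revert p
    decide +kernel

theorem leechW_mem_clsB : leechW ∈ clsB 0 := by
  have h : ((leechW : leechLattice) : GolayPt → ℤ) =
      fun p => (if p = none then 8 else 0) - (if p = none ∨ p = some 0 then 4 else 0) := by
    funext p
    simp only [leechW, AddSubgroup.coe_sub, Pi.sub_apply, coe_latE, leechU_apply, Pi.single_apply]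
  refine ⟨⟨?_, fun p => ?_⟩, ?_, ?_⟩
  · rw [h]; decide +kernel
  · rw [h]; revert p; decide +kernel
  · rw [h]; decide +kernel
  · rw [h]; decide +kernel

theorem smul_mem_clsA {t : Fin 3} {x : leechLattice} (hx : x ∈ clsA t) {γ : Co0}
    (hγ : γ ∈ MulAction.stabilizer Co0 stdCrossL) : γ • x ∈ clsA t := by
  obtain ⟨c, σ, rfl⟩ := mem_stabilizer_stdCrossL.mp hγ
  refine ⟨by rw [sqNorm_smul_lat]; exact hx.1, fun p => ?_⟩
  rw [mul_smul, sgnW_apply, permW_apply]
  split_ifs
  · exact hx.2 _
  · rw [okT_neg]; exact hx.2 _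

theorem arith_check : ∀ a1 a2 b1 b2 b3 b4 : Bool,
    let n := 1104 + (if a1 then 97152 else 0) + (if a2 then 98304 else 0)
    let w := 2 + (if b1 then 924 else 0) + (if b2 then 42240 else 0) + (if b3 then 4928 else 0) +
      (if b4 then 45056 else 0)
    n * w % 2208 = 0 → 8292375 % (n * w / 2208) = 0 → n * w / 2208 = 1 ∨ n * w / 2208 = 8292375 := by
  decide +kernel

/-- The monomial group is a maximal subgroup. -/
theorem isCoatom_stdCross : IsCoatom (MulAction.stabilizer Co0 stdCrossL) := by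
  classical
  have := co0_finite
  set N := MulAction.stabilizer Co0 stdCrossL with hN
  have hNcard : Nat.card N = 4096 * 244823040 := natCard_stabilizer_stdCrossL
  refine ⟨fun h => ?_, fun H hNH => ?_⟩
  · rw [h, Subgroup.card_top, natCard_Co0] at hNcard; norm_num at hNcard
  have hle := hNH.le
  set u : leechLattice := Spor.leechU with hu
  -- orbits of the monomial group
  have hNu : MulAction.orbit N u = clsA 0 := by
    ext x
    rw [MulAction.mem_orbit_iff]
    refine ⟨?_, fun hx => ?_⟩
    · rintro ⟨γ, rfl⟩; exact smul_mem_clsA leechU_mem_clsA γ.2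
    · obtain ⟨γ, hγ, e⟩ := transitive_clsA leechU_mem_clsA hx
      exact ⟨⟨γ, hγ⟩, e⟩
  have hNw : MulAction.orbit ↥(N ⊓ MulAction.stabilizer Co0 u) leechW = clsB 0 := by
    ext x
    rw [MulAction.mem_orbit_iff]
    refine ⟨?_, fun hx => ?_⟩
    · rintro ⟨γ, rfl⟩
      obtain ⟨hγN, hγu⟩ := Subgroup.mem_inf.mp γ.2
      obtain ⟨hA, hsum, hz⟩ := leechW_mem_clsB
      refine ⟨smul_mem_clsA hA hγN, ?_, ?_⟩
      · have h := dot_smul_lat (γ : Co0) u leechW
        rw [MulAction.mem_stabilizer_iff.mp hγu, dot_leechU, dot_leechU, hsum] at h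
        show (((γ : Co0) • leechW : leechLattice) : GolayPt → ℤ) none +
          (((γ : Co0) • leechW : leechLattice) : GolayPt → ℤ) (some 0) = 0
        omega
      · obtain ⟨c, σ, e⟩ := mem_stabilizer_stdCrossL.mp hγN
        show decide ((((γ : Co0) • leechW : leechLattice) : GolayPt → ℤ) none = 0) = zB 0
        simp only [zB, Matrix.cons_val_zero, decide_eq_false_iff_not]
        rw [e, mul_smul, sgnW_apply, permW_apply]
        have hfix := congrArg (fun v : leechLattice => (v : GolayPt → ℤ) none) (MulAction.mem_stabilizer_iff.mp hγu)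
        rw [e, mul_smul, sgnW_apply, permW_apply, hu, leechU_apply, leechU_apply] at hfix
        simp [zB] at hz
        have hq : (σ : Equiv.Perm GolayPt).symm none = none ∨ (σ : Equiv.Perm GolayPt).symm none = some 0 := by
          by_contra hcon
          simp only [if_neg hcon] at hfix
          simp at hfix
        have hne : (leechW : GolayPt → ℤ) ((σ : Equiv.Perm GolayPt).symm none) ≠ 0 := by
          rcases hq with q | q <;> rw [q] <;> omega
        split_ifs <;> omega
    · obtain ⟨γ, hγ, e⟩ := transitive_clsB leechW_mem_clsB hx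
      exact ⟨⟨γ, hγ⟩, e⟩
  -- orbits of the larger group
  obtain ⟨f, hf, hfn⟩ := ncard_of_classes {x : leechLattice | sqNorm (x : GolayPt → ℤ) = 32}
    (finite_norm32_sub fun x hx => hx) clsA (fun t x hx => hx.1)
    (fun i j hij => Set.disjoint_left.mpr fun x hx hx' => hij (shape_unique hx hx'))
    (by
      rw [ncard_lift (fun x => sqNorm x = 32), ncard_norm_32, Fin.sum_univ_three, ncard_clsA, ncard_clsA,
        ncard_clsA]
      rfl)
    (MulAction.orbit H u)
    (fun x hx => by
      obtain ⟨γ, rfl⟩ := MulAction.mem_orbit_iff.mp hx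
      show sqNorm (((γ : Co0) • u : leechLattice) : GolayPt → ℤ) = 32
      rw [sqNorm_smul_lat]; exact leechU_mem_clsA.1)
    (fun t ⟨x, hx, hxo⟩ y hy => by
      obtain ⟨γ, hγ, rfl⟩ := transitive_clsA hx hy
      obtain ⟨δ, rfl⟩ := MulAction.mem_orbit_iff.mp hxo
      exact MulAction.mem_orbit_iff.mpr ⟨⟨γ, hle hγ⟩ * δ, mul_smul (γ : Co0) (δ : Co0) u⟩)
  obtain ⟨g, hg, hgn⟩ := ncard_of_classes
    {x : leechLattice | sqNorm (x : GolayPt → ℤ) = 32 ∧ (x : GolayPt → ℤ) none + (x : GolayPt → ℤ) (some 0) = 0}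
    (finite_norm32_sub fun x hx => hx.1) clsB (fun i x hx => ⟨hx.1.1, hx.2.1⟩)
    (fun i j hij => Set.disjoint_left.mpr fun x hx hx' =>
      hij (classB_unique i j (shape_unique hx.1 hx'.1) (hx.2.2.symm.trans hx'.2.2)))
    (by
      rw [ncard_lift (fun x => sqNorm x = 32 ∧ x none + x (some 0) = 0), ncard_dot_leechU,
        sumPairCount_values.2.2, Fin.sum_univ_five, ncard_clsB, ncard_clsB, ncard_clsB, ncard_clsB, ncard_clsB]
      rfl)
    (MulAction.orbit ↥(H ⊓ MulAction.stabilizer Co0 u) leechW)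
    (fun x hx => by
      obtain ⟨γ, rfl⟩ := MulAction.mem_orbit_iff.mp hx
      refine ⟨?_, ?_⟩
      · show sqNorm (((γ : Co0) • leechW : leechLattice) : GolayPt → ℤ) = 32
        rw [sqNorm_smul_lat]; exact leechW_mem_clsB.1.1
      · have h := dot_smul_lat (γ : Co0) u leechW
        rw [MulAction.mem_stabilizer_iff.mp (Subgroup.mem_inf.mp γ.2).2, dot_leechU, dot_leechU,
          leechW_mem_clsB.2.1] at h
        show (((γ : Co0) • leechW : leechLattice) : GolayPt → ℤ) none +
          (((γ : Co0) • leechW : leechLattice) : GolayPt → ℤ) (some 0) = 0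
        omega)
    (fun i ⟨x, hx, hxo⟩ y hy => by
      obtain ⟨γ, hγ, rfl⟩ := transitive_clsB hx hy
      obtain ⟨δ, rfl⟩ := MulAction.mem_orbit_iff.mp hxo
      obtain ⟨h1, h2⟩ := Subgroup.mem_inf.mp hγ
      exact MulAction.mem_orbit_iff.mpr
        ⟨⟨γ, Subgroup.mem_inf.mpr ⟨hle h1, h2⟩⟩ * δ, mul_smul (γ : Co0) (δ : Co0) leechW⟩)
  have hf0 : f 0 = true := hf 0 ⟨u, leechU_mem_clsA, MulAction.mem_orbit_self u⟩
  have hg0 : g 0 = true := hg 0 ⟨leechW, leechW_mem_clsB, MulAction.mem_orbit_self leechW⟩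
  rw [Fin.sum_univ_three, ncard_clsA, ncard_clsA, ncard_clsA, if_pos hf0] at hfn
  rw [Fin.sum_univ_five, ncard_clsB, ncard_clsB, ncard_clsB, ncard_clsB, ncard_clsB, if_pos hg0] at hgn
  simp only [Matrix.cons_val] at hfn hgn
  -- the common stabiliser of the two vectors
  have hZ : H ⊓ MulAction.stabilizer Co0 u ⊓ MulAction.stabilizer Co0 leechW =
      N ⊓ MulAction.stabilizer Co0 u ⊓ MulAction.stabilizer Co0 leechW := by
    refine le_antisymm ?_ (inf_le_inf_right _ (inf_le_inf_right _ hle))
    intro γ hγ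
    simp only [Subgroup.mem_inf, MulAction.mem_stabilizer_iff] at hγ
    have he : γ • latE none = latE none := by
      have h2 := hγ.2
      rw [leechW, sub_eq_add_neg, smul_add', smul_neg', hγ.1.2] at h2
      exact add_right_cancel h2
    simp only [Subgroup.mem_inf, MulAction.mem_stabilizer_iff]
    refine ⟨⟨?_, hγ.1.2⟩, hγ.2⟩
    rw [hN, MulAction.mem_stabilizer_iff, stdCrossL_eq, smul_classCross, he]
  have e1 : Nat.card H = (MulAction.orbit H u).ncard * ((MulAction.orbit ↥(H ⊓ MulAction.stabilizer Co0 u)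
      leechW).ncard * Nat.card ↥(N ⊓ MulAction.stabilizer Co0 u ⊓ MulAction.stabilizer Co0 leechW)) := by
    rw [← hZ, ← natCard_eq_orbit_mul, ← natCard_eq_orbit_mul]
  have e2 : Nat.card N = 1104 * (2 * Nat.card ↥(N ⊓ MulAction.stabilizer Co0 u ⊓
      MulAction.stabilizer Co0 leechW)) := by
    rw [natCard_eq_orbit_mul N u, hNu, natCard_eq_orbit_mul (N ⊓ MulAction.stabilizer Co0 u) leechW, hNw,
      ncard_clsA, ncard_clsB]
    rfl
  set Z := Nat.card ↥(N ⊓ MulAction.stabilizer Co0 u ⊓ MulAction.stabilizer Co0 leechW)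
  set n := (MulAction.orbit H u).ncard
  set w := (MulAction.orbit ↥(H ⊓ MulAction.stabilizer Co0 u) leechW).ncard
  have hZpos : 0 < Z := by omega
  obtain ⟨m, hm⟩ := Subgroup.card_dvd_of_le hle
  have hd := Subgroup.card_subgroup_dvd_card H
  have hnw : n * w = 2208 * m := by
    refine Nat.eq_of_mul_eq_mul_right hZpos ?_
    rw [e1, e2] at hm
    linarith
  have hmd : m ∣ 8292375 := by
    rw [natCard_Co0, hm, hNcard] at hd
    exact (Nat.mul_dvd_mul_iff_left (by norm_num : 0 < 4096 * 244823040)).mp (hd.trans (by norm_num))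
  have hdiv : n * w / 2208 = m := by rw [hnw, Nat.mul_div_cancel_left _ (by norm_num)]
  have key := arith_check (f 1) (f 2) (g 1) (g 2) (g 3) (g 4)
  simp only at key
  rw [← hfn, ← hgn] at key
  rcases key (by rw [hnw]; exact Nat.mul_mod_right _ _) (by rw [hdiv]; exact Nat.mod_eq_zero_of_dvd hmd) with h | h
  · exfalso
    rw [hdiv] at h
    exact hNH.ne (Subgroup.eq_of_le_of_card_ge hle (by rw [hm, h, mul_one]))
  · rw [hdiv] at h
    exact Subgroup.eq_top_of_card_eq _ (by rw [hm, h, hNcard, natCard_Co0])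

end CfsgLib.Golay
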