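import Cfsg.Agent.Lib.Golay.SixPoints
import Cfsg.Agent.Lib.Golay.Orbits

/-!
# Involutions of `M24`

Every involution is conjugate to one of two standard ones, one with an octad of fixed points, one with none.
-/

set_option autoImplicit false
set_option maxRecDepth 20000

namespace CfsgLib.Golay

open Cfsg
open scoped Pointwise

namespace Invol

/-- Swaps the six base points in pairs. -/
def patA : List ℕ :=
  [23, 2, 1, 5, 10, 3, 8, 18, 19, 16, 13, 6, 7, 20, 17, 22, 15, 14, 21, 11, 4, 12, 9, 0]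

/-- Swaps four of the six base points in pairs, fixing two. -/
def patB : List ℕ :=
  [23, 2, 1, 3, 10, 5, 12, 11, 6, 13, 16, 19, 21, 20, 14, 4, 15, 17, 7, 18, 22, 8, 9, 0]

def repA : List ℕ :=
  [23, 2, 1, 5, 13, 3, 6, 7, 11, 9, 10, 8, 18, 4, 17, 15, 22, 14, 12, 19, 20, 21, 16, 0]

def repB : List ℕ :=
  [23, 2, 1, 5, 8, 3, 10, 9, 4, 7, 6, 13, 16, 11, 17, 21, 12, 14, 22, 20, 19, 15, 18, 0]

def conjList : List (List ℕ) :=
  [ [0, 1, 2, 3, 4, 5, 6, 7, 8, 9, 10, 11, 12, 13, 14, 15, 16, 17, 18, 19, 20, 21, 22, 23],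
    [23, 22, 18, 14, 5, 17, 9, 4, 19, 7, 8, 10, 2, 1, 16, 21, 6, 12, 3, 15, 13, 11, 20, 0],
    [16, 18, 22, 2, 4, 1, 21, 15, 20, 14, 17, 10, 19, 11, 3, 0, 8, 5, 6, 9, 23, 7, 13, 12],
    [19, 10, 6, 14, 3, 17, 12, 22, 4, 15, 9, 11, 13, 1, 23, 7, 2, 0, 8, 18, 21, 16, 5, 20],
    [0, 2, 1, 3, 13, 5, 9, 20, 8, 6, 21, 11, 18, 4, 17, 19, 16, 14, 12, 15, 7, 10, 22, 23],
    [0, 16, 22, 1, 10, 2, 18, 14, 7, 11, 3, 19, 20, 9, 4, 8, 6, 13, 15, 12, 5, 17, 21, 23],
    [23, 7, 9, 17, 13, 14, 2, 12, 20, 3, 18, 6, 11, 4, 21, 1, 19, 15, 8, 5, 16, 22, 10, 0],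
    [0, 12, 18, 20, 22, 19, 2, 11, 6, 5, 3, 10, 7, 16, 21, 13, 17, 9, 15, 8, 4, 1, 14, 23],
    [2, 23, 0, 10, 5, 15, 12, 11, 22, 21, 6, 13, 4, 14, 9, 19, 3, 20, 16, 18, 7, 8, 17, 1],
    [14, 5, 3, 21, 15, 7, 8, 11, 1, 16, 4, 2, 23, 9, 6, 13, 10, 19, 0, 12, 22, 18, 20, 17],
    [0, 12, 18, 10, 14, 7, 19, 20, 1, 4, 5, 11, 2, 16, 6, 13, 22, 15, 8, 9, 3, 21, 17, 23] ]

/-- The mask of the fixed positions. -/
def fixMask (l : List ℕ) : ℕ := bitsOf ((List.range 24).filter fun i => Nat.beq (l.getD i 0) i)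

/-- `l` is conjugate to `t` by one of the listed elements. -/
def conjTo (t l : List ℕ) : Bool := conjList.any fun c => comp c l == comp t c

/-- The candidates with a given pattern on six points. -/
def cands (pat : List ℕ) : List (List ℕ) := (levelElts perms 6).map (comp pat)

/-- A candidate is no involution, or is conjugate to a representative. -/
def check (l : List ℕ) : Bool :=
  !(comp l l == List.range 24) || (l == List.range 24) || conjTo repA l || conjTo repB l

theorem check_cands : ((cands patA ++ cands patB).all check) = true := by decide +kernel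

theorem conjList_ok : (conjList.all genOK) = true := by decide +kernel

theorem rep_ok : (genOK patA && genOK patB && genOK repA && genOK repB &&
    (comp repA repA == List.range 24) && (comp repB repB == List.range 24) &&
    isCode (fixMask repA) && Nat.beq (popc (fixMask repA)) 8 && Nat.beq (fixMask repB) 0 &&
    !(repA == List.range 24) && !(repB == List.range 24)) = true := by decide +kernel

theorem fixMask_lt (l : List ℕ) : decS (fixMask l) =
    Finset.univ.filter fun p : GolayPt => Nat.beq (l.getD (idx p).val 0) (idx p).val = true := by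
  ext p
  simp [mem_decS, fixMask, testBit_bitsOf]

theorem fixed_eq (g : Equiv.Perm GolayPt) :
    (Finset.univ.filter fun p => g p = p) = decS (fixMask (toList g)) := by
  ext p
  simp only [fixMask_lt, Finset.mem_filter, Finset.mem_univ, true_and, toList_getD, Nat.beq_eq]
  exact ⟨fun h => by rw [h], fun h => idx_injective (Fin.ext h)⟩

theorem exists_repA : ∃ t ∈ M24, toList t = repA ∧ orderOf t = 2 ∧
    (Finset.univ.filter fun p => t p = p) ∈ octads := by
  have h := rep_ok
  simp only [Bool.and_eq_true, beq_iff_eq, Bool.not_eq_true', beq_eq_false_iff_ne] at h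
  obtain ⟨⟨⟨⟨⟨⟨⟨⟨⟨⟨-, -⟩, hA⟩, -⟩, hA2⟩, -⟩, hc⟩, hp⟩, -⟩, hne⟩, -⟩ := h
  obtain ⟨t, ht, htl⟩ := exists_perm hA
  refine ⟨t, ht, htl, ?_, ?_⟩
  · refine orderOf_eq_prime (toList_injective ?_) fun h1 => hne ?_
    · rw [pow_two, toList_mul, toList_one, htl, hA2]
    · rw [← htl, h1, toList_one]
  · rw [fixed_eq, htl, mem_octads]
    have hlt : fixMask repA < 2 ^ 24 := by decide +kernel
    rw [encS_decS hlt]
    exact ⟨hc, Nat.eq_of_beq_eq_true hp⟩

theorem exists_repB : ∃ t ∈ M24, toList t = repB ∧ orderOf t = 2 ∧ ∀ p, t p ≠ p := by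
  have h := rep_ok
  simp only [Bool.and_eq_true, beq_iff_eq, Bool.not_eq_true', beq_eq_false_iff_ne] at h
  obtain ⟨⟨⟨⟨⟨⟨⟨⟨⟨⟨-, -⟩, -⟩, hB⟩, -⟩, hB2⟩, -⟩, -⟩, h0⟩, -⟩, hne⟩ := h
  obtain ⟨t, ht, htl⟩ := exists_perm hB
  refine ⟨t, ht, htl, ?_, fun p hp => ?_⟩
  · refine orderOf_eq_prime (toList_injective ?_) fun h1 => hne ?_
    · rw [pow_two, toList_mul, toList_one, htl, hB2]
    · rw [← htl, h1, toList_one]
  · have hmem : p ∈ Finset.univ.filter fun q => t q = q := by simp [hp]
    rw [fixed_eq, htl, Nat.eq_of_beq_eq_true h0, mem_decS] at hmem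
    simp at hmem

theorem mem_cands {h : Equiv.Perm GolayPt} (hh : h ∈ M24) {pat : List ℕ} (hpat : genOK pat = true)
    (hsix : ∀ p ∈ octadSix, (idx (h p)).val = pat.getD (idx p).val 0) : toList h ∈ cands pat := by
  obtain ⟨σ, hσ, rfl⟩ := exists_perm hpat
  have hk : σ⁻¹ * h ∈ stdStab 6 := by
    refine mem_fixPts.mpr ⟨mul_mem (inv_mem hσ) hh, fun p hp => ?_⟩
    have := hsix p hp
    rw [toList_getD] at this
    rw [Equiv.Perm.mul_apply, idx_injective (Fin.ext this), Equiv.Perm.inv_def,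
      Equiv.symm_apply_apply]
  obtain ⟨h1, h2⟩ := mem_fixPts.mp hk
  have ht := mem_targets_iff.mp (apply_basePt_mem_targetPts (by norm_num : (6 : ℕ) < 7) h1 h2)
  have hl := List.all_eq_true.mp levelCheck_perms 6 (by decide)
  rw [levelCheck, Bool.and_eq_true, beq_iff_eq] at hl
  rw [← hl.2, List.mem_map] at ht
  obtain ⟨l, hlmem, hlval⟩ := ht
  obtain ⟨τ, hτ, rfl⟩ : InG0 l := by
    rw [levelElts, List.mem_map] at hlmem
    obtain ⟨i, -, rfl⟩ := hlmem
    exact inG0_getD inG0_perms i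
  have heq : τ = σ⁻¹ * h := by
    rw [← inv_mul_eq_one]
    have hmem : τ⁻¹ * (σ⁻¹ * h) ∈ stdStab 7 := by
      refine mem_fixPts.mpr ⟨mul_mem (inv_mem (G0_le_M24 hτ)) h1, fun b hb => ?_⟩
      rw [take_succ_basePts (by norm_num : (6 : ℕ) < 7), List.mem_append] at hb
      rw [Equiv.Perm.mul_apply, Equiv.Perm.inv_def τ, Equiv.symm_apply_eq]
      rcases hb with hb | hb
      · rw [h2 b hb]
        have := List.all_eq_true.mp (List.all_eq_true.mp hl.1 _ hlmem) _ (mem_basePos_take.mpr hb)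
        have := Nat.eq_of_beq_eq_true this
        rw [toList_getD] at this
        exact (idx_injective (Fin.ext this)).symm
      · rw [List.mem_singleton.mp hb]
        rw [← idx_basePt (by norm_num : (6 : ℕ) < 7), toList_getD] at hlval
        exact (idx_injective (Fin.ext hlval)).symm
    rwa [stdStab_seven, Subgroup.mem_bot] at hmem
  rw [cands, List.mem_map]
  refine ⟨toList τ, hlmem, ?_⟩
  rw [← toList_mul, heq, mul_inv_cancel_left]

/-- A transposition is not in `M24`. -/
theorem swap_notMem {a b : GolayPt} (hab : a ≠ b) : Equiv.swap a b ∉ M24 := by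
  intro h
  obtain ⟨g, hg, hgm⟩ := exists_map_eq (L := [a, b]) (L' := [none, some 0]) (by simp [hab])
    (by decide +kernel) rfl (by norm_num)
  simp only [List.map_cons, List.map_nil, List.cons.injEq, and_true] at hgm
  have := mul_mem (mul_mem hg h) (inv_mem hg)
  rw [← Equiv.swap_apply_apply, hgm.1, hgm.2, mem_M24_iff_isPres] at this
  revert this
  decide +kernel

/-- An involution swapping `a, b` and `c, d` fixes an octad through the four points. -/
theorem exists_fixed_octad {g : Equiv.Perm GolayPt} (hg : g ∈ M24) (hinv : ∀ p, g (g p) = p)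
    {T : Finset GolayPt} (hT : T.card = 4) (hgT : ∀ p ∈ T, g p ∈ T) :
    ∃ o ∈ octads, T ⊆ o ∧ g • o = o := by
  classical
  have hex : ∀ e : GolayPt, e ∉ T → ∃ o ∈ octads, insert e T ⊆ o := by
    intro e he
    obtain ⟨k, hk, hkm⟩ := exists_map_eq (L := basePts.take 5) (L' := (insert e T).toList)
      (by decide +kernel) (Finset.nodup_toList _)
      (by rw [Finset.length_toList, Finset.card_insert_of_notMem he, hT]; rfl) (le_refl 5)
    refine ⟨k • baseOctad, smul_mem_octads hk baseOctad_mem, fun p hp => ?_⟩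
    rw [← Finset.mem_toList, ← hkm, List.mem_map] at hp
    obtain ⟨q, hq, rfl⟩ := hp
    exact Finset.mem_smul_finset.mpr
      ⟨q, basePts_subset_baseOctad q (List.take_subset_take_left _ (by norm_num : 5 ≤ 6) hq), rfl⟩
  set S := octads_finite.toFinset.filter fun o => T ⊆ o with hS
  have hmemS : ∀ o, o ∈ S ↔ o ∈ octads ∧ T ⊆ o := by simp [hS]
  have huniq : ∀ o ∈ S, ∀ o' ∈ S, ∀ p ∉ T, p ∈ o → p ∈ o' → o = o' := by
    intro o ho o' ho' p hpT hp hp'
    refine octad_eq_of_five_le ((hmemS o).1 ho).1 ((hmemS o').1 ho').1 ?_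
    have h5 : (insert p T).card = 5 := by rw [Finset.card_insert_of_notMem hpT, hT]
    rw [← h5]
    refine Finset.card_le_card (Finset.insert_subset (Finset.mem_inter.mpr ⟨hp, hp'⟩) ?_)
    exact Finset.subset_inter ((hmemS o).1 ho).2 ((hmemS o').1 ho').2
  have h20 : (Tᶜ).card = ∑ o ∈ S, (o \ T).card := by
    rw [← Finset.card_biUnion]
    · congr 1
      ext p
      simp only [Finset.mem_compl, Finset.mem_biUnion, Finset.mem_sdiff]
      constructor
      · intro hp
        obtain ⟨o, ho, hsub⟩ := hex p hp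
        exact ⟨o, (hmemS o).2 ⟨ho, (Finset.subset_insert _ _).trans hsub⟩,
          hsub (Finset.mem_insert_self _ _), hp⟩
      · rintro ⟨o, -, -, hp⟩
        exact hp
    · intro o ho o' ho' hne
      rw [Function.onFun, Finset.disjoint_left]
      intro p hp hp'
      rw [Finset.mem_sdiff] at hp hp'
      exact hne (huniq o ho o' ho' p hp.2 hp.1 hp'.1)
  have h4 : ∀ o ∈ S, (o \ T).card = 4 := fun o ho => by
    rw [Finset.card_sdiff_of_subset ((hmemS o).1 ho).2, card_of_mem_octads ((hmemS o).1 ho).1, hT]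
  rw [Finset.sum_congr rfl h4, Finset.sum_const, smul_eq_mul, Finset.card_compl, card_golayPt, hT] at h20
  by_contra hno
  push Not at hno
  have hgS : ∀ o ∈ S, g • o ∈ S := by
    intro o ho
    refine (hmemS _).2 ⟨smul_mem_octads hg ((hmemS o).1 ho).1, fun p hp => ?_⟩
    exact Finset.mem_smul_finset.mpr ⟨g p, ((hmemS o).1 ho).2 (hgT p hp), hinv p⟩
  have hgg : ∀ o : Finset GolayPt, g • g • o = o := fun o => by
    rw [← mul_smul, show g * g = 1 from Equiv.ext hinv, one_smul]
  have := Finset.sum_involution (s := S) (f := fun _ => (1 : ZMod 2)) (fun o _ => g • o)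
    (fun o _ => by decide) (fun o ho _ => hno o ((hmemS o).1 ho).1 ((hmemS o).1 ho).2) hgS
    (fun o _ => hgg o)
  rw [Finset.sum_const, show S.card = 5 by omega] at this
  revert this
  decide

/-- Every involution is conjugate to one of the two representatives. -/
theorem exists_conj_rep {g : Equiv.Perm GolayPt} (hg : g ∈ M24) (h2 : orderOf g = 2) :
    ∃ k ∈ M24, toList (k * g * k⁻¹) = repA ∨ toList (k * g * k⁻¹) = repB := by
  classical
  have hg1 : g ≠ 1 := fun h => by rw [h, orderOf_one] at h2; omega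
  have hsq : g * g = 1 := by rw [← pow_two, ← h2, pow_orderOf_eq_one]
  have hinv : ∀ p, g (g p) = p := fun p => by
    have := congrArg (fun s : Equiv.Perm GolayPt => s p) hsq
    simpa using this
  obtain ⟨a, ha⟩ : ∃ a, g a ≠ a := by
    by_contra hh
    push Not at hh
    exact hg1 (Equiv.ext hh)
  obtain ⟨c, hca, hcb, hc⟩ : ∃ c, c ≠ a ∧ c ≠ g a ∧ g c ≠ c := by
    by_contra hh
    push Not at hh
    refine swap_notMem (Ne.symm ha) ?_
    convert hg using 1
    ext p : 1
    by_cases h1 : p = a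
    · rw [h1, Equiv.swap_apply_left]
    by_cases h2 : p = g a
    · rw [h2, Equiv.swap_apply_right, hinv]
    · rw [Equiv.swap_apply_of_ne_of_ne h1 h2, hh p h1 h2]
  have hda : g c ≠ a := fun h => hcb (by rw [← h, hinv])
  have hdb : g c ≠ g a := fun h => hca (g.injective h)
  have hnd : ([a, g a, c, g c] : List GolayPt).Nodup := by
    simp [Ne.symm ha, Ne.symm hca, Ne.symm hda, Ne.symm hcb, Ne.symm hdb, Ne.symm hc]
  set T : Finset GolayPt := [a, g a, c, g c].toFinset with hT
  have hTc : T.card = 4 := by rw [hT, List.toFinset_card_of_nodup hnd]; rfl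
  have hgT : ∀ p ∈ T, g p ∈ T := by
    intro p hp
    simp only [hT, List.mem_toFinset, List.mem_cons, List.not_mem_nil, or_false] at hp ⊢
    rcases hp with rfl | rfl | rfl | rfl <;> simp [hinv]
  obtain ⟨o, ho, hTo, hgo⟩ := exists_fixed_octad hg hinv hTc hgT
  have hgoo : ∀ p ∈ o, g p ∈ o := fun p hp => by
    rw [← hgo, ← Equiv.Perm.smul_def]; exact Finset.smul_mem_smul_finset hp
  have hrest : (o \ T).card = 4 := by rw [Finset.card_sdiff_of_subset hTo, card_of_mem_octads ho, hTc]
  have hTmem : ∀ p, p ∉ T → p ≠ a ∧ p ≠ g a ∧ p ≠ c ∧ p ≠ g c := by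
    intro p hp
    simpa [hT, not_or] using hp
  suffices key : ∃ e f, ∃ pat : List ℕ, e ∈ o ∧ f ∈ o ∧ e ∉ T ∧ f ∉ T ∧ e ≠ f ∧
      ((g e = f ∧ pat = patA) ∨ (g e = e ∧ g f = f ∧ pat = patB)) by
    obtain ⟨e, f, pat, he, hf, heT, hfT, hef, hcase⟩ := key
    obtain ⟨e1, e2, e3, e4⟩ := hTmem e heT
    obtain ⟨f1, f2, f3, f4⟩ := hTmem f hfT
    have hnd6 : ([a, g a, c, g c, e, f] : List GolayPt).Nodup := by
      simp [Ne.symm ha, Ne.symm hca, Ne.symm hda, Ne.symm hcb, Ne.symm hdb, Ne.symm hc, Ne.symm e1,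
        Ne.symm e2, Ne.symm e3, Ne.symm e4, Ne.symm f1, Ne.symm f2, Ne.symm f3, Ne.symm f4, hef]
    have hin : InOctad [a, g a, c, g c, e, f] := by
      refine ⟨o, ho, fun p hp => ?_⟩
      simp only [List.mem_cons, List.not_mem_nil, or_false] at hp
      rcases hp with rfl | rfl | rfl | rfl | rfl | rfl
      exacts [hTo (by simp [hT]), hTo (by simp [hT]), hTo (by simp [hT]), hTo (by simp [hT]), he, hf]
    obtain ⟨k, hk, hkm⟩ := exists_map_six hnd6 (L' := octadSix) (by decide +kernel) rfl rfl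
      (iff_of_true hin inOctad_octadSix)
    have hoct : octadSix = [none, some 0, some 1, some 2, some 3, some 5] := rfl
    rw [hoct] at hkm
    simp only [List.map_cons, List.map_nil, List.cons.injEq, and_true] at hkm
    obtain ⟨ka, kb, kc, kd, ke, kf⟩ := hkm
    have hconj : ∀ p, (k * g * k⁻¹) (k p) = k (g p) := fun p => by simp
    have hmem : k * g * k⁻¹ ∈ M24 := mul_mem (mul_mem hk hg) (inv_mem hk)
    have hpat : pat = patA ∨ pat = patB := hcase.imp (·.2) (·.2.2)
    have hok : genOK pat = true := by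
      rcases hpat with rfl | rfl <;> decide +kernel
    have hcand : toList (k * g * k⁻¹) ∈ cands pat := by
      refine mem_cands hmem hok fun p hp => ?_
      rw [hoct] at hp
      simp only [List.mem_cons, List.not_mem_nil, or_false] at hp
      rcases hcase with ⟨h1, rfl⟩ | ⟨h1, h1', rfl⟩ <;> rcases hp with rfl | rfl | rfl | rfl | rfl | rfl
      · rw [← ka, hconj, kb, ka]; decide +kernel
      · rw [← kb, hconj, hinv, ka, kb]; decide +kernel
      · rw [← kc, hconj, kd, kc]; decide +kernel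
      · rw [← kd, hconj, hinv, kc, kd]; decide +kernel
      · rw [← ke, hconj, h1, kf, ke]; decide +kernel
      · rw [← kf, hconj, ← h1, hinv, ke, h1, kf]; decide +kernel
      · rw [← ka, hconj, kb, ka]; decide +kernel
      · rw [← kb, hconj, hinv, ka, kb]; decide +kernel
      · rw [← kc, hconj, kd, kc]; decide +kernel
      · rw [← kd, hconj, hinv, kc, kd]; decide +kernel
      · rw [← ke, hconj, h1, ke]; decide +kernel
      · rw [← kf, hconj, h1', kf]; decide +kernel
    have hchk := List.all_eq_true.mp check_cands (toList (k * g * k⁻¹))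
      (List.mem_append.mpr (by rcases hpat with rfl | rfl <;> [exact Or.inl hcand; exact Or.inr hcand]))
    simp only [check, Bool.or_eq_true, Bool.not_eq_true', beq_eq_false_iff_ne, beq_iff_eq] at hchk
    have step : ∀ t : List ℕ, genOK t = true → conjTo t (toList (k * g * k⁻¹)) = true →
        ∃ k' ∈ M24, toList (k' * g * k'⁻¹) = t := by
      intro t ht hc'
      obtain ⟨cl, hcl, hce⟩ := List.any_eq_true.mp hc'
      rw [beq_iff_eq] at hce
      obtain ⟨τ, hτ, rfl⟩ := exists_perm (List.all_eq_true.mp conjList_ok cl hcl)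
      obtain ⟨t', -, rfl⟩ := exists_perm ht
      rw [← toList_mul, ← toList_mul] at hce
      refine ⟨τ * k, mul_mem hτ hk, ?_⟩
      rw [show τ * k * g * (τ * k)⁻¹ = τ * (k * g * k⁻¹) * τ⁻¹ by group, toList_injective hce,
        mul_inv_cancel_right]
    rcases hchk with ((h | h) | h) | h
    · exfalso
      refine h ?_
      rw [← toList_mul, show k * g * k⁻¹ * (k * g * k⁻¹) = k * (g * g) * k⁻¹ by group, hsq, mul_one,
        mul_inv_cancel, toList_one]
    · exfalso
      refine hg1 ?_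
      have h' := toList_injective (h.trans toList_one.symm)
      rwa [mul_inv_eq_one, mul_eq_left] at h'
    · obtain ⟨k', hk', he'⟩ := step repA (by decide +kernel) h
      exact ⟨k', hk', Or.inl he'⟩
    · obtain ⟨k', hk', he'⟩ := step repB (by decide +kernel) h
      exact ⟨k', hk', Or.inr he'⟩
  by_cases hmove : ∃ e ∈ o, e ∉ T ∧ g e ≠ e
  · obtain ⟨e, he, heT, hge⟩ := hmove
    exact ⟨e, g e, patA, he, hgoo e he, heT, fun h => heT (hinv e ▸ hgT _ h), Ne.symm hge,
      Or.inl ⟨rfl, rfl⟩⟩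
  · push Not at hmove
    obtain ⟨e, he, f, hf, hef⟩ := Finset.one_lt_card.mp (by omega : 1 < (o \ T).card)
    rw [Finset.mem_sdiff] at he hf
    exact ⟨e, f, patB, he.1, hf.1, he.2, hf.2, hef,
      Or.inr ⟨hmove e he.1 he.2, hmove f hf.1 hf.2, rfl⟩⟩

/-- Conjugation keeps the two kinds apart. -/
theorem fixed_conj {g k : Equiv.Perm GolayPt} (hk : k ∈ M24) :
    ((Finset.univ.filter fun p => (k * g * k⁻¹) p = p) ∈ octads →
      (Finset.univ.filter fun p => g p = p) ∈ octads) ∧
    ((∀ p, (k * g * k⁻¹) p ≠ p) → ∀ p, g p ≠ p) := by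
  constructor
  · intro h
    have := smul_mem_octads (inv_mem hk) h
    convert this using 1
    ext p
    rw [Finset.mem_inv_smul_finset_iff, Equiv.Perm.smul_def, Finset.mem_filter, Finset.mem_filter]
    simp
  · intro h p hp
    exact h (k p) (by simp [hp])

/-- The two classes of involutions. -/
theorem two_classes {g : Equiv.Perm GolayPt} (hg : g ∈ M24) (h2 : orderOf g = 2) :
    ((Finset.univ.filter fun p => g p = p) ∈ octads ∧ ∃ k ∈ M24, toList (k * g * k⁻¹) = repA) ∨
      ((∀ p, g p ≠ p) ∧ ∃ k ∈ M24, toList (k * g * k⁻¹) = repB) := by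
  obtain ⟨k, hk, h | h⟩ := exists_conj_rep hg h2
  · left
    obtain ⟨t, -, htl, -, hfix⟩ := exists_repA
    have := toList_injective (h.trans htl.symm)
    exact ⟨(fixed_conj hk).1 (this ▸ hfix), k, hk, h⟩
  · right
    obtain ⟨t, -, htl, -, hfix⟩ := exists_repB
    have := toList_injective (h.trans htl.symm)
    exact ⟨(fixed_conj hk).2 (this ▸ hfix), k, hk, h⟩

end Invol

end CfsgLib.Golay
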