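import Cfsg.Agent.Lib.Golay.Orbits

/-!
# Maximality of a stabiliser from the sizes of its suborbits
-/

set_option autoImplicit false

namespace CfsgLib.Golay

open Cfsg
open scoped Pointwise

theorem ncard_le_sum {α : Type*} [Finite α] : ∀ (L : List (Set α)) (A : Set α),
    A ⊆ {X | ∃ C ∈ L, X ∈ C} → A.ncard ≤ (L.map Set.ncard).sum
  | [], A, h => by
    have : A = ∅ := Set.eq_empty_iff_forall_notMem.mpr fun X hX => by simpa using h hX
    simp [this]
  | C :: L, A, h => by
    have h1 : A ⊆ C ∪ (A \ C) := by intro X hX; by_cases hC : X ∈ C <;> simp [hX, hC]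
    have h2 := ncard_le_sum L (A \ C) fun X hX => by
      obtain ⟨D, hD, hXD⟩ := h hX.1
      rcases List.mem_cons.mp hD with rfl | hD
      · exact absurd hXD hX.2
      · exact ⟨D, hD, hXD⟩
    have h3 := (Set.ncard_le_ncard h1).trans (Set.ncard_union_le _ _)
    rw [List.map_cons, List.sum_cons]
    omega

/-- If no union of suborbits has a proper divisor of the degree as its size, the stabiliser is maximal. -/
theorem isCoatom_of_classes {α : Type*} [MulAction M24 α] [Finite α] {a : α} {U : Set α}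
    (hU : MulAction.orbit M24 a = U) (classes : List (Set α)) {sizes : List ℕ}
    (hsz : classes.map Set.ncard = sizes)
    (hcov : U ⊆ {X | ∃ C ∈ classes, X ∈ C})
    (htrans : ∀ C ∈ classes, ∀ X ∈ C, ∀ Y ∈ C, ∃ g : M24, g • a = a ∧ g • X = Y)
    {N : ℕ} (hN : U.ncard = N) (hsum : sizes.sum = N) (hN1 : 1 < N)
    (hchk : ∀ L ∈ sizes.sublists, L.sum ∣ N → L.sum = 1 ∨ L.sum = N) :
    IsCoatom (MulAction.stabilizer M24 a) := by
  classical
  subst hsz
  refine ⟨fun htop => ?_, fun H hlt => ?_⟩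
  · have h1 : MulAction.orbit M24 a = {a} := by
      ext X
      refine ⟨?_, fun h => by rw [Set.mem_singleton_iff.mp h]; exact MulAction.mem_orbit_self a⟩
      rintro ⟨g, rfl⟩
      exact (htop ▸ Subgroup.mem_top g : g ∈ MulAction.stabilizer M24 a)
    rw [← hU, h1, Set.ncard_singleton] at hN
    omega
  have hle : MulAction.stabilizer M24 a ≤ H := hlt.le
  set O := MulAction.orbit H a with hO
  have hOU : O ⊆ U := by
    rintro _ ⟨h, rfl⟩
    exact hU ▸ MulAction.mem_orbit a (h : M24)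
  set sel := classes.filter fun C => decide (∃ X ∈ C, X ∈ O) with hsel
  set uns := classes.filter fun C => !decide (∃ X ∈ C, X ∈ O) with huns
  have hin : ∀ C ∈ sel, C ⊆ O := by
    intro C hC Y hY
    rw [hsel, List.mem_filter, decide_eq_true_eq] at hC
    obtain ⟨hC', X, hX, h, hh⟩ := hC
    obtain ⟨g, hg, hgX⟩ := htrans C hC' X hX Y hY
    refine ⟨⟨g, hle hg⟩ * h, ?_⟩
    show (g * (h : M24)) • a = Y
    rw [mul_smul, ← hgX, ← hh]
    rfl
  have hOsel : O ⊆ {X | ∃ C ∈ sel, X ∈ C} := by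
    intro X hX
    obtain ⟨C, hC, hXC⟩ := hcov (hOU hX)
    exact ⟨C, by rw [hsel, List.mem_filter, decide_eq_true_eq]; exact ⟨hC, X, hXC, hX⟩, hXC⟩
  have hrest : U \ O ⊆ {X | ∃ C ∈ uns, X ∈ C} := by
    rintro X ⟨hX, hXO⟩
    obtain ⟨C, hC, hXC⟩ := hcov hX
    refine ⟨C, ?_, hXC⟩
    rw [huns, List.mem_filter, Bool.not_eq_true', decide_eq_false_iff_not]
    refine ⟨hC, fun hh => hXO (hin C ?_ hXC)⟩
    rw [hsel, List.mem_filter, decide_eq_true_eq]
    exact ⟨hC, hh⟩
  have hperm : (sel.map Set.ncard).sum + (uns.map Set.ncard).sum = N := by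
    rw [← hsum, ← List.sum_append, ← List.map_append]
    exact ((List.filter_append_perm _ classes).map _).sum_eq
  have hcard := Set.ncard_sdiff_add_ncard_of_subset hOU
  have l1 := ncard_le_sum sel O hOsel
  have l2 := ncard_le_sum uns (U \ O) hrest
  have hOcard : O.ncard = (sel.map Set.ncard).sum := by omega
  have hindex : (MulAction.stabilizer M24 a).index = N := by
    rw [MulAction.index_stabilizer, hU, hN]
  have hrel : (MulAction.stabilizer M24 a).relIndex H = O.ncard := by
    rw [Subgroup.relIndex, hO, ← MulAction.index_stabilizer]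
    rfl
  have hdvd : O.ncard ∣ N := by
    rw [← hindex, ← hrel]
    exact ⟨_, (Subgroup.relIndex_mul_index hle).symm⟩
  rcases hchk _ (List.mem_sublists.mpr (List.filter_sublist.map _)) (hOcard ▸ hdvd) with h | h
  · exfalso
    rw [← hOcard, Set.ncard_eq_one] at h
    obtain ⟨b, hb⟩ := h
    refine hlt.not_ge fun g hg => ?_
    have h1 : (⟨g, hg⟩ : H) • a ∈ O := MulAction.mem_orbit a _
    have h2 : a ∈ O := MulAction.mem_orbit_self a
    rw [hb, Set.mem_singleton_iff] at h1 h2
    exact (h1.trans h2.symm : g • a = a)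
  · have hOall : O = U := Set.eq_of_subset_of_ncard_le hOU (by rw [hOcard.trans h, hN]) (Set.toFinite _)
    refine top_unique fun g _ => ?_
    have hgO : g • a ∈ O := hOall ▸ hU ▸ MulAction.mem_orbit a g
    obtain ⟨h, hh⟩ := hgO
    have : (h : M24)⁻¹ * g ∈ MulAction.stabilizer M24 a := by
      rw [MulAction.mem_stabilizer_iff, mul_smul, inv_smul_eq_iff]
      exact hh.symm
    simpa using mul_mem h.2 (hle this)

/-- The same, from an orbit decomposition. -/
theorem HasOrbits.isCoatom {α : Type*} [MulAction M24 α] [Finite α] {a : α} {U : Set α} {sizes : List ℕ}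
    (h : HasOrbits U a sizes) (hU : MulAction.orbit M24 a = U) {N : ℕ} (hN : U.ncard = N)
    (hsum : sizes.sum = N) (hN1 : 1 < N)
    (hchk : ∀ L ∈ sizes.sublists, L.sum ∣ N → L.sum = 1 ∨ L.sum = N) :
    IsCoatom (MulAction.stabilizer M24 a) := by
  obtain ⟨reps, -, hsz, hcov⟩ := h
  refine isCoatom_of_classes hU (reps.map fun X => MulAction.orbit ↥(MulAction.stabilizer M24 a) X)
    (sizes := sizes) ?_ ?_ ?_ hN hsum hN1 hchk
  · rw [List.map_map]; exact hsz
  · intro Y hY
    obtain ⟨X, hX, hXY⟩ := hcov.le hY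
    exact ⟨_, List.mem_map.mpr ⟨X, hX, rfl⟩, hXY⟩
  · intro C hC X hX Y hY
    obtain ⟨Z, -, rfl⟩ := List.mem_map.mp hC
    obtain ⟨u, rfl⟩ := hX
    obtain ⟨v, rfl⟩ := hY
    refine ⟨(v : M24) * (u : M24)⁻¹, ?_, ?_⟩
    · show ((v * u⁻¹ : ↥(MulAction.stabilizer M24 a)) : M24) • a = a
      exact (v * u⁻¹).2
    · show ((v : M24) * (u : M24)⁻¹) • (u : M24) • Z = (v : M24) • Z
      rw [← mul_smul, inv_mul_cancel_right]

/-- The orbit of size one is that of the point itself. -/
theorem HasOrbits.cons_one {α : Type*} [MulAction M24 α] {a : α} {U : Set α} {sizes : List ℕ}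
    (h : HasOrbits U a (1 :: sizes)) (ha : a ∈ U) (hsz : 1 ∉ sizes) :
    ∃ reps : List α, (∀ X ∈ reps, X ∈ U) ∧
      reps.map (fun X => (MulAction.orbit ↥(MulAction.stabilizer M24 a) X).ncard) = sizes ∧
      U = {a} ∪ {Y | ∃ X ∈ reps, Y ∈ MulAction.orbit ↥(MulAction.stabilizer M24 a) X} := by
  obtain ⟨reps, hreps, hmap, hcov⟩ := h
  match reps, hmap with
  | X :: R, hmap =>
    rw [List.map_cons, List.cons.injEq] at hmap
    have hself : MulAction.orbit ↥(MulAction.stabilizer M24 a) a = {a} := by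
      ext Y
      refine ⟨?_, fun h => by rw [Set.mem_singleton_iff.mp h]; exact MulAction.mem_orbit_self a⟩
      rintro ⟨u, rfl⟩
      exact u.2
    have haX : MulAction.orbit ↥(MulAction.stabilizer M24 a) X = {a} := by
      obtain ⟨Z, hZ, haZ⟩ := hcov.le ha
      have hZa : MulAction.orbit ↥(MulAction.stabilizer M24 a) Z = {a} :=
        (MulAction.orbit_eq_iff.mpr haZ).symm.trans hself
      rcases List.mem_cons.mp hZ with rfl | hZ
      · exact hZa
      · refine absurd (hmap.2 ▸ List.mem_map.mpr ⟨Z, hZ, rfl⟩) (?_ : ¬ _ ∈ sizes)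
        rw [hZa, Set.ncard_singleton]
        exact hsz
    refine ⟨R, fun Y hY => hreps Y (List.mem_cons_of_mem _ hY), hmap.2, ?_⟩
    rw [hcov]
    ext Y
    simp [haX]

end CfsgLib.Golay
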