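import Cfsg.Prelude.Def_SporadicCombinatorics
import Cfsg.Agent.Lib.Golay.M24Group
import Cfsg.Agent.Lib.Golay.ConfigData

/-!
# Octads, sextets and trios as numerical keys

An octad is keyed by its 12-bit index in the code, a sextet by the common 12-bit syndrome of its tetrads.
Permutations act linearly on both kinds of keys.
-/

set_option autoImplicit false
set_option maxRecDepth 20000

namespace CfsgLib.Golay

open Cfsg
open scoped Pointwise symmDiff

/-- The 12-bit syndrome of a mask. -/
def syn (n : ℕ) : ℕ := Nat.shiftRight (Nat.xor n (codeWord (n &&& 4095))) 12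

theorem syn_eq (n : ℕ) : syn n = (n ^^^ codeWord (n &&& 4095)) >>> 12 := rfl

theorem syn_xor (a b : ℕ) : syn (a ^^^ b) = syn a ^^^ syn b := by
  simp only [syn_eq]
  unfold codeWord
  rw [Nat.and_xor_distrib_right, spanWord_xor, ← Nat.shiftRight_xor_distrib]
  apply Nat.eq_of_testBit_eq
  intro i
  simp only [Nat.testBit_xor, Nat.testBit_shiftRight]
  cases a.testBit (12 + i) <;> cases b.testBit (12 + i) <;> simp

theorem shiftLeft_syn (n : ℕ) : syn n <<< 12 = n ^^^ codeWord (n &&& 4095) := by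
  have h := codeWord_and (n &&& 4095) (Nat.lt_succ_of_le Nat.and_le_right)
  apply Nat.eq_of_testBit_eq
  intro i
  rw [syn_eq, Nat.testBit_shiftLeft, Nat.testBit_shiftRight]
  by_cases hi : 12 ≤ i
  · simp [hi, Nat.add_sub_cancel' hi]
  · have h1 : (4095 : ℕ).testBit i = true := by
      rw [show (4095 : ℕ) = 2 ^ 12 - 1 by norm_num, Nat.testBit_two_pow_sub_one]
      simp; omega
    have h2 := congrArg (fun m => m.testBit i) h
    simp only [Nat.testBit_and, h1, Bool.and_true] at h2
    simp [hi, Nat.testBit_xor, h2]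

theorem syn_eq_zero_iff {n : ℕ} : syn n = 0 ↔ isCode n = true := by
  rw [isCode_iff]
  constructor
  · intro h
    have := shiftLeft_syn n
    rw [h, Nat.zero_shiftLeft, eq_comm, Nat.xor_eq_zero_iff] at this
    exact this.symm
  · intro h
    rw [syn_eq, h, Nat.xor_self, Nat.zero_shiftRight]

theorem syn_eq_iff {a b : ℕ} : syn a = syn b ↔ isCode (a ^^^ b) = true := by
  rw [← syn_eq_zero_iff, syn_xor, Nat.xor_eq_zero_iff]

theorem syn_lt {n : ℕ} (hn : n < 2 ^ 24) : syn n < 4096 := by
  have h : n ^^^ codeWord (n &&& 4095) < 2 ^ 24 := Nat.xor_lt_two_pow hn (codeWord_lt _)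
  rw [syn_eq, Nat.shiftRight_eq_div_pow]
  omega

/-- Action of an image list on syndromes. -/
def synAct (l : List ℕ) (s : ℕ) : ℕ := syn (pmap l (Nat.shiftLeft s 12))

/-- Action of an image list on indices of code words. -/
def codeAct (l : List ℕ) (k : ℕ) : ℕ := Nat.land (pmap l (codeWord k)) 4095

theorem syn_pmap {σ : Equiv.Perm GolayPt} (hσ : σ ∈ M24) (n : ℕ) :
    syn (pmap (toList σ) n) = synAct (toList σ) (syn n) := by
  show _ = syn (pmap (toList σ) (syn n <<< 12))
  have h0 := syn_eq_zero_iff.mpr (isCode_pmap (mem_M24_iff_isPres.mp hσ) (n &&& 4095))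
  rw [shiftLeft_syn]
  unfold pmap at *
  rw [spanWord_xor, syn_xor, h0, Nat.xor_zero]

theorem syn_encS_smul {σ : Equiv.Perm GolayPt} (hσ : σ ∈ M24) (s : Finset GolayPt) :
    syn (encS (σ • s)) = synAct (toList σ) (syn (encS s)) := by
  rw [encS_smul, syn_pmap hσ]

/-- The octad, or other support, of index `k`. -/
def codeSet (k : ℕ) : Finset GolayPt := decS (codeWord k)

theorem encS_codeSet (k : ℕ) : encS (codeSet k) = codeWord k := encS_decS (codeWord_lt k)

theorem smul_codeSet {σ : Equiv.Perm GolayPt} (hσ : σ ∈ M24) (k : ℕ) :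
    σ • codeSet k = codeSet (codeAct (toList σ) k) := by
  show σ • decS (codeWord k) = decS (codeWord (pmap (toList σ) (codeWord k) &&& 4095))
  rw [smul_decS σ (codeWord_lt k), isCode_iff.mp (isCode_pmap (mem_M24_iff_isPres.mp hσ) k)]

theorem codeSet_injOn : Set.InjOn codeSet {k | k < 4096} := fun a ha b hb h =>
  codeWord_injOn ha hb (by rw [← encS_codeSet, h, encS_codeSet])

/-- The indices of the octads. -/
def octKeys : List ℕ := (List.range 4096).filter fun k => Nat.beq (popc (codeWord k)) 8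

theorem mem_octKeys {k : ℕ} : k ∈ octKeys ↔ k < 4096 ∧ popc (codeWord k) = 8 := by
  rw [octKeys, List.mem_filter, List.mem_range]
  exact and_congr_right fun _ => ⟨Nat.eq_of_beq_eq_true, fun h => by rw [h]; rfl⟩

theorem octads_eq : octads = codeSet '' {k | k ∈ octKeys} := by
  rw [octads, wordsOfWeight_eq]
  have h : {k | k ∈ octKeys} =
      (↑((Finset.range 4096).filter fun k => popc (codeWord k) = 8) : Set ℕ) := by
    ext k; simp [mem_octKeys]
  rw [h]
  rfl

theorem codeSet_mem_octads {k : ℕ} (hk : k ∈ octKeys) : codeSet k ∈ octads := by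
  rw [octads_eq]; exact ⟨k, hk, rfl⟩

/-- A set bit for every listed number. -/
def bitsOf : List ℕ → ℕ
  | [] => 0
  | k :: r => Nat.lor (Nat.shiftLeft 1 k) (bitsOf r)

theorem testBit_bitsOf : ∀ (L : List ℕ) (i : ℕ), (bitsOf L).testBit i = true ↔ i ∈ L := by
  intro L i
  induction L with
  | nil => simp [bitsOf]
  | cons k r ih =>
    show ((1 <<< k) ||| bitsOf r).testBit i = true ↔ _
    rw [Nat.testBit_or, Bool.or_eq_true, ih, Nat.one_shiftLeft, Nat.testBit_two_pow,
      decide_eq_true_eq, List.mem_cons]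
    exact or_congr_left ⟨fun h => h.symm, fun h => h.symm⟩

theorem mem_iff_of_bitsOf_eq {L L' : List ℕ} (h : bitsOf L = bitsOf L') (i : ℕ) : i ∈ L ↔ i ∈ L' := by
  rw [← testBit_bitsOf, h, testBit_bitsOf]

/-- The list is strictly increasing. -/
def incr : List ℕ → Bool
  | a :: b :: r => Nat.blt a b && incr (b :: r)
  | _ => true

theorem pairwise_of_incr : ∀ L : List ℕ, incr L = true → L.Pairwise (· < ·)
  | [], _ => List.Pairwise.nil
  | [a], _ => List.pairwise_singleton _ a
  | a :: b :: r, h => by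
    rw [incr, Bool.and_eq_true] at h
    have hab : a < b := Nat.le_of_ble_eq_true h.1
    have ih := pairwise_of_incr (b :: r) h.2
    refine List.pairwise_cons.mpr ⟨fun x hx => ?_, ih⟩
    rcases List.mem_cons.mp hx with rfl | hx
    · exact hab
    · exact hab.trans ((List.pairwise_cons.mp ih).1 x hx)

theorem nodup_of_incr {L : List ℕ} (h : incr L = true) : L.Nodup :=
  (pairwise_of_incr L h).imp fun h' => Nat.ne_of_lt h'

theorem incr_octKeys : incr octKeys = true := by decide +kernel

/-- The six tetrads of a packed sextet, as masks. -/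
def tets (e : ℕ) : List ℕ :=
  [Nat.land e 16777215, Nat.land (Nat.shiftRight e 24) 16777215, Nat.land (Nat.shiftRight e 48) 16777215,
    Nat.land (Nat.shiftRight e 72) 16777215, Nat.land (Nat.shiftRight e 96) 16777215,
    Nat.land (Nat.shiftRight e 120) 16777215]

/-- The key of a packed sextet. -/
def sextetKey (e : ℕ) : ℕ := syn (Nat.land e 16777215)

/-- The keys of all the sextets. -/
def sextetKeys : List ℕ := sextetTab.map sextetKey

/-- The masks with at most three points. -/
def smallMasks : List ℕ :=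
  0 :: (List.range 24).flatMap fun i => Nat.shiftLeft 1 i ::
    ((List.range i).flatMap fun j => Nat.lor (Nat.shiftLeft 1 i) (Nat.shiftLeft 1 j) ::
      ((List.range j).map fun m => Nat.lor (Nat.shiftLeft 1 i) (Nat.lor (Nat.shiftLeft 1 j) (Nat.shiftLeft 1 m))))

theorem smallMasks_spec : smallMasks.all (fun m => Nat.blt m 16777216 && Nat.ble (popc m) 3) = true := by
  decide +kernel

theorem sextetTab_spec : sextetTab.all (fun e =>
    ((tets e).all fun t => Nat.beq (popc t) 4 && Nat.beq (syn t) (sextetKey e)) &&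
      Nat.beq ((tets e).foldr Nat.lor 0) 16777215) = true := by
  decide +kernel

theorem incr_sextetKeys : incr sextetKeys = true := by decide +kernel

theorem length_sextetTab : sextetTab.length = 1771 := by decide +kernel

theorem keys_cover :
    Nat.beq (Nat.lor (bitsOf sextetKeys) (bitsOf (smallMasks.map syn))) (Nat.sub (Nat.shiftLeft 1 4096) 1) =
      true := by
  decide +kernel

theorem and_lt (a : ℕ) : a &&& 16777215 < 2 ^ 24 := Nat.lt_succ_of_le Nat.and_le_right

theorem tets_lt {e t : ℕ} (ht : t ∈ tets e) : t < 2 ^ 24 := by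
  simp only [tets, List.mem_cons, List.not_mem_nil, or_false] at ht
  rcases ht with rfl | rfl | rfl | rfl | rfl | rfl <;> exact and_lt _

theorem sextetTab_tets {e : ℕ} (he : e ∈ sextetTab) {t : ℕ} (ht : t ∈ tets e) :
    popc t = 4 ∧ syn t = sextetKey e := by
  have h := List.all_eq_true.mp sextetTab_spec e he
  rw [Bool.and_eq_true] at h
  have := List.all_eq_true.mp h.1 t ht
  rw [Bool.and_eq_true] at this
  exact ⟨Nat.eq_of_beq_eq_true this.1, Nat.eq_of_beq_eq_true this.2⟩

theorem testBit_foldr_lor (L : List ℕ) (i : ℕ) :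
    (L.foldr Nat.lor 0).testBit i = L.any fun t => t.testBit i := by
  induction L with
  | nil => simp
  | cons a r ih =>
    show (a ||| r.foldr Nat.lor 0).testBit i = _
    rw [Nat.testBit_or, ih, List.any_cons]

theorem exists_tet_mem {e : ℕ} (he : e ∈ sextetTab) (p : GolayPt) :
    ∃ t ∈ tets e, p ∈ decS t := by
  have h := List.all_eq_true.mp sextetTab_spec e he
  rw [Bool.and_eq_true] at h
  have h2 : (16777215 : ℕ).testBit (idx p).val = true := by
    rw [← encS_univ, testBit_encS]; simp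
  rw [← Nat.eq_of_beq_eq_true h.2, testBit_foldr_lor, List.any_eq_true] at h2
  obtain ⟨t, ht, hb⟩ := h2
  exact ⟨t, ht, mem_decS.mpr hb⟩

/-- The 4-element sets with a given syndrome. -/
noncomputable def sextetOfKey (s : ℕ) : Finset (Finset GolayPt) :=
  (Set.toFinite {t : Finset GolayPt | t.card = 4 ∧ syn (encS t) = s}).toFinset

theorem mem_sextetOfKey {s : ℕ} {t : Finset GolayPt} :
    t ∈ sextetOfKey s ↔ t.card = 4 ∧ syn (encS t) = s := by
  simp [sextetOfKey]

theorem card_symmDiff_le_of_syn_eq {t u : Finset GolayPt} (h : syn (encS t) = syn (encS u))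
    (hne : t ≠ u) : 8 ≤ (t ∆ u).card := by
  refine eight_le_card_support (mem_supports.mpr ?_) (Finset.symmDiff_nonempty.mpr hne)
  rw [encS_symmDiff]
  exact syn_eq_iff.mp h

theorem tets_toFinset {e : ℕ} (he : e ∈ sextetTab) :
    ((tets e).map decS).toFinset = sextetOfKey (sextetKey e) := by
  ext u
  rw [List.mem_toFinset, List.mem_map, mem_sextetOfKey]
  constructor
  · rintro ⟨t, ht, rfl⟩
    obtain ⟨h1, h2⟩ := sextetTab_tets he ht
    exact ⟨by rw [card_decS (tets_lt ht), h1], by rw [encS_decS (tets_lt ht), h2]⟩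
  · rintro ⟨hu, hs⟩
    obtain ⟨p, hp⟩ := Finset.card_pos.mp (by omega : 0 < u.card)
    obtain ⟨t, ht, hpt⟩ := exists_tet_mem he p
    obtain ⟨h1, h2⟩ := sextetTab_tets he ht
    refine ⟨t, ht, ?_⟩
    by_contra hne
    have h8 := card_symmDiff_le_of_syn_eq
      (show syn (encS (decS t)) = syn (encS u) by rw [encS_decS (tets_lt ht), h2, hs]) hne
    have h3 := card_symmDiff_add (decS t) u
    have h4 : 0 < (decS t ∩ u).card := Finset.card_pos.mpr ⟨p, Finset.mem_inter.mpr ⟨hpt, hp⟩⟩
    rw [card_decS (tets_lt ht), h1] at h3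
    omega

theorem card_sextetOfKey {e : ℕ} (he : e ∈ sextetTab) : (sextetOfKey (sextetKey e)).card = 6 := by
  refine le_antisymm ?_ ?_
  · rw [← tets_toFinset he]
    exact (List.toFinset_card_le _).trans (by simp [tets])
  · have hsub : (Finset.univ : Finset GolayPt) ⊆ (sextetOfKey (sextetKey e)).biUnion id := by
      intro p _
      obtain ⟨t, ht, hp⟩ := exists_tet_mem he p
      refine Finset.mem_biUnion.mpr ⟨decS t, ?_, hp⟩
      rw [← tets_toFinset he, List.mem_toFinset]
      exact List.mem_map.mpr ⟨t, ht, rfl⟩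
    have h := (Finset.card_le_card hsub).trans Finset.card_biUnion_le
    simp only [id] at h
    rw [Finset.card_univ, card_golayPt, Finset.sum_congr rfl (g := fun _ => 4)
      (fun t ht => (mem_sextetOfKey.mp ht).1), Finset.sum_const, smul_eq_mul] at h
    omega

theorem syn_mem_sextetKeys {t : Finset GolayPt} (ht : t.card = 4) : syn (encS t) ∈ sextetKeys := by
  have h := congrArg (fun n => n.testBit (syn (encS t))) (Nat.eq_of_beq_eq_true keys_cover)
  have h1 : (Nat.sub (Nat.shiftLeft 1 4096) 1).testBit (syn (encS t)) = true := by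
    show (((1 : ℕ) <<< 4096) - 1).testBit (syn (encS t)) = true
    rw [Nat.one_shiftLeft, Nat.testBit_two_pow_sub_one, decide_eq_true_eq]
    exact syn_lt (encS_lt t)
  have h' : ((bitsOf sextetKeys) ||| (bitsOf (smallMasks.map syn))).testBit (syn (encS t)) = true :=
    h.trans h1
  rw [Nat.testBit_or, Bool.or_eq_true, testBit_bitsOf, testBit_bitsOf] at h'
  rcases h' with h' | h'
  · exact h'
  · obtain ⟨m, hm, hms⟩ := List.mem_map.mp h'
    have hm' := List.all_eq_true.mp smallMasks_spec m hm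
    rw [Bool.and_eq_true] at hm'
    have hlt : m < 2 ^ 24 := Nat.le_of_ble_eq_true hm'.1
    have hc : (decS m).card ≤ 3 := by rw [card_decS hlt]; exact Nat.le_of_ble_eq_true hm'.2
    have hne : decS m ≠ t := by rintro rfl; omega
    have := card_symmDiff_le_of_syn_eq (t := decS m) (u := t) (by rw [encS_decS hlt]; exact hms) hne
    have := card_symmDiff_add (decS m) t
    omega

theorem exists_tab_of_mem_keys {k : ℕ} (hk : k ∈ sextetKeys) : ∃ e ∈ sextetTab, sextetKey e = k :=
  List.mem_map.mp hk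

theorem sextetOfKey_mem {k : ℕ} (hk : k ∈ sextetKeys) : sextetOfKey k ∈ sextets := by
  obtain ⟨e, he, rfl⟩ := exists_tab_of_mem_keys hk
  refine ⟨card_sextetOfKey he, fun t ht => (mem_sextetOfKey.mp ht).1, fun t ht u hu hne => ?_⟩
  obtain ⟨h1, h2⟩ := mem_sextetOfKey.mp ht
  obtain ⟨h3, h4⟩ := mem_sextetOfKey.mp hu
  have h8 := card_symmDiff_le_of_syn_eq (h2.trans h4.symm) hne
  have h9 := card_symmDiff_add t u
  have heq : t ∪ u = t ∆ u := by
    rw [symmDiff_eq_sup_sdiff_inf]
    show t ∪ u = (t ∪ u) \ (t ∩ u)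
    rw [Finset.card_eq_zero.mp (show (t ∩ u).card = 0 by omega), Finset.sdiff_empty]
  refine ⟨mem_supports.mpr ?_, by rw [heq]; omega⟩
  rw [heq, encS_symmDiff]
  exact syn_eq_iff.mp (h2.trans h4.symm)

theorem eq_sextetOfKey_of_mem {S : Finset (Finset GolayPt)} (hS : S ∈ sextets) {t : Finset GolayPt}
    (ht : t ∈ S) : S = sextetOfKey (syn (encS t)) := by
  obtain ⟨e, he, hk⟩ := exists_tab_of_mem_keys (syn_mem_sextetKeys (hS.2.1 t ht))
  refine Finset.eq_of_subset_of_card_le (fun u hu => ?_) ?_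
  · rw [mem_sextetOfKey]
    refine ⟨hS.2.1 u hu, ?_⟩
    by_cases hut : u = t
    · rw [hut]
    · have ho := hS.2.2 u hu t ht hut
      have hd : Disjoint u t := by
        rw [Finset.disjoint_iff_inter_eq_empty, ← Finset.card_eq_zero]
        have := Finset.card_union_add_card_inter u t
        rw [card_of_mem_octads ho, hS.2.1 u hu, hS.2.1 t ht] at this
        omega
      rw [syn_eq_iff, ← encS_symmDiff]
      have hx : u ∆ t = u ∪ t := by
        rw [symmDiff_eq_sup_sdiff_inf]
        show (u ∪ t) \ (u ∩ t) = u ∪ t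
        rw [Finset.disjoint_iff_inter_eq_empty.mp hd, Finset.sdiff_empty]
      rw [hx]
      exact (mem_octads.mp ho).1
  · rw [← hk, card_sextetOfKey he, hS.1]

theorem sextets_eq : sextets = sextetOfKey '' {k | k ∈ sextetKeys} := by
  ext S
  constructor
  · intro hS
    obtain ⟨t, ht⟩ := Finset.card_pos.mp (by rw [hS.1]; norm_num : 0 < S.card)
    exact ⟨_, syn_mem_sextetKeys (hS.2.1 t ht), (eq_sextetOfKey_of_mem hS ht).symm⟩
  · rintro ⟨k, hk, rfl⟩
    exact sextetOfKey_mem hk

theorem sextetOfKey_injOn : Set.InjOn sextetOfKey {k | k ∈ sextetKeys} := by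
  intro a ha b _ hab
  obtain ⟨t, ht⟩ := Finset.card_pos.mp (by rw [(sextetOfKey_mem ha).1]; norm_num : 0 < (sextetOfKey a).card)
  have ht' : t ∈ sextetOfKey b := hab ▸ ht
  rw [← (mem_sextetOfKey.mp ht).2, (mem_sextetOfKey.mp ht').2]

theorem ncard_image_of_nodup {α : Type*} {f : ℕ → α} {L : List ℕ} (hL : L.Nodup)
    (hf : Set.InjOn f {k | k ∈ L}) : (f '' {k | k ∈ L}).ncard = L.length := by
  have h : {k | k ∈ L} = (↑L.toFinset : Set ℕ) := by ext; simp
  rw [Set.InjOn.ncard_image hf, h, Set.ncard_coe_finset, List.toFinset_card_of_nodup hL]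

theorem ncard_sextets : sextets.ncard = 1771 := by
  rw [sextets_eq, ncard_image_of_nodup (nodup_of_incr incr_sextetKeys) sextetOfKey_injOn, sextetKeys,
    List.length_map, length_sextetTab]

theorem smul_mem_sextets {σ : Equiv.Perm GolayPt} (hσ : σ ∈ M24) {S : Finset (Finset GolayPt)}
    (hS : S ∈ sextets) : σ • S ∈ sextets := by
  refine ⟨by rw [Finset.card_smul_finset]; exact hS.1, fun t ht => ?_, fun t ht u hu hne => ?_⟩
  · obtain ⟨t', ht', rfl⟩ := Finset.mem_smul_finset.mp ht
    rw [Finset.card_smul_finset]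
    exact hS.2.1 t' ht'
  · obtain ⟨t', ht', rfl⟩ := Finset.mem_smul_finset.mp ht
    obtain ⟨u', hu', rfl⟩ := Finset.mem_smul_finset.mp hu
    rw [← Finset.smul_finset_union]
    exact smul_mem_octads hσ (hS.2.2 t' ht' u' hu' (fun h => hne (by rw [h])))

theorem smul_sextetOfKey {σ : Equiv.Perm GolayPt} (hσ : σ ∈ M24) {k : ℕ} (hk : k ∈ sextetKeys) :
    σ • sextetOfKey k = sextetOfKey (synAct (toList σ) k) := by
  have hS := sextetOfKey_mem hk
  obtain ⟨t, ht⟩ := Finset.card_pos.mp (by rw [hS.1]; norm_num : 0 < (sextetOfKey k).card)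
  rw [eq_sextetOfKey_of_mem (smul_mem_sextets hσ hS) (Finset.smul_mem_smul_finset ht),
    syn_encS_smul hσ, (mem_sextetOfKey.mp ht).2]

theorem exists_smul_sextet_eq {S S' : Finset (Finset GolayPt)} (hS : S ∈ sextets) (hS' : S' ∈ sextets) :
    ∃ g ∈ M24, g • S = S' := by
  obtain ⟨t, ht⟩ := Finset.card_pos.mp (by rw [hS.1]; norm_num : 0 < S.card)
  obtain ⟨t', ht'⟩ := Finset.card_pos.mp (by rw [hS'.1]; norm_num : 0 < S'.card)
  obtain ⟨g, hg, hgt⟩ := exists_map_eq t.nodup_toList t'.nodup_toList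
    (by simp [hS.2.1 t ht, hS'.2.1 t' ht']) (by simp [hS.2.1 t ht])
  have himg : g • t = t' := by
    ext p
    rw [Finset.mem_smul_finset, ← Finset.mem_toList, ← hgt, List.mem_map]
    simp [Equiv.Perm.smul_def]
  refine ⟨g, hg, ?_⟩
  rw [eq_sextetOfKey_of_mem (smul_mem_sextets hg hS) (Finset.smul_mem_smul_finset ht), himg,
    ← eq_sextetOfKey_of_mem hS' ht']

end CfsgLib.Golay
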