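import Cfsg.Agent.Lib.Golay.Masks

/-!
# Data for the stabilizer chain of the group of the length-24 code

`prog` is a straight-line program: entry `(a, b)` puts the product of the entries at depths `a` and `b` on top, the
four bottom entries being the identity, the translation, the inversion and the cube twist.
`levels` lists, for each of the seven base positions, entries fixing the earlier base positions
and carrying this one to every admissible place.  Found by a search; checked in `M24.lean`.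
-/

set_option autoImplicit false

namespace CfsgLib.Golay

/-- Translation, inversion, cube twist, as image lists. -/
def permS : List ℕ :=
  [1, 2, 3, 4, 5, 6, 7, 8, 9, 10, 11, 12, 13, 14, 15, 16, 17, 18, 19, 20, 21, 22, 0, 23]

/-- Inversion. -/
def permT : List ℕ :=
  [23, 22, 11, 15, 17, 9, 19, 13, 20, 5, 16, 2, 21, 7, 18, 3, 10, 4, 14, 6, 8, 12, 1, 0]

/-- Cube twist. -/
def permC : List ℕ :=
  [0, 18, 6, 3, 2, 21, 1, 5, 16, 12, 7, 19, 8, 9, 17, 15, 13, 11, 4, 22, 10, 20, 14, 23]

/-- The base positions. -/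
def basePos : List ℕ :=
  [23, 0, 1, 2, 3, 5, 4]

/-- The straight-line program. -/
def prog : List (ℕ × ℕ) :=
  [(2,0), (2,1), (0,1), (2,0), (6,0), (0,0), (1,0), (2,0), (3,0), (4,0), (5,0), (6,0), (7,0), (8,0), (9,0),
    (10,0), (11,0), (12,0), (13,0), (14,0), (15,0), (16,0), (17,0), (18,0), (19,0), (21,22), (21,0), (19,0),
    (0,23), (1,23), (2,1), (26,1), (4,0), (5,5), (6,0), (35,9), (9,0), (4,4), (5,0), (1,1), (1,0), (0,4),
    (14,0), (0,38), (1,38), (40,1), (18,2), (42,0), (5,20), (6,15), (22,1), (8,2), (9,1), (10,1), (11,11),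
    (12,0), (13,0), (14,0), (22,58), (22,0), (6,6), (0,0), (1,0), (1,1), (1,0), (0,5), (0,61), (1,38), (2,24),
    (64,0), (4,36), (28,5), (6,6), (14,73), (14,0), (27,27), (0,0), (29,0), (0,3), (26,26), (27,0), (1,1),
    (1,0), (0,4), (26,0), (0,80), (1,80), (2,53), (3,39), (46,0), (5,47), (6,25), (26,1), (8,8), (35,91),
    (20,0), (29,29), (0,0), (0,0), (32,0), (0,4), (11,11), (0,0), (13,0), (1,1), (1,0), (0,5), (34,34), (0,1),
    (0,104), (105,0), (2,83), (3,78), (4,64), (71,2), (6,72), (73,0), (8,32), (33,9), (10,10), (35,2), (12,0),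
    (63,48), (27,0), (99,0), (11,11), (0,0), (0,0), (2,0), (0,4), (14,14), (0,0), (1,0), (0,3), (15,15),
    (0,0), (0,2), (0,70), (1,110), (2,90), (3,97), (4,75), (5,57), (6,34), (7,50), (36,2), (61,1), (10,10),
    (11,0), (26,54), (26,0), (13,13), (0,0), (15,0), (0,3), (84,84), (0,0), (1,0), (0,3), (101,0), (13,13),
    (14,0), (0,2), (0,134), (1,79), (2,56), (3,23), (4,47), (5,31), (32,6), (7,22), (112,21), (21,0),
    (143,143), (0,0), (145,0), (1,1), (1,0), (0,5), (21,0), (38,38), (39,0), (1,1), (1,0), (0,4), (18,18),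
    (0,0), (1,0), (0,3), (18,18), (0,1), (0,147), (1,126), (2,84), (3,31), (72,23), (23,0), (97,0), (148,148),
    (0,0), (0,2), (143,0), (36,36), (0,0), (1,0), (0,3), (0,200), (1,179), (2,165), (3,143), (4,92), (5,74),
    (6,49), (50,7), (8,8), (24,9), (10,47), (26,5), (22,159), (22,0), (110,110), (0,0), (1,0), (1,1), (1,0),
    (0,5), (18,18), (0,0), (1,0), (1,1), (1,0), (0,5), (176,0), (68,68), (0,0), (0,2), (18,18), (19,0), (0,2),
    (0,195), (1,173), (2,213), (3,193), (215,1), (5,159), (6,136), (7,127), (8,110), (9,57), (126,30), (30,0),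
    (226,0), (201,201), (0,0), (0,2), (8,8), (9,0), (0,2), (42,42), (0,0), (0,2), (0,255), (1,234), (2,220),
    (198,0), (4,180), (5,129), (6,119), (7,7), (19,50), (19,0), (149,149), (22,213), (2,0), (229,229),
    (230,0), (1,1), (0,0), (2,0), (0,5), (141,141), (0,0), (0,0), (2,0), (0,4), (227,0), (14,0), (39,39),
    (0,0), (0,2), (21,0), (0,242), (1,207), (2,199), (3,82), (4,104), (5,57), (6,48), (28,25), (25,0),
    (122,0), (143,0), (246,0), (9,9), (10,0), (0,2), (157,0), (0,279), (1,196), (2,266), (3,255), (4,195),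
    (5,103), (6,228), (7,69), (8,178), (9,125), (10,78), (11,27), (12,70), (13,24), (14,24), (15,24)]

/-- Per level: program entries, sorted by the image of the base position. -/
def levels : List (List ℕ) :=
  [  [253, 276, 318, 294, 82, 61, 255, 278, 159, 254, 237, 212, 279, 213, 317, 236, 292, 293, 131, 116, 83, 256,
    277, 326],
  [326, 79, 288, 273, 115, 208, 15, 211, 272, 60, 274, 252, 81, 289, 184, 14, 210, 183, 80, 235, 295, 31, 271],
  [326, 58, 113, 114, 206, 13, 207, 10, 59, 268, 230, 257, 232, 182, 11, 181, 231, 130, 12, 280, 251, 267],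
  [326, 112, 129, 155, 229, 77, 177, 158, 238, 179, 205, 214, 157, 29, 203, 180, 78, 9, 57, 30, 8],
  [326, 105, 110, 109, 107, 160, 154, 186, 128, 28, 111, 55, 108, 106, 175, 75, 7, 56, 117, 153],
  [326, 54, 62],
  [326, 0, 74, 16, 5, 26, 6, 27, 132, 3, 2, 32, 1, 25, 84, 4]]

/-- Per level: the admissible images of the base position. -/
def targets : List (List ℕ) :=
  [  [0, 1, 2, 3, 4, 5, 6, 7, 8, 9, 10, 11, 12, 13, 14, 15, 16, 17, 18, 19, 20, 21, 22, 23],
  [0, 1, 2, 3, 4, 5, 6, 7, 8, 9, 10, 11, 12, 13, 14, 15, 16, 17, 18, 19, 20, 21, 22],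
  [1, 2, 3, 4, 5, 6, 7, 8, 9, 10, 11, 12, 13, 14, 15, 16, 17, 18, 19, 20, 21, 22],
  [2, 3, 4, 5, 6, 7, 8, 9, 10, 11, 12, 13, 14, 15, 16, 17, 18, 19, 20, 21, 22],
  [3, 4, 5, 6, 7, 8, 9, 10, 11, 12, 13, 14, 15, 16, 17, 18, 19, 20, 21, 22],
  [5, 14, 17],
  [4, 6, 7, 8, 9, 10, 11, 12, 13, 15, 16, 18, 19, 20, 21, 22]]

/-- Certificate that an automorphism fixing the seven base positions is trivial. -/
def sepCert : List (ℕ × List ℕ) :=
  [(6,[8683614,2162811]), (7,[8978620,12599513]), (8,[8421811,5275709]), (15,[8421811]), (18,[8683614]),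
    (9,[786999,9347075]), (16,[8716939]), (19,[8978620]), (21,[10846245]), (10,[2921478,14716939]),
    (11,[10554382]), (12,[2921478]), (13,[2207772]), (14,[5902343]), (17,[9347075]), (20,[13062145]), (22,[])]

end CfsgLib.Golay
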