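import Cfsg.Agent.Lib.Golay.Code
import Cfsg.Agent.Lib.Golay.M24Data

/-!
# The group of the length-24 code: generators, order, 5-transitivity
-/

set_option autoImplicit false

namespace CfsgLib.Golay

open Cfsg
open scoped Pointwise

/-- Preservation test on image lists. -/
def isPres (l : List ℕ) : Bool := gens.all fun g => isCode (pmap l g)

theorem isCode_pmap {l : List ℕ} (h : isPres l = true) (k : ℕ) : isCode (pmap l (codeWord k)) = true := by
  refine spanWord_induction (P := fun n => isCode (pmap l n) = true) gens ?_ ?_ ?_ k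
  · rw [pmap, spanWord_zero]; exact isCode_zero
  · intro a b ha hb
    unfold pmap at *
    rw [spanWord_xor]; exact isCode_xor ha hb
  · intro g hg
    exact List.all_eq_true.mp h g hg

theorem supports_finite : (supports (golayCode : Set (GolayPt → ZMod 2))).Finite := Set.toFinite _

/-- A permutation is in `M24` iff it carries supports to supports. -/
theorem mem_M24_iff {σ : Equiv.Perm GolayPt} :
    σ ∈ M24 ↔ ∀ b ∈ supports (golayCode : Set (GolayPt → ZMod 2)),
      σ • b ∈ supports (golayCode : Set (GolayPt → ZMod 2)) :=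
  MulAction.mem_stabilizer_set' supports_finite

theorem mem_M24_iff_isPres {σ : Equiv.Perm GolayPt} : σ ∈ M24 ↔ isPres (toList σ) = true := by
  rw [mem_M24_iff]
  constructor
  · intro h
    rw [isPres, List.all_eq_true]
    intro g hg
    have hlt : g < 2 ^ 24 := by revert g; decide +kernel
    have := h (decS g) (mem_supports.mpr (by rw [encS_decS hlt]; exact isCode_gens g hg))
    rwa [mem_supports, encS_smul, encS_decS hlt] at this
  · intro h b hb
    obtain ⟨k, -, hk⟩ := exists_codeWord (mem_supports.mp hb)
    rw [mem_supports, encS_smul, ← hk]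
    exact isCode_pmap h k

theorem smul_mem_supports {σ : Equiv.Perm GolayPt} (hσ : σ ∈ M24) {b : Finset GolayPt}
    (hb : b ∈ supports (golayCode : Set (GolayPt → ZMod 2))) :
    σ • b ∈ supports (golayCode : Set (GolayPt → ZMod 2)) := mem_M24_iff.mp hσ b hb

theorem smul_mem_wordsOfWeight {σ : Equiv.Perm GolayPt} (hσ : σ ∈ M24) {b : Finset GolayPt} {n : ℕ}
    (hb : b ∈ wordsOfWeight (golayCode : Set (GolayPt → ZMod 2)) n) :
    σ • b ∈ wordsOfWeight (golayCode : Set (GolayPt → ZMod 2)) n :=
  ⟨smul_mem_supports hσ hb.1, by rw [Finset.card_smul_finset]; exact hb.2⟩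

theorem smul_mem_octads {σ : Equiv.Perm GolayPt} (hσ : σ ∈ M24) {b : Finset GolayPt}
    (hb : b ∈ octads) : σ • b ∈ octads := smul_mem_wordsOfWeight hσ hb

theorem smul_mem_dodecads {σ : Equiv.Perm GolayPt} (hσ : σ ∈ M24) {b : Finset GolayPt}
    (hb : b ∈ dodecads) : σ • b ∈ dodecads := smul_mem_wordsOfWeight hσ hb

/-- An octad with five fixed points is fixed. -/
theorem smul_octad_eq {σ : Equiv.Perm GolayPt} (hσ : σ ∈ M24) {o : Finset GolayPt} (ho : o ∈ octads)
    {s : Finset GolayPt} (hs : 5 ≤ s.card) (hso : s ⊆ o) (hfix : ∀ p ∈ s, σ p = p) : σ • o = o := by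
  refine octad_eq_of_five_le (smul_mem_octads hσ ho) ho (hs.trans (Finset.card_le_card ?_))
  intro p hp
  refine Finset.mem_inter.mpr ⟨Finset.mem_smul_finset.mpr ⟨p, hso hp, hfix p hp⟩, hso hp⟩

/-! ### The three generators -/

/-- Translation by one, fixing the extra point. -/
def shiftPerm : Equiv.Perm GolayPt := Equiv.optionCongr (Equiv.addRight (1 : ZMod 23))

/-- The subgroup generated by the translation, the inversion and the cube twist. -/
def G0 : Subgroup (Equiv.Perm GolayPt) := Subgroup.closure {shiftPerm, projInv, cubeTwist}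

theorem toList_shiftPerm : toList shiftPerm = permS := by decide +kernel

theorem toList_projInv : toList projInv = permT := by decide +kernel

theorem toList_cubeTwist : toList cubeTwist = permC := by decide +kernel

theorem shiftPerm_mem_M24 : shiftPerm ∈ M24 := by
  rw [mem_M24_iff_isPres, toList_shiftPerm]; decide +kernel

theorem projInv_mem_M24 : projInv ∈ M24 := by
  rw [mem_M24_iff_isPres, toList_projInv]; decide +kernel

theorem cubeTwist_mem_M24 : cubeTwist ∈ M24 := by
  rw [mem_M24_iff_isPres, toList_cubeTwist]; decide +kernel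

theorem G0_le_M24 : G0 ≤ M24 := by
  rw [G0, Subgroup.closure_le]
  rintro x (rfl | rfl | rfl)
  exacts [shiftPerm_mem_M24, projInv_mem_M24, cubeTwist_mem_M24]

/-! ### The straight-line program -/

/-- Run a straight-line program on a stack of image lists. -/
def runProg : List (ℕ × ℕ) → List (List ℕ) → List (List ℕ)
  | [], acc => acc
  | (a, b) :: r, acc =>
    runProg r (comp (acc.getD a (List.range 24)) (acc.getD b (List.range 24)) :: acc)

/-- The image lists of all the elements of the program. -/
def perms : List (List ℕ) := runProg prog [permC, permT, permS, List.range 24]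

/-- `l` is the image list of an element of `G0`. -/
def InG0 (l : List ℕ) : Prop := ∃ σ ∈ G0, toList σ = l

theorem inG0_one : InG0 (List.range 24) := ⟨1, one_mem _, toList_one⟩

theorem inG0_getD {acc : List (List ℕ)} (h : ∀ l ∈ acc, InG0 l) (a : ℕ) :
    InG0 (acc.getD a (List.range 24)) := by
  by_cases ha : a < acc.length
  · rw [List.getD_eq_getElem _ _ ha]; exact h _ (List.getElem_mem _)
  · rw [List.getD_eq_default _ _ (not_lt.mp ha)]; exact inG0_one

theorem inG0_runProg : ∀ (P : List (ℕ × ℕ)) (acc : List (List ℕ)), (∀ l ∈ acc, InG0 l) →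
    ∀ l ∈ runProg P acc, InG0 l := by
  intro P
  induction P with
  | nil => intro acc h; exact h
  | cons x P ih =>
    intro acc h
    apply ih
    intro l hl
    rcases List.mem_cons.mp hl with rfl | hl
    · obtain ⟨σ, hσ, hσ'⟩ := inG0_getD h x.1
      obtain ⟨τ, hτ, hτ'⟩ := inG0_getD h x.2
      exact ⟨σ * τ, mul_mem hσ hτ, by rw [toList_mul, hσ', hτ']⟩
    · exact h l hl

theorem inG0_perms : ∀ l ∈ perms, InG0 l := by
  refine inG0_runProg _ _ ?_
  intro l hl
  simp only [List.mem_cons, List.not_mem_nil, or_false] at hl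
  rcases hl with rfl | rfl | rfl | rfl
  · exact ⟨_, Subgroup.subset_closure (by simp), toList_cubeTwist⟩
  · exact ⟨_, Subgroup.subset_closure (by simp), toList_projInv⟩
  · exact ⟨_, Subgroup.subset_closure (by simp), toList_shiftPerm⟩
  · exact inG0_one

/-! ### The chain -/

/-- The base points: five points, a sixth in their octad, a seventh outside it. -/
def basePts : List GolayPt := [none, some 0, some 1, some 2, some 3, some 5, some 4]

theorem basePts_spec : (basePts.map fun p => (idx p).val) = basePos := by decide +kernel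

/-- The `k`-th base point. -/
def basePt (k : ℕ) : GolayPt := basePts.getD k none

/-- The entries listed at level `k`. -/
def levelElts (P : List (List ℕ)) (k : ℕ) : List (List ℕ) :=
  (levels.getD k []).map fun i => P.getD i (List.range 24)

/-- The check of a level. -/
def levelCheck (P : List (List ℕ)) (k : ℕ) : Bool :=
  ((levelElts P k).all fun l => (basePos.take k).all fun b => Nat.beq (l.getD b 0) b) &&
    (((levelElts P k).map fun l => l.getD (basePos.getD k 0) 0) == targets.getD k [])

theorem levelCheck_perms : ((List.range 7).all fun k => levelCheck perms k) = true := by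
  decide +kernel

theorem idx_basePt {k : ℕ} (hk : k < 7) : (idx (basePt k)).val = basePos.getD k 0 := by
  interval_cases k <;> decide +kernel

theorem mem_basePos_take {k : ℕ} {p : GolayPt} :
    (idx p).val ∈ basePos.take k ↔ p ∈ basePts.take k := by
  rw [← basePts_spec, ← List.map_take, List.mem_map_of_injective]
  exact Fin.val_injective.comp idx_injective

/-- Transversal elements. -/
theorem exists_level {k : ℕ} (hk : k < 7) {p : GolayPt} (hp : (idx p).val ∈ targets.getD k []) :
    ∃ σ ∈ G0, (∀ b ∈ basePts.take k, σ b = b) ∧ σ (basePt k) = p := by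
  have h := List.all_eq_true.mp levelCheck_perms k (List.mem_range.mpr hk)
  rw [levelCheck, Bool.and_eq_true, beq_iff_eq] at h
  rw [← h.2, List.mem_map] at hp
  obtain ⟨l, hl, hlp⟩ := hp
  have hl' : InG0 l := by
    rw [levelElts, List.mem_map] at hl
    obtain ⟨i, -, rfl⟩ := hl
    exact inG0_getD inG0_perms i
  obtain ⟨σ, hσ, rfl⟩ := hl'
  refine ⟨σ, hσ, fun b hb => ?_, ?_⟩
  · have hb' := List.all_eq_true.mp (List.all_eq_true.mp h.1 _ hl) _ (mem_basePos_take.mpr hb)
    have := Nat.eq_of_beq_eq_true hb'
    rw [toList_getD] at this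
    exact idx_injective (Fin.ext this)
  · rw [← idx_basePt hk, toList_getD] at hlp
    exact idx_injective (Fin.ext hlp)

theorem targets_spec : ∀ k : Fin 5, ∀ i : Fin 24,
    (i.val ∈ targets.getD k.val [] ↔ i.val ∉ basePos.take k.val) := by decide +kernel

/-- The octad through the first five base points. -/
def baseOctad : Finset GolayPt := decS 8536111

theorem baseOctad_mem : baseOctad ∈ octads := by
  rw [mem_octads, baseOctad, encS_decS (by norm_num)]; decide +kernel

theorem basePts_subset_baseOctad : ∀ p ∈ basePts.take 6, p ∈ baseOctad := by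
  unfold baseOctad; decide +kernel

theorem targets_five : ∀ i : Fin 24, i.val ∈ targets.getD 5 [] ↔
    (Nat.testBit 8536111 i.val = true ∧ i.val ∉ basePos.take 5) := by decide +kernel

theorem targets_six : ∀ i : Fin 24, i.val ∈ targets.getD 6 [] ↔
    Nat.testBit 8536111 i.val = false := by decide +kernel

/-- The admissible images at level `k`. -/
def targetPts (k : ℕ) : Finset GolayPt :=
  Finset.univ.filter fun p => (idx p).val ∈ targets.getD k []

theorem card_targetPts : ∀ k : Fin 7, (targetPts k.val).card = [24, 23, 22, 21, 20, 3, 16].getD k.val 0 := by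
  decide +kernel

theorem five_le_card_take : 5 ≤ (basePts.take 5).toFinset.card := by decide +kernel

/-- Fixed base points constrain the image of the next one. -/
theorem apply_basePt_mem_targetPts {k : ℕ} (hk : k < 7) {σ : Equiv.Perm GolayPt} (hσ : σ ∈ M24)
    (hfix : ∀ b ∈ basePts.take k, σ b = b) : σ (basePt k) ∈ targetPts k := by
  rw [targetPts, Finset.mem_filter]
  refine ⟨Finset.mem_univ _, ?_⟩
  have hnot : σ (basePt k) ∉ basePts.take k := by
    intro h
    have h2 : basePt k = σ (basePt k) := (σ.injective (hfix _ h)).symm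
    rw [← h2] at h
    revert h
    interval_cases k <;> decide +kernel
  have hoct : 5 ≤ k → σ • baseOctad = baseOctad := by
    intro h5
    refine smul_octad_eq hσ baseOctad_mem five_le_card_take (fun p hp => ?_) (fun p hp => ?_)
    · rw [List.mem_toFinset] at hp
      exact basePts_subset_baseOctad p
        (List.take_subset_take_left _ (by norm_num : 5 ≤ 6) hp)
    · rw [List.mem_toFinset] at hp
      exact hfix p (List.take_subset_take_left _ h5 hp)
  rcases Nat.lt_or_ge k 5 with h5 | h5
  · rw [targets_spec ⟨k, h5⟩ (idx (σ (basePt k))), mem_basePos_take]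
    exact hnot
  · have h56 : k = 5 ∨ k = 6 := by omega
    rcases h56 with rfl | rfl
    · rw [targets_five (idx (σ (basePt 5))), mem_basePos_take]
      refine ⟨?_, hnot⟩
      rw [← mem_decS, ← baseOctad, ← hoct h5, ← Equiv.Perm.smul_def, Finset.smul_mem_smul_finset_iff]
      exact basePts_subset_baseOctad _ (by decide +kernel)
    · rw [targets_six (idx (σ (basePt 6))), ← Bool.not_eq_true, ← mem_decS, ← baseOctad, ← hoct h5,
        ← Equiv.Perm.smul_def, Finset.smul_mem_smul_finset_iff]
      unfold baseOctad
      decide +kernel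

theorem mem_targets_iff {k : ℕ} {p : GolayPt} :
    p ∈ targetPts k ↔ (idx p).val ∈ targets.getD k [] := by
  simp [targetPts]

/-! ### An automorphism fixing the base is trivial -/

/-- One step of the certificate. -/
def sepStep (F : ℕ) (c : ℕ × List ℕ) : Bool :=
  (c.2.all fun o => decide (o < 2 ^ 24) && isCode o && Nat.beq (popc o) 8 &&
      Nat.ble 5 (popc (o &&& F))) &&
    ((List.range 24).all fun y =>
      Nat.beq y c.1 || F.testBit y || c.2.any fun o => o.testBit y != o.testBit c.1)

/-- The whole certificate. -/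
def sepRun : ℕ → List (ℕ × List ℕ) → Bool
  | F, [] => Nat.beq F 16777215
  | F, c :: cs => sepStep F c && sepRun (F ||| 2 ^ c.1) cs

theorem sepRun_spec {σ : Equiv.Perm GolayPt} (hσ : σ ∈ M24) :
    ∀ (cs : List (ℕ × List ℕ)) (F : ℕ), F < 2 ^ 24 → (∀ p ∈ decS F, σ p = p) → sepRun F cs = true →
      (∀ c ∈ cs, c.1 < 24) → σ = 1 := by
  intro cs
  induction cs with
  | nil =>
    intro F _ hfix h _
    have hF := Nat.eq_of_beq_eq_true h
    subst hF
    ext1 p
    exact hfix p (by rw [← encS_univ, decS_encS]; exact Finset.mem_univ p)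
  | cons c cs ih =>
    intro F hF hfix h hlt
    rw [sepRun, Bool.and_eq_true, sepStep, Bool.and_eq_true] at h
    obtain ⟨⟨ho, hy⟩, hrest⟩ := h
    have hc : c.1 < 24 := hlt c List.mem_cons_self
    have hp : σ (pt ⟨c.1, hc⟩) = pt ⟨c.1, hc⟩ := by
      by_contra hne
      have hy' := List.all_eq_true.mp hy (idx (σ (pt ⟨c.1, hc⟩))).val (List.mem_range.mpr (idx _).isLt)
      simp only [Bool.or_eq_true, List.any_eq_true, bne_iff_ne] at hy'
      rcases hy' with (hy' | hy') | ⟨o, hoc, hod⟩
      · refine hne (idx_injective (Fin.ext ?_))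
        rw [Nat.eq_of_beq_eq_true hy', idx_pt]
      · exact hne (σ.injective (hfix _ (mem_decS.mpr hy')))
      · have h' := List.all_eq_true.mp ho o hoc
        simp only [Bool.and_eq_true, decide_eq_true_eq] at h'
        obtain ⟨⟨⟨h1, h2⟩, h3⟩, h4⟩ := h'
        have hoct : decS o ∈ octads := by
          rw [mem_octads, encS_decS h1]; exact ⟨h2, Nat.eq_of_beq_eq_true h3⟩
        have hfix' : σ • decS o = decS o := by
          refine smul_octad_eq hσ hoct (s := decS (o &&& F)) ?_ (decS_subset ?_) (fun p hp => ?_)
          · rw [card_decS (Nat.and_le_left.trans_lt h1)]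
            exact Nat.le_of_ble_eq_true h4
          · rw [Nat.and_comm, ← Nat.and_assoc, Nat.and_self]
          · refine hfix p (decS_subset ?_ hp)
            rw [Nat.and_assoc, Nat.and_self]
        refine hod ?_
        have hiff : σ (pt ⟨c.1, hc⟩) ∈ σ • decS o ↔ pt ⟨c.1, hc⟩ ∈ decS o := by
          rw [← Equiv.Perm.smul_def]; exact Finset.smul_mem_smul_finset_iff σ
        rw [hfix', mem_decS, mem_decS, idx_pt] at hiff
        exact Bool.eq_iff_iff.mpr hiff
    refine ih (F ||| 2 ^ c.1) ?_ ?_ hrest (fun c' hc' => hlt c' (List.mem_cons_of_mem _ hc'))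
    · exact Nat.or_lt_two_pow hF (Nat.pow_lt_pow_right (by norm_num) hc)
    · intro p hp'
      rw [mem_decS, Nat.testBit_or, Bool.or_eq_true, Nat.testBit_two_pow, decide_eq_true_eq] at hp'
      rcases hp' with hp' | hp'
      · exact hfix p (mem_decS.mpr hp')
      · have : p = pt ⟨c.1, hc⟩ := by
          rw [← pt_idx p]; exact congrArg pt (Fin.ext hp'.symm)
        rw [this, hp]

/-- An element of `M24` fixing the seven base points is the identity. -/
theorem eq_one_of_fix_base {σ : Equiv.Perm GolayPt} (hσ : σ ∈ M24) (hfix : ∀ b ∈ basePts, σ b = b) :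
    σ = 1 := by
  refine sepRun_spec hσ sepCert (encS basePts.toFinset) (encS_lt _) (fun p hp => ?_)
    (by decide +kernel) (by decide +kernel)
  rw [decS_encS, List.mem_toFinset] at hp
  exact hfix p hp

end CfsgLib.Golay
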