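import Cfsg.Agent.Lib.Golay.LeechModTwo
import Cfsg.Agent.Lib.Golay.M24
import Cfsg.Agent.Lib.Steiner.WittUnique
import Cfsg.Agent.Lib.Combin.AbstractGolay

/-!
# A frame of the lattice gives an automorphism

The coordinates of the lattice in a frame form a lattice of the same kind; its code is equivalent to the
length-24 code by uniqueness, and after signs it is the lattice itself.
-/

set_option autoImplicit false

namespace CfsgLib.Golay

open Cfsg

/-- Uniqueness of the code, on its own 24 points. -/
theorem exists_equiv_of_isGolay {C : Submodule (ZMod 2) (GolayPt → ZMod 2)}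
    (hC : CfsgLib.Combin.AbstractGolay.IsGolay C) :
    ∃ e : GolayPt ≃ GolayPt, ∀ w : GolayPt → ZMod 2, w ∈ golayCode ↔ (fun i => w (e i)) ∈ C := by
  obtain ⟨e, he⟩ := CfsgLib.Steiner.Witt.iso_octads hC.len
    (CfsgLib.Combin.AbstractGolay.octads_steiner hC)
  refine ⟨e, fun w => ?_⟩
  let φ : (GolayPt → ZMod 2) ≃ₗ[ZMod 2] (GolayPt → ZMod 2) :=
    LinearEquiv.funCongrLeft (ZMod 2) (ZMod 2) e
  have hφ : ∀ v : GolayPt → ZMod 2, φ v = fun i => v (e i) := fun _ => rfl
  have hgen : ∀ g ∈ gens, φ (dec g) ∈ C := by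
    intro g hg
    have hall : ∀ g ∈ gens, g < 2 ^ 24 ∧ popc g = 8 := by decide +kernel
    have h1 := hall g hg
    have h2 : decS g ∈ octads := by
      rw [mem_octads, encS_decS h1.1]
      exact ⟨isCode_gens g hg, h1.2⟩
    rw [← he] at h2
    obtain ⟨b, ⟨⟨u, hu, rfl⟩, -⟩, hb⟩ := h2
    suffices h : φ (dec g) = u by rw [h]; exact hu
    apply CfsgLib.Combin.AbstractGolay.support₂_injective
    ext i
    have h3 := Finset.ext_iff.mp hb (e i)
    simp only [Finset.mem_image, EmbeddingLike.apply_eq_iff_eq, exists_eq_right] at h3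
    rw [h3, ← support₂_dec]
    simp [support₂, hφ]
  have hle : golayCode.map φ.toLinearMap ≤ C := by
    rintro _ ⟨v, hv, rfl⟩
    have hk := isCode_iff.mp (mem_golayCode.mp hv)
    rw [← dec_enc v, ← hk]
    refine spanWord_induction (P := fun n => φ (dec n) ∈ C) gens ?_ ?_ hgen _
    · rw [dec_zero, map_zero]; exact C.zero_mem
    · intro a b ha hb
      rw [dec_xor, map_add]; exact C.add_mem ha hb
  have heq : golayCode.map φ.toLinearMap = C := by
    refine Submodule.eq_of_le_of_finrank_eq hle ?_
    rw [LinearEquiv.finrank_map_eq, finrank_golayCode, hC.dim]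
  have hw : (fun i => w (e i)) ∈ C ↔ w ∈ golayCode := by
    rw [← hφ w]
    conv_lhs => rw [← heq]
    exact ⟨fun ⟨v, hv, hvw⟩ => φ.injective hvw ▸ hv, fun h => ⟨w, h, rfl⟩⟩
  exact hw.symm

/-- A frame: 24 orthogonal vectors of norm 64, congruent modulo twice the lattice. -/
structure IsFrame (v : GolayPt → GolayPt → ℤ) : Prop where
  mem : ∀ i, v i ∈ leechLattice
  dot : ∀ i j, dotInt (v i) (v j) = if i = j then 64 else 0
  cong : ∀ i j, CongTwo (v i) (v j)

/-- Coordinates with respect to a frame. -/
def coord (v : GolayPt → GolayPt → ℤ) (u : GolayPt → ℤ) : GolayPt → ℤ := fun i => dotInt u (v i) / 8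

variable {v : GolayPt → GolayPt → ℤ} (hv : IsFrame v)

include hv

theorem eight_coord {u : GolayPt → ℤ} (hu : u ∈ leechLattice) (i : GolayPt) :
    8 * coord v u i = dotInt u (v i) :=
  Int.mul_ediv_cancel' (eight_dvd_dot hu (hv.mem i))

theorem coord_frame (i : GolayPt) : coord v (v i) = Pi.single i 8 := by
  funext j
  rw [coord, hv.dot i j]
  rcases eq_or_ne i j with rfl | h
  · simp
  · simp [h, Pi.single_eq_of_ne h.symm]

theorem coord_add {u w : GolayPt → ℤ} (hu : u ∈ leechLattice) :
    coord v (u + w) = coord v u + coord v w := by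
  funext i
  simp only [coord, Pi.add_apply, dot_add_left]
  exact Int.add_ediv_of_dvd_left (eight_dvd_dot hu (hv.mem i))

theorem frame_complete (u : GolayPt → ℤ) : (64 : ℤ) • u = ∑ i, dotInt u (v i) • v i := by
  classical
  set M : Matrix GolayPt GolayPt ℚ := Matrix.of fun i k => (v i k : ℚ) with hM
  have h1 : M * ((1 / 64 : ℚ) • M.transpose) = 1 := by
    ext i j
    rw [Matrix.mul_smul, Matrix.smul_apply, Matrix.mul_apply]
    have hd : ∑ k, M i k * M.transpose k j = ((dotInt (v i) (v j) : ℤ) : ℚ) := by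
      simp [hM, dotInt]
    rw [hd, hv.dot]
    rcases eq_or_ne i j with rfl | h
    · simp
    · simp [h, Matrix.one_apply_ne h]
  have h2 : ((1 / 64 : ℚ) • M.transpose) * M = 1 := mul_eq_one_comm.mp h1
  funext k
  have hq : ((64 * u k : ℤ) : ℚ) = ((∑ i, dotInt u (v i) * v i k : ℤ) : ℚ) := by
    have h3 : ∀ j, ∑ i, M i j * M i k = 64 * (1 : Matrix GolayPt GolayPt ℚ) j k := fun j => by
      rw [← h2, Matrix.smul_mul, Matrix.smul_apply, Matrix.mul_apply, smul_eq_mul, ← mul_assoc,
        show (64 : ℚ) * (1 / 64) = 1 by norm_num, one_mul]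
      rfl
    simp only [Int.cast_mul, Int.cast_sum, dotInt, Finset.sum_mul]
    rw [Finset.sum_comm, Finset.sum_congr rfl (g := fun j => (u j : ℚ) * ∑ i, M i j * M i k)
      (fun j _ => by rw [Finset.mul_sum]; exact Finset.sum_congr rfl fun i _ => by simp [hM]; ring)]
    simp only [h3, Matrix.one_apply, mul_ite, mul_one, mul_zero, Finset.sum_ite_eq', Finset.mem_univ,
      if_true]
    push_cast; ring
  simp only [Pi.smul_apply, smul_eq_mul, Finset.sum_apply]
  exact_mod_cast hq

theorem coord_dot {u w : GolayPt → ℤ} (hu : u ∈ leechLattice) (hw : w ∈ leechLattice) :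
    dotInt (coord v u) (coord v w) = dotInt u w := by
  have h := congrArg (fun x => dotInt x w) (frame_complete hv u)
  simp only [dot_smul_left] at h
  rw [dot_symm (∑ i, dotInt u (v i) • v i), dot_sum_right] at h
  simp only [dot_smul_right, ← eight_coord hv hu, ← eight_coord hv hw] at h
  have h2 : ∑ i, 8 * coord v u i * (8 * coord v w i) = 64 * dotInt (coord v u) (coord v w) := by
    simp only [dotInt, Finset.mul_sum]
    exact Finset.sum_congr rfl fun i _ => by ring
  rw [h2] at h
  linarith

theorem coord_sqNorm {u : GolayPt → ℤ} (hu : u ∈ leechLattice) :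
    sqNorm (coord v u) = sqNorm u := by
  rw [← dot_self, coord_dot hv hu hu, dot_self]

theorem coord_injective {u w : GolayPt → ℤ} (hu : u ∈ leechLattice) (hw : w ∈ leechLattice)
    (h : coord v u = coord v w) : u = w := by
  have h1 := coord_sqNorm hv (sub_mem hu hw)
  have h2 : coord v (u - w) = 0 := by
    have := coord_add hv (w := w) (sub_mem hu hw)
    rw [sub_add_cancel, h] at this
    exact right_eq_add.mp this
  rw [h2, sqNorm_eq_zero.mpr rfl, eq_comm, sqNorm_eq_zero, sub_eq_zero] at h1
  exact h1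

/-- The lattice in frame coordinates. -/
def coordLattice : AddSubgroup (GolayPt → ℤ) where
  carrier := {z | ∃ u ∈ leechLattice, coord v u = z}
  zero_mem' := ⟨0, zero_mem _, by funext i; simp [coord, dotInt]⟩
  add_mem' := by
    rintro a b ⟨u, hu, rfl⟩ ⟨w, hw, rfl⟩
    exact ⟨u + w, add_mem hu hw, coord_add hv hu⟩
  neg_mem' := by
    rintro a ⟨u, hu, rfl⟩
    refine ⟨-u, neg_mem hu, ?_⟩
    have := coord_add hv (w := -u) hu
    rw [add_neg_cancel] at this
    have h0 : coord v 0 = 0 := by funext i; simp [coord, dotInt]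
    rw [h0] at this
    exact (neg_eq_of_add_eq_zero_right this.symm).symm

theorem mem_coordLattice_of_dual {z : GolayPt → ℤ}
    (h : ∀ x ∈ coordLattice hv, (8 : ℤ) ∣ dotInt z x) : z ∈ coordLattice hv := by
  set w := ∑ i, z i • v i with hw
  have hwL : w ∈ leechLattice := sum_mem fun i _ => zsmul_mem (hv.mem i) _
  have hdot : ∀ u ∈ leechLattice, (64 : ℤ) ∣ dotInt w u := by
    intro u hu
    rw [dot_symm, hw, dot_sum_right]
    simp only [dot_smul_right, ← eight_coord hv hu]
    obtain ⟨q, hq⟩ := h _ ⟨u, hu, rfl⟩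
    refine ⟨q, ?_⟩
    rw [show ∑ i, z i * (8 * coord v u i) = 8 * dotInt z (coord v u) by
      simp only [dotInt, Finset.mul_sum]; exact Finset.sum_congr rfl fun i _ => by ring, hq]
    ring
  have h8 : ∀ i, (8 : ℤ) ∣ w i := by
    intro i
    have := hdot _ (vecE8_mem i 8 dvd_rfl)
    rw [dot_single_right] at this
    omega
  refine ⟨fun i => w i / 8, mem_leechLattice_of_dual fun u hu => ?_, ?_⟩
  · have := hdot u hu
    have e : dotInt w u = 8 * dotInt (fun i => w i / 8) u := by
      simp only [dotInt, Finset.mul_sum]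
      exact Finset.sum_congr rfl fun i _ => by rw [← mul_assoc, Int.mul_ediv_cancel' (h8 i)]
    rw [e] at this
    omega
  · funext k
    have e : dotInt w (v k) = 8 * dotInt (fun i => w i / 8) (v k) := by
      simp only [dotInt, Finset.mul_sum]
      exact Finset.sum_congr rfl fun i _ => by rw [← mul_assoc, Int.mul_ediv_cancel' (h8 i)]
    have e2 : dotInt w (v k) = 64 * z k := by
      rw [dot_symm, hw, dot_sum_right, Finset.sum_eq_single k (fun i _ hi => by
        rw [dot_smul_right, hv.dot, if_neg hi.symm, mul_zero]) (by simp), dot_smul_right, hv.dot,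
        if_pos rfl, mul_comm]
    rw [coord]
    omega

theorem coord_parity {x : GolayPt → ℤ} (hx : x ∈ coordLattice hv) (i j : GolayPt) :
    x i ≡ x j [ZMOD 2] := by
  obtain ⟨u, hu, rfl⟩ := hx
  obtain ⟨z, hz, e⟩ := hv.cong i j
  obtain ⟨q, hq⟩ := eight_dvd_dot hu hz
  have h := congrArg (dotInt u) e
  rw [dot_sub_right, two_nsmul, dot_add_right, ← eight_coord hv hu, ← eight_coord hv hu, hq] at h
  rw [Int.modEq_iff_dvd]
  omega

theorem four_mem_coordLattice {z : GolayPt → ℤ} (h4 : ∀ i, (4 : ℤ) ∣ z i) (h8 : (8 : ℤ) ∣ ∑ i, z i) :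
    z ∈ coordLattice hv := by
  refine mem_coordLattice_of_dual hv fun x hx => ?_
  have key : ∀ i, (8 : ℤ) ∣ z i * x i - z i * x none := fun i => by
    rw [← mul_sub]
    have h2 := (coord_parity hv hx none i).dvd
    exact (show (4 : ℤ) * 2 = 8 by norm_num) ▸ mul_dvd_mul (h4 i) h2
  have h2 := (Finset.dvd_sum fun i (_ : i ∈ Finset.univ) => key i).add (h8.mul_right (x none))
  rwa [Finset.sum_sub_distrib, ← Finset.sum_mul, sub_add_cancel] at h2

theorem coord_sixteen_dvd {x : GolayPt → ℤ} (hx : x ∈ coordLattice hv) : (16 : ℤ) ∣ sqNorm x := by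
  obtain ⟨u, hu, rfl⟩ := hx
  rw [coord_sqNorm hv hu]; exact sixteen_dvd_sqNorm hu

theorem coord_thirtytwo_le {x : GolayPt → ℤ} (hx : x ∈ coordLattice hv) (h0 : x ≠ 0) :
    32 ≤ sqNorm x := by
  obtain ⟨u, hu, rfl⟩ := hx
  rw [coord_sqNorm hv hu]
  refine thirtytwo_le_sqNorm hu fun e => h0 ?_
  rw [e]; funext i; simp [coord, dotInt]

theorem coord_eight_dvd_dot {x y : GolayPt → ℤ} (hx : x ∈ coordLattice hv) (hy : y ∈ coordLattice hv) :
    (8 : ℤ) ∣ dotInt x y := by
  obtain ⟨u, hu, rfl⟩ := hx
  obtain ⟨w, hw, rfl⟩ := hy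
  rw [coord_dot hv hu hw]; exact eight_dvd_dot hu hw

theorem single_four_not_mem : (Pi.single none 4 : GolayPt → ℤ) ∉ coordLattice hv := by
  intro h
  have := coord_thirtytwo_le hv h (by decide)
  revert this
  decide

theorem exists_odd : ∃ x ∈ coordLattice hv, x none % 2 = 1 := by
  by_contra hno
  push Not at hno
  refine single_four_not_mem hv (mem_coordLattice_of_dual hv fun x hx => ?_)
  have := hno x hx
  rw [dot_symm, dot_single_right]
  omega

/-- The code of a frame. -/
def frameCode : Submodule (ZMod 2) (GolayPt → ZMod 2) where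
  carrier := {w | ∃ x ∈ coordLattice hv, (∀ i, 2 ∣ x i) ∧ twoWord x 0 = w}
  zero_mem' := ⟨0, zero_mem _, fun _ => dvd_zero _, by funext i; simp [twoWord]⟩
  add_mem' := by
    rintro _ _ ⟨x, hx, hx2, rfl⟩ ⟨y, hy, hy2, rfl⟩
    refine ⟨x + y, add_mem hx hy, fun i => dvd_add (hx2 i) (hy2 i), ?_⟩
    funext i
    simp only [twoWord, Pi.add_apply, sub_zero, ← Int.cast_add]
    rw [Int.add_ediv_of_dvd_left (hx2 i)]
  smul_mem' := by
    rintro c _ ⟨x, hx, hx2, rfl⟩
    rcases (show c = 0 ∨ c = 1 by revert c; decide) with rfl | rfl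
    · exact ⟨0, zero_mem _, fun _ => dvd_zero _, by funext i; simp [twoWord]⟩
    · exact ⟨x, hx, hx2, by rw [one_smul]⟩

theorem frameCode_isGolay : CfsgLib.Combin.AbstractGolay.IsGolay (frameCode hv) := by
  classical
  have hhalf : ∀ {x : GolayPt → ℤ}, (∀ i, 2 ∣ x i) → ∀ i, x i = 2 * ((x i - 0) / 2) := fun h i => by
    have := h i; omega
  have horth : ∀ a ∈ frameCode hv, ∀ b ∈ frameCode hv, ∑ i, a i * b i = 0 := by
    rintro _ ⟨x, hx, hx2, rfl⟩ _ ⟨y, hy, hy2, rfl⟩
    have h := coord_eight_dvd_dot hv hx hy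
    have e : dotInt x y = 4 * ∑ i, (x i - 0) / 2 * ((y i - 0) / 2) := by
      simp only [dotInt, Finset.mul_sum]
      refine Finset.sum_congr rfl fun i _ => ?_
      conv_lhs => rw [hhalf hx2 i, hhalf hy2 i]
      ring
    have h1 : ∑ i, twoWord x 0 i * twoWord y 0 i =
        ((∑ i, (x i - 0) / 2 * ((y i - 0) / 2) : ℤ) : ZMod 2) := by
      simp [twoWord]
    rw [h1, ZMod.intCast_zmod_eq_zero_iff_dvd]
    push_cast
    rw [e] at h
    omega
  have hfour : ∀ a ∈ frameCode hv, 4 ∣ hammingNorm a := by
    rintro _ ⟨x, hx, hx2, rfl⟩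
    have h := coord_sixteen_dvd hv hx
    have e : sqNorm x = 4 * ∑ i, ((x i - 0) / 2) ^ 2 := by
      simp only [sqNorm, Finset.mul_sum]
      refine Finset.sum_congr rfl fun i _ => ?_
      conv_lhs => rw [hhalf hx2 i]
      ring
    have h1 : ∀ y : ℤ, (4 : ℤ) ∣ y ^ 2 - if y % 2 = 1 then 1 else 0 := by
      intro y
      obtain ⟨q, rfl | rfl⟩ : ∃ q, y = 2 * q ∨ y = 2 * q + 1 := ⟨y / 2, by omega⟩
      · rw [if_neg (by omega)]; exact ⟨q ^ 2, by ring⟩
      · rw [if_pos (by omega)]; exact ⟨q ^ 2 + q, by ring⟩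
    have h2 : (∑ i, (if (x i - 0) / 2 % 2 = 1 then 1 else 0 : ℤ)) =
        ((hammingNorm (twoWord x 0) : ℕ) : ℤ) := by
      rw [Finset.sum_boole, hammingNorm_eq_card_support₂]
      congr 2
      ext i
      simp [support₂, twoWord, intCast_ne_zero_iff]
    have h3 := Finset.dvd_sum fun i (_ : i ∈ Finset.univ) => h1 ((x i - 0) / 2)
    rw [Finset.sum_sub_distrib, h2] at h3
    rw [e] at h
    omega
  have hmin : ∀ a ∈ frameCode hv, a ≠ 0 → 8 ≤ hammingNorm a := by
    intro a ha ha0
    by_contra hlt
    have h4 : hammingNorm a = 4 := by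
      have := hfour a ha
      have : hammingNorm a ≠ 0 := by simpa using ha0
      omega
    obtain ⟨x, hx, hx2, rfl⟩ := ha
    obtain ⟨i0, hi0⟩ : ∃ i, twoWord x 0 i ≠ 0 := Function.ne_iff.mp ha0
    set S := support₂ (twoWord x 0) with hS
    have hi0S : i0 ∈ S := by simp [hS, support₂, hi0]
    have hmemS : ∀ i, i ∈ S ↔ x i % 4 = 2 := fun i => by
      simp only [hS, support₂, Finset.mem_filter, Finset.mem_univ, true_and, twoWord, intCast_ne_zero_iff]
      have := hx2 i
      omega
    obtain ⟨t, ht1, ht2, ht3⟩ : ∃ t : GolayPt → ℤ, (∀ i, (4 : ℤ) ∣ t i - x i) ∧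
        ((8 : ℤ) ∣ ∑ i, (t i - x i)) ∧ (t i0 ≠ 0 ∧ sqNorm t = 16) := by
      set s : ℤ := if (8 : ℤ) ∣ ∑ i, (twoInd S i - x i) then 2 else -2 with hsdef
      refine ⟨fun i => if i = i0 then s else twoInd S i, fun i => ?_, ?_, ?_, ?_⟩
      · have h := hmemS i
        have h2 := hx2 i
        dsimp only
        rcases eq_or_ne i i0 with rfl | hne
        · rw [if_pos rfl]
          have := h.mp hi0S
          rw [hsdef]; split_ifs <;> omega
        · rw [if_neg hne, twoInd]
          split_ifs with hmem
          · have := h.mp hmem; omega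
          · have : ¬ x i % 4 = 2 := fun e => hmem (h.mpr e)
            omega
      · have e : ∑ i, ((if i = i0 then s else twoInd S i) - x i) =
            ∑ i, (twoInd S i - x i) + (s - 2) := by
          have h1 : ∀ i, (if i = i0 then s else twoInd S i) - x i =
              (twoInd S i - x i) + if i = i0 then s - 2 else 0 := fun i => by
            rcases eq_or_ne i i0 with rfl | hne
            · rw [if_pos rfl, if_pos rfl, twoInd, if_pos hi0S]; ring
            · simp [hne]
          simp only [h1, Finset.sum_add_distrib, Finset.sum_ite_eq', Finset.mem_univ, if_true]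
        rw [e]
        have hd : (4 : ℤ) ∣ ∑ i, (twoInd S i - x i) := Finset.dvd_sum fun i _ => by
          have h2 := hx2 i
          have h := hmemS i
          rw [twoInd]
          split_ifs with hmem
          · have := h.mp hmem; omega
          · have : ¬ x i % 4 = 2 := fun e => hmem (h.mpr e)
            omega
        rw [hsdef]; split_ifs <;> omega
      · dsimp only
        rw [if_pos rfl, hsdef]; split_ifs <;> norm_num
      · have h1 : ∀ i, (if i = i0 then s else twoInd S i) ^ 2 = if i ∈ S then (4 : ℤ) else 0 := fun i => by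
          rcases eq_or_ne i i0 with rfl | hne
          · rw [if_pos rfl, if_pos hi0S, hsdef]; split_ifs <;> norm_num
          · rw [if_neg hne, twoInd]; split_ifs <;> norm_num
        simp only [sqNorm, h1, Finset.sum_ite_mem, Finset.univ_inter, Finset.sum_const]
        rw [show S.card = 4 from h4]; norm_num
    have htL : t ∈ coordLattice hv := by
      have hd : t - x ∈ coordLattice hv := four_mem_coordLattice hv ht1 ht2
      have := add_mem hd hx
      rwa [sub_add_cancel] at this
    have := coord_thirtytwo_le hv htL (fun e => ht3.1 (congrFun e i0))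
    omega
  obtain ⟨x0, hx0, hx0odd⟩ := exists_odd hv
  have hone : (1 : GolayPt → ZMod 2) ∈ frameCode hv := by
    refine ⟨x0 + x0, add_mem hx0 hx0, fun i => ⟨x0 i, (two_mul _).symm⟩, funext fun i => ?_⟩
    have h1 := (coord_parity hv hx0 none i).dvd
    simp only [twoWord, Pi.add_apply, Pi.one_apply, sub_zero]
    rw [show (1 : ZMod 2) = ((1 : ℤ) : ZMod 2) by norm_num, ZMod.intCast_eq_intCast_iff_dvd_sub]
    push_cast; omega
  have hperp : ∀ c : GolayPt → ZMod 2, (∀ a ∈ frameCode hv, ∑ i, c i * a i = 0) → c ∈ frameCode hv := by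
    intro c hc
    set S := support₂ c with hS
    have hce : ∀ i, c i = if i ∈ S then 1 else 0 := fun i => by
      have : ∀ a : ZMod 2, a = if a ≠ 0 then 1 else 0 := by decide
      rw [this (c i)]; simp [hS, support₂]
    have heven : S.card % 2 = 0 := by
      have := hc 1 hone
      simp only [Pi.one_apply, mul_one, hce, Finset.sum_boole, Finset.filter_mem_eq_inter,
        Finset.univ_inter, ZMod.natCast_eq_zero_iff] at this
      omega
    set d : GolayPt → ℤ := fun _ => 0
    set A := ∑ i ∈ S, x0 i with hA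
    set eps : ℤ := if A % 4 = 0 then 0 else 4 with heps
    have hA2 : A % 2 = 0 := by
      have h1 : ∀ i ∈ S, (2 : ℤ) ∣ x0 i - 1 := fun i _ => by
        have := (coord_parity hv hx0 none i).dvd; omega
      have := Finset.dvd_sum h1
      rw [Finset.sum_sub_distrib, Finset.sum_const, ← hA, nsmul_eq_mul, mul_one] at this
      omega
    refine ⟨twoInd S + Pi.single none eps, mem_coordLattice_of_dual hv fun x hx => ?_, fun i => ?_, ?_⟩
    · rw [dot_add_left, dot_symm, dot_twoInd, dot_symm, dot_single_right]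
      have hpar := (coord_parity hv hx none)
      -- reduce to the even case
      have heven' : ∀ y ∈ coordLattice hv, y none % 2 = 0 →
          (8 : ℤ) ∣ 2 * ∑ i ∈ S, y i + y none * eps := by
        intro y hy hy0
        have hy2 : ∀ i, (2 : ℤ) ∣ y i := fun i => by
          have := (coord_parity hv hy none i).dvd; omega
        have h1 := hc _ ⟨y, hy, hy2, rfl⟩
        have h2 : ∑ i, c i * twoWord y 0 i = ((∑ i ∈ S, (y i - 0) / 2 : ℤ) : ZMod 2) := by
          simp only [hce, ite_mul, one_mul, zero_mul, Finset.sum_ite_mem, Finset.univ_inter, Int.cast_sum,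
            twoWord]
        rw [h2, ZMod.intCast_zmod_eq_zero_iff_dvd] at h1
        push_cast at h1
        rw [Finset.sum_congr rfl fun i _ => hhalf hy2 i, ← Finset.mul_sum, heps]
        split_ifs <;> omega
      rcases Int.emod_two_eq_zero_or_one (x none) with h | h
      · exact heven' x hx h
      · have h1 := heven' (x - x0) (sub_mem hx hx0) (by simp only [Pi.sub_apply]; omega)
        simp only [Pi.sub_apply, Finset.sum_sub_distrib, ← hA] at h1
        rw [heps] at h1 ⊢
        split_ifs at h1 ⊢ <;> omega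
    · simp only [Pi.add_apply, twoInd, Pi.single_apply, heps]
      split_ifs <;> norm_num
    · funext i
      rw [hce i]
      simp only [twoWord, Pi.add_apply, twoInd, Pi.single_apply, heps, sub_zero]
      split_ifs <;> decide
  have hdim : Module.finrank (ZMod 2) (frameCode hv) = 12 := by
    let e := dotProductEquiv (ZMod 2) GolayPt
    have hmap : (frameCode hv).map e.toLinearMap = (frameCode hv).dualAnnihilator := by
      ext f
      simp only [Submodule.mem_map, Submodule.mem_dualAnnihilator, LinearEquiv.coe_coe]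
      constructor
      · rintro ⟨a, ha, rfl⟩ b hb
        exact horth a ha b hb
      · intro hf
        obtain ⟨a, rfl⟩ := e.surjective f
        exact ⟨a, hperp a fun b hb => hf b hb, rfl⟩
    have h1 := LinearEquiv.finrank_map_eq e (frameCode hv)
    rw [hmap] at h1
    have h2 := Subspace.finrank_add_finrank_dualAnnihilator_eq (frameCode hv)
    rw [h1, Module.finrank_pi, card_golayPt] at h2
    omega
  exact ⟨card_golayPt, hdim, horth, hmin⟩

omit hv

/-- Signs chosen so that the coordinate lattice becomes the lattice. -/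
theorem exists_normal_frame (hv : IsFrame v) :
    ∃ (v' : GolayPt → GolayPt → ℤ) (hv' : IsFrame v'), (∀ i, ∃ j, v i = v' j ∨ v i = -v' j) ∧
      coordLattice hv' = leechLattice := by
  classical
  -- permute
  obtain ⟨e, he⟩ := exists_equiv_of_isGolay (frameCode_isGolay hv)
  set v1 : GolayPt → GolayPt → ℤ := fun i => v (e.symm i) with hv1def
  have hv1 : IsFrame v1 := ⟨fun i => hv.mem _, fun i j => by
    rw [hv1def, hv.dot]; simp, fun i j => hv.cong _ _⟩
  have hcode : frameCode hv1 = golayCode := by
    ext w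
    rw [he w]
    constructor
    · rintro ⟨x, ⟨u, hu, rfl⟩, hx2, rfl⟩
      refine ⟨coord v u, ⟨u, hu, rfl⟩, fun i => ?_, ?_⟩
      · have := hx2 (e i)
        simpa [coord, hv1def] using this
      · funext i; simp [twoWord, coord, hv1def]
    · rintro ⟨x, ⟨u, hu, rfl⟩, hx2, hxw⟩
      refine ⟨coord v1 u, ⟨u, hu, rfl⟩, fun i => ?_, ?_⟩
      · exact hx2 (e.symm i)
      · funext i
        have := congrFun hxw (e.symm i)
        simpa [twoWord, coord, hv1def] using this
  -- choose a vector over each basis word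
  have hchoose : ∀ k : Fin 12, ∃ u ∈ leechLattice, (∀ i, 2 ∣ coord v1 u i) ∧
      twoWord (coord v1 u) 0 = dec (gens.getD k.val 0) := by
    intro k
    have hmem : dec (gens.getD k.val 0) ∈ frameCode hv1 := by
      rw [hcode]
      refine dec_mem_of_isCode ?_
      revert k; decide +kernel
    obtain ⟨x, ⟨u, hu, rfl⟩, h1, h2⟩ := hmem
    exact ⟨u, hu, h1, h2⟩
  choose u hu hu2 huw using hchoose
  set sgn : GolayPt → ℤ := fun i => if h : (idx i).val < 12 then
      (if (8 : ℤ) ∣ ∑ j, coord v1 (u ⟨(idx i).val, h⟩) j then 1 else -1) else 1 with hsgn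
  have hsgn1 : ∀ i, sgn i = 1 ∨ sgn i = -1 := fun i => by
    rw [hsgn]; dsimp only; split_ifs <;> simp
  set v2 : GolayPt → GolayPt → ℤ := fun i => sgn i • v1 i with hv2def
  have hv2 : IsFrame v2 := by
    refine ⟨fun i => zsmul_mem (hv1.mem i) _, fun i j => ?_, fun i j => ?_⟩
    · rw [hv2def, dot_smul_left, dot_smul_right, hv1.dot]
      rcases eq_or_ne i j with rfl | h
      · rcases hsgn1 i with h | h <;> simp [h]
      · simp [h]
    · have key : ∀ k, CongTwo (v2 k) (v1 k) := fun k => by
        rw [hv2def]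
        dsimp only
        rcases hsgn1 k with h | h <;> rw [h]
        · rw [one_smul]; exact CongTwo.refl _
        · rw [neg_one_smul]; exact (congTwo_neg (hv1.mem k)).symm
      exact (key i).trans ((hv1.cong i j).trans (key j).symm)
  have hc2 : ∀ w, w ∈ leechLattice → ∀ i, coord v2 w i = sgn i * coord v1 w i := fun w hw i => by
    have h1 := eight_coord hv2 hw i
    have h2 := eight_coord hv1 hw i
    rw [show v2 i = sgn i • v1 i from rfl, dot_smul_right, ← h2] at h1
    rcases hsgn1 i with h | h <;> rw [h] at h1 ⊢ <;> omega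
  have hcode2 : frameCode hv2 = golayCode := by
    rw [← hcode]
    have hhalf : ∀ w, w ∈ leechLattice → ((∀ i, 2 ∣ coord v2 w i) ↔ ∀ i, 2 ∣ coord v1 w i) := by
      intro w hw
      refine forall_congr' fun i => ?_
      rcases hsgn1 i with h | h <;> simp [hc2 w hw i, h]
    have hword : ∀ w, w ∈ leechLattice → (∀ i, 2 ∣ coord v1 w i) →
        twoWord (coord v2 w) 0 = twoWord (coord v1 w) 0 := by
      intro w hw h2
      funext i
      simp only [twoWord, hc2 w hw i, sub_zero, ZMod.intCast_eq_intCast_iff_dvd_sub]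
      have := h2 i
      rcases hsgn1 i with h | h <;> rw [h] <;> push_cast <;> omega
    ext a
    constructor
    · rintro ⟨x, ⟨w, hw, rfl⟩, hx2, rfl⟩
      exact ⟨coord v1 w, ⟨w, hw, rfl⟩, (hhalf w hw).mp hx2, (hword w hw ((hhalf w hw).mp hx2)).symm⟩
    · rintro ⟨x, ⟨w, hw, rfl⟩, hx2, rfl⟩
      exact ⟨coord v2 w, ⟨w, hw, rfl⟩, (hhalf w hw).mpr hx2, hword w hw hx2⟩
  -- twice each basis word is present
  have hgen : ∀ k : Fin 12, twoInd (decS (gens.getD k.val 0)) ∈ coordLattice hv2 := by
    intro k
    set g := gens.getD k.val 0 with hg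
    have hbit : ∀ j : Fin 12, g.testBit j.val = decide (j = k) := by
      rw [hg]; revert k; decide +kernel
    have hcard : (decS g).card = 8 := by
      have h8 : ∀ k : Fin 12, gens.getD k.val 0 < 2 ^ 24 ∧ popc (gens.getD k.val 0) = 8 := by
        decide +kernel
      rw [hg, card_decS (h8 k).1, (h8 k).2]
    set y := coord v1 (u k) with hy
    have hy4 : ∀ i, y i % 4 = if i ∈ decS g then 2 else 0 := fun i => by
      have h1 := congrFun (huw k) i
      simp only [twoWord, dec, ← hy, ← hg, sub_zero] at h1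
      have h2 := hu2 k i
      rw [← hy] at h2
      split_ifs with h
      · rw [mem_decS] at h
        rw [if_pos h, show (1 : ZMod 2) = ((1 : ℤ) : ZMod 2) by norm_num,
          ZMod.intCast_eq_intCast_iff_dvd_sub] at h1
        push_cast at h1; omega
      · rw [mem_decS] at h
        rw [if_neg h, ZMod.intCast_zmod_eq_zero_iff_dvd] at h1
        push_cast at h1; omega
    have h4 : ∀ i, (4 : ℤ) ∣ twoInd (decS g) i - coord v2 (u k) i := fun i => by
      rw [hc2 _ (hu k) i, twoInd, ← hy]
      have := hy4 i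
      rcases hsgn1 i with h | h <;> rw [h] <;> split_ifs at this ⊢ <;> omega
    have hkp : (idx (pt ⟨k.val, by omega⟩)).val = k.val := by rw [idx_pt]
    set ik : GolayPt := pt ⟨k.val, by omega⟩ with hik
    have hkmem : ik ∈ decS g := by rw [mem_decS, hkp, hbit k]; simp
    have hflip : (8 : ℤ) ∣ ∑ i, (sgn i * y i - y i) - 2 * (sgn ik - 1) := by
      have key : ∀ i, (8 : ℤ) ∣ sgn i * y i - y i - if i = ik then 2 * (sgn ik - 1) else 0 := fun i => by
        have h1 := hy4 i
        rcases eq_or_ne i ik with rfl | hne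
        · rw [if_pos rfl]
          rw [if_pos hkmem] at h1
          rcases hsgn1 ik with h | h <;> rw [h] <;> omega
        · rw [if_neg hne]
          rcases hsgn1 i with h | h
          · rw [h]; omega
          · have hlt : (idx i).val < 12 := by
              by_contra hge
              rw [hsgn] at h; dsimp only at h
              rw [dif_neg hge] at h; omega
            have hni : i ∉ decS g := by
              intro hm
              rw [mem_decS, hbit ⟨(idx i).val, hlt⟩, decide_eq_true_eq] at hm
              refine hne ?_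
              rw [hik, ← pt_idx i]
              exact congrArg pt (Fin.ext (Fin.ext_iff.mp hm : (idx i).val = k.val))
            rw [if_neg hni] at h1
            rw [h]; omega
      have := Finset.dvd_sum fun i (_ : i ∈ Finset.univ) => key i
      rwa [Finset.sum_sub_distrib, Finset.sum_ite_eq', if_pos (Finset.mem_univ _)] at this
    have h4y : (4 : ℤ) ∣ ∑ i, y i := by
      have : ∀ i, (4 : ℤ) ∣ y i - twoInd (decS g) i := fun i => by
        have := hy4 i
        rw [twoInd]; split_ifs at this ⊢ <;> omega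
      have := Finset.dvd_sum fun i (_ : i ∈ Finset.univ) => this i
      rw [Finset.sum_sub_distrib, sum_twoInd, hcard] at this
      omega
    have hsk : sgn ik = if (8 : ℤ) ∣ ∑ j, y j then 1 else -1 := by
      have hlt : (idx ik).val < 12 := by rw [hkp]; exact k.isLt
      rw [hsgn]; dsimp only
      rw [dif_pos hlt]
      have : (⟨(idx ik).val, hlt⟩ : Fin 12) = k := Fin.ext hkp
      rw [this]
    have h8 : (8 : ℤ) ∣ ∑ i, (twoInd (decS g) i - coord v2 (u k) i) := by
      simp only [hc2 _ (hu k), ← hy, Finset.sum_sub_distrib, sum_twoInd, hcard]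
      rw [Finset.sum_sub_distrib] at hflip
      rw [hsk] at hflip
      split_ifs at hflip <;> omega
    have hd : twoInd (decS g) - coord v2 (u k) ∈ coordLattice hv2 := four_mem_coordLattice hv2 h4 h8
    have := add_mem hd ⟨u k, hu k, rfl⟩
    rwa [sub_add_cancel] at this
  -- the two lattices agree
  have hword : ∀ n, isCode n = true → ∃ z, z ∈ coordLattice hv2 ∧ InLeech z 0 ∧ twoWord z 0 = dec n := by
    intro n hn
    rw [← isCode_iff.mp hn]
    refine spanWord_induction (P := fun n => ∃ z, z ∈ coordLattice hv2 ∧ InLeech z 0 ∧ twoWord z 0 = dec n)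
      gens ⟨0, zero_mem _, InLeech.zero, by rw [dec_zero]; funext i; simp [twoWord]⟩ ?_ ?_ _
    · rintro a b ⟨z, hz, hzL, hza⟩ ⟨z', hz', hzL', hzb⟩
      refine ⟨z + z', add_mem hz hz', by simpa using hzL.add hzL', ?_⟩
      rw [dec_xor, ← hza, ← hzb]
      funext i
      simp only [twoWord, Pi.add_apply, sub_zero, ← Int.cast_add]
      rw [Int.add_ediv_of_dvd_left]
      have := (hzL.1 i).symm.dvd; omega
    · intro g hg
      obtain ⟨k, hk, rfl⟩ := List.getElem_of_mem hg
      have h1 := hgen ⟨k, by simpa [gens] using hk⟩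
      rw [List.getD_eq_getElem _ _ hk] at h1
      have hlt : gens[k] < 2 ^ 24 := by
        have : ∀ g ∈ gens, g < 2 ^ 24 := by decide +kernel
        exact this _ hg
      have hL : InLeech (twoInd (decS gens[k])) 0 := by
        have hmem := twoInd_mem (s := decS gens[k]) (by rw [encS_decS hlt]; exact isCode_gens _ hg)
        rcases mem_leechLattice'.mp hmem with h | h
        · exact h
        · exfalso
          have := (h.1 none).symm.dvd
          rw [twoInd] at this
          split_ifs at this <;> omega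
      exact ⟨_, h1, hL, by rw [twoWord_twoInd, encS_decS hlt]⟩
  have hle : coordLattice hv2 ≤ leechLattice := by
    intro z hz
    set m := z none % 2 with hm
    have hpar : ∀ i, z i ≡ m [ZMOD 2] := fun i =>
      (coord_parity hv2 hz i none).trans (Int.mod_modEq _ 2).symm
    have e : ∀ i, z i = m + 2 * ((z i - m) / 2) := fun i => by
      have := (hpar i).symm.dvd; omega
    have hw : twoWord z m ∈ golayCode := by
      refine mem_golayCode_of_orth fun g hg => ?_
      obtain ⟨k, hk, rfl⟩ := List.getElem_of_mem hg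
      have h1 := hgen ⟨k, by simpa [gens] using hk⟩
      rw [List.getD_eq_getElem _ _ hk] at h1
      have hlt : gens[k] < 2 ^ 24 := by
        have : ∀ g ∈ gens, g < 2 ^ 24 := by decide +kernel
        exact this _ hg
      have h2 := coord_eight_dvd_dot hv2 hz h1
      rw [dot_twoInd] at h2
      have hcard : (decS gens[k]).card = 8 := by
        have h8 : ∀ g ∈ gens, popc g = 8 := by decide +kernel
        rw [card_decS hlt, h8 _ hg]
      rw [Finset.sum_congr rfl fun i _ => e i, Finset.sum_add_distrib, Finset.sum_const, hcard,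
        ← Finset.mul_sum] at h2
      simp only [nsmul_eq_mul, Nat.cast_ofNat] at h2
      have h3 : ∀ i, twoWord z m i * dec gens[k] i = if i ∈ decS gens[k] then twoWord z m i else 0 :=
        fun i => by simp only [dec, mem_decS, mul_ite, mul_one, mul_zero]
      rw [Finset.sum_congr rfl fun i _ => h3 i, Finset.sum_ite_mem, Finset.univ_inter]
      simp only [twoWord, ← Int.cast_sum, ZMod.intCast_zmod_eq_zero_iff_dvd]
      push_cast; omega
    rcases Int.emod_two_eq_zero_or_one (z none) with hm2 | hm2
    · have hm0 : m = 0 := hm.trans hm2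
      rw [hm0] at hw hpar
      obtain ⟨z', hz', hzL', hzw'⟩ := hword _ (mem_golayCode.mp hw)
      rw [dec_enc] at hzw'
      set d := z - z' with hd
      have hdmem : d ∈ coordLattice hv2 := sub_mem hz hz'
      have h4 : ∀ i, (4 : ℤ) ∣ d i := fun i => by
        have h0 := congrFun hzw' i
        simp only [twoWord, ZMod.intCast_eq_intCast_iff_dvd_sub] at h0
        have h1 := (hzL'.1 i).symm.dvd
        have h2 := (hpar i).symm.dvd
        simp only [hd, Pi.sub_apply]
        push_cast at h0
        omega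
      have h8 : (8 : ℤ) ∣ ∑ i, d i := by
        have h4s : (4 : ℤ) ∣ ∑ i, d i := Finset.dvd_sum fun i _ => h4 i
        by_contra hno
        refine single_four_not_mem hv2 ?_
        have hrest : d - Pi.single none 4 ∈ coordLattice hv2 := by
          refine four_mem_coordLattice hv2 (fun i => ?_) ?_
          · simp only [Pi.sub_apply, Pi.single_apply]
            have := h4 i
            split_ifs <;> omega
          · simp only [Pi.sub_apply, Finset.sum_sub_distrib, Finset.sum_pi_single', Finset.mem_univ,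
              if_true]
            omega
        have := sub_mem hdmem hrest
        rwa [sub_sub_cancel] at this
      have := add_mem (mem_leechLattice_of_four_dvd h4 h8) (mem_leechLattice.mpr ⟨0, hzL'⟩)
      rwa [hd, sub_add_cancel] at this
    · have hm1 : m = 1 := hm.trans hm2
      rw [hm1] at hw hpar e
      refine mem_leechLattice.mpr ⟨1, hpar, ?_, hw⟩
      have h16 := coord_sixteen_dvd hv2 hz
      have hn : sqNorm z = 24 + 4 * ∑ i, (z i - 1) / 2 + 4 * ∑ i, ((z i - 1) / 2) ^ 2 := by
        have e2 : ∀ i, z i ^ 2 = 1 + 4 * ((z i - 1) / 2) + 4 * ((z i - 1) / 2) ^ 2 := fun i => by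
          conv_lhs => rw [e i]
          ring
        rw [sqNorm, Finset.sum_congr rfl fun i _ => e2 i, Finset.sum_add_distrib, Finset.sum_add_distrib,
          Finset.sum_const, Finset.card_univ, card_golayPt, ← Finset.mul_sum, ← Finset.mul_sum]
        simp
      have hU : (4 : ℤ) ∣ ∑ i, ((z i - 1) / 2) ^ 2 := by
        have h1 : ∀ y : ℤ, (4 : ℤ) ∣ y ^ 2 - if y % 2 = 1 then 1 else 0 := by
          intro y
          obtain ⟨q, rfl | rfl⟩ : ∃ q, y = 2 * q ∨ y = 2 * q + 1 := ⟨y / 2, by omega⟩
          · rw [if_neg (by omega)]; exact ⟨q ^ 2, by ring⟩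
          · rw [if_pos (by omega)]; exact ⟨q ^ 2 + q, by ring⟩
        have h2 : (∑ i, (if (z i - 1) / 2 % 2 = 1 then 1 else 0 : ℤ)) =
            ((support₂ (twoWord z 1)).card : ℤ) := by
          rw [Finset.sum_boole]
          congr 2
          ext i
          simp [support₂, twoWord, intCast_ne_zero_iff]
        have h3 := Finset.dvd_sum fun i (_ : i ∈ Finset.univ) => h1 ((z i - 1) / 2)
        rw [Finset.sum_sub_distrib, h2] at h3
        have h5 := four_dvd_card_support ⟨_, hw, rfl⟩
        omega
      rw [Int.modEq_iff_dvd, Finset.sum_congr rfl fun i _ => e i, Finset.sum_add_distrib,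
        Finset.sum_const, Finset.card_univ, card_golayPt, ← Finset.mul_sum]
      simp only [nsmul_eq_mul]
      push_cast
      omega
  refine ⟨v2, hv2, fun i => ⟨e i, ?_⟩, le_antisymm hle fun x hx =>
    mem_coordLattice_of_dual hv2 fun z hz => eight_dvd_dot hx (hle hz)⟩
  rcases hsgn1 (e i) with h | h
  · left; simp [hv2def, hv1def, h]
  · right; simp [hv2def, hv1def, h]

end CfsgLib.Golay
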