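import Cfsg.Agent.Lib.Golay.Co0

/-!
# Counting short lattice vectors with restrictions on their coordinates
-/

set_option autoImplicit false
set_option maxHeartbeats 400000

namespace CfsgLib.Golay

open Cfsg

/-- The allowed half coordinates under a restriction on the coordinate. -/
def optsP (p : ℤ → Bool) (m : ℤ) (b : Bool) : Finset ℤ := (opts m b).filter fun v => p (m + 2 * v)

/-- The restricted coordinate polynomial. -/
def coordPolyP (p : ℤ → Bool) (m : ℤ) (b : Bool) : ℕ :=
  ∑ v ∈ optsP p m b, radix ^ (lenW m v + 390 * sumW v)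

/-- Read the digit of a product. -/
def digitAt (j E : ℕ) : ℕ := E % (radix ^ 1560 - 1) / radix ^ j % radix

/-- Tuples under a restriction. -/
def tuplesP (P : GolayPt → ℤ → Bool) (m : ℤ) (s : Finset GolayPt) : Finset (GolayPt → ℤ) :=
  Fintype.piFinset fun i => optsP (P i) m (decide (i ∈ s))

theorem mem_tuplesP {P : GolayPt → ℤ → Bool} {m : ℤ} {s : Finset GolayPt} {y : GolayPt → ℤ} :
    y ∈ tuplesP P m s ↔ y ∈ tuples m s ∧ ∀ i, P i (m + 2 * y i) = true := by
  simp [tuplesP, tuples, optsP, forall_and]

theorem card_tuplesP_filter {m : ℤ} (hm : m ∈ ([0, 1] : List ℤ)) (P : GolayPt → ℤ → Bool)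
    (s : Finset GolayPt) {j : ℕ} (hj : j < 1560) :
    ((tuplesP P m s).filter fun y => tupleKey m y = j).card =
      digitAt j (∏ i, coordPolyP (P i) m (decide (i ∈ s))) := by
  have hA : ∀ y ∈ tuplesP P m s, ∑ i, lenW m (y i) ≤ 384 := fun y hy => by
    refine (Finset.sum_le_sum (g := fun _ => 16) fun i _ => ?_).trans
      (le_of_eq (by rw [Finset.sum_const, Finset.card_univ, card_golayPt]; rfl))
    exact lenW_le m hm _ _ (Fintype.mem_piFinset.mp (mem_tuplesP.mp hy).1 i)
  refine card_fiber_eq_digit _ _ _ _ _ (fun y hy => ?_) ?_ ?_ hj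
  · have := hA y hy
    rw [tupleKey]; omega
  · rw [tuplesP, Fintype.card_piFinset]
    calc (∏ i, (optsP (P i) m (decide (i ∈ s))).card) + 2 ≤ (∏ _i : GolayPt, 5) + 2 :=
          Nat.add_le_add_right (Finset.prod_le_prod' fun i _ =>
            (Finset.card_filter_le _ _).trans (card_opts_le m hm _)) 2
      _ ≤ radix := by
          rw [Finset.prod_const, Finset.card_univ, card_golayPt, radix]; norm_num
  · simp only [coordPolyP]
    rw [Finset.prod_univ_sum]
    refine Nat.ModEq.sum fun y _ => ?_
    rw [Finset.prod_pow_eq_pow_sum, Finset.sum_add_distrib, ← Finset.mul_sum, tupleKey]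
    generalize (∑ i, lenW m (y i)) = A
    generalize (∑ i, sumW (y i)) = S
    have h : A + 390 * S = A + 390 * (S % 4) + 1560 * (S / 4) := by omega
    rw [h]
    exact (pow_modEq_pow (Nat.one_le_pow _ _ one_le_radix) _ _).symm

attribute [local irreducible] radix digitAt coordPolyP

/-- The lattice vectors of one norm satisfying a restriction on every coordinate. -/
def restrictedSet (P : GolayPt → ℤ → Bool) (N : ℕ) : Set (GolayPt → ℤ) :=
  {x | x ∈ leechLattice ∧ sqNorm x = N ∧ ∀ i, P i (x i) = true}

theorem ncard_restrictedSet (P : GolayPt → ℤ → Bool) {N : ℕ} (hN : N ∈ ([32, 48, 64] : List ℕ)) :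
    (restrictedSet P N).ncard = ∑ m ∈ ({0, 1} : Finset ℤ), ∑ k ∈ Finset.range 4096,
      digitAt (normKey m N) (∏ i, coordPolyP (P i) m (decide (i ∈ decS (codeWord k)))) := by
  classical
  have hset : restrictedSet P N = ↑((({0, 1} : Finset ℤ) ×ˢ Finset.range 4096).biUnion fun p =>
      (shapeVecs p.1 N p.2).filter fun x => ∀ i, P i (x i) = true) := by
    ext x
    simp only [restrictedSet, Set.mem_ofPred_eq, Finset.coe_biUnion, Set.mem_iUnion, Finset.mem_coe,
      Finset.mem_product, Finset.mem_insert, Finset.mem_singleton, Finset.mem_range, exists_prop,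
      Finset.mem_filter]
    constructor
    · rintro ⟨hx, hn, hP⟩
      have hex : ∃ m, (m = 0 ∨ m = 1) ∧ InLeech x m := by
        rcases mem_leechLattice'.mp hx with h | h
        exacts [⟨0, Or.inl rfl, h⟩, ⟨1, Or.inr rfl, h⟩]
      obtain ⟨m, hm, h⟩ := hex
      obtain ⟨k, hk, hkw⟩ := exists_codeWord (mem_golayCode.mp h.2.2)
      exact ⟨(m, k), ⟨hm, hk⟩, (mem_shapeVecs (by simpa using hm) hN).mpr
        ⟨h, by rw [hkw, dec_enc], hn⟩, hP⟩
    · rintro ⟨⟨m, k⟩, ⟨hm, -⟩, hx, hP⟩
      obtain ⟨h1, -, h3⟩ := (mem_shapeVecs (by simpa using hm) hN).mp hx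
      exact ⟨mem_leechLattice.mpr ⟨m, h1⟩, h3, hP⟩
  have hdisj : ((({0, 1} : Finset ℤ) ×ˢ Finset.range 4096 : Finset (ℤ × ℕ)) :
      Set (ℤ × ℕ)).PairwiseDisjoint fun p => (shapeVecs p.1 N p.2).filter fun x => ∀ i, P i (x i) = true := by
    rintro ⟨m, k⟩ hp ⟨m', k'⟩ hp' hne
    simp only [Finset.mem_coe, Finset.mem_product, Finset.mem_insert, Finset.mem_singleton,
      Finset.mem_range] at hp hp'
    rw [Function.onFun, Finset.disjoint_left]
    intro x hx hx'
    obtain ⟨h1, h2, -⟩ := (mem_shapeVecs (by simpa using hp.1) hN).mp (Finset.mem_filter.mp hx).1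
    obtain ⟨h1', h2', -⟩ := (mem_shapeVecs (by simpa using hp'.1) hN).mp (Finset.mem_filter.mp hx').1
    have hmm : m = m' := by
      have e1 := (h1.1 none).symm.dvd
      have e2 := (h1'.1 none).symm.dvd
      rcases hp.1 with rfl | rfl <;> rcases hp'.1 with rfl | rfl <;> omega
    subst hmm
    refine hne (Prod.ext rfl (codeWord_injOn hp.2 hp'.2 ?_))
    have := congrArg enc (h2.symm.trans h2')
    rwa [enc_dec (codeWord_lt k), enc_dec (codeWord_lt k')] at this
  rw [hset, Set.ncard_coe_finset, Finset.card_biUnion hdisj, Finset.sum_product]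
  refine Finset.sum_congr rfl fun m hm => Finset.sum_congr rfl fun k _ => ?_
  have hm' : m ∈ ([0, 1] : List ℤ) := by simpa using hm
  have hkey : normKey m N < 1560 := by
    simp only [List.mem_cons, List.not_mem_nil, or_false] at hm' hN
    rcases hm' with rfl | rfl <;> rcases hN with rfl | rfl | rfl <;> decide
  rw [← card_tuplesP_filter hm' P (decS (codeWord k)) hkey]
  simp only [shapeVecs, Finset.filter_image]
  rw [Finset.card_image_of_injective _ (fun a b h => funext fun i => by
    have : m + 2 * a i = m + 2 * b i := congrFun h i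
    omega)]
  refine congrArg Finset.card ?_
  ext y
  simp only [Finset.mem_filter, mem_tuplesP]
  exact ⟨fun h => ⟨⟨h.1.1, h.2⟩, h.1.2⟩, fun h => ⟨⟨h.1.1, h.2⟩, h.1.2⟩⟩

/-! ### A uniform restriction -/

theorem prod_const_restriction (p : ℤ → Bool) (m : ℤ) (k : ℕ) :
    ∏ i, coordPolyP p m (decide (i ∈ decS (codeWord k))) =
      coordPolyP p m true ^ popc (codeWord k) * coordPolyP p m false ^ (24 - popc (codeWord k)) := by
  rw [← Finset.prod_mul_prod_compl (decS (codeWord k)),
    Finset.prod_congr rfl (g := fun _ => coordPolyP p m true) (fun i hi => by simp [hi]), Finset.prod_const,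
    Finset.prod_congr rfl (g := fun _ => coordPolyP p m false)
      (fun i hi => by simp [Finset.mem_compl.mp hi]), Finset.prod_const, Finset.card_compl, card_golayPt,
    card_decS (codeWord_lt k)]

/-- The number of tuples for one weight. -/
def uniformCount (p : ℤ → Bool) (m : ℤ) (N w : ℕ) : ℕ :=
  digitAt (normKey m N) (coordPolyP p m true ^ w * coordPolyP p m false ^ (24 - w))

theorem ncard_uniform (p : ℤ → Bool) {N : ℕ} (hN : N ∈ ([32, 48, 64] : List ℕ)) :
    {x : GolayPt → ℤ | x ∈ leechLattice ∧ sqNorm x = N ∧ ∀ i, p (x i) = true}.ncard =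
      ([(0 : ℤ), 1].map fun m => uniformCount p m N 0 + 759 * uniformCount p m N 8 +
        2576 * uniformCount p m N 12 + 759 * uniformCount p m N 16 + uniformCount p m N 24).sum := by
  refine (ncard_restrictedSet (fun _ => p) hN).trans ?_
  simp only [prod_const_restriction]
  rw [Finset.sum_pair (by norm_num), sum_by_weight (fun w => digitAt (normKey 0 N)
      (coordPolyP p 0 true ^ w * coordPolyP p 0 false ^ (24 - w))),
    sum_by_weight (fun w => digitAt (normKey 1 N)
      (coordPolyP p 1 true ^ w * coordPolyP p 1 false ^ (24 - w))),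
    List.map_cons, List.map_cons, List.map_nil, List.sum_cons, List.sum_cons, List.sum_nil, Nat.add_zero]
  rfl

/-! ### A restriction at the extra point and at zero -/

/-- Require the values `a` at the extra point and `b` at zero. -/
def pairRestriction (r : ℤ → Bool) (a b : ℤ) : GolayPt → ℤ → Bool := fun i x =>
  if i = none then decide (x = a) else if i = some 0 then decide (x = b) else r x

/-- The product for one kind of code word. -/
def pairTerm (r : ℤ → Bool) (a b m : ℤ) (N : ℕ) (key : Bool × Bool × ℕ) : ℕ :=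
  digitAt (normKey m N) (coordPolyP (fun x => decide (x = a)) m key.1 *
    coordPolyP (fun x => decide (x = b)) m key.2.1 *
    (coordPolyP r m true ^ key.2.2 * coordPolyP r m false ^ (22 - key.2.2)))

/-- The kind of a code word: two bits and the remaining weight. -/
def pairKind (k : ℕ) : Bool × Bool × ℕ :=
  ((codeWord k).testBit 23, (codeWord k).testBit 0, popc (Nat.land (codeWord k) 8388606))

theorem prod_pairRestriction (r : ℤ → Bool) (a b m : ℤ) (k : ℕ) :
    ∏ i, coordPolyP (pairRestriction r a b i) m (decide (i ∈ decS (codeWord k))) =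
      coordPolyP (fun x => decide (x = a)) m (pairKind k).1 *
        coordPolyP (fun x => decide (x = b)) m (pairKind k).2.1 *
        (coordPolyP r m true ^ (pairKind k).2.2 *
          coordPolyP r m false ^ (22 - (pairKind k).2.2)) := by
  set s := decS (codeWord k) with hs
  set R : Finset GolayPt := ({none, some 0} : Finset GolayPt)ᶜ with hR
  rw [← Finset.prod_mul_prod_compl ({none, some 0} : Finset GolayPt), Finset.prod_pair (by decide), ← hR]
  refine congrArg₂ HMul.hMul (congrArg₂ HMul.hMul ?_ ?_) ?_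
  · rw [show pairRestriction r a b none = fun x => decide (x = a) from rfl, hs]
    refine congrArg (coordPolyP _ m) ?_
    simp [mem_decS, pairKind, idx]
  · rw [show pairRestriction r a b (some 0) = fun x => decide (x = b) from rfl, hs]
    refine congrArg (coordPolyP _ m) ?_
    simp [mem_decS, pairKind, idx]
  · have hone : ∀ i ∈ R, pairRestriction r a b i = r := by
      intro i hi
      simp only [hR, Finset.mem_compl, Finset.mem_insert, Finset.mem_singleton, not_or] at hi
      funext x
      simp [pairRestriction, hi.1, hi.2]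
    rw [Finset.prod_congr rfl (g := fun i => coordPolyP r m (decide (i ∈ s)))
      (fun i hi => by rw [hone i hi]), ← Finset.prod_filter_mul_prod_filter_not R (fun i => i ∈ s),
      Finset.prod_congr rfl (g := fun _ => coordPolyP r m true)
        (fun i hi => by simp [(Finset.mem_filter.mp hi).2]), Finset.prod_const,
      Finset.prod_congr rfl (g := fun _ => coordPolyP r m false)
        (fun i hi => by simp [(Finset.mem_filter.mp hi).2]), Finset.prod_const]
    have h1 : (R.filter fun i => i ∈ s).card = (pairKind k).2.2 := by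
      have e : encS (R.filter fun i => i ∈ s) = Nat.land (codeWord k) 8388606 := by
        rw [Finset.filter_mem_eq_inter, encS_inter, hs, encS_decS (codeWord_lt k)]
        have : encS R = 8388606 := by rw [hR]; decide +kernel
        rw [this, Nat.and_comm]
        rfl
      rw [← popc_encS, e]; rfl
    have h2 := Finset.card_filter_add_card_filter_not (s := R) (fun i => i ∈ s)
    have h3 : R.card = 22 := by rw [hR]; decide +kernel
    rw [h1, show (R.filter fun i => ¬ i ∈ s).card = 22 - (pairKind k).2.2 by omega]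

/-- How many code words there are of each kind. -/
def kindTable : List ((Bool × Bool × ℕ) × ℕ) :=
  ((([false, true].flatMap fun u => [false, true].flatMap fun v =>
    (([0, 8, 12, 16, 24] : List ℕ).filter fun w => decide (u.toNat + v.toNat ≤ w)).map fun w =>
      (u, v, w - (u.toNat + v.toNat))))).map fun key =>
        (key, ((List.range 4096).filter fun k => pairKind k == key).length)

theorem sum_by_kind (f : Bool × Bool × ℕ → ℕ) :
    ∑ k ∈ Finset.range 4096, f (pairKind k) = (kindTable.map fun e => e.2 * f e.1).sum := by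
  have hnodup : (kindTable.map Prod.fst).Nodup := by decide +kernel
  have hmaps : ((List.range 4096).all fun k => (kindTable.map Prod.fst).contains (pairKind k)) = true := by
    decide +kernel
  rw [← Finset.sum_fiberwise_of_maps_to (g := pairKind) (t := (kindTable.map Prod.fst).toFinset)
    (fun k hk => by
      rw [List.mem_toFinset]
      simpa using List.all_eq_true.mp hmaps k (List.mem_range.mpr (Finset.mem_range.mp hk)))]
  rw [List.sum_toFinset _ hnodup, List.map_map]
  refine congrArg List.sum ?_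
  refine List.map_congr_left fun e he => ?_
  simp only [Function.comp_apply]
  rw [Finset.sum_congr rfl (g := fun _ => f e.1) (fun k hk => by rw [(Finset.mem_filter.mp hk).2]),
    Finset.sum_const, smul_eq_mul]
  refine congrArg (· * f e.1) ?_
  simp only [kindTable] at he
  obtain ⟨key, -, rfl⟩ := List.mem_map.mp he
  dsimp only
  rw [← List.toFinset_card_of_nodup ((List.nodup_range (n := 4096)).filter _)]
  refine congrArg Finset.card ?_
  ext k
  simp

/-- Vectors with prescribed values at two points and a restriction at the others. -/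
theorem ncard_pair (r : ℤ → Bool) (a b : ℤ) {N : ℕ} (hN : N ∈ ([32, 48, 64] : List ℕ)) :
    {x : GolayPt → ℤ | x ∈ leechLattice ∧ sqNorm x = N ∧ x none = a ∧ x (some 0) = b ∧
      ∀ i, i ≠ none → i ≠ some 0 → r (x i) = true}.ncard =
      (kindTable.map fun e => e.2 * (pairTerm r a b 0 N e.1 + pairTerm r a b 1 N e.1)).sum := by
  have hset : {x : GolayPt → ℤ | x ∈ leechLattice ∧ sqNorm x = N ∧ x none = a ∧ x (some 0) = b ∧
      ∀ i, i ≠ none → i ≠ some 0 → r (x i) = true} = restrictedSet (pairRestriction r a b) N := by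
    ext x
    simp only [restrictedSet, Set.mem_ofPred_eq, pairRestriction]
    refine and_congr_right fun _ => and_congr_right fun _ => ⟨fun h i => ?_, fun h => ⟨?_, ?_, fun i h1 h2 => ?_⟩⟩
    · split_ifs with h1 h2
      · subst h1; simp [h.1]
      · subst h2; simp [h.2.1]
      · exact h.2.2 i h1 h2
    · simpa using h none
    · simpa using h (some 0)
    · simpa [h1, h2] using h i
  rw [hset, ncard_restrictedSet _ hN]
  simp only [prod_pairRestriction]
  rw [Finset.sum_pair (by norm_num), ← Finset.sum_add_distrib]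
  exact sum_by_kind fun key => pairTerm r a b 0 N key + pairTerm r a b 1 N key

/-! ### The shapes of norm 48 -/

theorem ncard_norm48_exists {q : ℤ → Bool} :
    {x : GolayPt → ℤ | x ∈ leechLattice ∧ sqNorm x = 48 ∧ ∃ i, q (x i) = true}.ncard =
      16773120 - {x : GolayPt → ℤ | x ∈ leechLattice ∧ sqNorm x = 48 ∧ ∀ i, (!q (x i)) = true}.ncard := by
  have hfin := normSet_finite (N := 48) (by simp)
  have hsub : {x : GolayPt → ℤ | x ∈ leechLattice ∧ sqNorm x = 48 ∧ ∀ i, (!q (x i)) = true} ⊆
      {x : GolayPt → ℤ | x ∈ leechLattice ∧ sqNorm x = 48} := fun x hx => ⟨hx.1, hx.2.1⟩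
  rw [← ncard_norm_48, ← Set.ncard_sdiff hsub (hfin.subset hsub)]
  congr 1
  ext x
  simp only [Set.mem_ofPred_eq, Set.mem_sdiff, Bool.not_eq_true', not_and, not_forall, Bool.not_eq_false]
  tauto

theorem three_threes_iff {x : GolayPt → ℤ} (hx : x ∈ leechLattice) (hn : sqNorm x = 48) :
    (∃ i j k, i ≠ j ∧ j ≠ k ∧ i ≠ k ∧ |x i| = 3 ∧ |x j| = 3 ∧ |x k| = 3) ↔
      ∀ i, (decide (|x i| = 1) || decide (|x i| = 3)) = true := by
  simp only [Bool.or_eq_true, decide_eq_true_eq]
  constructor
  · rintro ⟨i, j, k, hij, hjk, hik, hi, hj, hk⟩ l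
    obtain ⟨m, hm⟩ := mem_leechLattice.mp hx
    have hsq : ∀ p, x p ^ 2 = |x p| ^ 2 := fun p => (sq_abs _).symm
    have hodd : ∀ p, 1 ≤ |x p| := by
      intro p
      have h1 := (hm.1 p).symm.dvd
      have h2 := (hm.1 i).symm.dvd
      rcases abs_choice (x i) with e | e <;> rcases abs_choice (x p) with e' | e' <;>
        simp only [e, e'] at hi ⊢ <;> have := abs_nonneg (x p) <;> omega
    by_cases hl : l = i ∨ l = j ∨ l = k
    · rcases hl with rfl | rfl | rfl <;> exact Or.inr (by assumption)
    · refine Or.inl ?_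
      simp only [not_or] at hl
      have hs : ∑ p, |x p| ^ 2 = 48 := by simp only [← hsq]; exact hn
      set T : Finset GolayPt := ({i, j, k, l} : Finset GolayPt)
      have hT : T.card = 4 := by
        simp only [T]
        rw [Finset.card_insert_of_notMem (by simp [hij, hik, Ne.symm hl.1]),
          Finset.card_insert_of_notMem (by simp [hjk, Ne.symm hl.2.1]), Finset.card_pair (Ne.symm hl.2.2)]
      have hrest : (20 : ℤ) ≤ ∑ p ∈ Tᶜ, |x p| ^ 2 := by
        refine le_trans ?_ (Finset.card_nsmul_le_sum Tᶜ (fun p => |x p| ^ 2) 1 fun p _ =>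
          one_le_pow₀ (hodd p))
        rw [Finset.card_compl, card_golayPt, hT]; norm_num
      rw [← Finset.sum_add_sum_compl T] at hs
      simp only [T] at hs hrest
      rw [Finset.sum_insert (by simp [hij, hik, Ne.symm hl.1]),
        Finset.sum_insert (by simp [hjk, Ne.symm hl.2.1]), Finset.sum_pair (Ne.symm hl.2.2), hi, hj, hk] at hs
      have := hodd l
      nlinarith
  · intro h
    set T := Finset.univ.filter fun p => |x p| = 3 with hT
    have hs : ∑ p, |x p| ^ 2 = 48 := by simp only [sq_abs]; exact hn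
    have hsum : ∑ p, |x p| ^ 2 = 24 + 8 * (T.card : ℤ) := by
      rw [Finset.sum_congr rfl (g := fun p => 1 + if |x p| = 3 then 8 else 0) fun p _ => by
        rcases h p with e | e <;> simp [e],
        Finset.sum_add_distrib, Finset.sum_const, Finset.card_univ, card_golayPt, ← Finset.sum_filter,
        Finset.sum_const, hT]
      simp only [nsmul_eq_mul]
      push_cast
      ring
    obtain ⟨i, j, k, hij, hik, hjk, e⟩ := Finset.card_eq_three.mp (show T.card = 3 by omega)
    have hmem : ∀ p ∈ ({i, j, k} : Finset GolayPt), |x p| = 3 := fun p hp => by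
      rw [← e] at hp
      exact (Finset.mem_filter.mp hp).2
    exact ⟨i, j, k, hij, hjk, hik, hmem i (by simp), hmem j (by simp), hmem k (by simp)⟩

theorem norm48_shapes :
    {x : GolayPt → ℤ | x ∈ leechLattice ∧ sqNorm x = 48 ∧ ∀ i, x i = 0 ∨ x i = 2 ∨ x i = -2}.ncard = 5275648 ∧
    {x : GolayPt → ℤ | x ∈ leechLattice ∧ sqNorm x = 48 ∧
      ∃ i j k, i ≠ j ∧ j ≠ k ∧ i ≠ k ∧ |x i| = 3 ∧ |x j| = 3 ∧ |x k| = 3}.ncard = 8290304 ∧
    {x : GolayPt → ℤ | x ∈ leechLattice ∧ sqNorm x = 48 ∧ ∃ i, |x i| = 4}.ncard = 3108864 ∧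
    {x : GolayPt → ℤ | x ∈ leechLattice ∧ sqNorm x = 48 ∧ ∃ i, |x i| = 5}.ncard = 98304 := by
  have hN : 48 ∈ ([32, 48, 64] : List ℕ) := by simp
  refine ⟨?_, ?_, ?_, ?_⟩
  · have := ncard_uniform (fun v => decide (v = 0 ∨ v = 2 ∨ v = -2)) hN
    simp only [decide_eq_true_eq, Nat.cast_ofNat] at this
    rw [this]
    decide +kernel
  · have := ncard_uniform (fun v => decide (|v| = 1) || decide (|v| = 3)) hN
    simp only [Nat.cast_ofNat] at this
    have he : {x : GolayPt → ℤ | x ∈ leechLattice ∧ sqNorm x = 48 ∧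
        ∃ i j k, i ≠ j ∧ j ≠ k ∧ i ≠ k ∧ |x i| = 3 ∧ |x j| = 3 ∧ |x k| = 3} =
        {x : GolayPt → ℤ | x ∈ leechLattice ∧ sqNorm x = 48 ∧
          ∀ i, (decide (|x i| = 1) || decide (|x i| = 3)) = true} :=
      Set.ext fun x => and_congr_right fun h1 => and_congr_right fun h2 => three_threes_iff h1 h2
    rw [he, this]
    decide +kernel
  · have h := ncard_norm48_exists (q := fun v => decide (|v| = 4))
    simp only [decide_eq_true_eq] at h
    have := ncard_uniform (fun v => !decide (|v| = 4)) hN
    simp only [Nat.cast_ofNat] at this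
    rw [h, this]
    decide +kernel
  · have h := ncard_norm48_exists (q := fun v => decide (|v| = 5))
    simp only [decide_eq_true_eq] at h
    have := ncard_uniform (fun v => !decide (|v| = 5)) hN
    simp only [Nat.cast_ofNat] at this
    rw [h, this]
    decide +kernel

/-! ### Minimal vectors by inner product with a fixed one -/

/-- The number of minimal vectors whose coordinates at the extra point and at zero add up to `e`. -/
def sumPairCount (e : ℤ) : ℕ :=
  ((List.range 13).map fun k : ℕ =>
    (kindTable.map fun t => t.2 * (pairTerm (fun _ => true) ((k : ℤ) - 6) (e - ((k : ℤ) - 6)) 0 32 t.1 +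
      pairTerm (fun _ => true) ((k : ℤ) - 6) (e - ((k : ℤ) - 6)) 1 32 t.1)).sum).sum

theorem ncard_dot_leechU (e : ℤ) :
    {w : GolayPt → ℤ | w ∈ leechLattice ∧ sqNorm w = 32 ∧ w none + w (some 0) = e}.ncard = sumPairCount e := by
  have hfin := normSet_finite (N := 32) (by simp)
  set V : ℕ → Set (GolayPt → ℤ) := fun k =>
    {w | w ∈ leechLattice ∧ sqNorm w = 32 ∧ w none = (k : ℤ) - 6 ∧ w (some 0) = e - ((k : ℤ) - 6)}
  have hV : ∀ k, (V k).Finite := fun k => hfin.subset fun w hw => ⟨hw.1, hw.2.1⟩
  have hU : {w : GolayPt → ℤ | w ∈ leechLattice ∧ sqNorm w = 32 ∧ w none + w (some 0) = e} =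
      ↑((Finset.range 13).biUnion fun k => (hV k).toFinset) := by
    ext w
    simp only [Set.mem_ofPred_eq, Finset.coe_biUnion, Set.mem_iUnion, Finset.mem_coe, Finset.mem_range,
      Set.Finite.mem_toFinset, V, exists_prop]
    constructor
    · rintro ⟨h1, h2, h3⟩
      have h := int_sq_le_sqNorm w none
      rw [h2] at h
      have h5 : -6 ≤ w none ∧ w none ≤ 6 := ⟨by nlinarith, by nlinarith⟩
      exact ⟨(w none + 6).toNat, by omega, h1, h2, by omega, by omega⟩
    · rintro ⟨k, -, h1, h2, h3, h4⟩
      exact ⟨h1, h2, by omega⟩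
  rw [hU, Set.ncard_coe_finset, Finset.card_biUnion]
  · rw [sumPairCount, ← List.sum_toFinset _ List.nodup_range, List.toFinset_range]
    refine Finset.sum_congr rfl fun k _ => ?_
    rw [← Set.ncard_eq_toFinset_card _ (hV k)]
    refine Eq.trans (congrArg Set.ncard ?_) (ncard_pair (fun _ => true) ((k : ℤ) - 6) (e - ((k : ℤ) - 6)) (N := 32) (by simp))
    ext w
    simp [V]
  · intro k _ l _ hkl
    rw [Function.onFun, Finset.disjoint_left]
    intro w hw hw'
    simp only [Set.Finite.mem_toFinset, V, Set.mem_ofPred_eq] at hw hw'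
    omega

theorem ncard_dot_eq {v : GolayPt → ℤ} (hv : v ∈ leechLattice) (hn : sqNorm v = 32) (e : ℤ) :
    {w : GolayPt → ℤ | w ∈ leechLattice ∧ sqNorm w = 32 ∧ dotInt v w = 4 * e}.ncard = sumPairCount e := by
  obtain ⟨γ, hγ⟩ := exists_smul_eq_leechU (v := ⟨v, hv⟩) hn
  have hU : ∀ w : GolayPt → ℤ, dotInt (Spor.leechU : GolayPt → ℤ) w = 4 * (w none + w (some 0)) := by
    intro w
    have : (Spor.leechU : GolayPt → ℤ) = Pi.single none 4 + Pi.single (some 0) 4 := by
      funext k
      show Spor.vecU k = _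
      unfold Spor.vecU
      simp only [Pi.add_apply, Pi.single_apply]
      split_ifs <;> simp_all
    rw [this, dot_add_left, dot_symm, dot_single_right, dot_symm, dot_single_right]
    ring
  rw [← ncard_dot_leechU e]
  refine Set.ncard_congr (fun w hw => ((γ • (⟨w, hw.1⟩ : leechLattice) : leechLattice) : GolayPt → ℤ))
    (fun w hw => ?_) (fun a b ha hb h => congrArg Subtype.val (MulAction.injective γ (Subtype.ext h)))
    (fun w hw => ?_)
  · refine ⟨Subtype.prop _, ?_, ?_⟩
    · rw [sqNorm_smul_lat γ ⟨w, hw.1⟩]; exact hw.2.1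
    · have h := dot_smul_lat γ ⟨v, hv⟩ ⟨w, hw.1⟩
      rw [hγ, hU] at h
      have := hw.2.2
      simp only at h
      omega
  · obtain ⟨h1, h2, h3⟩ := hw
    have hmem : ((γ⁻¹ • (⟨w, h1⟩ : leechLattice) : leechLattice) : GolayPt → ℤ) ∈ leechLattice := Subtype.prop _
    refine ⟨_, ⟨hmem, ?_, ?_⟩, ?_⟩
    · rw [sqNorm_smul_lat γ⁻¹ ⟨w, h1⟩]; exact h2
    · have h := dot_smul_lat γ ⟨v, hv⟩ (γ⁻¹ • ⟨w, h1⟩)
      rw [hγ, hU, smul_inv_smul] at h
      rw [← h]
      simp only
      rw [h3]
    · show ((γ • (γ⁻¹ • (⟨w, h1⟩ : leechLattice)) : leechLattice) : GolayPt → ℤ) = w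
      rw [smul_inv_smul]

theorem sumPairCount_values :
    sumPairCount (-4) = 4600 ∧ sumPairCount (-2) = 47104 ∧ sumPairCount 0 = 93150 := by decide +kernel

end CfsgLib.Golay
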