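import Mathlib
import Cfsg.Agent.Lib.Golay.Frame

/-!
# Lattices in frame coordinates with the count of short vectors

A lattice of integer vectors with the congruences of the lattice and as many vectors of norm 32 is the
lattice, after a permutation and signs.
-/

set_option autoImplicit false

namespace CfsgLib.Golay

open Cfsg
open CfsgLib.Combin.AbstractGolay (IsGolay support₂_injective)

/-- A lattice in frame coordinates. -/
structure LeechModel (M : AddSubgroup (GolayPt → ℤ)) : Prop where
  dvd16 : ∀ x ∈ M, (16 : ℤ) ∣ sqNorm x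
  le32 : ∀ x ∈ M, x ≠ 0 → 32 ≤ sqNorm x
  dot8 : ∀ x ∈ M, ∀ y ∈ M, (8 : ℤ) ∣ dotInt x y
  four : ∀ i j, Pi.single i 4 + Pi.single j 4 ∈ M
  count : {z | z ∈ M ∧ sqNorm z = 32}.ncard = 196560

namespace LeechModel

variable {M : AddSubgroup (GolayPt → ℤ)} (hM : LeechModel M)
include hM

theorem parity {x : GolayPt → ℤ} (hx : x ∈ M) (i j : GolayPt) : x i ≡ x j [ZMOD 2] := by
  have h := hM.dot8 x hx _ (hM.four i j)
  rw [dot_add_right, dot_single_right, dot_single_right] at h
  rw [Int.modEq_iff_dvd]
  omega

theorem mem_of_four_dvd {z : GolayPt → ℤ} (h4 : ∀ i, (4 : ℤ) ∣ z i) (h8 : (8 : ℤ) ∣ ∑ i, z i) :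
    z ∈ M := by
  obtain ⟨t, ht⟩ := h8
  have hdec : z = ∑ i, (z i / 4) • (Pi.single i 4 + Pi.single none 4) - t • (Pi.single none 4 + Pi.single none 4) := by
    funext k
    simp only [Pi.sub_apply, Finset.sum_apply, Pi.smul_apply, Pi.add_apply, smul_eq_mul, mul_add,
      Finset.sum_add_distrib]
    rw [Finset.sum_eq_single k (fun i _ hi => by rw [Pi.single_eq_of_ne hi.symm, mul_zero]) (by simp),
      ← Finset.sum_mul, Pi.single_eq_same, Int.ediv_mul_cancel (h4 k)]
    rcases eq_or_ne k none with rfl | hk
    · rw [Pi.single_eq_same, Finset.sum_mul, Finset.sum_congr rfl fun i _ => Int.ediv_mul_cancel (h4 i), ht]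
      ring
    · simp [Pi.single_eq_of_ne hk]
  rw [hdec]
  exact sub_mem (sum_mem fun i _ => zsmul_mem (hM.four i none) _) (zsmul_mem (hM.four none none) _)

theorem single_four_not_mem (i : GolayPt) : (Pi.single i 4 : GolayPt → ℤ) ∉ M := by
  intro h
  have h1 := hM.le32 _ h fun e => by simpa using congrFun e i
  have h2 : sqNorm (Pi.single i (4 : ℤ) : GolayPt → ℤ) = 16 := by
    rw [sqNorm, Finset.sum_eq_single i (fun j _ hj => by rw [Pi.single_eq_of_ne hj]; rfl) (by simp),
      Pi.single_eq_same]
    norm_num
  omega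

/-- The code of the even vectors. -/
def code (M : AddSubgroup (GolayPt → ℤ)) : Submodule (ZMod 2) (GolayPt → ZMod 2) where
  carrier := {w | ∃ x ∈ M, (∀ i, 2 ∣ x i) ∧ twoWord x 0 = w}
  zero_mem' := ⟨0, zero_mem _, fun _ => dvd_zero _, by funext i; simp [twoWord]⟩
  add_mem' := by
    rintro _ _ ⟨x, hx, hx2, rfl⟩ ⟨y, hy, hy2, rfl⟩
    refine ⟨x + y, add_mem hx hy, fun i => dvd_add (hx2 i) (hy2 i), ?_⟩
    funext i
    simp only [twoWord, Pi.add_apply, sub_zero, ← Int.cast_add]
    rw [Int.add_ediv_of_dvd_left (hx2 i)]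
  smul_mem' := by
    rintro c _ ⟨x, hx, hx2, rfl⟩
    rcases (show c = 0 ∨ c = 1 by revert c; decide) with rfl | rfl
    · exact ⟨0, zero_mem _, fun _ => dvd_zero _, by funext i; simp [twoWord]⟩
    · exact ⟨x, hx, hx2, by rw [one_smul]⟩

omit hM in
theorem half_eq {x : GolayPt → ℤ} (h : ∀ i, 2 ∣ x i) (i : GolayPt) : x i = 2 * ((x i - 0) / 2) := by
  have := h i
  omega

theorem code_orth : ∀ a ∈ code M, ∀ b ∈ code M, ∑ i, a i * b i = 0 := by
  rintro _ ⟨x, hx, hx2, rfl⟩ _ ⟨y, hy, hy2, rfl⟩
  have h := hM.dot8 x hx y hy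
  have e : dotInt x y = 4 * ∑ i, (x i - 0) / 2 * ((y i - 0) / 2) := by
    simp only [dotInt, Finset.mul_sum]
    refine Finset.sum_congr rfl fun i _ => ?_
    conv_lhs => rw [half_eq hx2 i, half_eq hy2 i]
    ring
  have h1 : ∑ i, twoWord x 0 i * twoWord y 0 i =
      ((∑ i, (x i - 0) / 2 * ((y i - 0) / 2) : ℤ) : ZMod 2) := by
    simp [twoWord]
  rw [h1, ZMod.intCast_zmod_eq_zero_iff_dvd]
  push_cast
  rw [e] at h
  omega

theorem code_four : ∀ a ∈ code M, 4 ∣ hammingNorm a := by
  rintro _ ⟨x, hx, hx2, rfl⟩
  have h := hM.dvd16 x hx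
  have e : sqNorm x = 4 * ∑ i, ((x i - 0) / 2) ^ 2 := by
    simp only [sqNorm, Finset.mul_sum]
    refine Finset.sum_congr rfl fun i _ => ?_
    conv_lhs => rw [half_eq hx2 i]
    ring
  have h1 : ∀ y : ℤ, (4 : ℤ) ∣ y ^ 2 - if y % 2 = 1 then 1 else 0 := by
    intro y
    obtain ⟨q, rfl | rfl⟩ : ∃ q, y = 2 * q ∨ y = 2 * q + 1 := ⟨y / 2, by omega⟩
    · rw [if_neg (by omega)]; exact ⟨q ^ 2, by ring⟩
    · rw [if_pos (by omega)]; exact ⟨q ^ 2 + q, by ring⟩
  have h2 : (∑ i, (if (x i - 0) / 2 % 2 = 1 then 1 else 0 : ℤ)) =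
      ((hammingNorm (twoWord x 0) : ℕ) : ℤ) := by
    rw [Finset.sum_boole, hammingNorm_eq_card_support₂]
    congr 2
    ext i
    simp [support₂, twoWord, intCast_ne_zero_iff]
  have h3 := Finset.dvd_sum fun i (_ : i ∈ Finset.univ) => h1 ((x i - 0) / 2)
  rw [Finset.sum_sub_distrib, h2] at h3
  rw [e] at h
  omega

theorem code_min : ∀ a ∈ code M, a ≠ 0 → 8 ≤ hammingNorm a := by
  classical
  intro a ha ha0
  by_contra hlt
  have h4 : hammingNorm a = 4 := by
    have := code_four hM a ha
    have : hammingNorm a ≠ 0 := by simpa using ha0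
    omega
  obtain ⟨x, hx, hx2, rfl⟩ := ha
  obtain ⟨i0, hi0⟩ : ∃ i, twoWord x 0 i ≠ 0 := Function.ne_iff.mp ha0
  set S := support₂ (twoWord x 0) with hS
  have hi0S : i0 ∈ S := by simp [hS, support₂, hi0]
  have hmemS : ∀ i, i ∈ S ↔ x i % 4 = 2 := fun i => by
    simp only [hS, support₂, Finset.mem_filter, Finset.mem_univ, true_and, twoWord, intCast_ne_zero_iff]
    have := hx2 i
    omega
  obtain ⟨t, ht1, ht2, ht3⟩ : ∃ t : GolayPt → ℤ, (∀ i, (4 : ℤ) ∣ t i - x i) ∧
      ((8 : ℤ) ∣ ∑ i, (t i - x i)) ∧ (t i0 ≠ 0 ∧ sqNorm t = 16) := by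
    set s : ℤ := if (8 : ℤ) ∣ ∑ i, (twoInd S i - x i) then 2 else -2 with hsdef
    refine ⟨fun i => if i = i0 then s else twoInd S i, fun i => ?_, ?_, ?_, ?_⟩
    · have h := hmemS i
      have h2 := hx2 i
      dsimp only
      rcases eq_or_ne i i0 with rfl | hne
      · rw [if_pos rfl]
        have := h.mp hi0S
        rw [hsdef]; split_ifs <;> omega
      · rw [if_neg hne, twoInd]
        split_ifs with hmem
        · have := h.mp hmem; omega
        · have : ¬ x i % 4 = 2 := fun e => hmem (h.mpr e)
          omega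
    · have e : ∑ i, ((if i = i0 then s else twoInd S i) - x i) =
          ∑ i, (twoInd S i - x i) + (s - 2) := by
        have h1 : ∀ i, (if i = i0 then s else twoInd S i) - x i =
            (twoInd S i - x i) + if i = i0 then s - 2 else 0 := fun i => by
          rcases eq_or_ne i i0 with rfl | hne
          · rw [if_pos rfl, if_pos rfl, twoInd, if_pos hi0S]; ring
          · simp [hne]
        simp only [h1, Finset.sum_add_distrib, Finset.sum_ite_eq', Finset.mem_univ, if_true]
      rw [e]
      have hd : (4 : ℤ) ∣ ∑ i, (twoInd S i - x i) := Finset.dvd_sum fun i _ => by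
        have h2 := hx2 i
        have h := hmemS i
        rw [twoInd]
        split_ifs with hmem
        · have := h.mp hmem; omega
        · have : ¬ x i % 4 = 2 := fun e => hmem (h.mpr e)
          omega
      rw [hsdef]; split_ifs <;> omega
    · dsimp only
      rw [if_pos rfl, hsdef]; split_ifs <;> norm_num
    · have h1 : ∀ i, (if i = i0 then s else twoInd S i) ^ 2 = if i ∈ S then (4 : ℤ) else 0 := fun i => by
        rcases eq_or_ne i i0 with rfl | hne
        · rw [if_pos rfl, if_pos hi0S, hsdef]; split_ifs <;> norm_num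
        · rw [if_neg hne, twoInd]; split_ifs <;> norm_num
      simp only [sqNorm, h1, Finset.sum_ite_mem, Finset.univ_inter, Finset.sum_const]
      rw [show S.card = 4 from h4]; norm_num
  have htL : t ∈ M := by
    have hd : t - x ∈ M := mem_of_four_dvd hM ht1 ht2
    have := add_mem hd hx
    rwa [sub_add_cancel] at this
  have := hM.le32 t htL (fun e => ht3.1 (congrFun e i0))
  omega

theorem finrank_code_le : Module.finrank (ZMod 2) (code M) ≤ 12 := by
  let e := dotProductEquiv (ZMod 2) GolayPt
  have hmap : (code M).map e.toLinearMap ≤ (code M).dualAnnihilator := by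
    intro f hf
    obtain ⟨a, ha, rfl⟩ := hf
    rw [Submodule.mem_dualAnnihilator]
    exact fun b hb => code_orth hM a ha b hb
  have h1 := LinearEquiv.finrank_map_eq e (code M)
  have h2 := Subspace.finrank_add_finrank_dualAnnihilator_eq (code M)
  have h3 := Submodule.finrank_mono hmap
  rw [Module.finrank_pi, card_golayPt] at h2
  omega

theorem octads_le (F : Finset (GolayPt → ZMod 2)) (hF : ∀ w ∈ F, w ∈ code M ∧ hammingNorm w = 8) :
    F.card ≤ 759 := by
  classical
  have hdis : (F : Set (GolayPt → ZMod 2)).PairwiseDisjoint fun w => (support₂ w).powersetCard 5 := by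
    intro u hu v hv huv
    rw [Function.onFun, Finset.disjoint_left]
    intro S hSu hSv
    rw [Finset.mem_powersetCard] at hSu hSv
    have h8 := code_min hM (u + v) (add_mem (hF u hu).1 (hF v hv).1) fun h => huv (by
      funext i
      have := congrFun h i
      revert this
      simp only [Pi.add_apply, Pi.zero_apply]
      generalize u i = a; generalize v i = b; revert a b; decide)
    have hsub : support₂ (u + v) ⊆ (support₂ u ∪ support₂ v) \ S := by
      intro i hi
      simp only [support₂, Finset.mem_filter, Finset.mem_univ, true_and, Pi.add_apply] at hi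
      rw [Finset.mem_sdiff, Finset.mem_union]
      simp only [support₂, Finset.mem_filter, Finset.mem_univ, true_and]
      refine ⟨?_, fun hS => ?_⟩
      · by_contra hno
        push Not at hno
        rw [hno.1, hno.2] at hi
        exact hi (add_zero 0)
      · have h1 := hSu.1 hS
        have h2 := hSv.1 hS
        simp only [support₂, Finset.mem_filter, Finset.mem_univ, true_and] at h1 h2
        revert hi h1 h2
        generalize u i = a; generalize v i = b; revert a b; decide
    have hcard := Finset.card_le_card hsub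
    rw [Finset.card_sdiff_of_subset (hSu.1.trans Finset.subset_union_left)] at hcard
    have hun := Finset.card_union_add_card_inter (support₂ u) (support₂ v)
    have hint : 5 ≤ (support₂ u ∩ support₂ v).card := by
      rw [← hSu.2]
      exact Finset.card_le_card (Finset.subset_inter hSu.1 hSv.1)
    have hu8 : (support₂ u).card = 8 := (hF u hu).2
    have hv8 : (support₂ v).card = 8 := (hF v hv).2
    have : (support₂ (u + v)).card = hammingNorm (u + v) := rfl
    omega
  have h := Finset.card_biUnion hdis
  rw [Finset.sum_congr rfl (g := fun _ => Nat.choose 8 5) fun w hw => by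
    rw [Finset.card_powersetCard, show (support₂ w).card = 8 from (hF w hw).2], Finset.sum_const] at h
  have hle : (F.biUnion fun w => (support₂ w).powersetCard 5).card ≤
      ((Finset.univ : Finset GolayPt).powersetCard 5).card := by
    refine Finset.card_le_card fun S hS => ?_
    rw [Finset.mem_biUnion] at hS
    obtain ⟨w, -, hS⟩ := hS
    rw [Finset.mem_powersetCard] at hS ⊢
    exact ⟨Finset.subset_univ _, hS.2⟩
  rw [h, Finset.card_powersetCard, Finset.card_univ, card_golayPt,
    show Nat.choose 8 5 = 56 by decide, show Nat.choose 24 5 = 42504 by decide, smul_eq_mul] at hle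
  omega

/-- Odd vectors of norm 32: one coordinate `± 3`, the others `± 1`. -/
theorem odd_shape {x : GolayPt → ℤ} (hn : sqNorm x = 32) (hodd : ∀ i, x i % 2 = 1) :
    ∃ p, (x p = 3 ∨ x p = -3) ∧ ∀ i, i ≠ p → (x i = 1 ∨ x i = -1) := by
  classical
  have hsq : ∀ i, x i ^ 2 ≤ 32 := fun i => by
    rw [← hn]
    exact Finset.single_le_sum (f := fun i => x i ^ 2) (fun j _ => sq_nonneg _) (Finset.mem_univ i)
  have hb : ∀ i, x i = 1 ∨ x i = -1 ∨ x i = 3 ∨ x i = -3 ∨ x i = 5 ∨ x i = -5 := fun i => by
    have h1 := hsq i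
    have : -5 ≤ x i ∧ x i ≤ 5 := ⟨by nlinarith, by nlinarith⟩
    have := hodd i
    omega
  set P := Finset.univ.filter fun i => ¬ (x i = 1 ∨ x i = -1) with hP
  have hge : ∀ i, (if i ∈ P then (9 : ℤ) else 1) ≤ x i ^ 2 := fun i => by
    rcases hb i with h | h | h | h | h | h <;> simp [hP, h]
  have hsum := Finset.sum_le_sum fun i (_ : i ∈ Finset.univ) => hge i
  rw [Finset.sum_ite, Finset.sum_const, Finset.sum_const, Finset.filter_mem_eq_inter, Finset.univ_inter] at hsum
  simp only [nsmul_eq_mul, mul_one] at hsum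
  have hc : (P.card : ℤ) + ((Finset.univ.filter fun i => ¬ i ∈ P).card : ℤ) = 24 := by
    have := Finset.card_filter_add_card_filter_not (s := (Finset.univ : Finset GolayPt)) (fun i => i ∈ P)
    rw [Finset.filter_mem_eq_inter, Finset.univ_inter, Finset.card_univ, card_golayPt] at this
    omega
  have hle : P.card ≤ 1 := by
    have : sqNorm x = ∑ i, x i ^ 2 := rfl
    omega
  rcases Nat.le_one_iff_eq_zero_or_eq_one.1 hle with h0 | h1
  · exfalso
    rw [Finset.card_eq_zero] at h0
    have : ∀ i, x i ^ 2 = 1 := fun i => by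
      have h2 : i ∉ P := h0 ▸ Finset.notMem_empty i
      simp only [hP, Finset.mem_filter, Finset.mem_univ, true_and, not_not] at h2
      rcases h2 with h | h <;> rw [h] <;> norm_num
    rw [sqNorm, Finset.sum_congr rfl fun i _ => this i, Finset.sum_const, Finset.card_univ, card_golayPt] at hn
    norm_num at hn
  · obtain ⟨p, hp⟩ := Finset.card_eq_one.1 h1
    have hrest : ∀ i, i ≠ p → (x i = 1 ∨ x i = -1) := fun i hi => by
      have h2 : i ∉ P := by rw [hp]; simpa using hi
      simp only [hP, Finset.mem_filter, Finset.mem_univ, true_and, not_not] at h2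
      exact h2
    refine ⟨p, ?_, hrest⟩
    have h9 : x p ^ 2 = 9 := by
      have h2 : ∑ i ∈ Finset.univ.erase p, x i ^ 2 = 23 := by
        rw [Finset.sum_congr rfl (g := fun _ => (1 : ℤ)) fun i hi => by
          rcases hrest i (Finset.ne_of_mem_erase hi) with h | h <;> rw [h] <;> norm_num]
        rw [Finset.sum_const, Finset.card_erase_of_mem (Finset.mem_univ p), Finset.card_univ, card_golayPt]
        norm_num
      have h3 := Finset.add_sum_erase Finset.univ (fun i => x i ^ 2) (Finset.mem_univ p)
      simp only [h2] at h3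
      rw [sqNorm] at hn
      omega
    rcases hb p with h | h | h | h | h | h <;> rw [h] at h9 <;> norm_num at h9 <;> simp [h]

omit hM in
theorem twoWord_congr_mod {x y : GolayPt → ℤ} {m : ℤ} {i : GolayPt} (hx : x i % 2 = m % 2)
    (hy : y i % 2 = m % 2) (h : twoWord x m i = twoWord y m i) : (4 : ℤ) ∣ x i - y i := by
  simp only [twoWord, ZMod.intCast_eq_intCast_iff_dvd_sub] at h
  push_cast at h
  omega

theorem count_bound [DecidablePred (· ∈ code M)] (T : Finset (GolayPt → ℤ))
    (hT : ∀ x ∈ T, x ∈ M ∧ sqNorm x = 32) :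
    (T.filter fun x => x none % 2 = 1).card ≤ 24 * Nat.card (code M) ∧
      (T.filter fun x => ¬ x none % 2 = 1).card ≤ 98256 := by
  classical
  constructor
  · set To := T.filter fun x => x none % 2 = 1
    rcases To.eq_empty_or_nonempty with h | ⟨x₀, hx₀⟩
    · simp [h]
    have hodd : ∀ x ∈ To, ∀ i, x i % 2 = 1 := fun x hx i => by
      rw [Finset.mem_filter] at hx
      have := (parity hM (hT x hx.1).1 none i).dvd
      omega
    let C := (Finset.univ : Finset (GolayPt → ZMod 2)).filter (· ∈ code M)
    have hC : C.card = Nat.card (code M) := by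
      rw [Nat.card_eq_fintype_card, Fintype.card_subtype]
    rw [← hC, ← card_golayPt, ← Finset.card_univ, ← Finset.card_product]
    refine Finset.card_le_card_of_injOn
      (fun x => (if h : ∃ p, (x p = 3 ∨ x p = -3) then h.choose else none, twoWord x 1 + twoWord x₀ 1))
      (fun x hx => ?_) (fun x hx y hy hxy => ?_)
    · simp only [Finset.coe_product, Set.mem_prod, Finset.coe_univ, Set.mem_univ, true_and,
        Finset.mem_coe, C, Finset.mem_filter, Finset.mem_univ]
      rw [Finset.mem_coe] at hx
      have ox := hodd x hx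
      have o0 := hodd x₀ hx₀
      rw [Finset.mem_filter] at hx hx₀
      refine ⟨x - x₀, sub_mem (hT x hx.1).1 (hT x₀ hx₀.1).1, fun i => ?_, ?_⟩
      · have := ox i; have := o0 i
        simp only [Pi.sub_apply]; omega
      · funext i
        simp only [twoWord, Pi.sub_apply, Pi.add_apply, ← Int.cast_add,
          ZMod.intCast_eq_intCast_iff_dvd_sub]
        have := ox i; have := o0 i
        push_cast; omega
    · simp only [Prod.mk.injEq, add_left_inj] at hxy
      rw [Finset.mem_coe] at hx hy
      have ox := hodd x hx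
      have oy := hodd y hy
      rw [Finset.mem_filter] at hx hy
      obtain ⟨p, hp, hp'⟩ := odd_shape hM (hT x hx.1).2 ox
      obtain ⟨q, hq, hq'⟩ := odd_shape hM (hT y hy.1).2 oy
      have ex : ∃ p, (x p = 3 ∨ x p = -3) := ⟨p, hp⟩
      have ey : ∃ p, (y p = 3 ∨ y p = -3) := ⟨q, hq⟩
      rw [dif_pos ex, dif_pos ey] at hxy
      have hcx : ex.choose = p := by
        by_contra hne
        have := ex.choose_spec
        have := hp' _ hne
        omega
      have hcy : ey.choose = q := by
        by_contra hne
        have := ey.choose_spec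
        have := hq' _ hne
        omega
      rw [hcx, hcy] at hxy
      funext i
      have h4 := twoWord_congr_mod (m := 1) (by simpa using ox i) (by simpa using oy i) (congrFun hxy.2 i)
      rcases eq_or_ne i p with rfl | hi
      · rw [← hxy.1] at hq; omega
      · have := hp' i hi
        have := hq' i (hxy.1 ▸ hi)
        omega
  · set Te := T.filter fun x => ¬ x none % 2 = 1
    have heven : ∀ x ∈ Te, ∀ i, 2 ∣ x i := fun x hx i => by
      rw [Finset.mem_filter] at hx
      have := (parity hM (hT x hx.1).1 none i).dvd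
      omega
    have hhalf : ∀ x ∈ Te, ∑ i, ((x i - 0) / 2) ^ 2 = 8 := fun x hx => by
      have h := (hT x (Finset.mem_filter.1 hx).1).2
      rw [sqNorm, Finset.sum_congr rfl (g := fun i => 4 * ((x i - 0) / 2) ^ 2) fun i _ => by
        conv_lhs => rw [half_eq (heven x hx) i]
        ring, ← Finset.mul_sum] at h
      omega
    have hcode : ∀ x ∈ Te, twoWord x 0 ∈ code M := fun x hx =>
      ⟨x, (hT x (Finset.mem_filter.1 hx).1).1, heven x hx, rfl⟩
    have hwt : ∀ x ∈ Te, ∀ i, twoWord x 0 i ≠ 0 ↔ (x i - 0) / 2 % 2 = 1 := fun x hx i => by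
      simp only [twoWord, intCast_ne_zero_iff]
    have hnorm : ∀ x ∈ Te, twoWord x 0 ≠ 0 → hammingNorm (twoWord x 0) = 8 ∧
        ∀ i, (x i = 0 ∧ twoWord x 0 i = 0) ∨ ((x i = 2 ∨ x i = -2) ∧ twoWord x 0 i ≠ 0) := by
      intro x hx hne
      have hge : ∀ i, (if twoWord x 0 i ≠ 0 then (1 : ℤ) else 0) ≤ ((x i - 0) / 2) ^ 2 := fun i => by
        split_ifs with h
        · rw [hwt x hx i] at h
          have : (x i - 0) / 2 ≠ 0 := by omega
          nlinarith [sq_abs ((x i - 0) / 2), Int.one_le_abs this]
        · exact sq_nonneg _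
      have hle := Finset.sum_le_sum fun i (_ : i ∈ Finset.univ) => hge i
      rw [hhalf x hx, Finset.sum_boole] at hle
      have h8 := code_min hM _ (hcode x hx) hne
      have heq : hammingNorm (twoWord x 0) = 8 := by
        have : hammingNorm (twoWord x 0) = (Finset.univ.filter fun i => twoWord x 0 i ≠ 0).card := rfl
        omega
      have hall : ∀ i, (if twoWord x 0 i ≠ 0 then (1 : ℤ) else 0) = ((x i - 0) / 2) ^ 2 := by
        have h1 := (Finset.sum_eq_sum_iff_of_le fun i (_ : i ∈ Finset.univ) => hge i).1 (by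
          rw [hhalf x hx, Finset.sum_boole]
          have : hammingNorm (twoWord x 0) = (Finset.univ.filter fun i => twoWord x 0 i ≠ 0).card := rfl
          omega)
        exact fun i => h1 i (Finset.mem_univ i)
      refine ⟨heq, fun i => ?_⟩
      have h1 := hall i
      have h2 := heven x hx i
      split_ifs at h1 with h
      · refine Or.inr ⟨?_, h⟩
        rcases sq_eq_one_iff.1 h1.symm with h3 | h3 <;> omega
      · refine Or.inl ⟨?_, not_not.1 h⟩
        have := (sq_eq_zero_iff).1 h1.symm
        omega
    -- split by whether the word vanishes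
    have hzero : (Te.filter fun x => twoWord x 0 = 0).card ≤ 1104 := by
      have hshape : ∀ x ∈ Te.filter fun x => twoWord x 0 = 0,
          (∀ i, x i = 0 ∨ x i = 4 ∨ x i = -4) ∧ (Finset.univ.filter fun i => x i ≠ 0).card = 2 := by
        intro x hx
        rw [Finset.mem_filter] at hx
        have h4 : ∀ i, (4 : ℤ) ∣ x i := fun i => by
          have h1 := congrFun hx.2 i
          have h2 := hwt x hx.1 i
          have := heven x hx.1 i
          simp only [Pi.zero_apply] at h1
          by_contra hno
          exact h2.2 (by omega) h1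
        have hs : ∑ i, (x i / 4) ^ 2 = 2 := by
          have h := (hT x (Finset.mem_filter.1 hx.1).1).2
          rw [sqNorm, Finset.sum_congr rfl (g := fun i => 16 * (x i / 4) ^ 2) fun i _ => by
            conv_lhs => rw [← Int.ediv_mul_cancel (h4 i)]
            ring, ← Finset.mul_sum] at h
          omega
        have hle : ∀ i, (x i / 4) ^ 2 ≤ 2 := fun i => hs ▸
          Finset.single_le_sum (f := fun i => (x i / 4) ^ 2) (fun j _ => sq_nonneg _) (Finset.mem_univ i)
        have hv : ∀ i, x i = 0 ∨ x i = 4 ∨ x i = -4 := fun i => by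
          have h1 := hle i
          have : -1 ≤ x i / 4 ∧ x i / 4 ≤ 1 := ⟨by nlinarith, by nlinarith⟩
          have := h4 i
          omega
        refine ⟨hv, ?_⟩
        have h1 : ∀ i, (x i / 4) ^ 2 = if x i ≠ 0 then 1 else 0 := fun i => by
          rcases hv i with h | h | h <;> rw [h] <;> norm_num
        rw [Finset.sum_congr rfl fun i _ => h1 i, Finset.sum_boole] at hs
        exact_mod_cast hs
      refine (Finset.card_le_card_of_injOn
        (t := ((Finset.univ : Finset GolayPt).powersetCard 2).sigma fun S => S.powerset)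
        (fun x => (⟨Finset.univ.filter fun i => x i ≠ 0, Finset.univ.filter fun i => x i < 0⟩ :
          Σ _ : Finset GolayPt, Finset GolayPt)) (fun x hx => ?_) (fun x hx y hy hxy => ?_)).trans ?_
      · simp only [Finset.coe_sigma, Set.mem_sigma_iff, Finset.mem_coe, Finset.mem_powersetCard,
          Finset.mem_powerset]
        refine ⟨⟨Finset.subset_univ _, (hshape x hx).2⟩, fun i hi => ?_⟩
        simp only [Finset.mem_filter, Finset.mem_univ, true_and] at hi ⊢
        omega
      · simp only [Sigma.mk.injEq, heq_eq_eq] at hxy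
        funext i
        have h1 := Finset.ext_iff.1 hxy.1 i
        have h2 := Finset.ext_iff.1 hxy.2 i
        simp only [Finset.mem_filter, Finset.mem_univ, true_and] at h1 h2
        have := (hshape x hx).1 i
        have := (hshape y hy).1 i
        omega
      · rw [Finset.card_sigma, Finset.sum_congr rfl fun S hS => by
          rw [Finset.card_powerset, (Finset.mem_powersetCard.1 hS).2], Finset.sum_const,
          Finset.card_powersetCard, Finset.card_univ, card_golayPt]
        decide
    have hne8 : (Te.filter fun x => ¬ twoWord x 0 = 0).card ≤ 128 * 759 := by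
      set Tn := Te.filter fun x => ¬ twoWord x 0 = 0
      have himg : (Tn.image fun x => twoWord x 0).card ≤ 759 := octads_le hM _ fun w hw => by
        rw [Finset.mem_image] at hw
        obtain ⟨x, hx, rfl⟩ := hw
        rw [Finset.mem_filter] at hx
        exact ⟨hcode x hx.1, (hnorm x hx.1 hx.2).1⟩
      refine (Finset.card_le_mul_card_image Tn 128 fun w hw => ?_).trans (Nat.mul_le_mul_left 128 himg)
      rw [Finset.mem_image] at hw
      obtain ⟨x₁, hx₁, rfl⟩ := hw
      rw [Finset.mem_filter] at hx₁
      have h8 := (hnorm x₁ hx₁.1 hx₁.2).1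
      obtain ⟨a, ha⟩ : (support₂ (twoWord x₁ 0)).Nonempty := Finset.card_pos.1 (by
        rw [show (support₂ (twoWord x₁ 0)).card = 8 from h8]; norm_num)
      refine (Finset.card_le_card_of_injOn (t := ((support₂ (twoWord x₁ 0)).erase a).powerset)
        (fun x => (Finset.univ.filter fun i => x i < 0).erase a) (fun x hx => ?_) (fun x hx y hy hxy => ?_)).trans ?_
      · rw [Finset.mem_coe, Finset.mem_filter, Finset.mem_filter] at hx
        rw [Finset.mem_coe, Finset.mem_powerset]
        refine Finset.erase_subset_erase a fun i hi => ?_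
        simp only [Finset.mem_filter, Finset.mem_univ, true_and] at hi
        rcases (hnorm x hx.1.1 hx.1.2).2 i with h | h
        · omega
        · rw [← hx.2]; simp [support₂, h.2]
      · rw [Finset.mem_coe, Finset.mem_filter, Finset.mem_filter] at hx hy
        have sx := (hnorm x hx.1.1 hx.1.2).2
        have sy := (hnorm y hy.1.1 hy.1.2).2
        have hoff : ∀ i, i ≠ a → x i = y i := fun i hi => by
          have h1 := Finset.ext_iff.1 hxy i
          simp only [Finset.mem_erase, Finset.mem_filter, Finset.mem_univ, true_and] at h1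
          have hw := congrFun (hx.2.trans hy.2.symm) i
          rcases sx i with h | h <;> rcases sy i with h' | h'
          · omega
          · exact absurd (hw ▸ h.2) h'.2
          · exact absurd (hw ▸ h'.2) (fun e => h.2 (hw.trans e) )
          · have h1' := (and_congr_right_iff.1 h1) hi
            omega
        by_contra hne
        have hna : x a ≠ y a := fun e => hne (funext fun i => by
          rcases eq_or_ne i a with rfl | hi
          · exact e
          · exact hoff i hi)
        have hd : x - y = Pi.single a (x a - y a) := funext fun i => by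
          rcases eq_or_ne i a with rfl | hi
          · simp
          · rw [Pi.single_eq_of_ne hi, Pi.sub_apply, hoff i hi, sub_self]
        have hmem := sub_mem (hT x (Finset.mem_filter.1 hx.1.1).1).1 (hT y (Finset.mem_filter.1 hy.1.1).1).1
        rw [hd] at hmem
        have haw : twoWord x 0 a ≠ 0 := by rw [hx.2]; simpa [support₂] using ha
        have hay : twoWord y 0 a ≠ 0 := by rw [hy.2]; simpa [support₂] using ha
        rcases sx a with h | h
        · exact haw h.2
        rcases sy a with h' | h'
        · exact hay h'.2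
        rcases (show x a - y a = 4 ∨ x a - y a = -4 by omega) with e | e <;> rw [e] at hmem
        · exact single_four_not_mem hM a hmem
        · have := neg_mem hmem
          rw [← Pi.single_neg, neg_neg] at this
          exact single_four_not_mem hM a this
      · rw [Finset.card_powerset, Finset.card_erase_of_mem ha, show (support₂ (twoWord x₁ 0)).card = 8 from h8]
        norm_num
    have := Finset.card_filter_add_card_filter_not (s := Te) (fun x => twoWord x 0 = 0)
    omega

theorem finite_min : {z | z ∈ M ∧ sqNorm z = 32}.Finite :=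
  Set.finite_of_ncard_ne_zero (by rw [hM.count]; norm_num)

theorem code_isGolay : IsGolay (code M) := by
  classical
  have h := count_bound hM (finite_min hM).toFinset fun x hx => (finite_min hM).mem_toFinset.1 hx
  have hsum := Finset.card_filter_add_card_filter_not (s := (finite_min hM).toFinset) (fun x => x none % 2 = 1)
  have hcard : (finite_min hM).toFinset.card = 196560 := by
    rw [← Set.ncard_eq_toFinset_card _ (finite_min hM)]; exact hM.count
  have h1 := Module.natCard_eq_pow_finrank (K := ZMod 2) (V := code M)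
  rw [Nat.card_zmod] at h1
  have h12 : 12 ≤ Module.finrank (ZMod 2) (code M) := by
    by_contra hlt
    have : 2 ^ Module.finrank (ZMod 2) (code M) ≤ 2 ^ 11 := Nat.pow_le_pow_right (by norm_num) (by omega)
    omega
  exact ⟨card_golayPt, le_antisymm (finrank_code_le hM) h12, code_orth hM, code_min hM⟩

theorem exists_odd : ∃ x ∈ M, ∀ i, x i % 2 = 1 := by
  classical
  have h := count_bound hM (finite_min hM).toFinset fun x hx => (finite_min hM).mem_toFinset.1 hx
  have hsum := Finset.card_filter_add_card_filter_not (s := (finite_min hM).toFinset) (fun x => x none % 2 = 1)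
  have hcard : (finite_min hM).toFinset.card = 196560 := by
    rw [← Set.ncard_eq_toFinset_card _ (finite_min hM)]; exact hM.count
  obtain ⟨x, hx⟩ := Finset.card_pos.1 (show 0 < ((finite_min hM).toFinset.filter fun x => x none % 2 = 1).card by omega)
  rw [Finset.mem_filter, Set.Finite.mem_toFinset] at hx
  exact ⟨x, hx.1.1, fun i => by have := (parity hM hx.1.1 none i).dvd; omega⟩

/-- With the right code and an odd vector congruent to one modulo four, it is the lattice. -/
theorem eq_leech (hC : code M = golayCode) {x₀ : GolayPt → ℤ} (hx₀ : x₀ ∈ M)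
    (h1 : ∀ i, x₀ i % 4 = 1) : M = leechLattice := by
  classical
  have e0 : ∀ i, x₀ i = 1 + 4 * ((x₀ i - 1) / 4) := fun i => by have := h1 i; omega
  have hsum0 : ∑ i, x₀ i = 24 + 4 * ∑ i, (x₀ i - 1) / 4 := by
    rw [Finset.sum_congr rfl fun i _ => e0 i, Finset.sum_add_distrib, Finset.sum_const, Finset.card_univ,
      card_golayPt, ← Finset.mul_sum]
    simp
  have hn0 : sqNorm x₀ = 24 + 8 * ∑ i, (x₀ i - 1) / 4 + 16 * ∑ i, ((x₀ i - 1) / 4) ^ 2 := by
    rw [sqNorm, Finset.sum_congr rfl (g := fun i => 1 + 8 * ((x₀ i - 1) / 4) + 16 * ((x₀ i - 1) / 4) ^ 2)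
      fun i _ => by conv_lhs => rw [e0 i]
                    ring, Finset.sum_add_distrib, Finset.sum_add_distrib, Finset.sum_const, Finset.card_univ,
      card_golayPt, ← Finset.mul_sum, ← Finset.mul_sum]
    simp
  have h16 := hM.dvd16 x₀ hx₀
  have hL0 : InLeech x₀ 1 := by
    refine ⟨fun i => ?_, ?_, ?_⟩
    · have := h1 i; rw [Int.modEq_iff_dvd]; omega
    · rw [Int.modEq_iff_dvd]; omega
    · have : twoWord x₀ 1 = 0 := funext fun i => by
        have := h1 i
        simp only [twoWord, Pi.zero_apply, ZMod.intCast_zmod_eq_zero_iff_dvd]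
        push_cast; omega
      rw [this]; exact zero_mem _
  have heven : ∀ x ∈ M, (∀ i, (2 : ℤ) ∣ x i) → InLeech x 0 := by
    intro x hx h2
    refine ⟨fun i => ?_, ?_, hC ▸ ⟨x, hx, h2, rfl⟩⟩
    · have := h2 i; rw [Int.modEq_iff_dvd]; omega
    · have h := hM.dot8 x hx x₀ hx₀
      have e : dotInt x x₀ = ∑ i, x i + 8 * ∑ i, x i / 2 * ((x₀ i - 1) / 4) := by
        rw [dotInt, Finset.mul_sum, ← Finset.sum_add_distrib]
        refine Finset.sum_congr rfl fun i _ => ?_
        conv_lhs => rw [e0 i, ← Int.ediv_mul_cancel (h2 i)]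
        conv_rhs => rw [← Int.ediv_mul_cancel (h2 i)]
        rw [Int.mul_ediv_cancel _ (by norm_num : (2 : ℤ) ≠ 0)]
        ring
      rw [Int.modEq_iff_dvd]; omega
  refine le_antisymm (fun x hx => ?_) (fun x hx => ?_)
  · rcases Int.emod_two_eq_zero_or_one (x none) with h | h
    · exact mem_leechLattice.2 ⟨0, heven x hx fun i => by have := (parity hM hx none i).dvd; omega⟩
    · have hd := heven (x - x₀) (sub_mem hx hx₀) fun i => by
        have := (parity hM hx none i).dvd
        have := h1 i
        simp only [Pi.sub_apply]; omega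
      have := hd.add hL0
      rw [sub_add_cancel] at this
      exact mem_leechLattice.2 ⟨_, this⟩
  · have hle : ∀ z, InLeech z 0 → z ∈ M := by
      intro z hz
      obtain ⟨y, hy, hy2, hyw⟩ : twoWord z 0 ∈ code M := hC ▸ hz.2.2
      have hd : z - y ∈ M := by
        refine mem_of_four_dvd hM (fun i => ?_) ?_
        · refine twoWord_congr_mod (m := 0) ?_ ?_ (congrFun hyw i).symm
          · have := (hz.1 i).dvd; omega
          · have := hy2 i; omega
        · have a := hz.2.1.dvd
          have b := (heven y hy hy2).2.1.dvd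
          rw [Finset.sum_congr rfl fun i _ => Pi.sub_apply z y i, Finset.sum_sub_distrib]
          omega
      have := add_mem hd hy
      rwa [sub_add_cancel] at this
    obtain ⟨m, hm⟩ := mem_leechLattice.1 hx
    have hm' := hm.shift
    rcases Int.emod_two_eq_zero_or_one m with h | h <;> rw [h] at hm'
    · exact hle x hm'
    · have := add_mem (hle (x - x₀) (by simpa [sub_eq_add_neg] using hm'.add hL0.neg)) hx₀
      rwa [sub_add_cancel] at this

end LeechModel

/-- Permuting and changing signs. -/
def signPerm (e : GolayPt ≃ GolayPt) (s : GolayPt → ℤ) : (GolayPt → ℤ) →+ (GolayPt → ℤ) where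
  toFun z := fun i => s i * z (e i)
  map_zero' := by funext i; simp
  map_add' a b := by funext i; simp [mul_add]

theorem dot_signPerm (e : GolayPt ≃ GolayPt) {s : GolayPt → ℤ} (hs : ∀ i, s i = 1 ∨ s i = -1)
    (a b : GolayPt → ℤ) : dotInt (signPerm e s a) (signPerm e s b) = dotInt a b := by
  rw [dotInt, dotInt, ← e.sum_comp (fun i => a i * b i)]
  refine Finset.sum_congr rfl fun i _ => ?_
  show s i * a (e i) * (s i * b (e i)) = _
  rcases hs i with h | h <;> rw [h] <;> ring

theorem sqNorm_signPerm (e : GolayPt ≃ GolayPt) {s : GolayPt → ℤ} (hs : ∀ i, s i = 1 ∨ s i = -1)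
    (a : GolayPt → ℤ) : sqNorm (signPerm e s a) = sqNorm a := by
  rw [← dot_self, dot_signPerm e hs, dot_self]

/-- A model is the lattice after a permutation and signs. -/
theorem LeechModel.exists_signPerm {M : AddSubgroup (GolayPt → ℤ)} (hM : LeechModel M) :
    ∃ (e : GolayPt ≃ GolayPt) (s : GolayPt → ℤ), (∀ i, s i = 1 ∨ s i = -1) ∧
      M.map (signPerm e s) = leechLattice := by
  classical
  obtain ⟨e, he⟩ := exists_equiv_of_isGolay hM.code_isGolay
  obtain ⟨x₀, hx₀, hodd⟩ := hM.exists_odd
  set s : GolayPt → ℤ := fun i => if x₀ (e.symm i) % 4 = 1 then 1 else -1 with hs0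
  have hs : ∀ i, s i = 1 ∨ s i = -1 := fun i => by simp only [hs0]; split_ifs <;> simp
  refine ⟨e.symm, s, hs, ?_⟩
  have hinj : Function.Injective (signPerm e.symm s) := fun a b h => by
    funext i
    have h1 : s (e i) * a (e.symm (e i)) = s (e i) * b (e.symm (e i)) := congrFun h (e i)
    rw [Equiv.symm_apply_apply] at h1
    rcases hs (e i) with h2 | h2 <;> rw [h2] at h1 <;> linarith
  have hM' : LeechModel (M.map (signPerm e.symm s)) := by
    refine ⟨?_, ?_, ?_, fun i j => ?_, ?_⟩
    · rintro _ ⟨a, ha, rfl⟩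
      rw [sqNorm_signPerm _ hs]; exact hM.dvd16 a ha
    · rintro _ ⟨a, ha, rfl⟩ h0
      rw [sqNorm_signPerm _ hs]
      exact hM.le32 a ha fun e' => h0 (by rw [e', map_zero])
    · rintro _ ⟨a, ha, rfl⟩ _ ⟨b, hb, rfl⟩
      rw [dot_signPerm _ hs]; exact hM.dot8 a ha b hb
    · refine ⟨Pi.single (e.symm i) (4 * s i) + Pi.single (e.symm j) (4 * s j),
        hM.mem_of_four_dvd (fun k => ?_) ?_, ?_⟩
      · simp only [Pi.add_apply, Pi.single_apply]
        split_ifs <;> omega
      · simp only [Pi.add_apply, Finset.sum_add_distrib, Finset.sum_pi_single', Finset.mem_univ, if_true]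
        rcases hs i with h | h <;> rcases hs j with h' | h' <;> rw [h, h'] <;> norm_num
      · funext k
        show s k * _ = _
        simp only [Pi.add_apply, Pi.single_apply, EmbeddingLike.apply_eq_iff_eq, mul_add, mul_ite, mul_zero]
        split_ifs with h1 h2 h2 <;> (try subst h1) <;> (try subst h2) <;>
          rcases hs k with h | h <;> simp [h]
    · rw [← hM.count, ← Set.ncard_image_of_injective {z | z ∈ M ∧ sqNorm z = 32} hinj]
      congr 1
      ext z
      constructor
      · rintro ⟨⟨a, ha, rfl⟩, hn⟩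
        exact ⟨a, ⟨ha, by rwa [sqNorm_signPerm _ hs] at hn⟩, rfl⟩
      · rintro ⟨a, ⟨ha, hn⟩, rfl⟩
        exact ⟨⟨a, ha, rfl⟩, by rw [sqNorm_signPerm _ hs, hn]⟩
  have hword : ∀ a : GolayPt → ℤ, (∀ i, 2 ∣ a i) → twoWord (signPerm e.symm s a) 0 =
      fun i => twoWord a 0 (e.symm i) := fun a h2 => funext fun i => by
    show (((s i * a (e.symm i) - 0) / 2 : ℤ) : ZMod 2) = (((a (e.symm i) - 0) / 2 : ℤ) : ZMod 2)
    rw [ZMod.intCast_eq_intCast_iff_dvd_sub]
    have := h2 (e.symm i)
    rcases hs i with h | h <;> rw [h] <;> push_cast <;> omega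
  refine hM'.eq_leech ?_ (x₀ := signPerm e.symm s x₀) ⟨x₀, hx₀, rfl⟩ fun i => ?_
  · ext w
    rw [he w]
    constructor
    · rintro ⟨_, ⟨a, ha, rfl⟩, h2, rfl⟩
      have ha2 : ∀ i, 2 ∣ a i := fun i => by
        have h3 : (2 : ℤ) ∣ s (e i) * a (e.symm (e i)) := h2 (e i)
        rw [Equiv.symm_apply_apply] at h3
        rcases hs (e i) with h | h <;> rw [h] at h3 <;> omega
      refine ⟨a, ha, ha2, ?_⟩
      rw [hword a ha2]
      funext i
      simp
    · rintro ⟨a, ha, ha2, haw⟩
      refine ⟨_, ⟨a, ha, rfl⟩, fun i => ?_, ?_⟩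
      · exact dvd_mul_of_dvd_right (ha2 _) _
      · rw [hword a ha2, haw]
        funext i
        simp
  · show (s i * x₀ (e.symm i)) % 4 = 1
    have := hodd (e.symm i)
    simp only [hs0]
    split_ifs <;> omega

end CfsgLib.Golay
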