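import Mathlib
import Cfsg.Agent.Lib.Golay.LeechModel

/-!
# A Gram matrix with the counts of short vectors is that of the lattice
-/

set_option autoImplicit false

namespace CfsgLib.Golay.FromGram

open Cfsg Matrix

variable {B : Matrix (Fin 24) (Fin 24) ℤ}

/-- The form. -/
def bil (B : Matrix (Fin 24) (Fin 24) ℤ) (x y : Fin 24 → ℤ) : ℤ := x ⬝ᵥ (B *ᵥ y)

theorem bil_add_left (x y z : Fin 24 → ℤ) : bil B (x + y) z = bil B x z + bil B y z := add_dotProduct _ _ _

theorem bil_add_right (x y z : Fin 24 → ℤ) : bil B x (y + z) = bil B x y + bil B x z := by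
  rw [bil, bil, bil, Matrix.mulVec_add, dotProduct_add]

theorem bil_smul_left (a : ℤ) (x y : Fin 24 → ℤ) : bil B (a • x) y = a * bil B x y := smul_dotProduct _ _ _

theorem bil_smul_right (a : ℤ) (x y : Fin 24 → ℤ) : bil B x (a • y) = a * bil B x y := by
  rw [bil, bil, Matrix.mulVec_smul, dotProduct_smul, smul_eq_mul]

theorem bil_neg_left (x y : Fin 24 → ℤ) : bil B (-x) y = -bil B x y := neg_dotProduct _ _

theorem bil_neg_right (x y : Fin 24 → ℤ) : bil B x (-y) = -bil B x y := by
  rw [bil, bil, Matrix.mulVec_neg, dotProduct_neg]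

theorem bil_sub_left (x y z : Fin 24 → ℤ) : bil B (x - y) z = bil B x z - bil B y z := sub_dotProduct _ _ _

theorem bil_sub_right (x y z : Fin 24 → ℤ) : bil B x (y - z) = bil B x y - bil B x z := by
  rw [bil, bil, bil, Matrix.mulVec_sub, dotProduct_sub]

/-- The class modulo two. -/
def cls (x : Fin 24 → ℤ) : Fin 24 → ZMod 2 := fun i => (x i : ZMod 2)

theorem cls_eq {x y : Fin 24 → ℤ} (h : cls x = cls y) : ∃ z, x - y = (2 : ℤ) • z := by
  refine ⟨fun i => (x i - y i) / 2, funext fun i => ?_⟩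
  have h1 := congrFun h i
  simp only [cls, ZMod.intCast_eq_intCast_iff_dvd_sub] at h1
  simp only [Pi.sub_apply, Pi.smul_apply, smul_eq_mul]
  push_cast at h1
  omega

structure Hyp (B : Matrix (Fin 24) (Fin 24) ℤ) : Prop where
  symm : B.IsSymm
  pos : ∀ x : Fin 24 → ℤ, x ≠ 0 → 0 < bil B x x
  even : ∀ x : Fin 24 → ℤ, (2 : ℤ) ∣ bil B x x
  two : ∀ x : Fin 24 → ℤ, bil B x x ≠ 2
  four : {x : Fin 24 → ℤ | bil B x x = 4}.ncard = 196560
  six : {x : Fin 24 → ℤ | bil B x x = 6}.ncard = 16773120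
  eight : {x : Fin 24 → ℤ | bil B x x = 8}.ncard = 398034000

variable (hB : Hyp B)
include hB

theorem bil_symm (x y : Fin 24 → ℤ) : bil B x y = bil B y x := by
  rw [bil, bil, Matrix.dotProduct_mulVec, ← Matrix.mulVec_transpose, hB.symm.eq, dotProduct_comm]

theorem four_le {x : Fin 24 → ℤ} (hx : x ≠ 0) : 4 ≤ bil B x x := by
  have := hB.pos x hx
  have := hB.even x
  have := hB.two x
  omega

theorem short {x y : Fin 24 → ℤ} (hx : bil B x x ≤ 8) (hy : bil B y y ≤ 8) (h : cls x = cls y) :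
    x = y ∨ x = -y ∨ (bil B x x = 8 ∧ bil B y y = 8 ∧ bil B x y = 0) := by
  obtain ⟨z, e⟩ := cls_eq h
  rcases eq_or_ne z 0 with rfl | hz0
  · left; rwa [smul_zero, sub_eq_zero] at e
  rcases eq_or_ne (z + y) 0 with hz1 | hz1
  · right; left
    rw [eq_neg_of_add_eq_zero_left hz1, sub_eq_iff_eq_add] at e
    rw [e]; module
  right; right
  have e2 : x + y = (2 : ℤ) • (z + y) := by rw [smul_add, ← e]; module
  have h1 := four_le hB hz0
  have h2 := four_le hB hz1
  have n1 : bil B (x - y) (x - y) = bil B x x + bil B y y - 2 * bil B x y := by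
    rw [bil_sub_left, bil_sub_right, bil_sub_right, bil_symm hB y x]; ring
  have n2 : bil B (x + y) (x + y) = bil B x x + bil B y y + 2 * bil B x y := by
    rw [bil_add_left, bil_add_right, bil_add_right, bil_symm hB y x]; ring
  rw [e, bil_smul_left, bil_smul_right] at n1
  rw [e2, bil_smul_left, bil_smul_right] at n2
  omega

/-- A class of vectors of norm 8 with 48 members. -/
theorem exists_class : ∃ S : Finset (Fin 24 → ℤ), 48 ≤ S.card ∧ (∀ x ∈ S, bil B x x = 8) ∧
    ∀ x ∈ S, ∀ y ∈ S, cls x = cls y := by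
  classical
  have hf : ∀ {n : ℤ} {k : ℕ}, {x : Fin 24 → ℤ | bil B x x = n}.ncard = k → k ≠ 0 →
      ∃ N : Finset (Fin 24 → ℤ), N.card = k ∧ ∀ x, x ∈ N ↔ bil B x x = n := by
    intro n k h hk
    have hfin := Set.finite_of_ncard_ne_zero (h ▸ hk)
    exact ⟨hfin.toFinset, by rw [← Set.ncard_eq_toFinset_card _ hfin, h], fun x => hfin.mem_toFinset⟩
  obtain ⟨N4, c4, m4⟩ := hf hB.four (by norm_num)
  obtain ⟨N6, c6, m6⟩ := hf hB.six (by norm_num)
  obtain ⟨N8, c8, m8⟩ := hf hB.eight (by norm_num)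
  have hpair : ∀ (N : Finset (Fin 24 → ℤ)), (∀ x ∈ N, bil B x x < 8) → N.card ≤ 2 * (N.image cls).card := by
    intro N hN
    refine Finset.card_le_mul_card_image N 2 fun q hq => ?_
    obtain ⟨a, ha, rfl⟩ := Finset.mem_image.1 hq
    refine (Finset.card_le_card (t := {a, -a}) fun b hb => ?_).trans Finset.card_le_two
    rw [Finset.mem_filter] at hb
    rcases short hB (hN b hb.1).le (hN a ha).le hb.2 with h | h | h
    · simp [h]
    · simp [h]
    · exact absurd h.1 (hN b hb.1).ne
  have h4 := hpair N4 fun x hx => by rw [m4] at hx; omega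
  have h6 := hpair N6 fun x hx => by rw [m6] at hx; omega
  have hne : ∀ x y : Fin 24 → ℤ, bil B x x < bil B y y → bil B y y ≤ 8 → cls x ≠ cls y := by
    intro x y hlt hy e
    rcases short hB (hlt.le.trans hy) hy e with h | h | h
    · rw [h] at hlt; exact lt_irrefl _ hlt
    · rw [h, bil_neg_left, bil_neg_right, neg_neg] at hlt; exact lt_irrefl _ hlt
    · omega
  have hd : ∀ {m n : ℤ} {M N : Finset (Fin 24 → ℤ)}, (∀ x, x ∈ M ↔ bil B x x = m) →
      (∀ x, x ∈ N ↔ bil B x x = n) → m < n → n ≤ 8 → Disjoint (M.image cls) (N.image cls) := by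
    intro m n M N hm hn hmn hn8
    rw [Finset.disjoint_left]
    intro q h1 h2
    obtain ⟨x, hx, rfl⟩ := Finset.mem_image.1 h1
    obtain ⟨y, hy, e⟩ := Finset.mem_image.1 h2
    rw [hm] at hx
    rw [hn] at hy
    exact hne x y (by omega) (by omega) e.symm
  have h0 : cls 0 ∉ N4.image cls ∪ N6.image cls ∪ N8.image cls := by
    intro h
    have hz : bil B (0 : Fin 24 → ℤ) 0 = 0 := zero_dotProduct _
    simp only [Finset.mem_union, Finset.mem_image, m4, m6, m8] at h
    rcases h with (⟨x, hx, e⟩ | ⟨x, hx, e⟩) | ⟨x, hx, e⟩ <;> exact hne 0 x (by omega) (by omega) e.symm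
  have hU := Finset.card_le_univ (insert (cls 0) (N4.image cls ∪ N6.image cls ∪ N8.image cls))
  rw [Finset.card_insert_of_notMem h0,
    Finset.card_union_of_disjoint (Finset.disjoint_union_left.2
      ⟨hd m4 m8 (by norm_num) le_rfl, hd m6 m8 (by norm_num) le_rfl⟩),
    Finset.card_union_of_disjoint (hd m4 m6 (by norm_num) (by norm_num)), Fintype.card_fun,
    ZMod.card, Fintype.card_fin] at hU
  norm_num at hU
  obtain ⟨q, hq, hlt⟩ := Finset.exists_lt_card_fiber_of_mul_lt_card_of_maps_to (s := N8) (n := 47)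
    (t := N8.image cls) (f := cls) (fun x hx => Finset.mem_image_of_mem _ hx) (by omega)
  refine ⟨_, hlt, fun x hx => ?_, fun x hx y hy => ?_⟩
  · rw [Finset.mem_filter] at hx
    exact (m8 x).1 hx.1
  · rw [Finset.mem_filter] at hx hy
    exact hx.2.trans hy.2.symm

/-- A frame. -/
theorem exists_frame : ∃ f : Fin 24 → (Fin 24 → ℤ),
    (∀ i j, bil B (f i) (f j) = if i = j then 8 else 0) ∧ ∀ i j, cls (f i) = cls (f j) := by
  classical
  obtain ⟨S, hS, h8, hcls⟩ := exists_class hB
  let P : Finset (Fin 24 → ℤ) → Prop := fun T => ∀ t ∈ T, ∀ u ∈ T, t ≠ u → bil B t u = 0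
  haveI hP : DecidablePred P := Classical.decPred P
  obtain ⟨T, hT, hmax⟩ := Finset.exists_max_image (S.powerset.filter P) Finset.card
    ⟨∅, Finset.mem_filter.2 ⟨Finset.empty_mem_powerset S, fun t ht => absurd ht (Finset.notMem_empty t)⟩⟩
  rw [Finset.mem_filter, Finset.mem_powerset] at hT
  obtain ⟨hTS, hTo⟩ := hT
  replace hTo : ∀ t ∈ T, ∀ u ∈ T, t ≠ u → bil B t u = 0 := hTo
  have hcov : ∀ s ∈ S, s ∈ T ∨ -s ∈ T := by
    intro s hs
    by_contra hno
    push Not at hno
    obtain ⟨h1, h2⟩ := hno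
    have ho : ∀ t ∈ T, bil B s t = 0 := by
      intro t ht
      rcases short hB (h8 s hs).le (h8 t (hTS ht)).le (hcls s hs t (hTS ht)) with rfl | rfl | h3
      · exact absurd ht h1
      · exact absurd (by rwa [neg_neg]) h2
      · exact h3.2.2
    have hins := hmax (insert s T) (Finset.mem_filter.mpr
      ⟨Finset.mem_powerset.mpr (Finset.insert_subset hs hTS), fun t ht u hu htu => ?_⟩)
    · rw [Finset.card_insert_of_notMem h1] at hins
      omega
    · rw [Finset.mem_insert] at ht hu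
      rcases ht with rfl | ht <;> rcases hu with rfl | hu
      · exact absurd rfl htu
      · exact ho u hu
      · rw [bil_symm hB]; exact ho t ht
      · exact hTo t ht u hu htu
  have hle : S.card ≤ 2 * T.card := by
    refine (Finset.card_le_card (t := T ∪ T.image (fun t => -t)) fun s hs => ?_).trans
      ((Finset.card_union_le _ _).trans (by
        have := Finset.card_image_le (s := T) (f := fun t : Fin 24 → ℤ => -t); omega))
    rcases hcov s hs with h1 | h1
    · exact Finset.mem_union_left _ h1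
    · exact Finset.mem_union_right _ (Finset.mem_image.mpr ⟨-s, h1, neg_neg s⟩)
  have hli : LinearIndependent ℤ (fun t : T => (t : Fin 24 → ℤ)) := by
    rw [Fintype.linearIndependent_iff]
    intro c hc t
    have h := congrArg (fun z => bil B z t) hc
    simp only [bil, sum_dotProduct, smul_dotProduct, zero_dotProduct] at h
    rw [Finset.sum_eq_single t (fun u _ hu => by
        have := hTo u u.2 t t.2 fun e => hu (Subtype.ext e)
        rw [bil] at this
        rw [this, smul_zero]) (by simp)] at h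
    have h9 := h8 t (hTS t.2)
    rw [bil] at h9
    rw [h9, smul_eq_mul] at h
    omega
  have h24 := hli.fintype_card_le_finrank
  rw [Module.finrank_pi, Fintype.card_fin, Fintype.card_coe] at h24
  have hT24 : T.card = 24 := by omega
  let e := Fintype.equivOfCardEq (show Fintype.card (Fin 24) = Fintype.card T by
    rw [Fintype.card_fin, Fintype.card_coe, hT24])
  refine ⟨fun i => e i, fun i j => ?_, fun i j => hcls _ (hTS (e i).2) _ (hTS (e j).2)⟩
  split_ifs with h
  · rw [h]; exact h8 _ (hTS (e j).2)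
  · exact hTo _ (e i).2 _ (e j).2 fun h' => h (e.injective (Subtype.ext h'))

/-- The lattice has the given form. -/
theorem exists_iso : ∃ φ : (Fin 24 → ℤ) ≃+ leechLattice,
    ∀ x, sqNorm ((φ x : leechLattice) : GolayPt → ℤ) = 8 * bil B x x := by
  classical
  obtain ⟨f, hf, hcl⟩ := exists_frame hB
  have e : GolayPt ≃ Fin 24 := Fintype.equivFinOfCardEq card_golayPt
  let φ : (Fin 24 → ℤ) →+ (GolayPt → ℤ) :=
    { toFun := fun x p => bil B x (f (e p))
      map_zero' := funext fun p => zero_dotProduct _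
      map_add' := fun x y => funext fun p => bil_add_left _ _ _ }
  have hdot : ∀ x y, dotInt (φ x) (φ y) = 8 * bil B x y := by
    intro x y
    let F : Matrix (Fin 24) (Fin 24) ℚ := Matrix.of fun i k => (f i k : ℚ)
    let Bq : Matrix (Fin 24) (Fin 24) ℚ := B.map (Int.cast : ℤ → ℚ)
    have hc : ∀ u v : Fin 24 → ℤ, ((bil B u v : ℤ) : ℚ) = (fun k => (u k : ℚ)) ⬝ᵥ (Bq *ᵥ fun k => (v k : ℚ)) := by
      intro u v
      simp [bil, Bq, dotProduct, Matrix.mulVec]
    have h1 : (F * Bq) * ((1 / 8 : ℚ) • F.transpose) = 1 := by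
      ext i j
      rw [Matrix.mul_smul, Matrix.smul_apply, Matrix.mul_assoc, Matrix.mul_apply]
      have h2 := hc (f i) (f j)
      rw [hf] at h2
      have h3 : ∑ k, F i k * (Bq * F.transpose) k j = (fun k => (f i k : ℚ)) ⬝ᵥ (Bq *ᵥ fun k => (f j k : ℚ)) := by
        simp [F, dotProduct, Matrix.mulVec, Matrix.mul_apply]
      rw [h3, ← h2]
      rcases eq_or_ne i j with rfl | h
      · simp
      · simp [h]
    have h2 := mul_eq_one_comm.mp h1
    have h3 : (Bq * F.transpose) * (F * Bq) = (8 : ℚ) • Bq := by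
      rw [Matrix.mul_assoc, show F.transpose * (F * Bq) = (8 : ℚ) • (((1 / 8 : ℚ) • F.transpose) * (F * Bq)) by
        rw [Matrix.smul_mul, smul_smul]; norm_num, h2, Matrix.mul_smul, Matrix.mul_one]
    have key : ((dotInt (φ x) (φ y) : ℤ) : ℚ) =
        (fun k => (x k : ℚ)) ⬝ᵥ (((Bq * F.transpose) * (F * Bq)) *ᵥ fun k => (y k : ℚ)) := by
      rw [dotInt, ← Matrix.mulVec_mulVec, Matrix.dotProduct_mulVec, ← e.symm.sum_comp]
      push_cast
      refine Finset.sum_congr rfl fun i _ => ?_
      show ((bil B x (f (e (e.symm i))) : ℤ) : ℚ) * ((bil B y (f (e (e.symm i))) : ℤ) : ℚ) = _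
      rw [Equiv.apply_symm_apply, hc, bil_symm hB y, hc]
      congr 1
      · simp only [Matrix.vecMul, dotProduct, Matrix.mulVec, Matrix.mul_apply, F, Matrix.transpose_apply,
          Matrix.of_apply, Finset.sum_mul, Finset.mul_sum]
        first
          | rfl
          | (rw [Finset.sum_comm]
             exact Finset.sum_congr rfl fun k _ => Finset.sum_congr rfl fun l _ => by ring)
    rw [h3, Matrix.smul_mulVec, dotProduct_smul, ← hc, smul_eq_mul] at key
    exact_mod_cast key
  have hnorm : ∀ x, sqNorm (φ x) = 8 * bil B x x := fun x => by rw [← dot_self, hdot]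
  have hinj : Function.Injective φ := by
    rw [injective_iff_map_eq_zero]
    intro x hx
    by_contra h
    have h1 := hnorm x
    rw [hx, sqNorm_eq_zero.2 rfl] at h1
    have := four_le hB h
    omega
  have hφf : ∀ i, φ (f i) = Pi.single (e.symm i) 8 := fun i => funext fun p => by
    show bil B (f i) (f (e p)) = _
    rw [hf, Pi.single_apply]
    simp only [Equiv.eq_symm_apply, eq_comm]
  have hM : LeechModel φ.range := by
    refine ⟨?_, ?_, ?_, fun p q => ?_, ?_⟩
    · rintro _ ⟨x, rfl⟩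
      rw [hnorm]
      have := hB.even x
      omega
    · rintro _ ⟨x, rfl⟩ h0
      have := four_le hB (x := x) fun h => h0 (by rw [h, map_zero])
      rw [hnorm]; omega
    · rintro _ ⟨x, rfl⟩ _ ⟨y, rfl⟩
      rw [hdot]; exact dvd_mul_right _ _
    · obtain ⟨z, hz⟩ := cls_eq (hcl (e p) (e q))
      refine ⟨z + f (e q), funext fun k => ?_⟩
      have h1 := congrFun (congrArg φ hz) k
      rw [map_sub, map_zsmul, hφf, hφf, Equiv.symm_apply_apply, Equiv.symm_apply_apply] at h1
      rw [map_add, hφf, Equiv.symm_apply_apply, Pi.add_apply, Pi.add_apply]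
      simp only [Pi.sub_apply, Pi.smul_apply, smul_eq_mul, Pi.single_apply] at h1 ⊢
      split_ifs at h1 ⊢ <;> omega
    · rw [← hB.four, ← Set.ncard_image_of_injective _ hinj]
      congr 1
      ext z
      constructor
      · rintro ⟨⟨x, rfl⟩, hn⟩
        rw [hnorm] at hn
        exact ⟨x, show bil B x x = 4 by omega, rfl⟩
      · rintro ⟨x, hx, rfl⟩
        exact ⟨⟨x, rfl⟩, by rw [hnorm, show bil B x x = 4 from hx]; norm_num⟩
  obtain ⟨σ, s, hs, hmap⟩ := hM.exists_signPerm
  have hmem : ∀ x, signPerm σ s (φ x) ∈ leechLattice := fun x => hmap ▸ ⟨φ x, ⟨x, rfl⟩, rfl⟩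
  let ψ : (Fin 24 → ℤ) →+ leechLattice := ((signPerm σ s).comp φ).codRestrict _ hmem
  have hψn : ∀ x, sqNorm ((ψ x : leechLattice) : GolayPt → ℤ) = 8 * bil B x x := fun x => by
    show sqNorm (signPerm σ s (φ x)) = _
    rw [sqNorm_signPerm _ hs, hnorm]
  refine ⟨AddEquiv.ofBijective ψ ⟨?_, fun y => ?_⟩, hψn⟩
  · rw [injective_iff_map_eq_zero]
    intro x hx
    by_contra h
    have h1 := hψn x
    rw [hx, AddSubgroup.coe_zero, sqNorm_eq_zero.2 rfl] at h1
    have := four_le hB h
    omega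
  · obtain ⟨z, ⟨x, rfl⟩, hz⟩ := hmap.symm.le y.2
    exact ⟨x, Subtype.ext hz⟩

end CfsgLib.Golay.FromGram
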