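import Cfsg.Agent.Lib.Golay.Co0
import Cfsg.Agent.Lib.Golay.Dodecad

/-!
# The lattice modulo twice itself as a module for its automorphism group
-/

set_option autoImplicit false
set_option maxRecDepth 20000

namespace CfsgLib.Golay

open Cfsg CfsgLib.MonsterType CfsgLib.LeechEight
open scoped Pointwise

/-- Four times the indicator of a set. -/
def fourInd (s : Finset GolayPt) : GolayPt → ℤ := fun i => if i ∈ s then 4 else 0

/-- An invariant subgroup with one vector of a norm has all of them. -/
theorem mem_of_orbit (M : AddSubgroup (GolayPt → ℤ))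
    (hinv : ∀ g : Co0, ∀ v : leechLattice, (v : GolayPt → ℤ) ∈ M →
      ((g • v : leechLattice) : GolayPt → ℤ) ∈ M)
    {N : ℤ} (htr : ∀ x y : leechLattice, sqNorm (x : GolayPt → ℤ) = N → sqNorm (y : GolayPt → ℤ) = N →
      ∃ γ : Co0, γ • x = y)
    {y : GolayPt → ℤ} (hy : y ∈ leechLattice) (hyM : y ∈ M) (hn : sqNorm y = N) {z : GolayPt → ℤ}
    (hz : z ∈ leechLattice) (hzn : sqNorm z = N) : z ∈ M := by
  obtain ⟨γ, h⟩ := htr ⟨y, hy⟩ ⟨z, hz⟩ hn hzn
  have := hinv γ ⟨y, hy⟩ hyM
  rwa [h] at this

/-- Twice the lattice and the minimal vectors generate the lattice. -/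
theorem leech_le_of_norm32 (M : AddSubgroup (GolayPt → ℤ))
    (h32 : ∀ z ∈ leechLattice, sqNorm z = 32 → z ∈ M) : leechLattice ≤ M := by
  classical
  have hpair : ∀ i j : GolayPt, i ≠ j → ∀ s t : ℤ, (s = 4 ∨ s = -4) → (t = 4 ∨ t = -4) →
      Pi.single i s + Pi.single j t ∈ M := by
    intro i j hij s t hs ht
    refine h32 _ (pair_four_mem i j s t hs ht) ?_
    rw [sqNorm_pair hij]
    rcases hs with rfl | rfl <;> rcases ht with rfl | rfl <;> norm_num
  have h8 : (Pi.single none 8 : GolayPt → ℤ) ∈ M := by
    have h := add_mem (hpair none (some 0) (by simp) 4 4 (Or.inl rfl) (Or.inl rfl))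
      (hpair none (some 0) (by simp) 4 (-4) (Or.inl rfl) (Or.inr rfl))
    convert h using 1
    decide +kernel
  have hdiff : ∀ i : GolayPt, Pi.single i (4 : ℤ) - Pi.single none 4 ∈ M := by
    intro i
    rcases eq_or_ne i none with rfl | h
    · rw [sub_self]; exact zero_mem _
    · rw [sub_eq_add_neg, ← Pi.single_neg]
      exact hpair i none h 4 (-4) (Or.inl rfl) (Or.inr rfl)
  have hfour : ∀ x : GolayPt → ℤ, (∀ i, (4 : ℤ) ∣ x i) → (8 : ℤ) ∣ ∑ i, x i → x ∈ M := by
    intro x h4 hs
    choose a ha using h4
    have hsum : ∑ i, x i = 4 * ∑ i, a i := by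
      rw [Finset.mul_sum]; exact Finset.sum_congr rfl fun i _ => ha i
    obtain ⟨c, hc⟩ : (2 : ℤ) ∣ ∑ i, a i := by omega
    have hx : x = ∑ i, a i • (Pi.single i (4 : ℤ) - Pi.single none 4) + c • Pi.single none (8 : ℤ) := by
      funext k
      simp only [Pi.add_apply, Finset.sum_apply, Pi.smul_apply, Pi.sub_apply, smul_eq_mul, mul_sub,
        Finset.sum_sub_distrib, Pi.single_apply, mul_ite, mul_zero,
        Finset.sum_ite_eq, Finset.mem_univ, if_true]
      rw [ha k]
      rcases eq_or_ne k none with rfl | hk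
      · simp only [if_true, ← Finset.sum_mul, hc]; ring
      · simp only [if_neg hk, Finset.sum_const_zero]; ring
    rw [hx]
    exact add_mem (sum_mem fun i _ => zsmul_mem (hdiff i) _) (zsmul_mem h8 _)
  have hgen : ∀ g ∈ gens, twoInd (decS g) ∈ M := by
    intro g hg
    have h : g < 2 ^ 24 := by revert g; decide +kernel
    refine h32 _ (twoInd_mem (by rw [encS_decS h]; exact isCode_gens g hg)) ?_
    revert g
    decide +kernel
  have hcode : ∀ k, codeWord k < 2 ^ 24 ∧ isCode (codeWord k) = true ∧
      twoInd (decS (codeWord k)) ∈ M := by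
    intro k
    refine spanWord_induction (P := fun n => n < 2 ^ 24 ∧ isCode n = true ∧ twoInd (decS n) ∈ M) gens
      ⟨by norm_num, isCode_zero, ?_⟩ ?_ (fun g hg => ⟨?_, isCode_gens g hg, hgen g hg⟩) k
    · have : twoInd (decS 0) = 0 := by decide +kernel
      rw [this]; exact zero_mem _
    · rintro a b ⟨ha, hac, haM⟩ ⟨hb, hbc, hbM⟩
      refine ⟨Nat.xor_lt_two_pow ha hb, isCode_xor hac hbc, ?_⟩
      have he : twoInd (decS (a ^^^ b)) = twoInd (decS a) + twoInd (decS b) - fourInd (decS a ∩ decS b) := by
        funext i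
        simp only [twoInd, fourInd, Pi.sub_apply, Pi.add_apply, mem_decS, Finset.mem_inter, Nat.testBit_xor]
        cases Nat.testBit a (idx i).val <;> cases Nat.testBit b (idx i).val <;> simp
      rw [he]
      refine sub_mem (add_mem haM hbM) (hfour _ (fun i => ?_) ?_)
      · simp only [fourInd]; split_ifs <;> simp
      · obtain ⟨c, hc⟩ := even_card_inter (mem_supports.mpr (by rw [encS_decS ha]; exact hac))
          (mem_supports.mpr (by rw [encS_decS hb]; exact hbc))
        simp only [fourInd, Finset.sum_ite_mem, Finset.univ_inter, Finset.sum_const, nsmul_eq_mul, hc]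
        exact ⟨c, by push_cast; ring⟩
    · revert g; decide +kernel
  have heven : ∀ x, InLeech x 0 → x ∈ M := by
    intro x hx
    obtain ⟨hpar, hsum, hw⟩ := hx
    rw [mem_golayCode] at hw
    obtain ⟨k, -, hk⟩ := exists_codeWord hw
    obtain ⟨hlt, hc, hM⟩ := hcode k
    have h4 : ∀ i, (4 : ℤ) ∣ (x - twoInd (decS (codeWord k))) i := by
      intro i
      have h2 := Int.modEq_iff_dvd.mp (hpar i)
      have hb : i ∈ decS (codeWord k) ↔ twoWord x 0 i = 1 := by
        rw [hk, mem_decS, testBit_enc]; simp
      rcases MonsterType.zmod2_cases (twoWord x 0 i) with h | h <;>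
        simp only [h, zero_ne_one, iff_false, iff_true] at hb <;>
        simp only [twoWord, sub_zero] at h
      · rw [ZMod.intCast_zmod_eq_zero_iff_dvd] at h
        simp only [Pi.sub_apply, twoInd, if_neg hb]
        push_cast at h
        omega
      · have h' : (x i / 2) % 2 = 1 := intCast_ne_zero_iff.mp (by rw [h]; decide)
        simp only [Pi.sub_apply, twoInd, if_pos hb]
        omega
    have h8' : (8 : ℤ) ∣ ∑ i, (x - twoInd (decS (codeWord k))) i := by
      simp only [Pi.sub_apply, Finset.sum_sub_distrib, sum_twoInd]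
      obtain ⟨c, hc'⟩ := four_dvd_card_support (b := decS (codeWord k))
        (mem_supports.mpr (by rw [encS_decS hlt]; exact hc))
      have := Int.modEq_iff_dvd.mp hsum
      rw [hc']
      push_cast
      omega
    have := add_mem (hfour _ h4 h8') hM
    rwa [sub_add_cancel] at this
  intro x hx
  rcases mem_leechLattice'.mp hx with h | h
  · exact heven x h
  · have hodd : oddVec ∈ M := h32 _ oddVec_mem (by decide +kernel)
    have hi : InLeech oddVec 1 := by
      refine ⟨?_, by decide +kernel, mem_golayCode.mpr (by decide +kernel)⟩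
      intro i; revert i; decide +kernel
    have h2 := h.add hi.neg
    norm_num at h2
    have := add_mem (heven _ h2) hodd
    rwa [neg_add_cancel_right] at this

/-- An invariant subgroup not inside twice the lattice is the lattice. -/
theorem invariant_eq_top (M : AddSubgroup (GolayPt → ℤ))
    (h2 : ∀ v ∈ leechLattice, (2 : ℤ) • v ∈ M) (hle : M ≤ leechLattice)
    (hinv : ∀ g : Co0, ∀ v : leechLattice, (v : GolayPt → ℤ) ∈ M →
      ((g • v : leechLattice) : GolayPt → ℤ) ∈ M)
    {x : GolayPt → ℤ} (hx : x ∈ M) (hne : ∀ w ∈ leechLattice, x ≠ (2 : ℤ) • w) : M = leechLattice := by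
  obtain ⟨y, hy, hyn, z, hz, hxy⟩ := exists_short_congTwo (hle hx)
  have hyM : y ∈ M := by
    have h := sub_mem hx (h2 z hz)
    convert h using 1
    rw [show ((2 : ℤ) • z) = (2 : ℕ) • z from natCast_zsmul z 2, ← hxy]
    abel
  have hy0 : y ≠ 0 := fun e => hne z hz (by
    rw [show ((2 : ℤ) • z) = (2 : ℕ) • z from natCast_zsmul z 2, ← hxy, e, sub_zero])
  have h16 := sixteen_dvd_sqNorm hy
  have h32le := thirtytwo_le_sqNorm hy hy0
  obtain ⟨u, huM, hul, hun⟩ : ∃ u, u ∈ M ∧ u ∈ leechLattice ∧ sqNorm u = 32 := by
    have hcases : sqNorm y = 32 ∨ sqNorm y = 48 ∨ sqNorm y = 64 := by omega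
    rcases hcases with h | h | h
    · exact ⟨y, hyM, hy, h⟩
    · have key := fun z hz hzn => mem_of_orbit M hinv (fun a b => exists_smul_eq_norm48) hy hyM h (z := z) hz hzn
      have ha : twoInd (decS 11472927) ∈ leechLattice := twoInd_mem (by decide +kernel)
      have hb : twoInd (decS 15130653) ∈ leechLattice := twoInd_mem (by decide +kernel)
      exact ⟨_, sub_mem (key _ ha (by decide +kernel)) (key _ hb (by decide +kernel)), sub_mem ha hb,
        by decide +kernel⟩
    · have key := fun z hz hzn => mem_of_orbit M hinv (fun a b => exists_smul_eq_norm64) hy hyM h (z := z) hz hzn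
      have ha : fourInd {none, some 0, some 1, some 2} ∈ leechLattice :=
        mem_leechLattice_of_four_dvd (by decide +kernel) (by decide +kernel)
      have hb : fourInd {none, some 0, some 1, some 3} ∈ leechLattice :=
        mem_leechLattice_of_four_dvd (by decide +kernel) (by decide +kernel)
      exact ⟨_, sub_mem (key _ ha (by decide +kernel)) (key _ hb (by decide +kernel)), sub_mem ha hb,
        by decide +kernel⟩
  refine le_antisymm hle (leech_le_of_norm32 M fun z hz hzn => ?_)
  exact mem_of_orbit M hinv (fun a b => exists_smul_eq_norm32) hul huM hun hz hzn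

/-- An automorphism trivial modulo twice the lattice is central. -/
theorem central_of_trivial_modTwo (g : Co0)
    (h : ∀ v : leechLattice, Cong (g • v) v) : g ∈ Subgroup.center Co0 := by
  classical
  obtain ⟨c, σ, rfl⟩ := cong_latE_iff.mp (h (latE none))
  have hpm : ∀ v : leechLattice, sqNorm (v : GolayPt → ℤ) = 32 →
      (sgnW c * permW σ) • v = v ∨ (sgnW c * permW σ) • v = -v := fun v hv =>
    class32_unique (h v) (by rw [sqNorm_smul_lat]; exact hv) hv
  have hd : ∀ i j : GolayPt, i ≠ j → ((σ : Equiv.Perm GolayPt) i = i ∨ (σ : Equiv.Perm GolayPt) i = j) ∧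
      ((σ : Equiv.Perm GolayPt) i = i → (σ : Equiv.Perm GolayPt) j = j → c.1 i = c.1 j) := by
    intro i j hij
    set v : leechLattice := ⟨_, pair_four_mem i j 4 4 (Or.inl rfl) (Or.inl rfl)⟩ with hv
    have hv32 : sqNorm (v : GolayPt → ℤ) = 32 := by rw [hv, sqNorm_pair hij]; norm_num
    have hval : ∀ k, (v : GolayPt → ℤ) k = (if k = i then 4 else 0) + (if k = j then 4 else 0) := by
      intro k; simp [hv, Pi.single_apply]
    have happ : ∀ k, (((sgnW c * permW σ) • v : leechLattice) : GolayPt → ℤ) ((σ : Equiv.Perm GolayPt) k) =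
        if c.1 ((σ : Equiv.Perm GolayPt) k) = 0 then (v : GolayPt → ℤ) k else -(v : GolayPt → ℤ) k := by
      intro k
      rw [mul_smul, sgnW_apply, permW_apply, Equiv.symm_apply_apply]
    have hvi : (v : GolayPt → ℤ) i = 4 := by rw [hval]; simp [hij]
    have hvj : (v : GolayPt → ℤ) j = 4 := by rw [hval]; simp [hij.symm]
    rcases hpm v hv32 with e | e
    · constructor
      · have h1 := happ i
        rw [e, hvi, hval] at h1
        by_contra hh
        push Not at hh
        rw [if_neg hh.1, if_neg hh.2] at h1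
        split_ifs at h1 <;> omega
      · intro ei ej
        have h1 := happ i
        have h2 := happ j
        rw [e, ei, hvi] at h1
        rw [e, ej, hvj] at h2
        rcases MonsterType.zmod2_cases (c.1 i) with hi | hi <;>
          rcases MonsterType.zmod2_cases (c.1 j) with hj | hj <;>
          first | (rw [hi, hj]; done) | (exfalso; rw [hi] at h1; simp at h1; done) | (exfalso; rw [hj] at h2; simp at h2; done)
    · constructor
      · have h1 := happ i
        rw [e, hvi, AddSubgroup.coe_neg, Pi.neg_apply, hval] at h1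
        by_contra hh
        push Not at hh
        rw [if_neg hh.1, if_neg hh.2] at h1
        split_ifs at h1 <;> omega
      · intro ei ej
        have h1 := happ i
        have h2 := happ j
        rw [e, AddSubgroup.coe_neg, Pi.neg_apply, ei, hvi] at h1
        rw [e, AddSubgroup.coe_neg, Pi.neg_apply, ej, hvj] at h2
        rcases MonsterType.zmod2_cases (c.1 i) with hi | hi <;>
          rcases MonsterType.zmod2_cases (c.1 j) with hj | hj <;>
          first | (rw [hi, hj]; done) | (exfalso; rw [hi] at h1; simp at h1; done) | (exfalso; rw [hj] at h2; simp at h2; done)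
  have hσ : ∀ i, (σ : Equiv.Perm GolayPt) i = i := by
    intro i
    by_contra hne
    obtain ⟨j, -, hj⟩ := Finset.exists_mem_notMem_of_card_lt_card
      (s := ({i, (σ : Equiv.Perm GolayPt) i} : Finset GolayPt)) (t := Finset.univ) (by
        rw [Finset.card_univ, card_golayPt]; exact lt_of_le_of_lt Finset.card_le_two (by norm_num))
    simp only [Finset.mem_insert, Finset.mem_singleton, not_or] at hj
    rcases (hd i j (Ne.symm hj.1)).1 with e | e
    · exact hne e
    · exact hj.2 e.symm
  have hperm : permW σ = 1 := ext_latE fun j => by rw [permW_latE, hσ, one_smul]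
  rw [hperm, mul_one]
  have hc : ∀ i, c.1 i = c.1 none := fun i => by
    rcases eq_or_ne i none with e | e
    · rw [e]
    · exact (hd i none e).2 (hσ i) (hσ none)
  rcases MonsterType.zmod2_cases (c.1 none) with e | e
  · have : sgnW c = 1 := ext_latE fun j => by rw [sgnW_latE, hc, e, if_pos rfl, one_smul]
    rw [this]; exact one_mem _
  · have : c = ⟨1, MonsterType.one_mem_golay⟩ := Subtype.ext (funext fun i => by rw [hc, e]; rfl)
    rw [this]; exact neg_mem_center

end CfsgLib.Golay
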