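import Cfsg.Prelude.Def_Sporadic_a

/-!
# 24-bit masks and position lists for the 24 points of the length-24 code

A subset of `GolayPt` is encoded by a natural number below `2 ^ 24` (bit `i` for the residue `i`,
bit 23 for the extra point), a word over `ZMod 2` by the mask of its support, and a permutation by
the list of the 24 images.  Everything here is generic bookkeeping, kernel evaluation is fast.
-/

set_option autoImplicit false

namespace CfsgLib.Golay

open Cfsg
open scoped Pointwise symmDiff

/-- Position of a point: the residue itself, 23 for the extra point. -/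
def idx : GolayPt → Fin 24
  | none => 23
  | some x => ⟨x.val, (ZMod.val_lt x).trans (by norm_num)⟩

/-- Point at a position. -/
def pt (i : Fin 24) : GolayPt :=
  if i.val < 23 then some (i.val : ZMod 23) else none

theorem pt_idx : ∀ p : GolayPt, pt (idx p) = p := by decide +kernel

theorem idx_pt : ∀ i : Fin 24, idx (pt i) = i := by decide +kernel

/-- Positions and points. -/
def ptEquiv : Fin 24 ≃ GolayPt := ⟨pt, idx, idx_pt, pt_idx⟩

theorem idx_injective : Function.Injective idx := ptEquiv.symm.injective

theorem card_golayPt : Fintype.card GolayPt = 24 := by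
  simpa using (Fintype.card_congr ptEquiv).symm

/-! ### Encoding -/

/-- Mask of a set of points. -/
def encS (s : Finset GolayPt) : ℕ := Nat.ofBits fun i : Fin 24 => decide (pt i ∈ s)

/-- Set of points of a mask. -/
def decS (n : ℕ) : Finset GolayPt := Finset.univ.filter fun p => n.testBit (idx p).val

/-- Mask of a word. -/
def enc (w : GolayPt → ZMod 2) : ℕ := Nat.ofBits fun i : Fin 24 => decide (w (pt i) = 1)

/-- Word of a mask. -/
def dec (n : ℕ) : GolayPt → ZMod 2 := fun p => if n.testBit (idx p).val then 1 else 0

theorem testBit_encS (s : Finset GolayPt) (p : GolayPt) :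
    (encS s).testBit (idx p).val = decide (p ∈ s) := by
  unfold encS
  rw [Nat.testBit_ofBits_lt _ _ (idx p).isLt]
  simp [pt_idx]

theorem testBit_enc (w : GolayPt → ZMod 2) (p : GolayPt) :
    (enc w).testBit (idx p).val = decide (w p = 1) := by
  unfold enc
  rw [Nat.testBit_ofBits_lt _ _ (idx p).isLt]
  simp [pt_idx]

theorem testBit_encS_ge (s : Finset GolayPt) {i : ℕ} (h : 24 ≤ i) : (encS s).testBit i = false := by
  unfold encS
  exact Nat.testBit_ofBits_ge _ _ h

theorem testBit_enc_ge (w : GolayPt → ZMod 2) {i : ℕ} (h : 24 ≤ i) : (enc w).testBit i = false := by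
  unfold enc
  exact Nat.testBit_ofBits_ge _ _ h

theorem encS_lt (s : Finset GolayPt) : encS s < 2 ^ 24 := Nat.ofBits_lt_two_pow _

theorem enc_lt (w : GolayPt → ZMod 2) : enc w < 2 ^ 24 := Nat.ofBits_lt_two_pow _

/-- Two masks agree if they agree at the 24 positions and beyond. -/
theorem mask_ext {a b : ℕ} (h : ∀ p, a.testBit (idx p).val = b.testBit (idx p).val)
    (h' : ∀ i, 24 ≤ i → a.testBit i = b.testBit i) : a = b := by
  apply Nat.eq_of_testBit_eq
  intro i
  by_cases hi : i < 24
  · have := h (pt ⟨i, hi⟩)
    simpa [idx_pt] using this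
  · exact h' i (not_lt.mp hi)

theorem testBit_eq_false_of_lt {n i : ℕ} (hn : n < 2 ^ 24) (hi : 24 ≤ i) : n.testBit i = false :=
  Nat.testBit_lt_two_pow (hn.trans_le (Nat.pow_le_pow_right (by norm_num) hi))

@[simp] theorem decS_encS (s : Finset GolayPt) : decS (encS s) = s := by
  ext p; simp [decS, testBit_encS]

@[simp] theorem dec_enc (w : GolayPt → ZMod 2) : dec (enc w) = w := by
  funext p
  have h : w p = 0 ∨ w p = 1 := by
    generalize w p = a
    revert a
    decide
  rcases h with h | h <;> simp [dec, testBit_enc, h]

theorem encS_decS {n : ℕ} (hn : n < 2 ^ 24) : encS (decS n) = n := by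
  refine mask_ext (fun p => ?_) (fun i hi => ?_)
  · simp [decS, testBit_encS]
  · rw [testBit_encS_ge _ hi, testBit_eq_false_of_lt hn hi]

theorem enc_dec {n : ℕ} (hn : n < 2 ^ 24) : enc (dec n) = n := by
  refine mask_ext (fun p => ?_) (fun i hi => ?_)
  · cases h : n.testBit (idx p).val <;> simp [dec, testBit_enc, h]
  · rw [testBit_enc_ge _ hi, testBit_eq_false_of_lt hn hi]

theorem encS_injective : Function.Injective encS := fun s t h => by
  rw [← decS_encS s, h, decS_encS]

theorem enc_injective : Function.Injective enc := fun s t h => by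
  rw [← dec_enc s, h, dec_enc]

theorem mem_decS {n : ℕ} {p : GolayPt} : p ∈ decS n ↔ n.testBit (idx p).val = true := by
  simp [decS]

theorem enc_eq_encS (w : GolayPt → ZMod 2) : enc w = encS (support₂ w) := by
  refine mask_ext (fun p => ?_) (fun i hi => ?_)
  · rw [testBit_enc, testBit_encS]
    have h : ∀ a : ZMod 2, decide (a = 1) = decide (a ≠ 0) := by decide
    simp only [support₂, Finset.mem_filter, Finset.mem_univ, true_and]
    exact h _
  · rw [testBit_enc_ge _ hi, testBit_encS_ge _ hi]

theorem support₂_dec (n : ℕ) : support₂ (dec n) = decS n := by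
  ext p
  cases h : n.testBit (idx p).val <;> simp [support₂, dec, decS, h]

theorem enc_zero : enc 0 = 0 := by
  refine mask_ext (fun p => ?_) (fun i hi => ?_)
  · simp [testBit_enc]
  · simp [testBit_enc_ge _ hi]

theorem enc_add (v w : GolayPt → ZMod 2) : enc (v + w) = enc v ^^^ enc w := by
  refine mask_ext (fun p => ?_) (fun i hi => ?_)
  · have h : ∀ a b : ZMod 2, decide (a + b = 1) = ((decide (a = 1)) ^^ (decide (b = 1))) := by decide
    rw [Nat.testBit_xor, testBit_enc, testBit_enc, testBit_enc, Pi.add_apply]
    exact h _ _
  · simp [Nat.testBit_xor, testBit_enc_ge _ hi]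

theorem dec_xor (a b : ℕ) : dec (a ^^^ b) = dec a + dec b := by
  funext p
  simp only [dec, Nat.testBit_xor, Pi.add_apply]
  cases a.testBit (idx p).val <;> cases b.testBit (idx p).val <;> decide

theorem dec_zero : dec 0 = 0 := by
  funext p; simp [dec]

theorem encS_empty : encS ∅ = 0 := by
  refine mask_ext (fun p => ?_) (fun i hi => ?_)
  · simp [testBit_encS]
  · simp [testBit_encS_ge _ hi]

theorem encS_symmDiff (s t : Finset GolayPt) : encS (s ∆ t) = encS s ^^^ encS t := by
  refine mask_ext (fun p => ?_) (fun i hi => ?_)
  · by_cases hs : p ∈ s <;> by_cases ht : p ∈ t <;>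
      simp [testBit_encS, Nat.testBit_xor, Finset.mem_symmDiff, hs, ht]
  · simp [Nat.testBit_xor, testBit_encS_ge _ hi]

theorem encS_inter (s t : Finset GolayPt) : encS (s ∩ t) = encS s &&& encS t := by
  refine mask_ext (fun p => ?_) (fun i hi => ?_)
  · simp [testBit_encS]
  · simp [testBit_encS_ge _ hi]

theorem encS_univ : encS (Finset.univ : Finset GolayPt) = 16777215 := by decide +kernel

theorem decS_subset {a b : ℕ} (h : a &&& b = a) : decS a ⊆ decS b := by
  intro p hp
  rw [mem_decS] at hp ⊢
  rw [← h, Nat.testBit_and, Bool.and_eq_true] at hp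
  exact hp.2

theorem subset_iff_and {s t : Finset GolayPt} : s ⊆ t ↔ encS s &&& encS t = encS s := by
  rw [← encS_inter, encS_injective.eq_iff, Finset.inter_eq_left]

/-- Population count of one byte. -/
def popByte (b : ℕ) : ℕ :=
  (fun c => Nat.land (Nat.add c (Nat.shiftRight c 4)) 15)
    ((fun a => Nat.add (Nat.land a 51) (Nat.land (Nat.shiftRight a 2) 51))
      (Nat.sub b (Nat.land (Nat.shiftRight b 1) 85)))

/-- Population count on 24 bits. -/
def popc (n : ℕ) : ℕ :=
  Nat.add (popByte (Nat.land n 255))
    (Nat.add (popByte (Nat.land (Nat.shiftRight n 8) 255)) (popByte (Nat.land (Nat.shiftRight n 16) 255)))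

theorem popByte_eq : ∀ b < 256, popByte b = (List.range 8).countP fun i => b.testBit i := by
  have h : (List.range 256).all
      (fun b => Nat.beq (popByte b) ((List.range 8).countP fun i => b.testBit i)) = true := by
    decide +kernel
  intro b hb
  exact Nat.eq_of_beq_eq_true (List.all_eq_true.mp h b (List.mem_range.mpr hb))

theorem popByte_and (n k : ℕ) :
    popByte (Nat.land (Nat.shiftRight n k) 255) = (List.range 8).countP fun i => n.testBit (k + i) := by
  show popByte ((n >>> k) &&& 255) = _
  rw [popByte_eq _ (Nat.lt_succ_of_le Nat.and_le_right)]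
  apply List.countP_congr
  intro i hi
  have h255 : (255 : ℕ).testBit i = true := by
    have hi' := List.mem_range.mp hi
    interval_cases i <;> decide
  simp [Nat.testBit_and, Nat.testBit_shiftRight, h255]

theorem popc_eq_countP (n : ℕ) : popc n = (List.range 24).countP fun i => n.testBit i := by
  have h0 : popByte (Nat.land n 255) = (List.range 8).countP fun i => n.testBit (0 + i) := by
    rw [← popByte_and n 0]; rfl
  show popByte (Nat.land n 255) + (popByte (Nat.land (Nat.shiftRight n 8) 255) +
    popByte (Nat.land (Nat.shiftRight n 16) 255)) = _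
  rw [h0, popByte_and, popByte_and, show 24 = 8 + (8 + 8) from rfl, List.range_add, List.range_add,
    List.countP_append, List.map_append, List.countP_append, List.countP_map, List.countP_map,
    List.countP_map]
  simp only [Function.comp_def, Nat.zero_add, ← Nat.add_assoc]

theorem popc_encS (s : Finset GolayPt) : popc (encS s) = s.card := by
  have h2 : popc (encS s) = ((Finset.range 24).filter fun i => (encS s).testBit i).card := by
    rw [popc_eq_countP, List.countP_eq_length_filter]
    show _ = Multiset.card _
    simp only [Finset.filter_val, Finset.range_val, ← Multiset.coe_range, Multiset.filter_coe,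
      Multiset.coe_card]
    congr 1
    apply List.filter_congr
    intro i _
    simp
  rw [h2]
  symm
  refine Finset.card_bij (fun p _ => (idx p).val) (fun p hp => ?_) (fun p _ q _ h => ?_)
    (fun i hi => ?_)
  · simp [testBit_encS, hp]
  · exact idx_injective (Fin.ext h)
  · rw [Finset.mem_filter, Finset.mem_range] at hi
    refine ⟨pt ⟨i, hi.1⟩, ?_, by simp [idx_pt]⟩
    have := testBit_encS s (pt ⟨i, hi.1⟩)
    rw [idx_pt] at this
    simpa [hi.2] using this.symm

theorem card_decS {n : ℕ} (hn : n < 2 ^ 24) : (decS n).card = popc n := by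
  rw [← popc_encS, encS_decS hn]

theorem card_support₂ (w : GolayPt → ZMod 2) : (support₂ w).card = popc (enc w) := by
  rw [enc_eq_encS, popc_encS]

/-! ### Xor-spans -/

/-- Xor of the entries of the list selected by the bits of `n`. -/
def spanWord : List ℕ → ℕ → ℕ
  | [], _ => 0
  | g :: gs, n => Nat.xor (Nat.mul g (Nat.land n 1)) (spanWord gs (Nat.shiftRight n 1))

theorem spanWord_cons (g : ℕ) (gs : List ℕ) (n : ℕ) :
    spanWord (g :: gs) n = (bif n.testBit 0 then g else 0) ^^^ spanWord gs (n >>> 1) := by
  show Nat.xor (g * (n &&& 1)) (spanWord gs (n >>> 1)) = _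
  rw [Nat.and_one_is_mod, Nat.testBit_zero]
  rcases Nat.mod_two_eq_zero_or_one n with h | h <;> simp [h] <;> rfl

theorem spanWord_xor (gs : List ℕ) : ∀ a b : ℕ, spanWord gs (a ^^^ b) = spanWord gs a ^^^ spanWord gs b := by
  induction gs with
  | nil => simp [spanWord]
  | cons g gs ih =>
    intro a b
    simp only [spanWord_cons, Nat.testBit_xor, Nat.shiftRight_xor_distrib, ih]
    cases a.testBit 0 <;> cases b.testBit 0 <;>
      simp [Nat.xor_assoc, Nat.xor_comm, Nat.xor_left_comm]

theorem spanWord_zero (gs : List ℕ) : spanWord gs 0 = 0 := by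
  induction gs with
  | nil => rfl
  | cons g gs ih => simp [spanWord_cons, ih]

theorem spanWord_induction {P : ℕ → Prop} (gs : List ℕ) (h0 : P 0)
    (hx : ∀ a b, P a → P b → P (a ^^^ b)) (hg : ∀ g ∈ gs, P g) : ∀ n, P (spanWord gs n) := by
  induction gs with
  | nil => intro n; exact h0
  | cons g gs ih =>
    intro n
    rw [spanWord_cons]
    refine hx _ _ ?_ (ih (fun x hx' => hg x (List.mem_cons_of_mem _ hx')) _)
    cases n.testBit 0
    · exact h0
    · exact hg g List.mem_cons_self

theorem spanWord_two_pow (gs : List ℕ) : ∀ i : ℕ, spanWord gs (2 ^ i) = gs.getD i 0 := by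
  induction gs with
  | nil => simp [spanWord]
  | cons g gs ih =>
    intro i
    cases i with
    | zero => simp [spanWord_cons, spanWord_zero]
    | succ i =>
      have h0 : (2 ^ (i + 1)).testBit 0 = false := by simp [Nat.testBit_two_pow]
      have h1 : (2 ^ (i + 1)) >>> 1 = 2 ^ i := by
        rw [Nat.shiftRight_eq_div_pow, pow_one, pow_succ, Nat.mul_div_cancel _ (by norm_num)]
      simp [spanWord_cons, h0, h1, ih]

/-! ### Permutations as lists -/

/-- The list of images of the 24 positions. -/
def toList (σ : Equiv.Perm GolayPt) : List ℕ := List.ofFn fun i => (idx (σ (pt i))).val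

/-- Composition of image lists. -/
def comp (a b : List ℕ) : List ℕ := b.map fun i => a.getD i 0

/-- Image of a mask under an image list. -/
def pmap (l : List ℕ) (n : ℕ) : ℕ := spanWord (l.map (2 ^ ·)) n

theorem toList_length (σ : Equiv.Perm GolayPt) : (toList σ).length = 24 := by
  unfold toList
  exact List.length_ofFn

theorem toList_getElem (σ : Equiv.Perm GolayPt) (i : ℕ) (h : i < (toList σ).length) :
    (toList σ)[i] = (idx (σ (pt ⟨i, (toList_length σ) ▸ h⟩))).val := by
  show (List.ofFn fun j => (idx (σ (pt j))).val)[i]'h = _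
  exact List.getElem_ofFn ..

theorem toList_getD (σ : Equiv.Perm GolayPt) (p : GolayPt) :
    (toList σ).getD (idx p).val 0 = (idx (σ p)).val := by
  rw [List.getD_eq_getElem _ _ (by rw [toList_length]; exact (idx p).isLt), toList_getElem]
  simp only [Fin.eta, pt_idx]

theorem toList_injective : Function.Injective toList := by
  intro σ τ h
  ext1 p
  apply idx_injective
  apply Fin.ext
  rw [← toList_getD σ p, h, toList_getD]

theorem toList_mul (σ τ : Equiv.Perm GolayPt) :
    toList (σ * τ) = comp (toList σ) (toList τ) := by
  apply List.ext_getElem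
  · simp only [comp, List.length_map, toList_length]
  · intro i h1 h2
    simp only [comp, List.getElem_map]
    rw [toList_getElem, toList_getElem, toList_getD]
    rfl

theorem toList_one : toList 1 = List.range 24 := by decide +kernel

theorem encS_insert {a : GolayPt} {s : Finset GolayPt} (h : a ∉ s) :
    encS (insert a s) = 2 ^ (idx a).val ^^^ encS s := by
  refine mask_ext (fun p => ?_) (fun i hi => ?_)
  · rw [Nat.testBit_xor, testBit_encS, testBit_encS, Nat.testBit_two_pow]
    by_cases hp : p = a
    · subst hp; simp [h]
    · have : (idx a).val ≠ (idx p).val := fun e => hp (idx_injective (Fin.ext e.symm))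
      simp [this, hp]
  · have hlt := (idx a).isLt
    have : (idx a).val ≠ i := by omega
    rw [Nat.testBit_xor, testBit_encS_ge _ hi, testBit_encS_ge _ hi, Nat.testBit_two_pow]
    simp [this]

/-- Image lists act on masks as permutations act on sets. -/
theorem encS_smul (σ : Equiv.Perm GolayPt) (s : Finset GolayPt) :
    encS (σ • s) = pmap (toList σ) (encS s) := by
  induction s using Finset.induction_on with
  | empty => simp [encS_empty, pmap, spanWord_zero]
  | @insert a s ha ih =>
    have h1 : σ a ∉ σ • s := by
      intro h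
      rw [← Equiv.Perm.smul_def, Finset.smul_mem_smul_finset_iff] at h
      exact ha h
    rw [Finset.smul_finset_insert, Equiv.Perm.smul_def, encS_insert h1, ih, encS_insert ha]
    unfold pmap
    rw [spanWord_xor, spanWord_two_pow]
    congr 1
    have hlen : (idx a).val < (toList σ).length := by rw [toList_length]; exact (idx a).isLt
    rw [List.getD_eq_getElem _ _ (by simpa using hlen), List.getElem_map,
      ← List.getD_eq_getElem _ 0 hlen, toList_getD]

theorem smul_decS (σ : Equiv.Perm GolayPt) {n : ℕ} (hn : n < 2 ^ 24) :
    σ • decS n = decS (pmap (toList σ) n) := by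
  apply encS_injective
  have h : pmap (toList σ) n = encS (σ • decS n) := by rw [encS_smul, encS_decS hn]
  rw [h, decS_encS]

end CfsgLib.Golay
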