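import Cfsg.Agent.Lib.Golay.OrbitBases
import Cfsg.Agent.Lib.Golay.OrbitDataPair

/-!
# Checked orbit tables (Pair)
-/

set_option autoImplicit false
set_option maxRecDepth 20000

namespace CfsgLib.Golay

open Cfsg
open scoped Pointwise

theorem gensPair_ok : gensOK fixPair gensPair = true := by decide +kernel

theorem gensPair_spec : ∀ l ∈ gensPair, ∃ g : M24, toList (g : Equiv.Perm GolayPt) = l ∧ g • basePair = basePair :=
  exists_gen fixPair_spec gensPair_ok

theorem classesPairSext_ok :
    orbitsOK sextK.W sextK.key invPairSext.kφ sextK.step gensPair (unpackClasses classesPairSext) = true := by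
  decide +kernel

theorem orbitsPairSext : HasOrbits sextets basePair [396, 495, 880] :=
  invPairSext.hasOrbits gensPair_spec classesPairSext_ok

end CfsgLib.Golay
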