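import Cfsg.Agent.Lib.Golay.OrbitBases
import Cfsg.Agent.Lib.Golay.OrbitDataSext

/-!
# Checked orbit tables (Sext)
-/

set_option autoImplicit false
set_option maxRecDepth 20000

namespace CfsgLib.Golay

open Cfsg
open scoped Pointwise

theorem gensSext_ok : gensOK fixSext gensSext = true := by decide +kernel

theorem gensSext_spec : ∀ l ∈ gensSext, ∃ g : M24, toList (g : Equiv.Perm GolayPt) = l ∧ g • baseSextet = baseSextet :=
  exists_gen fixSext_spec gensSext_ok

theorem classesSextOct_ok :
    orbitsOK octK.W octK.key invSextOct.kφ octK.step gensSext (unpackClasses classesSextOct) = true := by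
  decide +kernel

theorem orbitsSextOct : HasOrbits octads baseSextet [15, 360, 384] :=
  invSextOct.hasOrbits gensSext_spec classesSextOct_ok

theorem classesSextTrio_ok :
    orbitsOK trioK.W trioK.key invSextTrio.kφ trioK.step gensSext (unpackClasses classesSextTrio) = true := by
  decide +kernel

theorem orbitsSextTrio : HasOrbits trios baseSextet [15, 180, 720, 2880] :=
  invSextTrio.hasOrbits gensSext_spec classesSextTrio_ok

end CfsgLib.Golay
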