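import Cfsg.Agent.Lib.Golay.OrbitBases
import Cfsg.Agent.Lib.Golay.OrbitDataThree

/-!
# Checked orbit tables (Three)
-/

set_option autoImplicit false
set_option maxRecDepth 20000

namespace CfsgLib.Golay

open Cfsg
open scoped Pointwise

theorem gensThree_ok : gensOK fixTriple gensThree = true := by decide +kernel

theorem gensThree_spec : ∀ l ∈ gensThree, ∃ g : M24, toList (g : Equiv.Perm GolayPt) = l ∧ g • (decS baseTriple) = (decS baseTriple) :=
  exists_gen fixTriple_spec gensThree_ok

theorem classesThreeSext_ok :
    orbitsOK sextK.W sextK.key invTripleSext.kφ sextK.step gensThree (unpackClasses classesThreeSext) = true := by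
  decide +kernel

theorem orbitsThreeSext : HasOrbits sextets (decS baseTriple) [21, 630, 1120] :=
  invTripleSext.hasOrbits gensThree_spec classesThreeSext_ok

end CfsgLib.Golay
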