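import Cfsg.Agent.Lib.Golay.OrbitBases
import Cfsg.Agent.Lib.Golay.OrbitDataTrio

/-!
# Checked orbit tables (Trio)
-/

set_option autoImplicit false
set_option maxRecDepth 20000

namespace CfsgLib.Golay

open Cfsg
open scoped Pointwise

theorem gensTrio_ok : gensOK fixTrio gensTrio = true := by decide +kernel

theorem gensTrio_spec : ∀ l ∈ gensTrio, ∃ g : M24, toList (g : Equiv.Perm GolayPt) = l ∧ g • baseTrio = baseTrio :=
  exists_gen fixTrio_spec gensTrio_ok

theorem classesTrioOct_ok :
    orbitsOK octK.W octK.key invTrioOct.kφ octK.step gensTrio (unpackClasses classesTrioOct) = true := by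
  decide +kernel

theorem orbitsTrioOct : HasOrbits octads baseTrio [3, 84, 672] :=
  invTrioOct.hasOrbits gensTrio_spec classesTrioOct_ok

theorem classesTrioSext_ok :
    orbitsOK sextK.W sextK.key invTrioSext.kφ sextK.step gensTrio (unpackClasses classesTrioSext) = true := by
  decide +kernel

theorem orbitsTrioSext : HasOrbits sextets baseTrio [7, 84, 336, 1344] :=
  invTrioSext.hasOrbits gensTrio_spec classesTrioSext_ok

end CfsgLib.Golay
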