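import Cfsg.Agent.Lib.Golay.OrbitTableOct
import Cfsg.Agent.Lib.Golay.OrbitTableSext
import Cfsg.Agent.Lib.Golay.OrbitTableTrio
import Cfsg.Agent.Lib.Golay.OrbitTableThree
import Cfsg.Agent.Lib.Golay.OrbitTablePair

/-!
# Orbits and stabilisers of octads, sextets, trios, triples and dodecad pairs in `M24`
-/

set_option autoImplicit false
set_option maxRecDepth 20000

namespace CfsgLib.Golay

open Cfsg
open scoped Pointwise

theorem exists_m24_smul {α : Type*} [MulAction (Equiv.Perm GolayPt) α] {a b : α}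
    (h : ∃ g ∈ M24, g • a = b) : ∃ g : M24, g • a = b := by
  obtain ⟨g, hg, hgab⟩ := h
  exact ⟨⟨g, hg⟩, hgab⟩

/-- What a checked table says about one class. -/
theorem Invariant.class_facts {α β : Type*} [MulAction M24 α] [MulAction M24 β] {U : Set α} {K : Keyed α U}
    {base : β} (I : Invariant K base) {gens : List (List ℕ)}
    (hgens : ∀ l ∈ gens, ∃ g : M24, toList (g : Equiv.Perm GolayPt) = l ∧ g • base = base)
    {classes : List (ℕ × ℕ × ℕ × List (ℕ × ℕ × ℕ))}
    (h : orbitsOK K.W K.key I.kφ K.step gens classes = true) {c n : ℕ}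
    (hcn : (c, n) ∈ classes.map fun d => (d.1, d.2.1)) :
    {X | X ∈ U ∧ I.φ X = c}.ncard = n ∧
      ∀ X Y, X ∈ U → Y ∈ U → I.φ X = c → I.φ Y = c → ∃ g : M24, g • base = base ∧ g • X = Y := by
  obtain ⟨d, hd, hdc⟩ := List.mem_map.mp hcn
  obtain ⟨rfl, rfl⟩ := Prod.ext_iff.mp hdc
  simp only [orbitsOK, Bool.and_eq_true, List.all_eq_true] at h
  obtain ⟨hrep, heq, hn⟩ := I.orbit_eq hgens (h.1 d hd)
  refine ⟨heq ▸ hn, fun X Y hX hY hXc hYc => ?_⟩
  have hX' : X ∈ MulAction.orbit ↥(MulAction.stabilizer M24 base) (K.dec d.2.2.1) := by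
    rw [heq]; exact ⟨hX, hXc⟩
  have hY' : Y ∈ MulAction.orbit ↥(MulAction.stabilizer M24 base) (K.dec d.2.2.1) := by
    rw [heq]; exact ⟨hY, hYc⟩
  obtain ⟨u, hu⟩ := hX'
  obtain ⟨v, hv⟩ := hY'
  refine ⟨(v : M24) * (u : M24)⁻¹, ?_, ?_⟩
  · have hu2 : (u : M24) • base = base := u.2
    have hv2 : (v : M24) • base = base := v.2
    rw [mul_smul, inv_smul_eq_iff.mpr hu2.symm, hv2]
  · rw [← hu, ← hv]
    show ((v : M24) * (u : M24)⁻¹) • (u : M24) • K.dec d.2.2.1 = (v : M24) • K.dec d.2.2.1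
    rw [← mul_smul, inv_mul_cancel_right]

/-- Trios are conjugate. -/
theorem exists_smul_trio_eq {T T' : Finset (Finset GolayPt)} (hT : T ∈ trios) (hT' : T' ∈ trios) :
    ∃ g : M24, g • T = T' := by
  have key : ∀ T ∈ trios, ∃ g : M24, ∃ S ∈ trios, g • T = S ∧ invOctTrio.φ S = 2 := by
    intro T hT
    obtain ⟨o, ho⟩ := Finset.card_pos.mp (by rw [hT.1]; norm_num : 0 < T.card)
    obtain ⟨g, hg⟩ := exists_m24_smul (exists_smul_octad_eq (hT.2.1 o ho) baseOctad_mem)
    refine ⟨g, g • T, smul_mem_trios g.2 hT, rfl, ?_⟩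
    have hS : g • T ∈ trios := smul_mem_trios g.2 hT
    have hb : baseOctad ∈ g • T := hg ▸ Finset.smul_mem_smul_finset ho
    show disjCount baseOctad (g • T) = 2
    unfold disjCount
    have : (g • T).filter (fun o' => Disjoint baseOctad o') = (g • T).erase baseOctad := by
      ext x
      rw [Finset.mem_filter, Finset.mem_erase]
      constructor
      · rintro ⟨h1, h2⟩
        refine ⟨?_, h1⟩
        rintro rfl
        rw [disjoint_self] at h2
        have := card_of_mem_octads baseOctad_mem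
        rw [h2] at this
        simp at this
      · rintro ⟨h1, h2⟩
        exact ⟨h2, hS.2.2 _ hb _ h2 (Ne.symm h1)⟩
    rw [this, Finset.card_erase_of_mem hb, hS.1]
  obtain ⟨g, S, hS, rfl, hc⟩ := key T hT
  obtain ⟨g', S', hS', rfl, hc'⟩ := key T' hT'
  obtain ⟨h, -, hh⟩ := (invOctTrio.class_facts gensOct_spec classesOctTrio_ok (c := 2) (n := 15)
    (by decide +kernel)).2 _ _ hS hS' hc hc'
  exact ⟨g'⁻¹ * h * g, by rw [mul_smul, mul_smul, hh, inv_smul_smul]⟩

/-- Any 3-set is conjugate to the reference triple. -/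
theorem exists_smul_baseTriple {Y : Finset GolayPt} (hY : Y.card = 3) :
    ∃ g : M24, g • decS baseTriple = Y := by
  have hb : (decS baseTriple).card = 3 := by decide +kernel
  obtain ⟨g, hg, hgt⟩ := exists_map_eq (decS baseTriple).nodup_toList Y.nodup_toList
    (by simp [hY, hb]) (by simp [hb])
  refine ⟨⟨g, hg⟩, ?_⟩
  show g • decS baseTriple = Y
  ext p
  rw [Finset.mem_smul_finset, ← Finset.mem_toList, ← hgt, List.mem_map]
  simp [Equiv.Perm.smul_def]

/-! ### Orbits, at every base -/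

theorem octads_smul_mem (g : M24) (X : Finset GolayPt) (hX : X ∈ octads) : g • X ∈ octads := smul_mem_octads g.2 hX

theorem sextets_smul_mem (g : M24) (X : Finset (Finset GolayPt)) (hX : X ∈ sextets) : g • X ∈ sextets :=
  smul_mem_sextets g.2 hX

theorem trios_smul_mem (g : M24) (X : Finset (Finset GolayPt)) (hX : X ∈ trios) : g • X ∈ trios :=
  smul_mem_trios g.2 hX

/-- An octad stabiliser on trios and on sextets. -/
theorem octad_orbits {o : Finset GolayPt} (ho : o ∈ octads) :
    HasOrbits trios o [15, 420, 3360] ∧ HasOrbits sextets o [35, 840, 896] := by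
  obtain ⟨g, rfl⟩ := exists_m24_smul (exists_smul_baseOctad_eq ho)
  exact ⟨orbitsOctTrio.smul trios_smul_mem g, orbitsOctSext.smul sextets_smul_mem g⟩

/-- A sextet stabiliser on octads and on trios. -/
theorem sextet_orbits {S : Finset (Finset GolayPt)} (hS : S ∈ sextets) :
    HasOrbits octads S [15, 360, 384] ∧ HasOrbits trios S [15, 180, 720, 2880] := by
  obtain ⟨g, rfl⟩ := exists_m24_smul (exists_smul_sextet_eq (sextetOfKey_mem baseSextetKey_mem) hS)
  exact ⟨orbitsSextOct.smul octads_smul_mem g, orbitsSextTrio.smul trios_smul_mem g⟩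

/-- A trio stabiliser on octads and on sextets. -/
theorem trio_orbits {T : Finset (Finset GolayPt)} (hT : T ∈ trios) :
    HasOrbits octads T [3, 84, 672] ∧ HasOrbits sextets T [7, 84, 336, 1344] := by
  obtain ⟨g, rfl⟩ := exists_smul_trio_eq (trioOf_mem baseTrioPos_lt) hT
  exact ⟨orbitsTrioOct.smul octads_smul_mem g, orbitsTrioSext.smul sextets_smul_mem g⟩

theorem decS_baseDod : decS baseDod = baseDodecad := rfl

/-- The stabiliser of a complementary pair of dodecads on sextets. -/
theorem pair_orbits {d : Finset GolayPt} (hd : d ∈ dodecads) :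
    HasOrbits sextets ({d, Finset.univ \ d} : Finset (Finset GolayPt)) [396, 495, 880] := by
  obtain ⟨g, hg⟩ := exists_m24_smul (exists_smul_baseDodecad_eq hd)
  have h : g • basePair = {d, Finset.univ \ d} := by
    show (g : Equiv.Perm GolayPt) • basePair = _
    rw [basePair, Finset.smul_finset_insert, Finset.smul_finset_singleton, ← Finset.compl_eq_univ_sdiff,
      smul_compl, decS_baseDod]
    have hg' : (g : Equiv.Perm GolayPt) • baseDodecad = d := hg
    rw [hg', Finset.compl_eq_univ_sdiff]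
  exact h ▸ orbitsPairSext.smul sextets_smul_mem g

/-- A 3-set stabiliser on sextets. -/
theorem triple_classes {Y : Finset GolayPt} (hY : Y.card = 3) {c n : ℕ}
    (hcn : (c, n) ∈ [(1, 21), (2, 630), (3, 1120)]) :
    {S | S ∈ sextets ∧ meetCount Y S = c}.ncard = n ∧
      ∀ S S', S ∈ sextets → S' ∈ sextets → meetCount Y S = c → meetCount Y S' = c →
        ∃ g : M24, g • Y = Y ∧ g • S = S' := by
  obtain ⟨g, rfl⟩ := exists_smul_baseTriple hY
  obtain ⟨h1, h2⟩ := invTripleSext.class_facts gensThree_spec classesThreeSext_ok (c := c) (n := n)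
    ((by decide +kernel : ∀ p ∈ [(1, 21), (2, 630), (3, 1120)],
      p ∈ (unpackClasses classesThreeSext).map fun d => (d.1, d.2.1)) _ hcn)
  have hφ : ∀ S, meetCount (g • decS baseTriple) (g • S) = invTripleSext.φ S := fun S =>
    meetCount_smul (g : Equiv.Perm GolayPt) (decS baseTriple) S
  constructor
  · have : {S | S ∈ sextets ∧ meetCount (g • decS baseTriple) S = c} =
        (g • ·) '' {S | S ∈ sextets ∧ invTripleSext.φ S = c} := by
      ext S
      constructor
      · rintro ⟨hS, hc⟩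
        refine ⟨g⁻¹ • S, ⟨sextets_smul_mem _ _ hS, ?_⟩, smul_inv_smul g S⟩
        rw [← hφ, smul_inv_smul, hc]
      · rintro ⟨S', ⟨hS', hc⟩, rfl⟩
        exact ⟨sextets_smul_mem _ _ hS', (hφ S').trans hc⟩
    rw [this, Set.ncard_image_of_injective _ (MulAction.injective g), h1]
  · intro S S' hS hS' hc hc'
    obtain ⟨u, hu1, hu2⟩ := h2 (g⁻¹ • S) (g⁻¹ • S') (sextets_smul_mem _ _ hS) (sextets_smul_mem _ _ hS')
      (by rw [← hφ, smul_inv_smul, hc]) (by rw [← hφ, smul_inv_smul, hc'])
    refine ⟨g * u * g⁻¹, ?_, ?_⟩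
    · rw [mul_smul, mul_smul, inv_smul_smul, hu1]
    · rw [mul_smul, mul_smul, hu2, smul_inv_smul]

theorem meetCount_triple_values {Y : Finset GolayPt} (hY : Y.card = 3) {S : Finset (Finset GolayPt)}
    (hS : S ∈ sextets) : meetCount Y S = 1 ∨ meetCount Y S = 2 ∨ meetCount Y S = 3 := by
  obtain ⟨g, rfl⟩ := exists_smul_baseTriple hY
  have h := classesThreeSext_ok
  simp only [orbitsOK, Bool.and_eq_true, List.all_eq_true] at h
  obtain ⟨k, hk, hkS⟩ := sextK.eq_image.le (sextets_smul_mem g⁻¹ S hS)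
  obtain ⟨e, he, rfl⟩ := List.mem_map.mp hk
  have h2 := h.2 e he
  rw [List.any_eq_true] at h2
  obtain ⟨d, hd, hde⟩ := h2
  have h3 : meetCount (g • decS baseTriple) S = d.1 := by
    have := meetCount_smul (g : Equiv.Perm GolayPt) (decS baseTriple) (g⁻¹ • S)
    rw [show (g : Equiv.Perm GolayPt) • g⁻¹ • S = S from smul_inv_smul g S] at this
    refine this.trans ?_
    rw [← hkS]
    exact (invTripleSext.spec e he).trans (Nat.eq_of_beq_eq_true hde)
  have hvals : ∀ d ∈ unpackClasses classesThreeSext, d.1 = 1 ∨ d.1 = 2 ∨ d.1 = 3 := by decide +kernel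
  rcases hvals d hd with h' | h' | h' <;> simp [h3, h']

/-! ### Two octads -/

/-- The order of the stabiliser in a group action. -/
theorem natCard_orbit_mul {G α : Type*} [Group G] [MulAction G α] (a : α) :
    (MulAction.orbit G a).ncard * Nat.card (MulAction.stabilizer G a) = Nat.card G := by
  rw [← MulAction.index_stabilizer, Subgroup.index_mul_card]

/-- The stabiliser of an octad has order 322560. -/
theorem natCard_stabilizer_octad {o : Finset GolayPt} (ho : o ∈ octads) :
    Nat.card (MulAction.stabilizer M24 o) = 322560 := by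
  have horb : MulAction.orbit M24 o = octads := by
    ext e
    rw [MulAction.mem_orbit_iff]
    exact ⟨fun ⟨g, hg⟩ => hg ▸ octads_smul_mem g o ho, fun he => exists_m24_smul (exists_smul_octad_eq ho he)⟩
  have h := natCard_orbit_mul (G := M24) o
  rw [horb, ncard_octads, natCard_M24] at h
  omega

theorem orbit_stabilizer_octad {o o' : Finset GolayPt} (ho : o ∈ octads) (ho' : o' ∈ octads) :
    MulAction.orbit ↥(MulAction.stabilizer M24 o) o' = {X | X ∈ octads ∧ (o ∩ X).card = (o ∩ o').card} ∧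
      ((o ∩ o').card = 0 → (MulAction.orbit ↥(MulAction.stabilizer M24 o) o').ncard = 30) ∧
      ((o ∩ o').card = 4 → (MulAction.orbit ↥(MulAction.stabilizer M24 o) o').ncard = 280) ∧
      ((o ∩ o').card = 2 → (MulAction.orbit ↥(MulAction.stabilizer M24 o) o').ncard = 448) := by
  obtain ⟨g, rfl⟩ := exists_m24_smul (exists_smul_baseOctad_eq ho)
  have hφ : ∀ X : Finset GolayPt, (g • baseOctad ∩ g • X).card = invOctOct.φ X := fun X => by
    show ((g : Equiv.Perm GolayPt) • baseOctad ∩ (g : Equiv.Perm GolayPt) • X).card = _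
    rw [← Finset.smul_finset_inter, Finset.card_smul_finset]
    rfl
  set o₁ := g⁻¹ • o' with ho₁
  have ho₁' : o₁ ∈ octads := octads_smul_mem _ _ ho'
  have hgo : g • o₁ = o' := smul_inv_smul g o'
  have hc : (g • baseOctad ∩ o').card = invOctOct.φ o₁ := by rw [← hgo, hφ]
  have hall : ∃ n, (invOctOct.φ o₁, n) ∈ (unpackClasses classesOctOct).map fun d => (d.1, d.2.1) := by
    have h := classesOctOct_ok
    simp only [orbitsOK, Bool.and_eq_true, List.all_eq_true] at h
    obtain ⟨k, hk, hke⟩ := octK.eq_image.le ho₁'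
    obtain ⟨e, he, rfl⟩ := List.mem_map.mp hk
    have h2 := h.2 e he
    rw [List.any_eq_true] at h2
    obtain ⟨d, hd, hde⟩ := h2
    refine ⟨d.2.1, List.mem_map.mpr ⟨d, hd, ?_⟩⟩
    rw [← hke, invOctOct.spec e he, Nat.eq_of_beq_eq_true hde]
  obtain ⟨n, hn⟩ := hall
  obtain ⟨h1, h2⟩ := invOctOct.class_facts gensOct_spec classesOctOct_ok hn
  have horb : MulAction.orbit ↥(MulAction.stabilizer M24 (g • baseOctad)) o' =
      {X | X ∈ octads ∧ (g • baseOctad ∩ X).card = (g • baseOctad ∩ o').card} := by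
    ext X
    constructor
    · rintro ⟨u, rfl⟩
      refine ⟨octads_smul_mem _ _ ho', ?_⟩
      show (g • baseOctad ∩ (u : M24) • o').card = _
      refine Eq.trans (congrArg (fun t => (t ∩ (u : M24) • o').card)
        (show (u : M24) • (g • baseOctad) = g • baseOctad from u.2).symm) ?_
      show ((((u : M24) : Equiv.Perm GolayPt) • ((g : Equiv.Perm GolayPt) • baseOctad)) ∩
        ((u : M24) : Equiv.Perm GolayPt) • o').card = _
      rw [← Finset.smul_finset_inter, Finset.card_smul_finset]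
      rfl
    · rintro ⟨hX, hXc⟩
      rw [hc, ← smul_inv_smul g X, hφ] at hXc
      obtain ⟨v, hv1, hv2⟩ := h2 o₁ (g⁻¹ • X) ho₁' (octads_smul_mem _ _ hX) rfl hXc
      refine ⟨⟨g * v * g⁻¹, ?_⟩, ?_⟩
      · rw [MulAction.mem_stabilizer_iff, mul_smul, mul_smul, inv_smul_smul, hv1]
      · show (g * v * g⁻¹) • o' = X
        rw [mul_smul, mul_smul, hv2, smul_inv_smul]
  have hncard : (MulAction.orbit ↥(MulAction.stabilizer M24 (g • baseOctad)) o').ncard = n := by
    rw [horb, hc, ← h1]
    have : {X | X ∈ octads ∧ (g • baseOctad ∩ X).card = invOctOct.φ o₁} =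
        (g • ·) '' {X | X ∈ octads ∧ invOctOct.φ X = invOctOct.φ o₁} := by
      ext X
      constructor
      · rintro ⟨hX, hXc⟩
        refine ⟨g⁻¹ • X, ⟨octads_smul_mem _ _ hX, ?_⟩, smul_inv_smul g X⟩
        rw [← hφ, smul_inv_smul, hXc]
      · rintro ⟨Z, ⟨hZ, hZc⟩, rfl⟩
        exact ⟨octads_smul_mem _ _ hZ, (hφ Z).trans hZc⟩
    rw [this, Set.ncard_image_of_injective _ (MulAction.injective g)]
  have hvals : ∀ p ∈ (unpackClasses classesOctOct).map (fun d => (d.1, d.2.1)),
      (p.1 = 0 → p.2 = 30) ∧ (p.1 = 4 → p.2 = 280) ∧ (p.1 = 2 → p.2 = 448) := by decide +kernel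
  obtain ⟨v0, v4, v2⟩ := hvals _ hn
  rw [hncard, hc] at *
  exact ⟨horb, v0, v4, v2⟩

/-- Orders of the joint stabilisers of two octads. -/
theorem natCard_two_octads {o o' : Finset GolayPt} (ho : o ∈ octads) (ho' : o' ∈ octads) :
    ((o ∩ o').card = 0 → Nat.card ↥(MulAction.stabilizer M24 o ⊓ MulAction.stabilizer M24 o') = 10752) ∧
    ((o ∩ o').card = 4 → Nat.card ↥(MulAction.stabilizer M24 o ⊓ MulAction.stabilizer M24 o') = 1152) ∧
    ((o ∩ o').card = 2 → Nat.card ↥(MulAction.stabilizer M24 o ⊓ MulAction.stabilizer M24 o') = 720) := by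
  obtain ⟨-, h0, h4, h2⟩ := orbit_stabilizer_octad ho ho'
  have hmap : (MulAction.stabilizer ↥(MulAction.stabilizer M24 o) o').map (MulAction.stabilizer M24 o).subtype =
      MulAction.stabilizer M24 o ⊓ MulAction.stabilizer M24 o' := by
    ext x
    simp only [Subgroup.mem_map, Subgroup.mem_inf, MulAction.mem_stabilizer_iff]
    constructor
    · rintro ⟨u, hu, rfl⟩
      exact ⟨u.2, hu⟩
    · rintro ⟨hx, hx'⟩
      exact ⟨⟨x, hx⟩, hx', rfl⟩
  have hcard : Nat.card ↥(MulAction.stabilizer ↥(MulAction.stabilizer M24 o) o') =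
      Nat.card ↥(MulAction.stabilizer M24 o ⊓ MulAction.stabilizer M24 o') := by
    rw [← hmap, Subgroup.card_map_of_injective (Subgroup.subtype_injective _)]
  have h := natCard_orbit_mul (G := ↥(MulAction.stabilizer M24 o)) o'
  rw [hcard, natCard_stabilizer_octad ho] at h
  refine ⟨fun hc => ?_, fun hc => ?_, fun hc => ?_⟩
  · rw [h0 hc] at h; omega
  · rw [h4 hc] at h; omega
  · rw [h2 hc] at h; omega

end CfsgLib.Golay
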