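import Cfsg.Agent.Lib.Golay.OrbitBases
import Cfsg.Agent.Lib.Golay.OrbitDataSext
import Cfsg.Agent.Lib.Golay.OrbitDataTrio
import Cfsg.Agent.Lib.Golay.OrbitDataSextSext
import Cfsg.Agent.Lib.Golay.OrbitDataTrioTrio
import Cfsg.Agent.Lib.Golay.OrbitTableSext
import Cfsg.Agent.Lib.Golay.OrbitTableTrio

/-!
# Stabilisers of sextets and trios on their own kind
-/

set_option autoImplicit false
set_option maxRecDepth 20000

namespace CfsgLib.Golay

open Cfsg
open scoped Pointwise

/-- The sum of the squares of the meets between two families. -/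
def gram (A B : Finset (Finset GolayPt)) : ℕ := ∑ a ∈ A, ∑ b ∈ B, (a ∩ b).card ^ 2

theorem gram_smul (g : Equiv.Perm GolayPt) (A B : Finset (Finset GolayPt)) :
    gram (g • A) (g • B) = gram A B := by
  unfold gram
  simp only [Finset.smul_finset_def (s := A), Finset.smul_finset_def (s := B),
    Finset.sum_image (MulAction.injective g).injOn, ← Finset.smul_finset_inter, Finset.card_smul_finset]

/-- The square of the number of common bits. -/
def meetSq (a b : ℕ) : ℕ := Nat.mul (popc (Nat.land a b)) (popc (Nat.land a b))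

/-- `gram` on lists of masks. -/
def gramL (A B : List ℕ) : ℕ := (A.map fun a => (B.map fun b => meetSq a b).sum).sum

theorem gram_eq {A B : Finset (Finset GolayPt)} {LA LB : List ℕ}
    (hA : (LA.map decS).toFinset = A) (hA' : (LA.map decS).Nodup) (hla : ∀ a ∈ LA, a < 2 ^ 24)
    (hB : (LB.map decS).toFinset = B) (hB' : (LB.map decS).Nodup) (hlb : ∀ b ∈ LB, b < 2 ^ 24) :
    gram A B = gramL LA LB := by
  subst hA hB
  unfold gram gramL
  rw [List.sum_toFinset _ hA', List.map_map]
  refine congrArg List.sum (List.map_congr_left fun a ha => ?_)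
  simp only [Function.comp]
  rw [List.sum_toFinset _ hB', List.map_map]
  refine congrArg List.sum (List.map_congr_left fun b hb => ?_)
  simp only [Function.comp]
  rw [← popc_encS, encS_inter, encS_decS (hla a ha), encS_decS (hlb b hb), pow_two]
  rfl

/-- The three words of a packed trio. -/
def trioWords (e : ℕ) : List ℕ := [codeWord (trioA e), codeWord (trioB e), codeWord (trioC e)]

theorem trioWords_spec {p : ℕ} (hp : p < 3795) :
    ((trioWords (trioAt p)).map decS).toFinset = trioOf p ∧ ((trioWords (trioAt p)).map decS).Nodup ∧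
      ∀ a ∈ trioWords (trioAt p), a < 2 ^ 24 := by
  refine ⟨?_, trio_map_nodup hp, ?_⟩
  · rw [trioOf_eq_toFinset]; rfl
  · intro a ha
    simp only [trioWords, List.mem_cons, List.not_mem_nil, or_false] at ha
    rcases ha with rfl | rfl | rfl <;> exact codeWord_lt _

theorem tets_spec {e : ℕ} (he : e ∈ sextetTab) :
    ((tets e).map decS).toFinset = sextetOfKey (sextetKey e) ∧ ((tets e).map decS).Nodup ∧
      ∀ a ∈ tets e, a < 2 ^ 24 :=
  ⟨tets_toFinset he, tets_map_nodup he, fun _ ha => tets_lt ha⟩

/-- Sextets, under a sextet stabiliser. -/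
noncomputable def invSextSext : Invariant sextK baseSextet where
  φ S := gram baseSextet S
  kφ e := gramL (tets baseSextetEntry) (tets e)
  inv g hg X _ := by
    conv_lhs => rw [← hg]
    exact gram_smul _ _ _
  spec e he := by
    show gram (sextetOfKey baseSextetKey) (sextetOfKey (sextetKey e)) = _
    rw [← baseSextetEntry_spec.2]
    obtain ⟨a1, a2, a3⟩ := tets_spec baseSextetEntry_spec.1
    obtain ⟨b1, b2, b3⟩ := tets_spec he
    exact gram_eq a1 a2 a3 b1 b2 b3

/-- Trios, under a trio stabiliser. -/
def invTrioTrio : Invariant trioK baseTrio where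
  φ T := gram baseTrio T
  kφ p := gramL (trioWords (trioAt baseTrioPos)) (trioWords (trioAt p))
  inv g hg X _ := by
    conv_lhs => rw [← hg]
    exact gram_smul _ _ _
  spec p hp := by
    obtain ⟨a1, a2, a3⟩ := trioWords_spec baseTrioPos_lt
    obtain ⟨b1, b2, b3⟩ := trioWords_spec (List.mem_range.mp hp)
    exact gram_eq a1 a2 a3 b1 b2 b3

/-! ### The checked tables -/

theorem classesSextSext_ok :
    orbitsOK sextK.W sextK.key invSextSext.kφ sextK.step gensSext (unpackClasses classesSextSext) = true := by
  decide +kernel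

theorem orbitsSextSext : HasOrbits sextets baseSextet [1, 90, 240, 1440] :=
  invSextSext.hasOrbits gensSext_spec classesSextSext_ok

theorem classesTrioTrio_ok :
    orbitsOK trioK.W trioK.key invTrioTrio.kφ trioK.step gensTrio (unpackClasses classesTrioTrio) = true := by
  decide +kernel

theorem orbitsTrioTrio : HasOrbits trios baseTrio [1, 42, 56, 1008, 2688] :=
  invTrioTrio.hasOrbits gensTrio_spec classesTrioTrio_ok

end CfsgLib.Golay
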