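import Cfsg.Agent.Lib.Golay.Coatom
import Cfsg.Agent.Lib.Golay.OrbitSelf
import Cfsg.Agent.Lib.Golay.OrbitApps

/-!
# Sextet and trio stabilisers are maximal in `M24`
-/

set_option autoImplicit false
set_option maxRecDepth 20000

namespace CfsgLib.Golay

open Cfsg
open scoped Pointwise

theorem orbit_eq_of_transitive {α : Type*} [MulAction M24 α] {U : Set α} {a : α} (ha : a ∈ U)
    (hmem : ∀ (g : M24) (X : α), X ∈ U → g • X ∈ U) (htr : ∀ X ∈ U, ∃ g : M24, g • a = X) :
    MulAction.orbit M24 a = U :=
  Set.ext fun X => ⟨fun ⟨g, hg⟩ => hg ▸ hmem g a ha, fun hX => htr X hX⟩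

theorem sextet_self_orbits {S : Finset (Finset GolayPt)} (hS : S ∈ sextets) :
    HasOrbits sextets S [1, 90, 240, 1440] := by
  obtain ⟨g, rfl⟩ := exists_m24_smul (exists_smul_sextet_eq (sextetOfKey_mem baseSextetKey_mem) hS)
  exact orbitsSextSext.smul sextets_smul_mem g

/-- The stabiliser of a sextet is maximal. -/
theorem isCoatom_sextet {S : Finset (Finset GolayPt)} (hS : S ∈ sextets) :
    IsCoatom (MulAction.stabilizer M24 S) :=
  (sextet_self_orbits hS).isCoatom (orbit_eq_of_transitive hS sextets_smul_mem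
    fun X hX => exists_m24_smul (exists_smul_sextet_eq hS hX)) ncard_sextets rfl (by norm_num) (by decide +kernel)

theorem trio_self_orbits {T : Finset (Finset GolayPt)} (hT : T ∈ trios) :
    HasOrbits trios T [1, 42, 56, 1008, 2688] := by
  obtain ⟨g, rfl⟩ := exists_smul_trio_eq (trioOf_mem baseTrioPos_lt) hT
  exact orbitsTrioTrio.smul trios_smul_mem g

/-- The stabiliser of a trio is maximal. -/
theorem isCoatom_trio {T : Finset (Finset GolayPt)} (hT : T ∈ trios) :
    IsCoatom (MulAction.stabilizer M24 T) :=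
  (trio_self_orbits hT).isCoatom (orbit_eq_of_transitive hT trios_smul_mem
    fun X hX => exists_smul_trio_eq hT hX) ncard_trios rfl (by norm_num) (by decide +kernel)

end CfsgLib.Golay
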