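import Cfsg.Agent.Lib.Golay.OrbitApps
import Cfsg.Agent.Lib.Golay.TransvectionCentralizer

/-!
# An octad stabiliser as affine maps of the sixteen points outside

The pointwise stabiliser of the octad is the translation group; an element of the stabiliser becomes a
`5 × 5` matrix over two elements, the affine coordinate having index `1`.
-/

set_option autoImplicit false
set_option maxRecDepth 20000

namespace CfsgLib.Golay

open Cfsg
open scoped Pointwise

/-- Four coordinates over two elements. -/
abbrev V4 := Fin 4 → ZMod 2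

/-- The points outside the base octad, in coordinate order. -/
def affPts : List ℕ := [4, 6, 7, 22, 8, 20, 15, 18, 9, 12, 11, 10, 21, 16, 13, 19]

/-- The position of the point with given coordinates. -/
def apt (v : V4) : ℕ :=
  affPts.getD ((if v 0 = 1 then 1 else 0) + (if v 1 = 1 then 2 else 0) + (if v 2 = 1 then 4 else 0) +
    (if v 3 = 1 then 8 else 0)) 0

/-- The point with given coordinates. -/
def affP (v : V4) : GolayPt := pt ⟨Nat.mod (apt v) 24, Nat.mod_lt _ (by norm_num)⟩

/-- The coordinates of a position. -/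
def cIdx (i : ℕ) : V4 := fun j => if (affPts.findIdx (Nat.beq i)).testBit j.val then 1 else 0

/-- The coordinates of a point. -/
def cP (p : GolayPt) : V4 := cIdx (idx p).val

theorem aff_facts : (∀ v : V4, cIdx (apt v) = v ∧ apt v < 24 ∧ Nat.testBit 8536111 (apt v) = false) ∧
    (∀ i : Fin 24, Nat.testBit 8536111 i.val = false → apt (cIdx i.val) = i.val) := by
  decide +kernel

theorem translation_lists : (stab6Lists.all fun l => genOK l) = true ∧
    (∀ v : V4, ∃ l ∈ stab6Lists, ∀ w : V4, l.getD (apt w) 0 = apt (w + v)) ∧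
    (∀ l ∈ stab6Lists, ∀ w : V4, l.getD (apt w) 0 = apt (w + cIdx (l.getD (apt 0) 0))) ∧
    (stab6Lists.all fun l => l == List.range 24 ||
      (List.range 24).all fun i => Nat.testBit 8536111 i || !(Nat.beq (l.getD i 0) i)) = true := by
  decide +kernel

theorem idx_affP (v : V4) : (idx (affP v)).val = apt v := by
  rw [affP, idx_pt]
  exact Nat.mod_eq_of_lt (aff_facts.1 v).2.1

theorem cP_affP (v : V4) : cP (affP v) = v := by rw [cP, idx_affP]; exact (aff_facts.1 v).1

theorem affP_notMem (v : V4) : affP v ∉ baseOctad := by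
  rw [baseOctad, mem_decS, idx_affP, (aff_facts.1 v).2.2]
  simp

theorem affP_cP {p : GolayPt} (hp : p ∉ baseOctad) : affP (cP p) = p := by
  rw [baseOctad, mem_decS, Bool.not_eq_true] at hp
  exact idx_injective (Fin.ext (by rw [idx_affP]; exact aff_facts.2 (idx p) hp))

/-- The octad stabiliser. -/
abbrev octH : Subgroup M24 := MulAction.stabilizer M24 baseOctad

theorem apply_notMem (x : ↥octH) {p : GolayPt} (hp : p ∉ baseOctad) :
    ((x : M24) : Equiv.Perm GolayPt) p ∉ baseOctad := by
  intro h
  refine hp ((Finset.smul_mem_smul_finset_iff ((x : M24) : Equiv.Perm GolayPt)).mp ?_)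
  rw [show ((x : M24) : Equiv.Perm GolayPt) • baseOctad = baseOctad from x.2]
  exact h

/-- The map induced on coordinates. -/
def affMap (x : ↥octH) (w : V4) : V4 := cP (((x : M24) : Equiv.Perm GolayPt) (affP w))

theorem affP_affMap (x : ↥octH) (w : V4) :
    affP (affMap x w) = ((x : M24) : Equiv.Perm GolayPt) (affP w) :=
  affP_cP (apply_notMem x (affP_notMem w))

theorem affMap_mul (x y : ↥octH) (w : V4) : affMap (x * y) w = affMap x (affMap y w) := by
  conv_rhs => rw [affMap, affP_affMap]
  rfl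

theorem affMap_one (w : V4) : affMap 1 w = w := cP_affP w

theorem exists_translation (v : V4) :
    ∃ τ : ↥octH, ((τ : M24) : Equiv.Perm GolayPt) ∈ stdStab 6 ∧ ∀ w, affMap τ w = w + v := by
  obtain ⟨l, hl, hlv⟩ := translation_lists.2.1 v
  obtain ⟨σ, hσ, rfl⟩ := exists_perm (List.all_eq_true.mp translation_lists.1 l hl)
  have hfix : ∀ p ∈ baseOctad, σ p = p := by
    intro p hp
    rw [baseOctad, mem_decS] at hp
    have h1 := List.all_eq_true.mp stab6_facts _ hl
    rw [Bool.and_eq_true] at h1
    have h2 := List.all_eq_true.mp h1.2 (idx p).val (List.mem_range.mpr (idx p).isLt)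
    simp only [hp, Bool.not_true, Bool.false_or] at h2
    have h3 := Nat.eq_of_beq_eq_true h2
    rw [toList_getD] at h3
    exact idx_injective (Fin.ext h3)
  have hstab : (⟨σ, hσ⟩ : M24) • baseOctad = baseOctad := by
    show σ • baseOctad = baseOctad
    refine Finset.eq_of_subset_of_card_le (fun p hp => ?_) (by rw [Finset.card_smul_finset])
    obtain ⟨q, hq, rfl⟩ := Finset.mem_smul_finset.mp hp
    rw [Equiv.Perm.smul_def, hfix q hq]; exact hq
  refine ⟨⟨⟨σ, hσ⟩, hstab⟩, ?_, fun w => ?_⟩
  · show σ ∈ stdStab 6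
    rw [← fixingSubgroup_baseOctad]
    exact ⟨hσ, (mem_fixingSubgroup_iff _).mpr fun p hp => hfix p hp⟩
  · show cP (σ (affP w)) = _
    have h := hlv w
    rw [← idx_affP w, toList_getD] at h
    rw [cP, h]
    exact (aff_facts.1 _).1

theorem exists_of_fixing {τ : ↥octH} (hτ : ((τ : M24) : Equiv.Perm GolayPt) ∈ stdStab 6) :
    ∃ v : V4, ∀ w, affMap τ w = w + v := by
  refine ⟨cIdx ((toList ((τ : M24) : Equiv.Perm GolayPt)).getD (apt 0) 0), fun w => ?_⟩
  have h := translation_lists.2.2.1 _ (toList_mem_stab6 hτ) w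
  show cP (((τ : M24) : Equiv.Perm GolayPt) (affP w)) = _
  rw [← idx_affP w, toList_getD] at h
  rw [cP, h]
  exact (aff_facts.1 _).1

theorem conj_mem_fixing (x : ↥octH) {τ : ↥octH} (hτ : ((τ : M24) : Equiv.Perm GolayPt) ∈ stdStab 6) :
    (((x * τ * x⁻¹ : ↥octH) : M24) : Equiv.Perm GolayPt) ∈ stdStab 6 := by
  rw [← fixingSubgroup_baseOctad] at hτ ⊢
  refine ⟨((x * τ * x⁻¹ : ↥octH) : M24).2, (mem_fixingSubgroup_iff _).mpr fun p hp => ?_⟩
  have hp' : ((((x⁻¹ : ↥octH) : M24)) : Equiv.Perm GolayPt) p ∈ baseOctad := by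
    have e : (((x⁻¹ : ↥octH) : M24) : Equiv.Perm GolayPt) • baseOctad = baseOctad := (x⁻¹).2
    exact (congrArg (fun S => ((((x⁻¹ : ↥octH) : M24)) : Equiv.Perm GolayPt) p ∈ S) e).mp
      (Finset.smul_mem_smul_finset hp)
  have h1 := (mem_fixingSubgroup_iff _).mp hτ.2 _ hp'
  rw [Equiv.Perm.smul_def] at h1
  show ((x : M24) : Equiv.Perm GolayPt) (((τ : M24) : Equiv.Perm GolayPt)
    ((((x⁻¹ : ↥octH) : M24) : Equiv.Perm GolayPt) p)) = p
  rw [h1]
  exact Equiv.apply_symm_apply _ _

theorem add_self_V4 (a : V4) : a + a = 0 := funext fun _ => CharTwo.add_self_eq_zero _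

theorem affMap_add (x : ↥octH) (v w : V4) :
    affMap x (w + v) = affMap x w + (affMap x v + affMap x 0) := by
  obtain ⟨τ, hτ, hτv⟩ := exists_translation v
  obtain ⟨u, hu⟩ := exists_of_fixing (conj_mem_fixing x hτ)
  have key : ∀ w, affMap x (w + v) = affMap x w + u := fun w => by
    rw [← hu, ← hτv, ← affMap_mul, ← affMap_mul, inv_mul_cancel_right]
  have h0 := key 0
  rw [zero_add] at h0
  rw [key, h0]
  have : affMap x 0 + u + affMap x 0 = u := by
    rw [add_comm (affMap x 0) u, add_assoc, add_self_V4, add_zero]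
  rw [this]

/-- The linear part. -/
def linPart (x : ↥octH) : V4 →ₗ[ZMod 2] V4 :=
  (AddMonoidHom.mk' (fun v => affMap x v + affMap x 0) fun v w => by
    show affMap x (v + w) + affMap x 0 = _
    rw [affMap_add]
    abel).toZModLinearMap 2

theorem linPart_apply (x : ↥octH) (v : V4) : linPart x v = affMap x v + affMap x 0 := rfl

/-- The four linear coordinates. -/
def xV : (Fin 5 → ZMod 2) →ₗ[ZMod 2] V4 := LinearMap.funLeft (ZMod 2) (ZMod 2) ![0, 2, 3, 4]

/-- Reassemble. -/
def joinV (u : V4) (t : ZMod 2) : Fin 5 → ZMod 2 := ![u 0, t, u 1, u 2, u 3]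

theorem joinV_add (u u' : V4) (t t' : ZMod 2) : joinV (u + u') (t + t') = joinV u t + joinV u' t' := by
  funext i; fin_cases i <;> rfl

theorem xV_joinV (u : V4) (t : ZMod 2) : xV (joinV u t) = u := by
  funext i; fin_cases i <;> rfl

theorem joinV_xV (f : Fin 5 → ZMod 2) : joinV (xV f) (f 1) = f := by
  funext i; fin_cases i <;> rfl

/-- The affine map as a linear map of five coordinates. -/
def affLin (x : ↥octH) : (Fin 5 → ZMod 2) →ₗ[ZMod 2] (Fin 5 → ZMod 2) :=
  (AddMonoidHom.mk' (fun f => joinV (linPart x (xV f) + f 1 • affMap x 0) (f 1)) fun f g => by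
    show joinV (linPart x (xV (f + g)) + (f + g) 1 • affMap x 0) ((f + g) 1) = _
    rw [← joinV_add, map_add, map_add, Pi.add_apply, add_smul]
    congr 1
    abel).toZModLinearMap 2

theorem affLin_apply (x : ↥octH) (f : Fin 5 → ZMod 2) :
    affLin x f = joinV (linPart x (xV f) + f 1 • affMap x 0) (f 1) := rfl

theorem joinV_one (u : V4) (t : ZMod 2) : joinV u t 1 = t := rfl

theorem affLin_mul (x y : ↥octH) : affLin (x * y) = (affLin x).comp (affLin y) := by
  refine LinearMap.ext fun f => ?_
  rw [LinearMap.comp_apply, affLin_apply, affLin_apply, affLin_apply, xV_joinV, joinV_one, map_add,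
    map_smul]
  congr 1
  simp only [linPart_apply, affMap_mul]
  rw [affMap_add x]
  rcases CfsgLib.Transvection.f2_cases (f 1) with h1 | h1 <;> rw [h1] <;>
    simp only [zero_smul, one_smul, add_zero] <;> funext i <;> simp only [Pi.add_apply] <;>
    rw [← sub_eq_zero] <;> ring_nf <;>
    simp [show (2 : ZMod 2) = 0 from rfl, show (4 : ZMod 2) = 0 from rfl]

theorem affLin_one : affLin 1 = LinearMap.id := by
  refine LinearMap.ext fun f => ?_
  rw [affLin_apply, linPart_apply, affMap_one, affMap_one, smul_zero, add_zero, add_zero, joinV_xV]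
  rfl

/-- The octad stabiliser inside `SL(5, 2)`. -/
noncomputable def affSL : ↥octH →* Matrix.SpecialLinearGroup (Fin 5) (ZMod 2) where
  toFun x := ⟨LinearMap.toMatrix' (affLin x), CfsgLib.Transvection.det_eq_one
    (B := LinearMap.toMatrix' (affLin x⁻¹))
    (by rw [← LinearMap.toMatrix'_comp, ← affLin_mul, mul_inv_cancel, affLin_one, LinearMap.toMatrix'_id])⟩
  map_one' := Subtype.ext (by
    show LinearMap.toMatrix' (affLin 1) = 1
    rw [affLin_one, LinearMap.toMatrix'_id])
  map_mul' x y := Subtype.ext (by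
    show LinearMap.toMatrix' (affLin (x * y)) = LinearMap.toMatrix' (affLin x) * LinearMap.toMatrix' (affLin y)
    rw [affLin_mul, LinearMap.toMatrix'_comp])

theorem third_octad : Nat.testBit 8536111 8 = false ∧ Nat.testBit (codeWord 208) 8 = false ∧
    Nat.land 8536111 (codeWord 208) = 0 ∧ popc (codeWord 208) = 8 := by
  decide +kernel

theorem eq_one_of_fix_outside (x : ↥octH) (h : ∀ p ∉ baseOctad, ((x : M24) : Equiv.Perm GolayPt) p = p) :
    x = 1 := by
  obtain ⟨h8, h8', hdisj, hpop⟩ := third_octad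
  have ho' : codeSet 208 ∈ octads := codeSet_mem_octads (mem_octKeys.mpr ⟨by norm_num, hpop⟩)
  obtain ⟨g, hg, hgo⟩ := exists_smul_baseOctad_eq ho'
  set q : GolayPt := pt ⟨8, by norm_num⟩ with hq
  have hq1 : q ∉ baseOctad := by rw [baseOctad, mem_decS, hq, idx_pt, h8]; simp
  have hq2 : g⁻¹ q ∉ baseOctad := by
    intro hmem
    have : q ∈ g • baseOctad := Finset.mem_smul_finset.mpr ⟨_, hmem, by simp⟩
    rw [hgo, codeSet, mem_decS, hq, idx_pt, h8'] at this
    simp at this
  set σ : Equiv.Perm GolayPt := g⁻¹ * ((x : M24) : Equiv.Perm GolayPt) * g with hσ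
  have hout : ∀ p ∈ baseOctad, g p ∉ baseOctad := by
    intro p hp hb
    have h1 : g p ∈ baseOctad ∩ codeSet 208 :=
      Finset.mem_inter.mpr ⟨hb, hgo ▸ Finset.smul_mem_smul_finset (a := g) hp⟩
    have h2 : encS (baseOctad ∩ codeSet 208) = 0 := by
      rw [encS_inter, encS_codeSet, baseOctad, encS_decS (by norm_num)]
      exact hdisj
    rw [← encS_empty, encS_injective.eq_iff] at h2
    rw [h2] at h1
    simp at h1
  have hfix : ∀ p ∈ baseOctad, σ p = p := fun p hp => by
    rw [hσ, Equiv.Perm.mul_apply, Equiv.Perm.mul_apply, h _ (hout p hp)]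
    simp
  have hσ6 : σ ∈ stdStab 6 := by
    rw [← fixingSubgroup_baseOctad]
    exact Subgroup.mem_inf.mpr ⟨mul_mem (mul_mem (inv_mem hg) (x : M24).2) hg, (mem_fixingSubgroup_iff _).mpr fun p hp => hfix p hp⟩
  have hl := List.all_eq_true.mp translation_lists.2.2.2 _ (toList_mem_stab6 hσ6)
  rw [Bool.or_eq_true, beq_iff_eq] at hl
  rcases hl with hl | hl
  · rw [← toList_one] at hl
    have h1 : σ = 1 := toList_injective hl
    refine Subtype.ext (Subtype.ext ?_)
    have e : ((x : M24) : Equiv.Perm GolayPt) = g * σ * g⁻¹ := by rw [hσ]; group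
    rw [e, h1]
    simp
  · exfalso
    have hσq : σ (g⁻¹ q) = g⁻¹ q := by
      rw [hσ, Equiv.Perm.mul_apply, Equiv.Perm.mul_apply]
      simp [h q hq1]
    have h2 := List.all_eq_true.mp hl (idx (g⁻¹ q)).val (List.mem_range.mpr (idx (g⁻¹ q)).isLt)
    rw [toList_getD, hσq] at h2
    rw [baseOctad, mem_decS, Bool.not_eq_true] at hq2
    rw [Bool.or_eq_true, hq2] at h2
    simp at h2

theorem injective_affSL : Function.Injective affSL := by
  rw [← MonoidHom.ker_eq_bot_iff, eq_bot_iff]
  intro x hx
  rw [Subgroup.mem_bot]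
  have hL : affLin x = LinearMap.id := by
    apply LinearMap.toMatrix'.injective
    rw [LinearMap.toMatrix'_id]
    exact congrArg (fun y : Matrix.SpecialLinearGroup (Fin 5) (ZMod 2) => y.1) (MonoidHom.mem_ker.mp hx)
  have key : ∀ u t, joinV (linPart x u + t • affMap x 0) t = joinV u t := fun u t => by
    have h := LinearMap.congr_fun hL (joinV u t)
    rwa [affLin_apply, xV_joinV, joinV_one] at h
  have h0 : affMap x 0 = 0 := by
    have h := congrArg xV (key 0 1)
    rwa [xV_joinV, xV_joinV, map_zero, zero_add, one_smul] at h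
  have hw : ∀ w, affMap x w = w := fun w => by
    have h := congrArg xV (key w 0)
    rwa [xV_joinV, xV_joinV, zero_smul, add_zero, linPart_apply, h0, add_zero] at h
  refine eq_one_of_fix_outside x fun p hp => ?_
  conv_lhs => rw [← affP_cP hp, ← affP_affMap, hw]
  exact affP_cP hp

/-- A translation, seen in the matrices. -/
def transLin (v : V4) (f : Fin 5 → ZMod 2) : Fin 5 → ZMod 2 := joinV (xV f + f 1 • v) (f 1)

theorem affSL_translation {τ : ↥octH} {v : V4} (h : ∀ w, affMap τ w = w + v) (i j : Fin 5) :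
    (affSL τ).1 i j = transLin v (Pi.single j 1) i := by
  show LinearMap.toMatrix' (affLin τ) i j = _
  rw [LinearMap.toMatrix'_apply]
  have hl : ∀ u, linPart τ u = u := fun u => by
    rw [linPart_apply, h, h, zero_add, add_assoc, add_self_V4, add_zero]
  have e : affLin τ (fun k => if k = j then 1 else 0) = transLin v (fun k => if k = j then 1 else 0) := by
    rw [affLin_apply, hl, h, zero_add]
    rfl
  have e2 : (fun k : Fin 5 => if k = j then (1 : ZMod 2) else 0) = Pi.single j 1 := by
    funext k; simp [Pi.single_apply]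
  rw [e2] at e
  first
    | exact congrFun e i
    | (rw [e2]; exact congrFun e i)

end CfsgLib.Golay
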