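import Cfsg.Agent.Lib.Golay.OrbitApps
import Cfsg.Agent.Lib.Golay.SixPoints

/-!
# Octads meeting a given octad, or through a given triple
-/

set_option autoImplicit false
set_option maxRecDepth 20000

namespace CfsgLib.Golay

open Cfsg
open scoped Pointwise

/-- Keys of octads cutting the reference octad in the given mask. -/
def octCutKeys (m : ℕ) : List ℕ := octKeys.filter fun k => Nat.beq (Nat.land 8536111 (codeWord k)) m

theorem octCut_two : (octCutKeys 3).length = 16 := by decide +kernel

theorem octCut_four : (octCutKeys 15).length = 4 := by decide +kernel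

theorem cutMasks_spec : (Nat.land 8536111 3 == 3 && popc 3 == 2 &&
    (Nat.land 8536111 15 == 15 && popc 15 == 4)) = true := by
  decide +kernel

theorem ncard_octads_cut {s : Finset GolayPt} (hs : s ⊆ baseOctad) :
    {o' : Finset GolayPt | o' ∈ octads ∧ baseOctad ∩ o' = s}.ncard = (octCutKeys (encS s)).length := by
  have hset : {o' : Finset GolayPt | o' ∈ octads ∧ baseOctad ∩ o' = s} =
      codeSet '' {k | k ∈ octCutKeys (encS s)} := by
    ext o'
    simp only [Set.mem_setOf_eq, Set.mem_image, octCutKeys, List.mem_filter]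
    have henc : ∀ k, encS (baseOctad ∩ codeSet k) = Nat.land 8536111 (codeWord k) := fun k => by
      rw [encS_inter, encS_codeSet, baseOctad, encS_decS (by norm_num)]
      rfl
    constructor
    · rintro ⟨ho', rfl⟩
      rw [octads_eq] at ho'
      obtain ⟨k, hk, rfl⟩ := ho'
      exact ⟨k, ⟨hk, by rw [henc]; exact Nat.beq_refl _⟩, rfl⟩
    · rintro ⟨k, ⟨hk, h⟩, rfl⟩
      exact ⟨codeSet_mem_octads hk, encS_injective (by rw [henc]; exact Nat.eq_of_beq_eq_true h)⟩
  rw [hset]
  exact ncard_image_of_nodup ((nodup_of_incr incr_octKeys).filter _)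
    (codeSet_injOn.mono fun k hk => (mem_octKeys.mp (List.mem_filter.mp hk).1).1)

/-- An octad with a small subset is conjugate to any other of the same kind. -/
theorem exists_smul_octad_subset {o o' s s' : Finset GolayPt} (ho : o ∈ octads) (ho' : o' ∈ octads)
    (hs : s ⊆ o) (hs' : s' ⊆ o') (hcard : s.card = s'.card) (h4 : s.card ≤ 4) :
    ∃ g : M24, g • o = o' ∧ g • s = s' := by
  have ho8 := card_of_mem_octads ho
  have ho8' := card_of_mem_octads ho'
  have hext : ∀ {o s : Finset GolayPt}, o.card = 8 → s ⊆ o → s.card ≤ 4 →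
      ∃ t : Finset GolayPt, t ⊆ o ∧ Disjoint s t ∧ t.card = 5 - s.card := by
    intro o s ho hs h4
    obtain ⟨t, ht, htc⟩ := Finset.exists_subset_card_eq (n := 5 - s.card) (s := o \ s)
      (by rw [Finset.card_sdiff_of_subset hs]; omega)
    rw [Finset.subset_sdiff] at ht
    exact ⟨t, ht.1, ht.2.symm, htc⟩
  obtain ⟨t, ht, hd, htc⟩ := hext ho8 hs h4
  obtain ⟨t', ht', hd', htc'⟩ := hext ho8' hs' (hcard ▸ h4)
  have hnd : ∀ s t : Finset GolayPt, Disjoint s t → (s.toList ++ t.toList).Nodup := by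
    intro s t hd
    simp only [List.nodup_append, Finset.nodup_toList, Finset.mem_toList, true_and]
    rintro a ha b hb rfl
    exact Finset.disjoint_left.1 hd ha hb
  obtain ⟨g, hg, hgL⟩ := exists_map_eq (hnd s t hd) (hnd s' t' hd') (by simp [hcard, htc, htc'])
    (by simp [htc]; omega)
  rw [List.map_append] at hgL
  obtain ⟨e1, e2⟩ := List.append_inj hgL (by simp [hcard])
  have him : ∀ (u : Finset GolayPt) (L : List GolayPt), u.toList.map g = L → g • u = L.toFinset := by
    intro u L h
    ext p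
    simp [← h, Finset.mem_smul_finset, Equiv.Perm.smul_def]
  have h1 : g • s = s' := by rw [him s _ e1, Finset.toList_toFinset]
  have h2 : g • t = t' := by rw [him t _ e2, Finset.toList_toFinset]
  refine ⟨⟨g, hg⟩, octad_eq_of_five_le (smul_mem_octads hg ho) ho' ?_, h1⟩
  have hsub : g • (s ∪ t) ⊆ g • o ∩ o' := by
    refine Finset.subset_inter (Finset.smul_finset_subset_smul_finset (Finset.union_subset hs ht)) ?_
    rw [Finset.smul_finset_union, h1, h2]
    exact Finset.union_subset hs' ht'
  have h5 := Finset.card_le_card hsub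
  rw [Finset.card_smul_finset, Finset.card_union_of_disjoint hd, htc] at h5
  show 5 ≤ (g • o ∩ o').card
  omega

/-- The bottom row of the Leech triangle. -/
theorem octad_cut_counts {o s : Finset GolayPt} (ho : o ∈ octads) (hs : s ⊆ o) :
    (s.card = 2 → {o' : Finset GolayPt | o' ∈ octads ∧ o ∩ o' = s}.ncard = 16) ∧
      (s.card = 4 → {o' : Finset GolayPt | o' ∈ octads ∧ o ∩ o' = s}.ncard = 4) := by
  have hm := cutMasks_spec
  simp only [Bool.and_eq_true, beq_iff_eq] at hm
  obtain ⟨⟨hm2, hp2⟩, hm4, hp4⟩ := hm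
  have key : ∀ m : ℕ, m < 2 ^ 24 → Nat.land 8536111 m = m → s.card = popc m → popc m ≤ 4 →
      {o' : Finset GolayPt | o' ∈ octads ∧ o ∩ o' = s}.ncard = (octCutKeys m).length := by
    intro m hm hsub hcard h4
    have hb : decS m ⊆ baseOctad := decS_subset (by rw [← Nat.and_comm]; exact hsub)
    obtain ⟨g, hgo, hgs⟩ := exists_smul_octad_subset baseOctad_mem ho hb hs
      (by rw [card_decS hm, hcard]) (by rw [card_decS hm]; exact h4)
    have hi : ∀ X : Finset GolayPt, g • baseOctad ∩ g • X = g • (baseOctad ∩ X) := fun X =>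
      (Finset.smul_finset_inter (a := (g : Equiv.Perm GolayPt))).symm
    have hset : {o' : Finset GolayPt | o' ∈ octads ∧ o ∩ o' = s} =
        (g • ·) '' {o' : Finset GolayPt | o' ∈ octads ∧ baseOctad ∩ o' = decS m} := by
      subst hgo hgs
      ext o'
      constructor
      · rintro ⟨h1, h2⟩
        refine ⟨g⁻¹ • o', ⟨octads_smul_mem _ _ h1, ?_⟩, smul_inv_smul g o'⟩
        rw [← smul_left_cancel_iff g, ← hi, smul_inv_smul, h2]
      · rintro ⟨X, ⟨h1, h2⟩, rfl⟩
        exact ⟨octads_smul_mem _ _ h1, by rw [hi, h2]⟩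
    rw [hset, Set.ncard_image_of_injective _ (MulAction.injective g), ncard_octads_cut hb, encS_decS hm]
  constructor
  · intro h
    rw [key 3 (by norm_num) hm2 (h.trans hp2.symm) (by omega), octCut_two]
  · intro h
    rw [key 15 (by norm_num) hm4 (h.trans hp4.symm) (by omega), octCut_four]

theorem triple_check : (octKeys.filter fun k => Nat.beq (Nat.land baseTriple (codeWord k)) baseTriple).length = 21 := by
  decide +kernel

/-- Twenty-one octads pass through a triple. -/
theorem ncard_octads_through {T : Finset GolayPt} (hT : T.card = 3) :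
    {o : Finset GolayPt | o ∈ octads ∧ T ⊆ o}.ncard = 21 := by
  obtain ⟨g, rfl⟩ := exists_smul_baseTriple hT
  have hset : {o : Finset GolayPt | o ∈ octads ∧ g • decS baseTriple ⊆ o} =
      (g • ·) '' {o : Finset GolayPt | o ∈ octads ∧ decS baseTriple ⊆ o} := by
    have hi : ∀ X : Finset GolayPt, g • decS baseTriple ⊆ g • X ↔ decS baseTriple ⊆ X := fun X =>
      Finset.smul_finset_subset_smul_finset_iff (a := (g : Equiv.Perm GolayPt))
    ext o
    constructor
    · rintro ⟨h1, h2⟩
      refine ⟨g⁻¹ • o, ⟨octads_smul_mem _ _ h1, ?_⟩, smul_inv_smul g o⟩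
      rwa [← hi, smul_inv_smul]
    · rintro ⟨X, ⟨h1, h2⟩, rfl⟩
      exact ⟨octads_smul_mem _ _ h1, (hi X).mpr h2⟩
  have hkeys : {o : Finset GolayPt | o ∈ octads ∧ decS baseTriple ⊆ o} = codeSet ''
      {k | k ∈ octKeys.filter fun k => Nat.beq (Nat.land baseTriple (codeWord k)) baseTriple} := by
    have henc : encS (decS baseTriple) = baseTriple := encS_decS (show baseTriple < 2 ^ 24 by decide)
    ext o
    simp only [Set.mem_setOf_eq, Set.mem_image, List.mem_filter]
    constructor
    · rintro ⟨ho, hsub⟩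
      rw [octads_eq] at ho
      obtain ⟨k, hk, rfl⟩ := ho
      rw [subset_iff_and, henc, encS_codeSet] at hsub
      refine ⟨k, ⟨hk, ?_⟩, rfl⟩
      rw [show Nat.land baseTriple (codeWord k) = baseTriple from hsub]
      exact Nat.beq_refl _
    · rintro ⟨k, ⟨hk, h⟩, rfl⟩
      refine ⟨codeSet_mem_octads hk, ?_⟩
      rw [subset_iff_and, henc, encS_codeSet]
      exact Nat.eq_of_beq_eq_true h
  rw [hset, Set.ncard_image_of_injective _ (MulAction.injective g), hkeys,
    ncard_image_of_nodup ((nodup_of_incr incr_octKeys).filter _)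
      (codeSet_injOn.mono fun k hk => (mem_octKeys.mp (List.mem_filter.mp hk).1).1)]
  exact triple_check

/-- Triads disjoint from a triad: counts, and transitivity on the two kinds. -/
theorem triad_pairs {T : Finset GolayPt} (hT : T.card = 3) :
    {U : Finset GolayPt | U.card = 3 ∧ Disjoint T U ∧ (∃ o ∈ octads, T ∪ U ⊆ o)}.ncard = 210 ∧
    {U : Finset GolayPt | U.card = 3 ∧ Disjoint T U ∧ ¬ (∃ o ∈ octads, T ∪ U ⊆ o)}.ncard = 1120 ∧
    ∀ U U' : Finset GolayPt, U.card = 3 → U'.card = 3 → Disjoint T U → Disjoint T U' →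
      ((∃ o ∈ octads, T ∪ U ⊆ o) ↔ (∃ o ∈ octads, T ∪ U' ⊆ o)) →
      ∃ g : Equiv.Perm GolayPt, g ∈ M24 ∧ g • T = T ∧ g • U = U' := by
  classical
  set Os : Finset (Finset GolayPt) := Finset.univ.filter fun o => o ∈ octads ∧ T ⊆ o with hOs
  have hOcard : Os.card = 21 := by
    rw [← ncard_octads_through hT, ← Set.ncard_coe_finset, hOs, Finset.coe_filter]
    simp
  have hin : Set.ncard {U : Finset GolayPt | U.card = 3 ∧ Disjoint T U ∧ (∃ o ∈ octads, T ∪ U ⊆ o)} = 210 := by
    have heq : {U : Finset GolayPt | U.card = 3 ∧ Disjoint T U ∧ (∃ o ∈ octads, T ∪ U ⊆ o)} =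
        ↑(Os.biUnion fun o => (o \ T).powersetCard 3) := by
      ext U
      simp only [Set.mem_setOf_eq, Finset.mem_coe, Finset.mem_biUnion, Finset.mem_powersetCard, hOs,
        Finset.mem_filter, Finset.mem_univ, true_and, Finset.union_subset_iff, Finset.subset_sdiff]
      constructor
      · rintro ⟨h1, h2, o, ho, h3, h4⟩
        exact ⟨o, ⟨ho, h3⟩, ⟨h4, h2.symm⟩, h1⟩
      · rintro ⟨o, ⟨ho, h3⟩, ⟨h4, h2⟩, h1⟩
        exact ⟨h1, h2.symm, o, ho, h3, h4⟩
    rw [heq, Set.ncard_coe_finset, Finset.card_biUnion, Finset.sum_congr rfl (g := fun _ => 10),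
      Finset.sum_const, hOcard, smul_eq_mul]
    · intro o ho
      simp only [hOs, Finset.mem_filter] at ho
      rw [Finset.card_powersetCard, Finset.card_sdiff_of_subset ho.2.2, card_of_mem_octads ho.2.1, hT]
      decide
    · intro o ho o' ho' hne
      simp only [hOs, Finset.coe_filter, Set.mem_setOf_eq] at ho ho'
      refine Finset.disjoint_left.2 fun U hU hU' => hne (octad_eq_of_five_le ho.2.1 ho'.2.1 ?_)
      simp only [Finset.mem_powersetCard, Finset.subset_sdiff] at hU hU'
      have hsub : T ∪ U ⊆ o ∩ o' := Finset.subset_inter (Finset.union_subset ho.2.2 hU.1.1)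
        (Finset.union_subset ho'.2.2 hU'.1.1)
      have := Finset.card_le_card hsub
      rw [Finset.card_union_of_disjoint hU.1.2.symm, hT, hU.2] at this
      omega
  refine ⟨hin, ?_, ?_⟩
  · have hall : {U : Finset GolayPt | U.card = 3 ∧ Disjoint T U} = ↑((Tᶜ).powersetCard 3) := by
      ext U
      simp only [Set.mem_setOf_eq, Finset.mem_coe, Finset.mem_powersetCard, Finset.subset_compl_iff_disjoint_right]
      exact ⟨fun h => ⟨h.2.symm, h.1⟩, fun h => ⟨h.2, h.1.symm⟩⟩
    have htot : {U : Finset GolayPt | U.card = 3 ∧ Disjoint T U}.ncard = 1330 := by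
      rw [hall, Set.ncard_coe_finset, Finset.card_powersetCard, Finset.card_compl, card_golayPt, hT]
      decide
    have hd : {U : Finset GolayPt | U.card = 3 ∧ Disjoint T U ∧ ¬ (∃ o ∈ octads, T ∪ U ⊆ o)} =
        {U : Finset GolayPt | U.card = 3 ∧ Disjoint T U} \
          {U : Finset GolayPt | U.card = 3 ∧ Disjoint T U ∧ (∃ o ∈ octads, T ∪ U ⊆ o)} := by
      ext U
      simp only [Set.mem_setOf_eq, Set.mem_diff]
      exact ⟨fun ⟨h1, h2, h3⟩ => ⟨⟨h1, h2⟩, fun h => h3 h.2.2⟩,
        fun ⟨⟨h1, h2⟩, h3⟩ => ⟨h1, h2, fun h => h3 ⟨h1, h2, h⟩⟩⟩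
    have hsub : {U : Finset GolayPt | U.card = 3 ∧ Disjoint T U ∧ (∃ o ∈ octads, T ∪ U ⊆ o)} ⊆
        {U : Finset GolayPt | U.card = 3 ∧ Disjoint T U} := fun U hU => ⟨hU.1, hU.2.1⟩
    rw [hd, Set.ncard_diff hsub (Set.toFinite _), htot, hin]
  · intro U U' hU hU' hd hd' htype
    have hnd : ∀ U : Finset GolayPt, Disjoint T U → (T.toList ++ U.toList).Nodup := by
      intro U hd
      simp only [List.nodup_append, Finset.nodup_toList, Finset.mem_toList, true_and]
      rintro a ha b hb rfl
      exact Finset.disjoint_left.1 hd ha hb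
    have hin' : ∀ U : Finset GolayPt, InOctad (T.toList ++ U.toList) ↔ ∃ o ∈ octads, T ∪ U ⊆ o := by
      intro U
      simp only [InOctad, List.mem_append, Finset.mem_toList, ← Finset.mem_union]
      rfl
    obtain ⟨g, hg, hgL⟩ := exists_map_six (hnd U hd) (hnd U' hd') (by simp [hT, hU]) (by simp [hT, hU'])
      (by rw [hin', hin']; exact htype)
    rw [List.map_append] at hgL
    obtain ⟨e1, e2⟩ := List.append_inj hgL (by simp)
    have him : ∀ (s : Finset GolayPt) (L : List GolayPt), s.toList.map g = L → g • s = L.toFinset := by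
      intro s L h
      ext p
      simp [← h, Finset.mem_smul_finset, Equiv.Perm.smul_def]
    exact ⟨g, hg, by rw [him T _ e1, Finset.toList_toFinset], by rw [him U _ e2, Finset.toList_toFinset]⟩

end CfsgLib.Golay
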