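import Cfsg.Agent.Lib.Golay.OctadAffine
import Cfsg.Agent.Lib.LargeExtra.Singular
import Cfsg.Prelude.Def_MonsterType

/-!
# The centraliser of an octad involution of `M24`

It maps isomorphically onto the centraliser of a transvection in `SL(5, 2)`.
-/

set_option autoImplicit false
set_option maxRecDepth 20000

namespace CfsgLib.Golay

open Cfsg
open scoped Pointwise

/-- The translation by given coordinates. -/
noncomputable def transl (v : V4) : ↥octH := (exists_translation v).choose

theorem transl_mem (v : V4) : ((transl v : M24) : Equiv.Perm GolayPt) ∈ stdStab 6 :=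
  (exists_translation v).choose_spec.1

theorem affMap_transl (v w : V4) : affMap (transl v) w = w + v := (exists_translation v).choose_spec.2 w

theorem eq_of_affMap_eq {x y : ↥octH} (h : ∀ w, affMap x w = affMap y w) : x = y := by
  apply injective_affSL
  refine Subtype.ext ?_
  show LinearMap.toMatrix' (affLin x) = LinearMap.toMatrix' (affLin y)
  congr 1
  refine LinearMap.ext fun f => ?_
  rw [affLin_apply, affLin_apply, linPart_apply, linPart_apply, h, h]

theorem transl_add (v w : V4) : transl (v + w) = transl v * transl w :=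
  eq_of_affMap_eq fun u => by
    rw [affMap_mul, affMap_transl, affMap_transl, affMap_transl]; abel

theorem transl_zero : transl 0 = 1 :=
  eq_of_affMap_eq fun u => by rw [affMap_transl, affMap_one, add_zero]

theorem transl_injective : Function.Injective transl := fun v w h => by
  have := affMap_transl v 0
  rw [h, affMap_transl, zero_add, zero_add] at this
  exact this.symm

theorem exists_eq_transl {τ : ↥octH} (h : ((τ : M24) : Equiv.Perm GolayPt) ∈ stdStab 6) :
    ∃ v, τ = transl v := by
  obtain ⟨v, hv⟩ := exists_of_fixing h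
  exact ⟨v, eq_of_affMap_eq fun w => by rw [hv, affMap_transl]⟩

/-- The first coordinate vector. -/
def e₀ : V4 := ![1, 0, 0, 0]

/-- The reference involution. -/
noncomputable def octInv : M24 := (transl e₀ : M24)

theorem transLin_checks : (∀ p : Fin 5 × Fin 5,
      (transLin e₀ (Pi.single p.2 1) p.1 == if p.1 = p.2 ∨ (p.1 = 0 ∧ p.2 = 1) then 1 else 0) = true) ∧
    (∀ q : V4 × Fin 3 × Fin 3,
      (transLin q.1 (Pi.single (CfsgLib.Transvection.blk q.2.2) 1) (CfsgLib.Transvection.blk q.2.1) ==
        if q.2.1 = q.2.2 then 1 else 0) = true) := by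
  decide +kernel

theorem transLin_facts : (∀ i j : Fin 5, transLin e₀ (Pi.single j 1) i = Matrix.transvection 0 1 (1 : ZMod 2) i j) ∧
    (∀ (v : V4) (i j : Fin 3),
      transLin v (Pi.single (CfsgLib.Transvection.blk j) 1) (CfsgLib.Transvection.blk i) = if i = j then 1 else 0) := by
  refine ⟨fun i j => ?_, fun v i j => beq_iff_eq.mp (transLin_checks.2 (v, i, j))⟩
  rw [beq_iff_eq.mp (transLin_checks.1 (i, j))]
  fin_cases i <;> fin_cases j <;> simp [Matrix.transvection, Matrix.one_apply, Matrix.single_apply]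

theorem e₀_ne : e₀ ≠ 0 := by decide

theorem e₁_ne : (![0, 1, 0, 0] : V4) ≠ 0 := by decide

theorem e₀₁_ne : e₀ + ![0, 1, 0, 0] ≠ 0 := by decide

theorem affSL_octInv : affSL (transl e₀) = CfsgLib.Transvection.s5 :=
  Subtype.ext <| Matrix.ext fun i j => (affSL_translation (affMap_transl e₀) i j).trans (transLin_facts.1 i j)

theorem orderOf_octInv : orderOf octInv = 2 := by
  refine orderOf_eq_prime ?_ ?_
  · have h : transl e₀ * transl e₀ = 1 := by rw [← transl_add, add_self_V4, transl_zero]
    rw [pow_two]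
    exact congrArg Subtype.val h
  · intro h
    have : transl e₀ = transl 0 := by rw [transl_zero]; exact Subtype.ext h
    exact absurd (transl_injective this) (by decide)

theorem apply_fixed_iff {v : V4} (hv : v ≠ 0) (p : GolayPt) :
    ((transl v : M24) : Equiv.Perm GolayPt) p = p ↔ p ∈ baseOctad := by
  have hmem := transl_mem v
  rw [← fixingSubgroup_baseOctad] at hmem
  refine ⟨fun h => ?_, fun hp => (mem_fixingSubgroup_iff _).mp hmem.2 p hp⟩
  by_contra hp
  have h2 := affMap_transl v (cP p)
  rw [affMap, affP_cP hp, h] at h2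
  exact hv (left_eq_add.mp h2)

theorem centralizer_le_octH {v : V4} (hv : v ≠ 0) :
    Subgroup.centralizer ({(transl v : M24)} : Set M24) ≤ octH := by
  intro c hc
  rw [MulAction.mem_stabilizer_iff]
  show (c : Equiv.Perm GolayPt) • baseOctad = baseOctad
  refine Finset.eq_of_subset_of_card_le (fun p hp => ?_) (by rw [Finset.card_smul_finset])
  obtain ⟨q, hq, rfl⟩ := Finset.mem_smul_finset.mp hp
  rw [← apply_fixed_iff hv]
  have h := congrArg (fun g : M24 => (g : Equiv.Perm GolayPt) q) (Subgroup.mem_centralizer_singleton_iff.mp hc)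
  simp only [Subgroup.coe_mul, Equiv.Perm.mul_apply] at h
  rw [(apply_fixed_iff hv q).mpr hq] at h
  exact h.symm

/-- The centraliser inside the octad stabiliser. -/
noncomputable def centHom :
    ↥(Subgroup.centralizer ({octInv} : Set M24)) →* ↥CfsgLib.Transvection.C5 :=
  MonoidHom.codRestrict
    (affSL.comp (Subgroup.inclusion (centralizer_le_octH e₀_ne)))
    CfsgLib.Transvection.C5 fun x => by
      rw [Subgroup.mem_centralizer_singleton_iff]
      show affSL _ * _ = _ * affSL _
      rw [← affSL_octInv, ← map_mul, ← map_mul]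
      exact congrArg affSL (Subtype.ext (Subgroup.mem_centralizer_singleton_iff.mp x.2))

theorem injective_centHom : Function.Injective centHom := fun _ _ h =>
  Subgroup.inclusion_injective _ (injective_affSL (congrArg Subtype.val h))

theorem conj_transl (x : ↥octH) (v : V4) : ∃ w, x * transl v * x⁻¹ = transl w :=
  exists_eq_transl (conj_mem_fixing x (transl_mem v))

/-- The conjugate of the reference translation, as coordinates. -/
noncomputable def conjCoord (x : ↥octH) : V4 := (conj_transl x e₀).choose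

theorem conjCoord_spec (x : ↥octH) : x * transl e₀ * x⁻¹ = transl (conjCoord x) :=
  (conj_transl x e₀).choose_spec

theorem conjCoord_ne_zero (x : ↥octH) : conjCoord x ≠ 0 := by
  intro h
  have h1 := conjCoord_spec x
  rw [h, transl_zero, mul_inv_eq_one] at h1
  have : transl e₀ = transl 0 := by rw [transl_zero]; exact mul_left_cancel (h1.trans (mul_one x).symm)
  exact absurd (transl_injective this) (by decide)

theorem conjCoord_eq_iff (x y : ↥octH) : conjCoord x = conjCoord y ↔
    x⁻¹ * y ∈ (Subgroup.centralizer ({octInv} : Set M24)).subgroupOf octH := by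
  rw [← transl_injective.eq_iff, ← conjCoord_spec, ← conjCoord_spec, Subgroup.mem_subgroupOf,
    Subgroup.mem_centralizer_singleton_iff]
  constructor
  · intro h
    refine congrArg Subtype.val (?_ : (x⁻¹ * y) * transl e₀ = transl e₀ * (x⁻¹ * y))
    calc x⁻¹ * y * transl e₀ = x⁻¹ * (y * transl e₀ * y⁻¹) * y := by group
      _ = x⁻¹ * (x * transl e₀ * x⁻¹) * y := by rw [h]
      _ = transl e₀ * (x⁻¹ * y) := by group
  · intro h
    have h' : (x⁻¹ * y) * transl e₀ = transl e₀ * (x⁻¹ * y) := Subtype.ext h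
    calc x * transl e₀ * x⁻¹ = x * (transl e₀ * (x⁻¹ * y)) * y⁻¹ := by group
      _ = x * ((x⁻¹ * y) * transl e₀) * y⁻¹ := by rw [h']
      _ = y * transl e₀ * y⁻¹ := by group

/-- Cosets of the centraliser to conjugates. -/
noncomputable def cosetCoord :
    ↥octH ⧸ (Subgroup.centralizer ({octInv} : Set M24)).subgroupOf octH → {v : V4 // v ≠ 0} :=
  Quotient.lift (fun x => ⟨conjCoord x, conjCoord_ne_zero x⟩) fun x y h =>
    Subtype.ext ((conjCoord_eq_iff x y).mpr (QuotientGroup.leftRel_apply.mp h))

theorem injective_cosetCoord : Function.Injective cosetCoord := by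
  intro a b
  induction a using QuotientGroup.induction_on with
  | H x => induction b using QuotientGroup.induction_on with
    | H y => exact fun h => QuotientGroup.eq.mpr ((conjCoord_eq_iff x y).mp (congrArg Subtype.val h))

theorem centraliser_facts :
    Function.Bijective centHom ∧ Function.Bijective cosetCoord := by
  set K := (Subgroup.centralizer ({octInv} : Set M24)).subgroupOf octH with hK
  have hKc : Nat.card K = Nat.card ↥(Subgroup.centralizer ({octInv} : Set M24)) :=
    Nat.card_congr (Subgroup.subgroupOfEquivOfLe (centralizer_le_octH e₀_ne)).toEquiv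
  have h15 : Nat.card {v : V4 // v ≠ 0} = 15 := by rw [Nat.card_eq_fintype_card]; rfl
  have hup := Nat.card_le_card_of_injective _ injective_centHom
  rw [CfsgLib.Transvection.natCard_C5] at hup
  have hidx := Nat.card_le_card_of_injective _ injective_cosetCoord
  rw [h15] at hidx
  have hmul := K.index_mul_card
  rw [natCard_stabilizer_octad baseOctad_mem, hKc] at hmul
  rw [← Subgroup.index_eq_card, ← hK] at hidx
  have hc : Nat.card ↥(Subgroup.centralizer ({octInv} : Set M24)) = 21504 := by nlinarith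
  have hi : K.index = 15 := by rw [hc] at hmul; omega
  refine ⟨(Nat.bijective_iff_injective_and_card _).mpr ⟨injective_centHom, by rw [hc, CfsgLib.Transvection.natCard_C5]⟩,
    (Nat.bijective_iff_injective_and_card _).mpr ⟨injective_cosetCoord, by rw [h15, ← Subgroup.index_eq_card]; exact hi⟩⟩

/-- The centraliser is that of a transvection. -/
noncomputable def centEquiv :
    ↥(Subgroup.centralizer ({octInv} : Set M24)) ≃* ↥CfsgLib.Transvection.C5 :=
  MulEquiv.ofBijective centHom centraliser_facts.1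

theorem exists_conj_transl {v : V4} (hv : v ≠ 0) : ∃ x : ↥octH, x * transl e₀ * x⁻¹ = transl v := by
  obtain ⟨q, hq⟩ := centraliser_facts.2.2 ⟨v, hv⟩
  induction q using QuotientGroup.induction_on with
  | H x => exact ⟨x, (conjCoord_spec x).trans (congrArg transl (congrArg Subtype.val hq))⟩

open CfsgLib.Singular39 in
theorem transl_mem_qOf_octInv (v : V4) : (transl v : M24) ∈ qOf octInv := by
  have hc : (transl v : M24) ∈ Subgroup.centralizer ({octInv} : Set M24) := by
    rw [Subgroup.mem_centralizer_singleton_iff]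
    exact congrArg Subtype.val (show transl v * transl e₀ = transl e₀ * transl v by
      rw [← transl_add, ← transl_add, add_comm])
  refine ⟨⟨_, hc⟩, ?_, rfl⟩
  have hmap := CfsgLib.PCore.map_pCore_equiv (p := 2) centEquiv
  have hmem : centEquiv ⟨_, hc⟩ ∈ Cfsg.pCore 2 ↥CfsgLib.Transvection.C5 := by
    rw [CfsgLib.Transvection.pCore_C5, MonoidHom.mem_ker]
    refine Subtype.ext (Matrix.ext fun i j => ?_)
    show (affSL (transl v)).1 (CfsgLib.Transvection.blk i) (CfsgLib.Transvection.blk j) = _
    rw [affSL_translation (affMap_transl v), transLin_facts.2 v i j, Matrix.SpecialLinearGroup.coe_one,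
      Matrix.one_apply]
  rw [← hmap] at hmem
  obtain ⟨y, hy, hye⟩ := hmem
  exact centEquiv.injective hye ▸ hy

open CfsgLib.Singular39 in
theorem transl_mem_qOf_transl {v : V4} (hv : v ≠ 0) (w : V4) :
    (transl w : M24) ∈ qOf (transl v : M24) := by
  obtain ⟨x, hx⟩ := exists_conj_transl hv
  obtain ⟨u, hu⟩ := exists_eq_transl (conj_mem_fixing x⁻¹ (transl_mem w))
  rw [show (transl v : M24) = (x : M24) * octInv * (x : M24)⁻¹ from congrArg Subtype.val hx.symm, qOf_conj]
  refine ⟨(transl u : M24), transl_mem_qOf_octInv u, ?_⟩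
  show ((x * transl u * x⁻¹ : ↥octH) : M24) = _
  rw [← hu]
  congr 1
  group

/-- An involution fixing exactly the points of an octad is conjugate to the reference one. -/
theorem exists_conj_octInv {z : M24} (hz : orderOf z = 2)
    (hfix : (Finset.univ.filter fun p : GolayPt => (z : Equiv.Perm GolayPt) p = p) ∈ octads) :
    ∃ c : M24, c * octInv * c⁻¹ = z := by
  set o := Finset.univ.filter fun p : GolayPt => (z : Equiv.Perm GolayPt) p = p with ho
  obtain ⟨h, hh⟩ := exists_m24_smul (exists_smul_octad_eq hfix baseOctad_mem)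
  set z' := h * z * h⁻¹ with hz'
  have hfix' : ∀ p ∈ baseOctad, (z' : Equiv.Perm GolayPt) p = p := by
    intro p hp
    rw [← hh] at hp
    obtain ⟨q, hq, rfl⟩ := Finset.mem_smul_finset.mp hp
    rw [ho, Finset.mem_filter] at hq
    show (h : Equiv.Perm GolayPt) ((z : Equiv.Perm GolayPt) ((h : Equiv.Perm GolayPt)⁻¹ ((h : Equiv.Perm GolayPt) q))) = _
    simp [hq.2]
    rfl
  have hmem : z' ∈ octH := by
    rw [MulAction.mem_stabilizer_iff, hz', mul_smul, mul_smul, ← hh, inv_smul_smul]
    congr 1
    show (z : Equiv.Perm GolayPt) • o = o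
    refine Finset.eq_of_subset_of_card_le (fun p hp => ?_) (by rw [Finset.card_smul_finset])
    obtain ⟨q, hq, rfl⟩ := Finset.mem_smul_finset.mp hp
    have hq' := hq
    rw [ho, Finset.mem_filter] at hq'
    rw [Equiv.Perm.smul_def, hq'.2]
    exact hq
  obtain ⟨v, hv⟩ := exists_eq_transl (τ := ⟨z', hmem⟩) (by
    rw [← fixingSubgroup_baseOctad]
    exact Subgroup.mem_inf.mpr ⟨z'.2, (mem_fixingSubgroup_iff _).mpr fun p hp => hfix' p hp⟩)
  have hv0 : v ≠ 0 := by
    rintro rfl
    rw [transl_zero] at hv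
    have h1 : z' = 1 := congrArg Subtype.val hv
    rw [hz', mul_inv_eq_one] at h1
    have : z = 1 := mul_left_cancel (h1.trans (mul_one h).symm)
    rw [this, orderOf_one] at hz
    omega
  obtain ⟨x, hx⟩ := exists_conj_transl hv0
  refine ⟨h⁻¹ * (x : M24), ?_⟩
  have hx' : (x : M24) * octInv * (x : M24)⁻¹ = z' := congrArg Subtype.val (hx.trans hv.symm)
  calc h⁻¹ * (x : M24) * octInv * (h⁻¹ * (x : M24))⁻¹ = h⁻¹ * ((x : M24) * octInv * (x : M24)⁻¹) * h := by group
    _ = h⁻¹ * z' * h := by rw [hx']
    _ = z := by rw [hz']; group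

/-- The centraliser of any octad involution is that of a transvection. -/
noncomputable def conjCentEquiv {z c : M24} (hc : c * octInv * c⁻¹ = z) :
    ↥(Subgroup.centralizer ({z} : Set M24)) ≃* ↥CfsgLib.Transvection.C5 :=
  ((MulEquiv.subgroupCongr (by rw [CfsgLib.Singular39.map_conj_centralizer, hc] :
      (Subgroup.centralizer ({octInv} : Set M24)).map (MulAut.conj c).toMonoidHom =
        Subgroup.centralizer ({z} : Set M24))).symm.trans
    ((MulAut.conj c).subgroupMap _).symm).trans centEquiv

open CfsgLib.Singular39 in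
theorem qOf_facts {z c : M24} (hc : c * octInv * c⁻¹ = z) :
    IsExtraspecial 2 ↥(qOf z) ∧ Nat.card ↥(qOf z) = 2 ^ 7 ∧
    (∃ E : Subgroup M24, E ≤ qOf z ∧ IsElementaryAbelian 2 E ∧ Nat.card ↥E = 2 ^ 4) ∧
    IsLargeExtraspecial (qOf z) ∧
    ∃ K : Subgroup M24, K ≤ Subgroup.centralizer ({z} : Set M24) ∧ qOf z ⊓ K = ⊥ ∧
      qOf z ⊔ K = Subgroup.centralizer ({z} : Set M24) ∧
      Nonempty (↥K ≃* Matrix.SpecialLinearGroup (Fin 3) (ZMod 2)) := by
  haveI : Fact (Nat.Prime 2) := ⟨Nat.prime_two⟩
  set C := Subgroup.centralizer ({z} : Set M24) with hC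
  set Ψ := conjCentEquiv hc with hΨ
  have hcore : (Cfsg.pCore 2 ↥C).map Ψ.toMonoidHom = CfsgLib.Transvection.Q5 := by
    rw [CfsgLib.PCore.map_pCore_equiv, CfsgLib.Transvection.pCore_C5]
  have hmemQ : ∀ x : ↥C, (x : M24) ∈ qOf z ↔ CfsgLib.Transvection.block (Ψ x) = 1 := by
    intro x
    rw [← MonoidHom.mem_ker, show CfsgLib.Transvection.block.ker = CfsgLib.Transvection.Q5 from rfl, ← hcore]
    constructor
    · rintro ⟨y, hy, hyx⟩
      exact ⟨y, hy, congrArg Ψ (Subtype.ext hyx)⟩
    · rintro ⟨y, hy, hyx⟩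
      exact ⟨y, hy, congrArg Subtype.val (Ψ.injective hyx)⟩
  let eQ : ↥CfsgLib.Transvection.Q5 ≃* ↥(qOf z) :=
    ((MulEquiv.subgroupCongr hcore).symm.trans (Ψ.subgroupMap _).symm).trans
      ((Cfsg.pCore 2 ↥C).equivMapOfInjective C.subtype C.subtype_injective)
  have hext := CfsgLib.LargeExtra.isExtraspecial_of_equiv eQ CfsgLib.Transvection.isExtraspecial_Q5
  have hcard : Nat.card ↥(qOf z) = 2 ^ 7 := by
    rw [← Nat.card_congr eQ.toEquiv, CfsgLib.Transvection.natCard_Q5]; rfl
  have hzo : orderOf z = 2 := by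
    rw [← hc, show c * octInv * c⁻¹ = MulAut.conj c octInv from rfl, MulEquiv.orderOf_eq, orderOf_octInv]
  have hzQ := self_mem_qOf hzo
  have hcent : Subgroup.centralizer (qOf z : Set M24) ≤ qOf z := by
    intro x hx
    have hxC : x ∈ C := Subgroup.mem_centralizer_singleton_iff.mpr (Subgroup.mem_centralizer_iff.mp hx z hzQ).symm
    rw [hmemQ ⟨x, hxC⟩]
    refine CfsgLib.Transvection.centralizer_Q5 _ fun q hq => ?_
    obtain ⟨y, rfl⟩ := Ψ.surjective q
    rw [← map_mul, ← map_mul]
    exact congrArg Ψ (Subtype.ext (Subgroup.mem_centralizer_iff.mp hx y ((hmemQ y).mpr hq)))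
  have hcenter : (Subgroup.center ↥(qOf z)).map (qOf z).subtype = Subgroup.zpowers z :=
    (Point.of_base hzo hext hcent).centre
  have hCZ : Subgroup.centralizer (((Subgroup.center ↥(qOf z)).map (qOf z).subtype : Subgroup M24) : Set M24) ≤
      Subgroup.normalizer (qOf z : Set M24) := by
    intro x hx
    refine centralizer_le_normalizer_qOf z (Subgroup.mem_centralizer_singleton_iff.mpr ?_)
    exact (Subgroup.mem_centralizer_iff.mp hx z (hcenter ▸ Subgroup.mem_zpowers z)).symm
  have hCQ : Subgroup.centralizer (qOf z : Set M24) = (Subgroup.center ↥(qOf z)).map (qOf z).subtype := by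
    ext x
    constructor
    · intro hx
      exact ⟨⟨x, hcent hx⟩, Subgroup.mem_center_iff.mpr fun q =>
        Subtype.ext (Subgroup.mem_centralizer_iff.mp hx q q.2), rfl⟩
    · rintro ⟨q, hq, rfl⟩
      refine Subgroup.mem_centralizer_iff.mpr fun y hy => ?_
      exact congrArg Subtype.val (Subgroup.mem_center_iff.mp hq ⟨y, hy⟩)
  -- the translations at `z`
  let τ : V4 → M24 := fun v => c * (transl v : M24) * c⁻¹
  have hτQ : ∀ v : V4, v ≠ 0 → ∀ w, τ w ∈ qOf (τ v) := fun v hv w => by
    rw [show qOf (τ v) = (qOf (transl v : M24)).map (MulAut.conj c).toMonoidHom from qOf_conj _ _]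
    exact ⟨_, transl_mem_qOf_transl hv w, rfl⟩
  have hτe : τ e₀ = z := hc
  have hτz : ∀ w, τ w ∈ qOf z := fun w => hτe ▸ hτQ e₀ e₀_ne w
  have hτmul : ∀ v w, τ v * τ w = τ (v + w) := fun v w => by
    simp only [τ, transl_add, Subgroup.coe_mul]
    group
  have hτ0 : τ 0 = 1 := by simp [τ, transl_zero]
  refine ⟨hext, hcard, ?_, ⟨hext, hCQ, hCZ, fun K hK hQK => ?_⟩, ?_⟩
  · let T : Multiplicative V4 →* M24 := MonoidHom.mk' (fun v => τ v.toAdd) fun v w => (hτmul _ _).symm
    have hT : Function.Injective T := fun v w h => Multiplicative.toAdd.injective <| transl_injective <|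
      Subtype.ext <| mul_left_cancel (a := c) (mul_right_cancel (b := c⁻¹) h)
    refine ⟨T.range, ?_, ⟨⟨⟨?_⟩⟩, ?_⟩, ?_⟩
    · rintro _ ⟨v, rfl⟩; exact hτz _
    · rintro ⟨_, v, rfl⟩ ⟨_, w, rfl⟩
      exact Subtype.ext (show T v * T w = T w * T v by rw [← map_mul, mul_comm, map_mul])
    · rintro _ ⟨v, rfl⟩
      rw [← map_pow, pow_two]
      show τ (v.toAdd + v.toAdd) = 1
      rw [add_self_V4, hτ0]
    · rw [← Nat.card_congr (T.ofInjective hT).toEquiv, Nat.card_congr Multiplicative.toAdd,
        Nat.card_eq_fintype_card]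
      rfl
  · rw [eq_bot_iff]
    intro k hk
    rw [Subgroup.mem_bot]
    have hcz : ∀ k ∈ K, z * k = k * z → k = 1 := fun k hk hkz =>
      CfsgLib.LargeExtra.odd_trivial_of_centralizes_centre hext hCQ hCZ hK hQK hk fun y hy => by
        rw [hcenter, Subgroup.mem_zpowers_iff] at hy
        obtain ⟨n, rfl⟩ := hy
        exact (Commute.zpow_left hkz n).eq
    have hfpf : ∀ v : V4, v ≠ 0 → ∀ k ∈ K, τ v * k = k * τ v → k = 1 := by
      intro v hv k hk hkv
      refine hcz k hk ?_
      have hkC : k ∈ Subgroup.centralizer ({τ v} : Set M24) := Subgroup.mem_centralizer_singleton_iff.mpr hkv.symm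
      have hN := centralizer_le_normalizer_qOf (τ v) hkC
      have hzv : z ∈ qOf (τ v) := hτe ▸ hτQ v hv e₀
      have h1 : k * z * k⁻¹ * z⁻¹ ∈ qOf (τ v) :=
        mul_mem ((Subgroup.mem_normalizer_iff.mp hN z).mp hzv) (inv_mem hzv)
      have h2 : k * z * k⁻¹ * z⁻¹ ∈ K := by
        have h3 := mul_mem hk ((Subgroup.mem_normalizer_iff.mp (hQK hzQ) k⁻¹).mp (inv_mem hk))
        simpa [mul_assoc] using h3
      have h4 := CfsgLib.LargeExtra.odd_inf_two hK (isPGroup_qOf _) h2 h1
      exact (mul_inv_eq_iff_eq_mul.mp (mul_inv_eq_one.mp h4)).symm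
    have hinv : ∀ v : V4, v ≠ 0 → τ v * k * (τ v)⁻¹ = k⁻¹ := fun v hv =>
      CfsgLib.LargeExtra.inverts_of_fixed_point_free hK (hQK (hτz v))
        (by rw [hτmul, add_self_V4, hτ0]) (hfpf v hv) hk
    have h1 := CfsgLib.LargeExtra.commute_mul_of_inverts (hinv e₀ e₀_ne) (hinv _ e₁_ne)
    rw [hτmul] at h1
    exact hfpf _ e₀₁_ne k hk h1
  · refine ⟨((CfsgLib.Transvection.sec.range).map Ψ.symm.toMonoidHom).map C.subtype,
      Subgroup.map_subtype_le _, ?_, ?_, ?_⟩
    · rw [eq_bot_iff]
      rintro x ⟨hx, y, ⟨w, ⟨B, rfl⟩, rfl⟩, rfl⟩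
      have hb := (hmemQ _).mp hx
      rw [show (Ψ (Ψ.symm.toMonoidHom (CfsgLib.Transvection.sec B))) = CfsgLib.Transvection.sec B from
        Ψ.apply_symm_apply _, CfsgLib.Transvection.block_sec] at hb
      simp [hb]
    · refine le_antisymm (sup_le (qOf_le z) (Subgroup.map_subtype_le _)) fun x hx => ?_
      set B := CfsgLib.Transvection.block (Ψ ⟨x, hx⟩) with hB
      set s := Ψ.symm (CfsgLib.Transvection.sec B) with hs
      have hq : ((⟨x, hx⟩ * s⁻¹ : ↥C) : M24) ∈ qOf z := by
        rw [hmemQ, map_mul, map_inv, hs, MulEquiv.apply_symm_apply, map_mul, map_inv,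
          CfsgLib.Transvection.block_sec, ← hB, mul_inv_cancel]
      have hsK : ((s : ↥C) : M24) ∈ ((CfsgLib.Transvection.sec.range).map Ψ.symm.toMonoidHom).map C.subtype :=
        ⟨s, ⟨_, ⟨B, rfl⟩, rfl⟩, rfl⟩
      have := Subgroup.mul_mem_sup hq hsK
      simpa using this
    · have hsec : Function.Injective CfsgLib.Transvection.sec :=
        Function.LeftInverse.injective CfsgLib.Transvection.block_sec
      exact ⟨((Subgroup.equivMapOfInjective _ _ C.subtype_injective).symm.trans
        (Subgroup.equivMapOfInjective _ _ Ψ.symm.injective).symm).trans (MonoidHom.ofInjective hsec).symm⟩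

end CfsgLib.Golay
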