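import Cfsg.Agent.Lib.Golay.OrbitApps
import Cfsg.Agent.Lib.Golay.SixPoints
import Cfsg.Agent.Lib.Golay.Dodecad
import Mathlib.GroupTheory.Perm.Basic

/-!
# Two octads meeting in two points

Their joint stabiliser in `M24` is faithful on each six-point difference, hence isomorphic to the symmetric group of
degree 6.
-/

set_option autoImplicit false
set_option maxRecDepth 20000

namespace CfsgLib.Golay.OctadPair

open Cfsg CfsgLib.Golay
open scoped Pointwise

/-- Elements fixing the base octad pointwise move every octad meeting it in two points. -/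
theorem pair_check : (octKeys.all fun k =>
    !(Nat.beq (popc (Nat.land (codeWord k) 8536111)) 2) ||
      stab6Lists.all fun l => l == List.range 24 || !(Nat.beq (pmap l (codeWord k)) (codeWord k))) = true := by
  decide +kernel

/-- An element fixing pointwise the difference of two such octads is trivial. -/
theorem eq_one_of_fix {o o' : Finset GolayPt} (ho : o ∈ octads) (ho' : o' ∈ octads)
    (h2 : (o ∩ o').card = 2) {σ : Equiv.Perm GolayPt} (hσ : σ ∈ M24) (hσ' : σ • o' = o')
    (hfix : ∀ p ∈ o \ o', σ p = p) : σ = 1 := by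
  obtain ⟨g, hg, rfl⟩ := exists_smul_baseOctad_eq ho
  have h6 : ((g • baseOctad) \ o').card = 6 := by
    have := Finset.card_sdiff_add_card_inter (g • baseOctad) o'
    rw [card_of_mem_octads ho] at this
    omega
  have hL : ((g • baseOctad) \ o').toList.Nodup := Finset.nodup_toList _
  have hmem : σ ∈ fixPts ((g • baseOctad) \ o').toList :=
    mem_fixPts.mpr ⟨hσ, fun p hp => hfix p (Finset.mem_toList.mp hp)⟩
  have hin : InOctad ((g • baseOctad) \ o').toList :=
    ⟨g • baseOctad, ho, fun p hp => (Finset.mem_sdiff.mp (Finset.mem_toList.mp hp)).1⟩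
  -- the pointwise stabiliser of the octad has the same order
  have hle : M24 ⊓ fixingSubgroup (Equiv.Perm GolayPt) ((g • baseOctad : Finset GolayPt) : Set GolayPt) ≤
      fixPts ((g • baseOctad) \ o').toList := by
    intro τ hτ0
    obtain ⟨hτ, hτ1⟩ := Subgroup.mem_inf.mp hτ0
    have hτ' := (mem_fixingSubgroup_iff _).mp hτ1
    exact mem_fixPts.mpr ⟨hτ, fun p hp => hτ' p (Finset.mem_sdiff.mp (Finset.mem_toList.mp hp)).1⟩
  have heq := Subgroup.eq_of_le_of_card_ge hle (by
    rw [(octad_fixing ho).1, (natCard_fixPts_six hL (by rw [Finset.length_toList, h6])).1 hin])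
  rw [← heq] at hmem
  have hfixo := (mem_fixingSubgroup_iff _).mp (Subgroup.mem_inf.mp hmem).2
  have hτ : g⁻¹ * σ * g ∈ stdStab 6 := by
    rw [← fixingSubgroup_baseOctad, Subgroup.mem_inf, mem_fixingSubgroup_iff]
    refine ⟨mul_mem (mul_mem (inv_mem hg) hσ) hg, fun p hp => ?_⟩
    have h' := hfixo (g p) (Finset.mem_coe.mpr (Finset.mem_smul_finset.mpr ⟨p, hp, rfl⟩))
    rw [Equiv.Perm.smul_def] at h'
    show g⁻¹ (σ (g p)) = p
    rw [h']
    simp
  obtain ⟨k, hk, hgk⟩ := octads_eq.le (smul_mem_octads (inv_mem hg) ho')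
  have hk2 : popc (Nat.land (codeWord k) 8536111) = 2 := by
    have e : baseOctad ∩ codeSet k = g⁻¹ • ((g • baseOctad) ∩ o') := by
      rw [Finset.smul_finset_inter, inv_smul_smul, hgk]
    have e' := congrArg Finset.card e
    rw [Finset.card_smul_finset, h2, Finset.inter_comm, ← popc_encS, encS_inter, encS_codeSet,
      baseOctad, encS_decS (by norm_num)] at e'
    exact e'
  have hfixk : (g⁻¹ * σ * g) • codeSet k = codeSet k := by
    rw [hgk, mul_smul, mul_smul, smul_inv_smul, hσ']
  have hcheck := List.all_eq_true.mp pair_check k hk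
  rw [hk2, Bool.or_eq_true] at hcheck
  rcases hcheck with h | h
  · simp at h
  have h' := List.all_eq_true.mp h _ (toList_mem_stab6 hτ)
  rw [Bool.or_eq_true, beq_iff_eq, Bool.not_eq_true', ← Bool.not_eq_true] at h'
  rcases h' with h' | h'
  · have h1 : g⁻¹ * σ * g = 1 := toList_injective (by rw [h', toList_one])
    have e : σ = g * (g⁻¹ * σ * g) * g⁻¹ := by group
    rw [e, h1]; simp
  · exfalso
    apply h'
    have e' := congrArg encS hfixk
    rw [encS_smul, encS_codeSet] at e'
    rw [e']
    exact Nat.beq_refl _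

/-- The joint stabiliser of two such octads is the symmetric group of degree 6. -/
theorem nonempty_mulEquiv {o o' : Finset GolayPt} (ho : o ∈ octads) (ho' : o' ∈ octads)
    (h2 : (o ∩ o').card = 2) :
    Nonempty (↥(MulAction.stabilizer M24 o ⊓ MulAction.stabilizer M24 o') ≃* Equiv.Perm (Fin 6)) := by
  classical
  set H := MulAction.stabilizer M24 o ⊓ MulAction.stabilizer M24 o' with hH
  have hst : ∀ x : H, ((x : M24) : Equiv.Perm GolayPt) • (o \ o') = o \ o' := fun x => by
    obtain ⟨h1, h1'⟩ := x.2
    have a1 : ((x : M24) : Equiv.Perm GolayPt) • o = o := h1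
    have a2 : ((x : M24) : Equiv.Perm GolayPt) • o' = o' := h1'
    rw [Finset.smul_finset_sdiff, a1, a2]
  have hmem : ∀ (x : H) (p : GolayPt), ((x : M24) : Equiv.Perm GolayPt) p ∈ o \ o' ↔ p ∈ o \ o' := by
    intro x p
    conv_lhs => rw [← hst x, ← Equiv.Perm.smul_def, Finset.smul_mem_smul_finset_iff]
  let φ : H →* Equiv.Perm {p // p ∈ o \ o'} :=
    { toFun := fun x => ((x : M24) : Equiv.Perm GolayPt).subtypePerm (hmem x)
      map_one' := Equiv.ext fun q => Subtype.ext rfl
      map_mul' := fun x y => Equiv.ext fun q => Subtype.ext rfl }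
  have hinj : Function.Injective φ := by
    rw [injective_iff_map_eq_one]
    intro x hx
    apply Subtype.ext
    apply Subtype.ext
    refine eq_one_of_fix ho ho' h2 (x : M24).2 x.2.2 fun p hp => ?_
    have := congrArg (fun e : Equiv.Perm {p // p ∈ o \ o'} => ((e ⟨p, hp⟩ : _) : GolayPt)) hx
    simpa [φ] using this
  have h6 : Fintype.card {p // p ∈ o \ o'} = 6 := by
    rw [Fintype.card_coe]
    have := Finset.card_sdiff_add_card_inter o o'
    rw [card_of_mem_octads ho] at this
    omega
  have hbij : Function.Bijective φ := by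
    have : Fintype H := Fintype.ofFinite _
    rw [Fintype.bijective_iff_injective_and_card]
    refine ⟨hinj, ?_⟩
    rw [← Nat.card_eq_fintype_card, (natCard_two_octads ho ho').2.2 h2, Fintype.card_perm, h6]
    rfl
  exact ⟨(MulEquiv.ofBijective φ hbij).trans (Fintype.equivFinOfCardEq h6).permCongrHom⟩

end CfsgLib.Golay.OctadPair
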