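import Cfsg.Agent.Lib.Golay.Trios
import Cfsg.Agent.Lib.Golay.Dodecad

/-!
# Reference objects and the invariants separating the orbits of their stabilisers
-/

set_option autoImplicit false
set_option maxRecDepth 20000

namespace CfsgLib.Golay

open Cfsg
open scoped Pointwise

/-- Unpack a certificate. -/
def unpackCert (c : List ℕ) : List (ℕ × ℕ × ℕ) :=
  c.map fun v => (Nat.shiftRight v 16, Nat.land (Nat.shiftRight v 12) 15, Nat.land v 4095)

/-- Unpack a table of classes. -/
def unpackClasses (cs : List (ℕ × ℕ × ℕ × List ℕ)) : List (ℕ × ℕ × ℕ × List (ℕ × ℕ × ℕ)) :=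
  cs.map fun d => (d.1, d.2.1, d.2.2.1, unpackCert d.2.2.2)

/-- Key of the reference sextet. -/
def baseSextetKey : ℕ := 834
/-- Position of the reference trio. -/
def baseTrioPos : ℕ := 540
/-- Mask of the reference triple. -/
def baseTriple : ℕ := 8388611
/-- Mask of the reference dodecad. -/
def baseDod : ℕ := 11472927

/-- Number of members of `S` meeting `m`. -/
def meetCount (m : Finset GolayPt) (S : Finset (Finset GolayPt)) : ℕ :=
  (S.filter fun t => (t ∩ m).Nonempty).card

/-- Number of members of `T` disjoint from `o`. -/
def disjCount (o : Finset GolayPt) (T : Finset (Finset GolayPt)) : ℕ := (T.filter fun o' => Disjoint o o').card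

/-- Number of members of `S` meeting `d` in two points. -/
def halfCount (d : Finset GolayPt) (S : Finset (Finset GolayPt)) : ℕ :=
  (S.filter fun t => (t ∩ d).card = 2).card

theorem card_filter_smul {α : Type*} [DecidableEq α] (g : Equiv.Perm GolayPt) [MulAction (Equiv.Perm GolayPt) α]
    (S : Finset α) (p : α → Prop) [DecidablePred p] :
    ((g • S).filter p).card = (S.filter fun t => p (g • t)).card := by
  rw [Finset.smul_finset_def, Finset.filter_image, Finset.card_image_of_injective _ (MulAction.injective g)]

theorem meetCount_smul (g : Equiv.Perm GolayPt) (m : Finset GolayPt) (S : Finset (Finset GolayPt)) :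
    meetCount (g • m) (g • S) = meetCount m S := by
  unfold meetCount
  rw [card_filter_smul]
  simp only [← Finset.smul_finset_inter, Finset.smul_finset_nonempty]

theorem disjCount_smul (g : Equiv.Perm GolayPt) (o : Finset GolayPt) (T : Finset (Finset GolayPt)) :
    disjCount (g • o) (g • T) = disjCount o T := by
  unfold disjCount
  rw [card_filter_smul]
  simp only [Finset.disjoint_iff_inter_eq_empty, ← Finset.smul_finset_inter, Finset.smul_finset_eq_empty]

theorem halfCount_smul (g : Equiv.Perm GolayPt) (d : Finset GolayPt) (S : Finset (Finset GolayPt)) :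
    halfCount (g • d) (g • S) = halfCount d S := by
  unfold halfCount
  rw [card_filter_smul]
  simp only [← Finset.smul_finset_inter, Finset.card_smul_finset]

/-! ### Computable forms -/

theorem nodup_of_card_toFinset {α : Type*} [DecidableEq α] {L : List α} (h : L.toFinset.card = L.length) :
    L.Nodup := by
  rw [List.card_toFinset] at h
  exact List.dedup_eq_self.mp ((List.dedup_sublist L).eq_of_length h)

theorem toFinset_filter_decide {α : Type*} [DecidableEq α] (p : α → Prop) [DecidablePred p] (L : List α) :
    (L.filter fun x => decide (p x)).toFinset = L.toFinset.filter p := by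
  ext x
  simp

/-- `meetCount` on a packed sextet. -/
def meetE (m e : ℕ) : ℕ := ((tets e).filter fun t => !(Nat.beq (Nat.land t m) 0)).length

/-- `halfCount` on a packed sextet. -/
def halfE (e : ℕ) : ℕ := ((tets e).filter fun t => Nat.beq (popc (Nat.land t baseDod)) 2).length

theorem tets_map_nodup {e : ℕ} (he : e ∈ sextetTab) : ((tets e).map decS).Nodup := by
  apply nodup_of_card_toFinset
  rw [tets_toFinset he, card_sextetOfKey he]
  rfl

theorem card_filter_sextet {e : ℕ} (he : e ∈ sextetTab) (p : Finset GolayPt → Prop) [DecidablePred p]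
    (q : ℕ → Bool) (hq : ∀ t ∈ tets e, (q t = true ↔ p (decS t))) :
    ((sextetOfKey (sextetKey e)).filter p).card = ((tets e).filter q).length := by
  rw [← tets_toFinset he, ← toFinset_filter_decide p, List.toFinset_card_of_nodup ((tets_map_nodup he).filter _),
    List.filter_map, List.length_map]
  congr 1
  refine List.filter_congr fun t ht => ?_
  simp only [Function.comp]
  rw [Bool.eq_iff_iff, decide_eq_true_eq, hq t ht]

theorem land_beq_zero_iff {t : ℕ} (ht : t < 2 ^ 24) (m : Finset GolayPt) :
    Nat.beq (Nat.land t (encS m)) 0 = true ↔ decS t ∩ m = ∅ := by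
  rw [← encS_injective.eq_iff, encS_inter, encS_decS ht, encS_empty]
  exact ⟨Nat.eq_of_beq_eq_true, fun h => by show Nat.beq (t &&& encS m) 0 = true; rw [h]; rfl⟩

theorem meetCount_sextet {e : ℕ} (he : e ∈ sextetTab) (m : Finset GolayPt) :
    meetCount m (sextetOfKey (sextetKey e)) = meetE (encS m) e := by
  refine card_filter_sextet he _ _ fun t ht => ?_
  rw [Bool.not_eq_true', ← Bool.not_eq_true, land_beq_zero_iff (tets_lt ht), Finset.nonempty_iff_ne_empty]

theorem halfCount_sextet {e : ℕ} (he : e ∈ sextetTab) :
    halfCount (decS baseDod) (sextetOfKey (sextetKey e)) = halfE e := by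
  refine card_filter_sextet he _ _ fun t ht => ?_
  rw [← encS_decS (tets_lt ht), ← encS_decS (show baseDod < 2 ^ 24 by unfold baseDod; norm_num), decS_encS,
    decS_encS, ← popc_encS, encS_inter]
  exact ⟨Nat.eq_of_beq_eq_true, fun h => by
    show Nat.beq (popc (encS (decS t) &&& encS (decS baseDod))) 2 = true
    rw [h]; rfl⟩

/-- `disjCount` on a packed trio. -/
def disjE (m e : ℕ) : ℕ :=
  ([trioA e, trioB e, trioC e].filter fun k => Nat.beq (Nat.land (codeWord k) m) 0).length

theorem trioOf_eq_toFinset (p : ℕ) :
    trioOf p = (([trioA (trioAt p), trioB (trioAt p), trioC (trioAt p)]).map codeSet).toFinset := by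
  simp [trioOf]

theorem trio_map_nodup {p : ℕ} (hp : p < 3795) :
    (([trioA (trioAt p), trioB (trioAt p), trioC (trioAt p)]).map codeSet).Nodup := by
  apply nodup_of_card_toFinset
  rw [← trioOf_eq_toFinset, (trioOf_mem hp).1]
  rfl

theorem disjCount_trio {p : ℕ} (hp : p < 3795) (o : Finset GolayPt) :
    disjCount o (trioOf p) = disjE (encS o) (trioAt p) := by
  unfold disjCount disjE
  rw [trioOf_eq_toFinset, ← toFinset_filter_decide,
    List.toFinset_card_of_nodup ((trio_map_nodup hp).filter _), List.filter_map, List.length_map]
  congr 1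
  refine List.filter_congr fun k _ => ?_
  simp only [Function.comp]
  rw [Bool.eq_iff_iff, decide_eq_true_eq, Finset.disjoint_iff_inter_eq_empty, Finset.inter_comm]
  exact (land_beq_zero_iff (codeWord_lt k) o).symm

/-- Sum over the members of a trio of the number of tetrads met. -/
def meetTrio (T S : Finset (Finset GolayPt)) : ℕ := ∑ o ∈ T, meetCount o S

theorem meetTrio_smul (g : Equiv.Perm GolayPt) (T S : Finset (Finset GolayPt)) :
    meetTrio (g • T) (g • S) = meetTrio T S := by
  unfold meetTrio
  rw [Finset.smul_finset_def, Finset.sum_image (MulAction.injective g).injOn]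
  simp only [meetCount_smul]

/-- `meetTrio` on a packed trio and a packed sextet. -/
def meetTE (t e : ℕ) : ℕ :=
  Nat.add (meetE (codeWord (trioA t)) e) (Nat.add (meetE (codeWord (trioB t)) e) (meetE (codeWord (trioC t)) e))

theorem meetTrio_eq {p e : ℕ} (hp : p < 3795) (he : e ∈ sextetTab) :
    meetTrio (trioOf p) (sextetOfKey (sextetKey e)) = meetTE (trioAt p) e := by
  unfold meetTrio
  rw [trioOf_eq_toFinset, List.sum_toFinset _ (trio_map_nodup hp)]
  simp [meetCount_sextet he, encS_codeSet, meetTE]

/-! ### Generators fixing the reference objects -/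

/-- Fixes the base octad. -/
def fixOct (l : List ℕ) : Bool := Nat.beq (pmap l 8536111) 8536111
/-- Fixes the reference sextet. -/
def fixSext (l : List ℕ) : Bool := Nat.beq (synAct l baseSextetKey) baseSextetKey
/-- Fixes the reference trio. -/
def fixTrio (l : List ℕ) : Bool := trioStep l baseTrioPos baseTrioPos
/-- Fixes the reference triple. -/
def fixTriple (l : List ℕ) : Bool := Nat.beq (pmap l baseTriple) baseTriple
/-- Fixes the reference pair of dodecads. -/
def fixPair (l : List ℕ) : Bool :=
  Nat.beq (pmap l baseDod) baseDod || Nat.beq (pmap l baseDod) (Nat.xor 16777215 baseDod)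

theorem baseSextetKey_mem : baseSextetKey ∈ sextetKeys := by decide +kernel

/-- The reference sextet. -/
noncomputable def baseSextet : Finset (Finset GolayPt) := sextetOfKey baseSextetKey

/-- The reference trio. -/
def baseTrio : Finset (Finset GolayPt) := trioOf baseTrioPos

/-- The reference pair of dodecads. -/
def basePair : Finset (Finset GolayPt) := {decS baseDod, Finset.univ \ decS baseDod}

theorem fixes_mask {m : ℕ} (hm : m < 2 ^ 24) (g : M24)
    (h : Nat.beq (pmap (toList (g : Equiv.Perm GolayPt)) m) m = true) : g • decS m = decS m := by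
  show (g : Equiv.Perm GolayPt) • decS m = decS m
  rw [smul_decS _ hm, Nat.eq_of_beq_eq_true h]

theorem fixOct_spec (g : M24) (h : fixOct (toList (g : Equiv.Perm GolayPt)) = true) : g • baseOctad = baseOctad :=
  fixes_mask (by norm_num) g h

theorem fixTriple_spec (g : M24) (h : fixTriple (toList (g : Equiv.Perm GolayPt)) = true) :
    g • decS baseTriple = decS baseTriple :=
  fixes_mask (by unfold baseTriple; norm_num) g h

theorem fixSext_spec (g : M24) (h : fixSext (toList (g : Equiv.Perm GolayPt)) = true) :
    g • baseSextet = baseSextet := by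
  show (g : Equiv.Perm GolayPt) • sextetOfKey baseSextetKey = sextetOfKey baseSextetKey
  rw [smul_sextetOfKey g.2 baseSextetKey_mem, Nat.eq_of_beq_eq_true h]

theorem fixTrio_spec (g : M24) (h : fixTrio (toList (g : Equiv.Perm GolayPt)) = true) : g • baseTrio = baseTrio :=
  (trioK.step_spec g baseTrioPos baseTrioPos
    (List.mem_map.mpr ⟨baseTrioPos, List.mem_range.mpr (by unfold baseTrioPos; norm_num), rfl⟩) h).1

theorem fixPair_spec (g : M24) (h : fixPair (toList (g : Equiv.Perm GolayPt)) = true) : g • basePair = basePair := by
  show (g : Equiv.Perm GolayPt) • basePair = basePair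
  have hlt : baseDod < 2 ^ 24 := by unfold baseDod; norm_num
  have hc : decS (Nat.xor 16777215 baseDod) = Finset.univ \ decS baseDod := by decide +kernel
  rw [basePair, Finset.smul_finset_insert, Finset.smul_finset_singleton, ← Finset.compl_eq_univ_sdiff, smul_compl]
  rw [fixPair, Bool.or_eq_true] at h
  rcases h with h | h <;> rw [smul_decS _ hlt, Nat.eq_of_beq_eq_true h]
  rw [hc, ← Finset.compl_eq_univ_sdiff, compl_compl, Finset.pair_comm]

/-! ### The invariants -/

/-- Octads, under an octad stabiliser: the number of common points. -/
def invOctOct : Invariant octK baseOctad where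
  φ o := (baseOctad ∩ o).card
  kφ k := popc (Nat.land 8536111 (codeWord k))
  inv g hg X _ := by
    conv_lhs => rw [← hg]
    show ((g : Equiv.Perm GolayPt) • baseOctad ∩ (g : Equiv.Perm GolayPt) • X).card = _
    rw [← Finset.smul_finset_inter, Finset.card_smul_finset]
  spec k _ := by
    show (baseOctad ∩ codeSet k).card = _
    rw [← popc_encS, encS_inter, encS_codeSet, baseOctad, encS_decS (by norm_num)]
    rfl

/-- Sextets, under an octad stabiliser. -/
noncomputable def invOctSext : Invariant sextK baseOctad where
  φ := meetCount baseOctad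
  kφ := meetE 8536111
  inv g hg X _ := by
    conv_lhs => rw [← hg]
    exact meetCount_smul _ _ _
  spec e he := by
    show meetCount baseOctad (sextetOfKey (sextetKey e)) = _
    rw [meetCount_sextet he, baseOctad, encS_decS (by norm_num)]

/-- Trios, under an octad stabiliser. -/
def invOctTrio : Invariant trioK baseOctad where
  φ := disjCount baseOctad
  kφ p := disjE 8536111 (trioAt p)
  inv g hg X _ := by
    conv_lhs => rw [← hg]
    exact disjCount_smul _ _ _
  spec p hp := by
    show disjCount baseOctad (trioOf p) = _
    rw [disjCount_trio (List.mem_range.mp hp), baseOctad, encS_decS (by norm_num)]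

/-- The packed reference sextet. -/
def baseSextetEntry : ℕ := (sextetTab.filter fun e => Nat.beq (sextetKey e) baseSextetKey).getD 0 0

theorem baseSextetEntry_spec : baseSextetEntry ∈ sextetTab ∧ sextetKey baseSextetEntry = baseSextetKey := by
  have h : (sextetTab.contains baseSextetEntry && Nat.beq (sextetKey baseSextetEntry) baseSextetKey) = true := by
    decide +kernel
  rw [Bool.and_eq_true, List.contains_iff_mem] at h
  exact ⟨h.1, Nat.eq_of_beq_eq_true h.2⟩

/-- Octads, under a sextet stabiliser. -/
noncomputable def invSextOct : Invariant octK baseSextet where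
  φ o := meetCount o baseSextet
  kφ k := meetE (codeWord k) baseSextetEntry
  inv g hg X _ := by
    conv_lhs => rw [← hg]
    exact meetCount_smul _ _ _
  spec k _ := by
    show meetCount (codeSet k) (sextetOfKey baseSextetKey) = _
    rw [← baseSextetEntry_spec.2, meetCount_sextet baseSextetEntry_spec.1, encS_codeSet]

/-- Trios, under a sextet stabiliser. -/
noncomputable def invSextTrio : Invariant trioK baseSextet where
  φ T := meetTrio T baseSextet
  kφ p := meetTE (trioAt p) baseSextetEntry
  inv g hg X _ := by
    conv_lhs => rw [← hg]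
    exact meetTrio_smul _ _ _
  spec p hp := by
    show meetTrio (trioOf p) (sextetOfKey baseSextetKey) = _
    rw [← baseSextetEntry_spec.2, meetTrio_eq (List.mem_range.mp hp) baseSextetEntry_spec.1]

theorem baseTrioPos_lt : baseTrioPos < 3795 := by unfold baseTrioPos; norm_num

/-- Octads, under a trio stabiliser. -/
def invTrioOct : Invariant octK baseTrio where
  φ o := disjCount o baseTrio
  kφ k := disjE (codeWord k) (trioAt baseTrioPos)
  inv g hg X _ := by
    conv_lhs => rw [← hg]
    exact disjCount_smul _ _ _
  spec k _ := by
    show disjCount (codeSet k) (trioOf baseTrioPos) = _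
    rw [disjCount_trio baseTrioPos_lt, encS_codeSet]

/-- Sextets, under a trio stabiliser. -/
noncomputable def invTrioSext : Invariant sextK baseTrio where
  φ S := meetTrio baseTrio S
  kφ e := meetTE (trioAt baseTrioPos) e
  inv g hg X _ := by
    conv_lhs => rw [← hg]
    exact meetTrio_smul _ _ _
  spec e he := meetTrio_eq baseTrioPos_lt he

/-- Sextets, under the stabiliser of a triple. -/
noncomputable def invTripleSext : Invariant sextK (decS baseTriple) where
  φ := meetCount (decS baseTriple)
  kφ := meetE baseTriple
  inv g hg X _ := by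
    conv_lhs => rw [← hg]
    exact meetCount_smul _ _ _
  spec e he := by
    show meetCount (decS baseTriple) (sextetOfKey (sextetKey e)) = _
    rw [meetCount_sextet he, encS_decS (by unfold baseTriple; norm_num)]

theorem card_eq_two_of_compl {t : Finset GolayPt} (ht : t.card = 4) (d : Finset GolayPt) :
    ((t ∩ (Finset.univ \ d)).card = 2 ↔ (t ∩ d).card = 2) := by
  have h := Finset.card_sdiff_add_card_inter t d
  have e : t ∩ (Finset.univ \ d) = t \ d := by ext; simp
  rw [e]
  omega

/-- Sextets, under the stabiliser of a pair of complementary dodecads. -/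
noncomputable def invPairSext : Invariant sextK basePair where
  φ := halfCount (decS baseDod)
  kφ := halfE
  inv g hg X hX := by
    have hmem : (g : Equiv.Perm GolayPt) • decS baseDod ∈ basePair := by
      rw [← hg]
      exact Finset.smul_mem_smul_finset (Finset.mem_insert_self _ _)
    have key : halfCount ((g : Equiv.Perm GolayPt) • decS baseDod) (g • X) = halfCount (decS baseDod) X :=
      halfCount_smul _ _ _
    rw [← key]
    simp only [basePair, Finset.mem_insert, Finset.mem_singleton] at hmem
    rcases hmem with hm | hm
    · rw [hm]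
    · rw [hm]
      unfold halfCount
      refine congrArg Finset.card (Finset.filter_congr fun t ht => ?_)
      exact (card_eq_two_of_compl ((smul_mem_sextets g.2 hX).2.1 t ht) _).symm
  spec e he := halfCount_sextet he

end CfsgLib.Golay
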