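import Cfsg.Agent.Lib.Golay.OrbitApps
import Cfsg.Agent.Lib.Golay.OrbitDataDod

/-!
# A dodecad stabiliser on the dodecads
-/

set_option autoImplicit false
set_option maxRecDepth 20000

namespace CfsgLib.Golay

open Cfsg
open scoped Pointwise

/-- The keys of dodecads. -/
def dodKeys : List ℕ := (List.range 4096).filter fun k => Nat.beq (popc (codeWord k)) 12

theorem mem_dodKeys {k : ℕ} : k ∈ dodKeys ↔ k < 4096 ∧ popc (codeWord k) = 12 := by
  rw [dodKeys, List.mem_filter, List.mem_range]
  exact and_congr_right fun _ => ⟨Nat.eq_of_beq_eq_true, fun h => by rw [h]; rfl⟩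

theorem dodecads_eq : dodecads = codeSet '' {k | k ∈ dodKeys} := by
  rw [dodecads, wordsOfWeight_eq]
  have h : {k | k ∈ dodKeys} =
      (↑((Finset.range 4096).filter fun k => popc (codeWord k) = 12) : Set ℕ) := by
    ext k; simp [mem_dodKeys]
  rw [h]
  rfl

theorem incr_dodKeys : incr dodKeys = true := by decide +kernel

theorem m24_smul_mem_dodecads (g : M24) (X : Finset GolayPt) (hX : X ∈ dodecads) : g • X ∈ dodecads :=
  smul_mem_dodecads g.2 hX

/-- The dodecads. -/
def dodK : Keyed (Finset GolayPt) dodecads where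
  W := dodKeys
  key := id
  dec := codeSet
  step l k y := Nat.beq (codeAct l k) y
  nodup := by rw [List.map_id]; exact nodup_of_incr incr_dodKeys
  eq_image := by rw [List.map_id]; exact dodecads_eq
  injOn := by
    rw [List.map_id]
    exact codeSet_injOn.mono fun k hk => (mem_dodKeys.mp hk).1
  step_spec g k y hk hst := by
    rw [List.map_id] at hk ⊢
    have e : (g : Equiv.Perm GolayPt) • codeSet k = codeSet y := by
      rw [smul_codeSet g.2, Nat.eq_of_beq_eq_true hst]
    refine ⟨e, mem_dodKeys.mpr ⟨Nat.eq_of_beq_eq_true hst ▸ and_lt_4096 _, ?_⟩⟩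
    rw [← encS_codeSet, popc_encS, ← e, Finset.card_smul_finset, ← popc_encS, encS_codeSet]
    exact (mem_dodKeys.mp hk).2
  smul_mem := m24_smul_mem_dodecads

/-- Recognises the stabiliser of the reference dodecad. -/
def fixDod (l : List ℕ) : Bool := Nat.beq (pmap l baseDod) baseDod

theorem fixDod_spec (g : M24) (h : fixDod (toList (g : Equiv.Perm GolayPt)) = true) :
    g • baseDodecad = baseDodecad :=
  fixes_mask (show baseDod < 2 ^ 24 by decide) g h

theorem gensDod_ok : gensOK fixDod gensDod = true := by decide +kernel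

theorem gensDod_spec : ∀ l ∈ gensDod, ∃ g : M24, toList (g : Equiv.Perm GolayPt) = l ∧ g • baseDodecad = baseDodecad :=
  exists_gen fixDod_spec gensDod_ok

/-- Dodecads, under a dodecad stabiliser: the number of common points. -/
def invDodDod : Invariant dodK baseDodecad where
  φ d := (baseDodecad ∩ d).card
  kφ k := popc (Nat.land baseDod (codeWord k))
  inv g hg X _ := by
    conv_lhs => rw [← hg]
    show ((g : Equiv.Perm GolayPt) • baseDodecad ∩ (g : Equiv.Perm GolayPt) • X).card = _
    rw [← Finset.smul_finset_inter, Finset.card_smul_finset]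
  spec k _ := by
    show (baseDodecad ∩ codeSet k).card = popc (Nat.land baseDod (codeWord k))
    rw [← popc_encS, encS_inter, encS_codeSet, ← decS_baseDod, encS_decS (show baseDod < 2 ^ 24 by decide)]
    rfl

theorem classesDodDod_ok :
    orbitsOK dodK.W dodK.key invDodDod.kφ dodK.step gensDod (unpackClasses classesDodDod) = true := by
  decide +kernel

theorem dodClass_values : ∀ p ∈ (unpackClasses classesDodDod).map (fun d => (d.1, d.2.1)),
    p ∈ [(0, 1), (4, 495), (6, 1584), (8, 495), (12, 1)] := by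
  decide +kernel

theorem dodClass_mem : ∀ p ∈ [(0, 1), (4, 495), (6, 1584), (8, 495), (12, 1)],
    p ∈ (unpackClasses classesDodDod).map (fun d => (d.1, d.2.1)) := by
  decide +kernel

/-- Dodecads meeting a given one in a given number of points. -/
theorem dodecad_classes {d : Finset GolayPt} (hd : d ∈ dodecads) {c n : ℕ}
    (hcn : (c, n) ∈ [(0, 1), (4, 495), (6, 1584), (8, 495), (12, 1)]) :
    {X | X ∈ dodecads ∧ (d ∩ X).card = c}.ncard = n ∧
      ∀ X Y, X ∈ dodecads → Y ∈ dodecads → (d ∩ X).card = c → (d ∩ Y).card = c →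
        ∃ g : M24, g • d = d ∧ g • X = Y := by
  obtain ⟨g, rfl⟩ := exists_m24_smul (exists_smul_baseDodecad_eq hd)
  obtain ⟨h1, h2⟩ := invDodDod.class_facts gensDod_spec classesDodDod_ok (dodClass_mem _ hcn)
  have hφ : ∀ X : Finset GolayPt, (g • baseDodecad ∩ g • X).card = invDodDod.φ X := fun X => by
    show ((g : Equiv.Perm GolayPt) • baseDodecad ∩ (g : Equiv.Perm GolayPt) • X).card = _
    rw [← Finset.smul_finset_inter, Finset.card_smul_finset]
    rfl
  constructor
  · have : {X | X ∈ dodecads ∧ (g • baseDodecad ∩ X).card = c} =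
        (g • ·) '' {X | X ∈ dodecads ∧ invDodDod.φ X = c} := by
      ext X
      constructor
      · rintro ⟨hX, hc⟩
        refine ⟨g⁻¹ • X, ⟨m24_smul_mem_dodecads _ _ hX, ?_⟩, smul_inv_smul g X⟩
        rw [← hφ, smul_inv_smul, hc]
      · rintro ⟨Z, ⟨hZ, hc⟩, rfl⟩
        exact ⟨m24_smul_mem_dodecads _ _ hZ, (hφ Z).trans hc⟩
    rw [this, Set.ncard_image_of_injective _ (MulAction.injective g), h1]
  · intro X Y hX hY hc hc'
    obtain ⟨u, hu1, hu2⟩ := h2 (g⁻¹ • X) (g⁻¹ • Y) (m24_smul_mem_dodecads _ _ hX) (m24_smul_mem_dodecads _ _ hY)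
      (by rw [← hφ, smul_inv_smul, hc]) (by rw [← hφ, smul_inv_smul, hc'])
    refine ⟨g * u * g⁻¹, ?_, ?_⟩
    · rw [mul_smul, mul_smul, inv_smul_smul, hu1]
    · rw [mul_smul, mul_smul, hu2, smul_inv_smul]

/-- Two dodecads meet in 0, 4, 6, 8 or 12 points. -/
theorem card_inter_dodecads {d X : Finset GolayPt} (hd : d ∈ dodecads) (hX : X ∈ dodecads) :
    (d ∩ X).card = 0 ∨ (d ∩ X).card = 4 ∨ (d ∩ X).card = 6 ∨ (d ∩ X).card = 8 ∨ (d ∩ X).card = 12 := by
  obtain ⟨g, rfl⟩ := exists_m24_smul (exists_smul_baseDodecad_eq hd)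
  obtain ⟨k, hk, hkX⟩ := dodK.eq_image.le (m24_smul_mem_dodecads g⁻¹ X hX)
  obtain ⟨e, he, rfl⟩ := List.mem_map.mp hk
  have h := classesDodDod_ok
  simp only [orbitsOK, Bool.and_eq_true, List.all_eq_true] at h
  have h2 := h.2 e he
  rw [List.any_eq_true] at h2
  obtain ⟨c, hc, hce⟩ := h2
  have h3 : (g • baseDodecad ∩ X).card = c.1 := by
    rw [← smul_inv_smul g X, ← hkX]
    show ((g : Equiv.Perm GolayPt) • baseDodecad ∩ (g : Equiv.Perm GolayPt) • dodK.dec (dodK.key e)).card = _
    rw [← Finset.smul_finset_inter, Finset.card_smul_finset]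
    exact (invDodDod.spec e he).trans (Nat.eq_of_beq_eq_true hce)
  have hv := dodClass_values _ (List.mem_map.mpr ⟨c, hc, rfl⟩)
  simp only [List.mem_cons, Prod.mk.injEq, List.not_mem_nil, or_false] at hv
  omega

end CfsgLib.Golay
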