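import Cfsg.Agent.Lib.Golay.OrbitBases
import Cfsg.Agent.Lib.Golay.OrbitDataOct

/-!
# Checked orbit tables (Oct)
-/

set_option autoImplicit false
set_option maxRecDepth 20000

namespace CfsgLib.Golay

open Cfsg
open scoped Pointwise

theorem gensOct_ok : gensOK fixOct gensOct = true := by decide +kernel

theorem gensOct_spec : ∀ l ∈ gensOct, ∃ g : M24, toList (g : Equiv.Perm GolayPt) = l ∧ g • baseOctad = baseOctad :=
  exists_gen fixOct_spec gensOct_ok

theorem classesOctOct_ok :
    orbitsOK octK.W octK.key invOctOct.kφ octK.step gensOct (unpackClasses classesOctOct) = true := by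
  decide +kernel

theorem orbitsOctOct : HasOrbits octads baseOctad [1, 30, 280, 448] :=
  invOctOct.hasOrbits gensOct_spec classesOctOct_ok

theorem classesOctSext_ok :
    orbitsOK sextK.W sextK.key invOctSext.kφ sextK.step gensOct (unpackClasses classesOctSext) = true := by
  decide +kernel

theorem orbitsOctSext : HasOrbits sextets baseOctad [35, 840, 896] :=
  invOctSext.hasOrbits gensOct_spec classesOctSext_ok

theorem classesOctTrio_ok :
    orbitsOK trioK.W trioK.key invOctTrio.kφ trioK.step gensOct (unpackClasses classesOctTrio) = true := by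
  decide +kernel

theorem orbitsOctTrio : HasOrbits trios baseOctad [15, 420, 3360] :=
  invOctTrio.hasOrbits gensOct_spec classesOctTrio_ok

end CfsgLib.Golay
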