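import Cfsg.Agent.Lib.Golay.ParkerData

/-!
# Parker loop factor set: kernel checks

`theta A B` is the factor set on 12-bit coordinates, linear in `B` by construction.  For an image
list `l` preserving the code, `stepCheck` certifies that `theta (lA) (lB) + theta A B` is the
coboundary of the table function, on basis vectors `B`.
-/

set_option autoImplicit false

namespace CfsgLib.Golay.Parker

open CfsgLib.Golay

/-- The factor set on coordinates. -/
def theta (A B : ℕ) : Bool := (spanWord cols B).testBit A

/-- Parity of a 12-bit number. -/
def par (A : ℕ) : Bool := parTab.testBit A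

/-- Image rows of an image list on coordinates. -/
def imgRows (l : List ℕ) : List ℕ := gens.map fun g => pmap l g &&& 4095

/-- Image of coordinates. -/
def img (l : List ℕ) (A : ℕ) : ℕ := spanWord (imgRows l) A

/-- Defect of the factor set at an image list. -/
def defect (l : List ℕ) (A B : ℕ) : Bool := theta (img l A) (img l B) ^^ theta A B

/-- Coboundary of a table. -/
def cobd (N A B : ℕ) : Bool := (N.testBit (A ^^^ B) ^^ N.testBit A) ^^ N.testBit B

/-- The check on one basis vector, at one point. -/
def checkAt (Tl T0 : ℕ) (N r e : ℕ) (A pA : ℕ) : Bool :=
  ((Tl.testBit pA ^^ T0.testBit A) == par (Nat.land A r)) &&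
    ((Tl.testBit pA ^^ T0.testBit A) == cobd N A e)

/-- The check at one point for all basis vectors. -/
def checkAll (N : ℕ) (A pA : ℕ) : List (ℕ × ℕ × ℕ × ℕ) → Bool
  | [] => true
  | (Tl, T0, r, e) :: rest => checkAt Tl T0 N r e A pA && checkAll N A pA rest

/-- The data used by the check. -/
def checkData (l rows : List ℕ) : List (ℕ × ℕ × ℕ × ℕ) :=
  (List.range 12).map fun j => (spanWord cols (img l (2 ^ j)), spanWord cols (2 ^ j), rows.getD j 0, 2 ^ j)

/-- The full check. -/
def stepCheck (l rows : List ℕ) (N : ℕ) : Bool :=
  N.testBit 0 == false && (List.range 4096).all fun A => checkAll N A (img l A) (checkData l rows)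

theorem par_step : (List.range 4096).all (fun A =>
    (List.range 12).all fun j => par (A ^^^ 2 ^ j) == !par A) = true := by
  decide +kernel

theorem check_S : stepCheck permSl rowsS tabS = true := by decide +kernel

theorem check_T : stepCheck permTl rowsT tabT = true := by decide +kernel

theorem check_C : stepCheck permCl rowsC tabC = true := by decide +kernel

theorem check_A : stepCheck permAl rowsA tabA = true := by decide +kernel

theorem check_B : stepCheck permBl rowsB tabB = true := by decide +kernel

theorem check_D : stepCheck permDl rowsD tabD = true := by decide +kernel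


end CfsgLib.Golay.Parker
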