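import Cfsg.Agent.Lib.Golay.ParkerFactorSet
import Cfsg.Prelude.Def_Spor_Mathieu

/-!
# The extension of M23 by its cocode module from the Parker loop

`Ext` consists of the pairs `(π, f)` with `π` in M23 and `f` a function on the code words vanishing
at `none` trivialising the defect of the factor set at `π`.
-/

set_option autoImplicit false

namespace CfsgLib.Golay.Parker

open Cfsg CfsgLib.Golay

/-- The code words vanishing at the extra point. -/
def punctured : Submodule (ZMod 2) (GolayPt → ZMod 2) :=
  golayCode ⊓ LinearMap.ker (LinearMap.proj none)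

theorem mem_punctured {w : GolayPt → ZMod 2} : w ∈ punctured ↔ w ∈ golayCode ∧ w none = 0 := by
  simp [punctured]

theorem m23_mem {π : ↥Spor.M23} : (π : Equiv.Perm GolayPt) ∈ M24 ∧ (π : Equiv.Perm GolayPt) none = none :=
  π.2

/-- The action of M23 on punctured code words. -/
def vact (π : ↥Spor.M23) (x : ↥punctured) : ↥punctured :=
  ⟨act π x.1, mem_punctured.mpr ⟨act_mem m23_mem.1 (mem_punctured.mp x.2).1, by
    have h : ((π : Equiv.Perm GolayPt))⁻¹ none = none := by
      conv_lhs => rw [← (m23_mem (π := π)).2]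
      simp
    simp only [act, Function.comp_apply, h]
    exact (mem_punctured.mp x.2).2⟩⟩

theorem vact_add (π : ↥Spor.M23) (x y : ↥punctured) : vact π (x + y) = vact π x + vact π y := rfl

theorem vact_one (x : ↥punctured) : vact 1 x = x := Subtype.ext (act_one _)

theorem vact_mul (π σ : ↥Spor.M23) (x : ↥punctured) : vact (π * σ) x = vact π (vact σ x) :=
  Subtype.ext (act_mul _ _ _)

/-- The factor set on punctured code words. -/
def vth (a b : ↥punctured) : ZMod 2 := th a.1 b.1

/-- Elements of the extension. -/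
@[ext]
structure Ext where
  perm : ↥Spor.M23
  fn : ↥punctured → ZMod 2
  cond : ∀ a b, fn (a + b) + fn a + fn b = vth (vact perm a) (vact perm b) + vth a b

instance : One Ext :=
  ⟨⟨1, 0, fun a b => by simp [vact_one, CharTwo.add_self_eq_zero]⟩⟩

instance : Mul Ext :=
  ⟨fun x y => ⟨x.perm * y.perm, fun a => x.fn (vact y.perm a) + y.fn a, fun a b => by
    simp only [vact_mul, vact_add]
    linear_combination x.cond (vact y.perm a) (vact y.perm b) + y.cond a b +
      CharTwo.add_self_eq_zero (vth (vact y.perm a) (vact y.perm b))⟩⟩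

instance : Inv Ext :=
  ⟨fun x => ⟨x.perm⁻¹, fun a => x.fn (vact x.perm⁻¹ a), fun a b => by
    have h := x.cond (vact x.perm⁻¹ a) (vact x.perm⁻¹ b)
    simp only [← vact_add, ← vact_mul, mul_inv_cancel, vact_one] at h
    rw [h, add_comm]⟩⟩

@[simp] theorem one_perm : (1 : Ext).perm = 1 := rfl

@[simp] theorem one_fn (a : ↥punctured) : (1 : Ext).fn a = 0 := rfl

@[simp] theorem mul_perm (x y : Ext) : (x * y).perm = x.perm * y.perm := rfl

@[simp] theorem mul_fn (x y : Ext) (a : ↥punctured) : (x * y).fn a = x.fn (vact y.perm a) + y.fn a := rfl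

@[simp] theorem inv_perm (x : Ext) : x⁻¹.perm = x.perm⁻¹ := rfl

@[simp] theorem inv_fn (x : Ext) (a : ↥punctured) : x⁻¹.fn a = x.fn (vact x.perm⁻¹ a) := rfl

instance : Group Ext where
  mul_assoc x y z := Ext.ext (mul_assoc _ _ _) (funext fun a => by simp [vact_mul, add_assoc])
  one_mul x := Ext.ext (one_mul _) (funext fun a => by simp)
  mul_one x := Ext.ext (mul_one _) (funext fun a => by simp [vact_one])
  inv_mul_cancel x := Ext.ext (inv_mul_cancel _) (funext fun a => by
    simp [← vact_mul, vact_one, CharTwo.add_self_eq_zero])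

instance : Finite Ext :=
  Finite.of_injective (fun x : Ext => (x.perm, x.fn)) fun x y h => Ext.ext (congrArg Prod.fst h) (congrArg Prod.snd h)

/-- The projection onto M23. -/
def Ext.proj : Ext →* ↥Spor.M23 := MonoidHom.mk' (fun x => x.perm) fun _ _ => rfl

theorem proj_surjective : Function.Surjective Ext.proj := by
  intro π
  obtain ⟨f, hf⟩ := exists_lifts (m23_mem (π := π)).1
  exact ⟨⟨π, fun a => f a.1, fun a b => hf a.1 (mem_punctured.mp a.2).1 b.1 (mem_punctured.mp b.2).1⟩, rfl⟩

/-- The scalar product. -/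
def dot (w v : GolayPt → ZMod 2) : ZMod 2 := ∑ i, w i * v i

theorem dot_add_right (w u v : GolayPt → ZMod 2) : dot w (u + v) = dot w u + dot w v := by
  simp [dot, mul_add, Finset.sum_add_distrib]

theorem dot_add_left (u v w : GolayPt → ZMod 2) : dot (u + v) w = dot u w + dot v w := by
  simp [dot, add_mul, Finset.sum_add_distrib]

/-- The kernel element attached to a word. -/
def wordElt (w : GolayPt → ZMod 2) : ↥Ext.proj.ker :=
  ⟨⟨1, fun a => dot w a.1, fun a b => by
      rw [Submodule.coe_add, dot_add_right, vact_one, vact_one, CharTwo.add_self_eq_zero]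
      linear_combination CharTwo.add_self_eq_zero (dot w a.1) + CharTwo.add_self_eq_zero (dot w b.1)⟩, rfl⟩

/-- The module map. -/
def wordHom : (GolayPt → ZMod 2) →+ Additive ↥Ext.proj.ker :=
  AddMonoidHom.mk' (fun w => Additive.ofMul (wordElt w)) fun u v => by
    apply Additive.toMul.injective
    refine Subtype.ext (Ext.ext (one_mul _).symm (funext fun a => ?_))
    show dot (u + v) a.1 = dot u (vact 1 a).1 + dot v a.1
    rw [vact_one, dot_add_left]

theorem orth_basis : ∀ h < 4096,
    ((gens.all fun g => popc (Nat.land (Nat.shiftLeft h 12) g) % 2 == 0) == true) = (h == 0) := by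
  have H : (List.range 4096).all (fun h =>
      ((gens.all fun g => popc (Nat.land (Nat.shiftLeft h 12) g) % 2 == 0) == true) == (h == 0)) = true := by
    decide +kernel
  intro h hh
  exact eq_of_beq (List.all_eq_true.mp H h (List.mem_range.mpr hh))

theorem dec_eq_zero_iff {n : ℕ} (hn : n < 2 ^ 24) : dec n = 0 ↔ n = 0 := by
  refine ⟨fun h => ?_, fun h => by rw [h, dec_zero]⟩
  rw [← enc_dec hn, h, enc_zero]

theorem dot_eq_popc (u v : GolayPt → ZMod 2) : dot u v = ((popc (enc u &&& enc v) : ℕ) : ZMod 2) := by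
  rw [dot, sum_mul_eq_card, enc_eq_encS u, enc_eq_encS v, ← encS_inter, popc_encS]

theorem mem_golayCode_of_orth {w : GolayPt → ZMod 2} (h : ∀ c ∈ golayCode, dot w c = 0) :
    w ∈ golayCode := by
  set u : ℕ := enc w ^^^ codeWord (crd w) with hu
  have hlt : u < 2 ^ 24 := Nat.xor_lt_two_pow (enc_lt _) (codeWord_lt _)
  have hlow : u &&& 4095 = 0 := by
    rw [hu, Nat.and_xor_distrib_right, codeWord_and _ (crd_lt w)]
    exact Nat.xor_self _
  have hu' : (u / 2 ^ 12) <<< 12 = u := by
    have : u % 2 ^ 12 = 0 := by rw [← Nat.and_two_pow_sub_one_eq_mod]; exact hlow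
    rw [Nat.shiftLeft_eq]
    omega
  have hdiv : u / 2 ^ 12 < 4096 := by omega
  have key := orth_basis _ hdiv
  have hall : (gens.all fun g => popc (Nat.land (Nat.shiftLeft (u / 2 ^ 12) 12) g) % 2 == 0) = true := by
    rw [List.all_eq_true]
    intro g hg
    have hg' : g < 2 ^ 24 := by revert g; decide +kernel
    have hgc : dec g ∈ golayCode := dec_mem_of_isCode (isCode_gens g hg)
    have hd : dot (dec u) (dec g) = 0 := by
      rw [hu, dec_xor, dec_enc, dot_add_left, h _ hgc]
      simpa [dot] using self_orthogonal (dec_codeWord_mem (crd w)) hgc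
    rw [dot_eq_popc, enc_dec hlt, enc_dec hg', ZMod.natCast_eq_zero_iff_even, Nat.even_iff] at hd
    simp only [beq_iff_eq]
    show popc ((u / 2 ^ 12) <<< 12 &&& g) % 2 = 0
    rw [hu']
    omega
  rw [hall] at key
  have hz : u / 2 ^ 12 = 0 := by simpa using key.symm
  have : u = 0 := by rw [← hu', hz]; rfl
  rw [mem_golayCode, Nat.xor_eq_zero_iff.mp this]
  exact isCode_codeWord _

theorem none_sum : (fun _ : GolayPt => (1 : ZMod 2)) ∈ golayCode :=
  Submodule.subset_span (Set.mem_union_right _ rfl)

theorem dot_single (v : GolayPt → ZMod 2) : dot (Pi.single none 1) v = v none := by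
  simp [dot, Pi.single_apply]

theorem wordHom_eq_zero_iff (w : GolayPt → ZMod 2) :
    wordHom w = 0 ↔ (w ∈ golayCode ∨ w + Pi.single none 1 ∈ golayCode) := by
  have h0 : wordHom w = 0 ↔ ∀ a : ↥punctured, dot w a.1 = 0 := by
    constructor
    · intro h a
      exact congrFun (congrArg (fun x : ↥Ext.proj.ker => (x : Ext).fn) (congrArg Additive.toMul h)) a
    · intro h
      exact congrArg Additive.ofMul (Subtype.ext (Ext.ext rfl (funext h)) : wordElt w = 1)
  rw [h0]
  constructor
  · intro h
    have hsplit : ∀ c ∈ golayCode, dot w c = c none * dot w fun _ => 1 := by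
      intro c hc
      rcases (show c none = 0 ∨ c none = 1 from by generalize c none = a; revert a; decide) with h0 | h1
      · rw [h0, zero_mul]; exact h ⟨c, mem_punctured.mpr ⟨hc, h0⟩⟩
      · have := h ⟨c + fun _ => 1, mem_punctured.mpr ⟨Submodule.add_mem _ hc none_sum, by
          simp [h1, CharTwo.add_self_eq_zero]⟩⟩
        rw [dot_add_right] at this
        rw [h1, one_mul]
        exact CharTwo.add_eq_zero.mp this
    rcases (show (dot w fun _ => 1) = 0 ∨ (dot w fun _ => 1) = 1 from by
      generalize (dot w fun _ => 1) = a; revert a; decide) with h0 | h1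
    · exact Or.inl (mem_golayCode_of_orth fun c hc => by rw [hsplit c hc, h0, mul_zero])
    · refine Or.inr (mem_golayCode_of_orth fun c hc => ?_)
      rw [dot_add_left, dot_single, hsplit c hc, h1, mul_one, CharTwo.add_self_eq_zero]
  · intro h a
    obtain ⟨ha, ha0⟩ := mem_punctured.mp a.2
    rcases h with h | h
    · exact self_orthogonal h ha
    · have := self_orthogonal h ha
      change dot (w + Pi.single none 1) a.1 = 0 at this
      rwa [dot_add_left, dot_single, ha0, add_zero] at this

theorem wordHom_surjective : Function.Surjective wordHom := by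
  suffices H : ∀ y : ↥Ext.proj.ker, ∃ w, (wordHom w).toMul = y by
    intro n
    obtain ⟨w, hw⟩ := H n.toMul
    exact ⟨w, Additive.toMul.injective hw⟩
  rintro ⟨x, hx⟩
  have hperm : x.perm = 1 := hx
  have hadd : ∀ a b, x.fn (a + b) = x.fn a + x.fn b := by
    intro a b
    have := x.cond a b
    rw [hperm, vact_one, vact_one, CharTwo.add_self_eq_zero, add_assoc] at this
    exact CharTwo.add_eq_zero.mp this
  obtain ⟨L, hL⟩ := LinearMap.exists_extend ((AddMonoidHom.mk' x.fn hadd).toZModLinearMap 2)
  refine ⟨fun i => L (Pi.single i 1), ?_⟩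
  refine Subtype.ext (Ext.ext ?_ (funext fun a => ?_))
  · exact hperm.symm
  · show dot (fun i => L (Pi.single i 1)) a.1 = _
    have h1 : L a.1 = x.fn a := LinearMap.congr_fun hL a
    rw [dot, ← h1, LinearMap.pi_apply_eq_sum_univ L a.1]
    refine Finset.sum_congr rfl fun i _ => ?_
    rw [smul_eq_mul, mul_comm]
    congr 2
    funext j
    simp [Pi.single_apply, eq_comm]

theorem coe_wordHom_conj (g : Ext) (w : GolayPt → ZMod 2) :
    ((wordHom (act g.perm w)).toMul : Ext) = g * ((wordHom w).toMul : Ext) * g⁻¹ := by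
  refine Ext.ext (by simp [show ∀ v, ((wordHom v).toMul : Ext).perm = 1 from fun _ => rfl]) (funext fun a => ?_)
  show dot (act g.perm w) a.1 = g.fn (vact 1 (vact g.perm⁻¹ a)) + dot w (vact g.perm⁻¹ a).1 + g.fn (vact g.perm⁻¹ a)
  rw [vact_one, add_comm (g.fn _) (dot w _), add_assoc, CharTwo.add_self_eq_zero, add_zero]
  show ∑ i, w (((g.perm : Equiv.Perm GolayPt))⁻¹ i) * a.1 i =
    ∑ i, w i * a.1 ((((g.perm⁻¹ : ↥Spor.M23) : Equiv.Perm GolayPt))⁻¹ i)
  rw [← Equiv.sum_comp (g.perm : Equiv.Perm GolayPt)]
  simp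

end CfsgLib.Golay.Parker
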