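import Cfsg.Agent.Lib.Golay.ParkerCheck
import Cfsg.Agent.Lib.Golay.M24Group

/-!
# The Parker loop factor set is invariant under M24 up to coboundaries

For every `π` in `M24` there is a function `f` on code words with
`f (a + b) + f a + f b = θ (aπ) (bπ) + θ a b`.
-/

set_option autoImplicit false

namespace CfsgLib.Golay.Parker

open Cfsg CfsgLib.Golay

/-- A bit as an element of `ZMod 2`. -/
def b2z (b : Bool) : ZMod 2 := bif b then 1 else 0

theorem b2z_xor : ∀ a b : Bool, b2z (a ^^ b) = b2z a + b2z b := by decide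

theorem xor_lt {a b : ℕ} (ha : a < 4096) (hb : b < 4096) : a ^^^ b < 4096 :=
  Nat.xor_lt_two_pow (n := 12) ha hb

theorem theta_xor_right (A B C : ℕ) : theta A (B ^^^ C) = (theta A B ^^ theta A C) := by
  simp only [theta, spanWord_xor, Nat.testBit_xor]

theorem theta_zero_right (A : ℕ) : theta A 0 = false := by
  simp [theta, spanWord_zero]

theorem img_xor (l : List ℕ) (A B : ℕ) : img l (A ^^^ B) = img l A ^^^ img l B := spanWord_xor _ _ _

theorem img_zero (l : List ℕ) : img l 0 = 0 := spanWord_zero _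

theorem defect_xor_right (l : List ℕ) (A B C : ℕ) :
    defect l A (B ^^^ C) = (defect l A B ^^ defect l A C) := by
  simp only [defect, img_xor, theta_xor_right]
  cases theta (img l A) (img l B) <;> cases theta A B <;> simp

theorem exists_top {n B : ℕ} (hB : B < 2 ^ (n + 1)) (hB' : ¬ B < 2 ^ n) : B ^^^ 2 ^ n < 2 ^ n := by
  have hbit : B.testBit n = true := by
    by_contra h
    apply hB'
    apply Nat.lt_pow_two_of_testBit
    intro i hi
    rcases Nat.eq_or_lt_of_le hi with rfl | hlt
    · simpa using h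
    · exact Nat.testBit_lt_two_pow (hB.trans_le (Nat.pow_le_pow_right (by norm_num) hlt))
  apply Nat.lt_pow_two_of_testBit
  intro i hi
  rw [Nat.testBit_xor, Nat.testBit_two_pow]
  rcases Nat.eq_or_lt_of_le hi with rfl | hlt
  · simp [hbit]
  · simp [Nat.ne_of_lt hlt, Nat.testBit_lt_two_pow (hB.trans_le (Nat.pow_le_pow_right (by norm_num) hlt))]

theorem par_xor : ∀ n, n ≤ 12 → ∀ A < 4096, ∀ B < 2 ^ n, par (A ^^^ B) = (par A ^^ par B) := by
  have hstep : ∀ A < 4096, ∀ j < 12, par (A ^^^ 2 ^ j) = !par A := by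
    intro A hA j hj
    have h := List.all_eq_true.mp (List.all_eq_true.mp par_step A (List.mem_range.mpr hA)) j
      (List.mem_range.mpr hj)
    simpa using h
  have h0 : par 0 = false := by decide +kernel
  intro n
  induction n with
  | zero =>
    intro _ A _ B hB
    have : B = 0 := by simpa using hB
    subst this
    simp [h0]
  | succ n ih =>
    intro hn A hA B hB
    by_cases hlt : B < 2 ^ n
    · exact ih (by omega) A hA B hlt
    · have hB' := exists_top hB hlt
      have hB12 : B ^^^ 2 ^ n < 4096 :=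
        hB'.trans_le (le_trans (Nat.pow_le_pow_right (by norm_num) (show n ≤ 12 by omega)) (le_refl _))
      have e : B = (B ^^^ 2 ^ n) ^^^ 2 ^ n := by rw [Nat.xor_assoc, Nat.xor_self, Nat.xor_zero]
      have h1 : par (A ^^^ B) = !par (A ^^^ (B ^^^ 2 ^ n)) := by
        conv_lhs => rw [e, ← Nat.xor_assoc]
        exact hstep _ (xor_lt hA hB12) n (by omega)
      have h2 : par B = !par (B ^^^ 2 ^ n) := by
        conv_lhs => rw [e]
        exact hstep _ hB12 n (by omega)
      rw [h1, h2, ih (by omega) A hA _ hB']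
      cases par A <;> simp

theorem checkAll_spec {N A pA : ℕ} : ∀ {L : List (ℕ × ℕ × ℕ × ℕ)}, checkAll N A pA L = true →
    ∀ q ∈ L, checkAt q.1 q.2.1 N q.2.2.1 q.2.2.2 A pA = true := by
  intro L
  induction L with
  | nil => intro _ q hq; simp at hq
  | cons x L ih =>
    obtain ⟨Tl, T0, r, e⟩ := x
    intro h q hq
    simp only [checkAll, Bool.and_eq_true] at h
    rcases List.mem_cons.mp hq with rfl | hq
    · exact h.1
    · exact ih h.2 q hq

variable {l rows : List ℕ} {N : ℕ}

theorem defect_basis (h : stepCheck l rows N = true) {A : ℕ} (hA : A < 4096) {j : ℕ} (hj : j < 12) :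
    defect l A (2 ^ j) = par (A &&& rows.getD j 0) ∧ defect l A (2 ^ j) = cobd N A (2 ^ j) := by
  simp only [stepCheck, Bool.and_eq_true] at h
  have h1 := checkAll_spec (List.all_eq_true.mp h.2 A (List.mem_range.mpr hA))
    _ (List.mem_map.mpr ⟨j, List.mem_range.mpr hj, rfl⟩)
  simp only [checkAt, Bool.and_eq_true, beq_iff_eq] at h1
  exact ⟨h1.1, h1.2⟩

theorem defect_eq_cobd (h : stepCheck l rows N = true) : ∀ n, n ≤ 12 → ∀ A < 4096, ∀ B < 2 ^ n,
    defect l A B = cobd N A B := by
  intro n
  induction n with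
  | zero =>
    intro _ A _ B hB
    have : B = 0 := by simpa using hB
    subst this
    simp only [stepCheck, Bool.and_eq_true, beq_iff_eq] at h
    simp [defect, cobd, img_zero, theta_zero_right, h.1]
  | succ n ih =>
    intro hn A hA B hB
    by_cases hlt : B < 2 ^ n
    · exact ih (by omega) A hA B hlt
    · have hn' : n < 12 := by omega
      have hB' := exists_top hB hlt
      have hB12 : B ^^^ 2 ^ n < 4096 :=
        hB'.trans_le (le_trans (Nat.pow_le_pow_right (by norm_num) (show n ≤ 12 by omega)) (le_refl _))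
      have e : B = (B ^^^ 2 ^ n) ^^^ 2 ^ n := by rw [Nat.xor_assoc, Nat.xor_self, Nat.xor_zero]
      have i1 : defect l A (B ^^^ 2 ^ n) = cobd N A (B ^^^ 2 ^ n) := ih (by omega) A hA _ hB'
      generalize B ^^^ 2 ^ n = B' at e hB12 i1
      subst e
      obtain ⟨a1, a2⟩ := defect_basis h hA hn'
      obtain ⟨b1, b2⟩ := defect_basis h hB12 hn'
      obtain ⟨c1, c2⟩ := defect_basis h (xor_lt hA hB12) hn'
      have hr : A &&& rows.getD n 0 < 4096 := lt_of_le_of_lt Nat.and_le_left hA
      have hr' : B' &&& rows.getD n 0 < 4096 := lt_of_le_of_lt Nat.and_le_left hB12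
      have hadd : defect l (A ^^^ B') (2 ^ n) = (defect l A (2 ^ n) ^^ defect l B' (2 ^ n)) := by
        rw [c1, a1, b1, Nat.and_xor_distrib_right]
        exact par_xor 12 le_rfl _ hr _ hr'
      rw [a2, b2, c2] at hadd
      rw [defect_xor_right, i1, a2]
      simp only [cobd, ← Nat.xor_assoc] at *
      revert hadd
      generalize N.testBit (A ^^^ B' ^^^ 2 ^ n) = x1
      generalize N.testBit (A ^^^ B') = x2
      generalize N.testBit (A ^^^ 2 ^ n) = x3
      generalize N.testBit (B' ^^^ 2 ^ n) = x4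
      generalize N.testBit A = x5
      generalize N.testBit B' = x6
      generalize N.testBit (2 ^ n) = x7
      revert x1 x2 x3 x4 x5 x6 x7
      decide

theorem spanWord_map {g : ℕ → ℕ} (h0 : g 0 = 0) (hx : ∀ a b, g (a ^^^ b) = g a ^^^ g b) :
    ∀ (gs : List ℕ) (n : ℕ), g (spanWord gs n) = spanWord (gs.map g) n := by
  intro gs
  induction gs with
  | nil => intro n; exact h0
  | cons a gs ih =>
    intro n
    rw [List.map_cons, spanWord_cons, spanWord_cons, hx, ih]
    cases n.testBit 0 <;> simp [h0]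

/-- The twelve information coordinates of a word. -/
def crd (w : GolayPt → ZMod 2) : ℕ := enc w &&& 4095

theorem crd_lt (w : GolayPt → ZMod 2) : crd w < 4096 :=
  lt_of_le_of_lt Nat.and_le_right (by norm_num)

theorem crd_add (a b : GolayPt → ZMod 2) : crd (a + b) = crd a ^^^ crd b := by
  rw [crd, enc_add, Nat.and_xor_distrib_right]; rfl

theorem enc_eq_codeWord {w : GolayPt → ZMod 2} (hw : w ∈ golayCode) : enc w = codeWord (crd w) :=
  (isCode_iff.mp (mem_golayCode.mp hw)).symm

/-- The word `w ∘ π⁻¹`. -/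
def act (π : Equiv.Perm GolayPt) (w : GolayPt → ZMod 2) : GolayPt → ZMod 2 := w ∘ ⇑π⁻¹

theorem act_one (w : GolayPt → ZMod 2) : act 1 w = w := by
  funext p; simp [act]

theorem act_mul (π σ : Equiv.Perm GolayPt) (w : GolayPt → ZMod 2) :
    act (π * σ) w = act π (act σ w) := by
  funext p; simp [act, mul_inv_rev]

theorem act_add (π : Equiv.Perm GolayPt) (v w : GolayPt → ZMod 2) :
    act π (v + w) = act π v + act π w := rfl

theorem enc_act (π : Equiv.Perm GolayPt) (w : GolayPt → ZMod 2) :
    enc (act π w) = pmap (toList π) (enc w) := by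
  rw [enc_eq_encS, enc_eq_encS, ← encS_smul]
  congr 1
  ext p
  rw [← Equiv.apply_symm_apply π p, ← Equiv.Perm.smul_def, Finset.smul_mem_smul_finset_iff]
  unfold support₂
  exact Finset.mem_filter.trans ((by simp [act]) : _ ↔ _) |>.trans Finset.mem_filter.symm

theorem act_mem {π : Equiv.Perm GolayPt} (hπ : π ∈ M24) {w : GolayPt → ZMod 2} (hw : w ∈ golayCode) :
    act π w ∈ golayCode := by
  rw [mem_golayCode, enc_act, enc_eq_codeWord hw]
  exact isCode_pmap (mem_M24_iff_isPres.mp hπ) _

theorem crd_act (π : Equiv.Perm GolayPt) {w : GolayPt → ZMod 2} (hw : w ∈ golayCode) :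
    crd (act π w) = img (toList π) (crd w) := by
  rw [crd, enc_act, enc_eq_codeWord hw, codeWord,
    spanWord_map (g := fun n => pmap (toList π) n &&& 4095)]
  · rfl
  · simp [pmap, spanWord_zero]
  · intro a b
    simp [pmap, spanWord_xor, Nat.and_xor_distrib_right]

/-- The factor set on words. -/
def th (a b : GolayPt → ZMod 2) : ZMod 2 := b2z (theta (crd a) (crd b))

/-- `π` is in `M24` and `f` trivialises the defect of the factor set at `π`. -/
def Lifts (π : Equiv.Perm GolayPt) (f : (GolayPt → ZMod 2) → ZMod 2) : Prop :=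
  ∀ a ∈ golayCode, ∀ b ∈ golayCode, f (a + b) + f a + f b = th (act π a) (act π b) + th a b

theorem lifts_of_check {π : Equiv.Perm GolayPt} (hl : toList π = l) (h : stepCheck l rows N = true) :
    Lifts π fun w => b2z (N.testBit (crd w)) := by
  intro a ha b hb
  subst hl
  have key := defect_eq_cobd h 12 le_rfl (crd a) (crd_lt a) (crd b) (crd_lt b)
  simp only [th, crd_act π ha, crd_act π hb, crd_add, ← b2z_xor]
  exact congrArg b2z key.symm

theorem exists_lifts {π : Equiv.Perm GolayPt} (hπ : π ∈ M24) : ∃ f, Lifts π f := by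
  rw [← G0_eq_M24] at hπ
  suffices H : π ∈ M24 ∧ ∃ f, Lifts π f from H.2
  unfold G0 at hπ
  induction hπ using Subgroup.closure_induction'' with
  | mem x hx =>
    simp only [Set.mem_insert_iff, Set.mem_singleton_iff] at hx
    rcases hx with rfl | rfl | rfl
    · exact ⟨shiftPerm_mem_M24, _, lifts_of_check (toList_shiftPerm.trans (by decide +kernel)) check_S⟩
    · exact ⟨projInv_mem_M24, _, lifts_of_check (toList_projInv.trans (by decide +kernel)) check_T⟩
    · exact ⟨cubeTwist_mem_M24, _, lifts_of_check (toList_cubeTwist.trans (by decide +kernel)) check_C⟩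
  | inv_mem x hx =>
    simp only [Set.mem_insert_iff, Set.mem_singleton_iff] at hx
    have aux : ∀ {σ : Equiv.Perm GolayPt}, σ ∈ M24 → (∃ f, Lifts σ f) →
        σ⁻¹ ∈ M24 ∧ ∃ f, Lifts σ⁻¹ f := by
      rintro σ hσ ⟨f, hf⟩
      refine ⟨inv_mem hσ, fun w => f (act σ⁻¹ w), fun a ha b hb => ?_⟩
      have := hf _ (act_mem (inv_mem hσ) ha) _ (act_mem (inv_mem hσ) hb)
      simp only [← act_mul, mul_inv_cancel, act_one, ← act_add] at this
      rw [this, add_comm]
    rcases hx with rfl | rfl | rfl
    · exact aux shiftPerm_mem_M24 ⟨_, lifts_of_check (toList_shiftPerm.trans (by decide +kernel)) check_S⟩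
    · exact aux projInv_mem_M24 ⟨_, lifts_of_check (toList_projInv.trans (by decide +kernel)) check_T⟩
    · exact aux cubeTwist_mem_M24 ⟨_, lifts_of_check (toList_cubeTwist.trans (by decide +kernel)) check_C⟩
  | one => exact ⟨one_mem _, fun _ => 0, fun a _ b _ => by simp [act_one, CharTwo.add_self_eq_zero]⟩
  | mul x y _ _ ihx ihy =>
    obtain ⟨hx, f, hf⟩ := ihx
    obtain ⟨hy, g, hg⟩ := ihy
    refine ⟨mul_mem hx hy, fun w => f (act y w) + g w, fun a ha b hb => ?_⟩
    have h1 := hf _ (act_mem hy ha) _ (act_mem hy hb)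
    have h2 := hg a ha b hb
    simp only [← act_mul, ← act_add] at h1
    linear_combination h1 + h2 + CharTwo.add_self_eq_zero (th (act y a) (act y b))

end CfsgLib.Golay.Parker
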