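import Cfsg.Agent.Lib.Golay.ParkerExtension

/-!
# The extension of M23 by its cocode module does not split

Three involutions of M23 and two relations they satisfy admit no lift to `Ext` satisfying both.
-/

set_option autoImplicit false

namespace CfsgLib.Golay.Parker

open Cfsg CfsgLib.Golay

/-- Image of a point under an image list. -/
def listMap (l : List ℕ) (p : GolayPt) : GolayPt :=
  if h : l.getD (idx p).val 0 < 24 then pt ⟨l.getD (idx p).val 0, h⟩ else p

/-- The three generators' image lists, tables and rows. -/
def genList : Fin 3 → List ℕ := ![permAl, permBl, permDl]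

/-- The tables of the three generators. -/
def genTab : Fin 3 → ℕ := ![tabA, tabB, tabD]

theorem listMap_genList : ∀ i : Fin 3, ∀ p : GolayPt, listMap (genList i) (listMap (genList i) p) = p := by
  decide +kernel

/-- The three involutions as permutations. -/
def genPerm (i : Fin 3) : Equiv.Perm GolayPt :=
  ⟨listMap (genList i), listMap (genList i), listMap_genList i, listMap_genList i⟩

theorem toList_genPerm : ∀ i : Fin 3, toList (genPerm i) = genList i := by decide +kernel

theorem genPerm_mem (i : Fin 3) : genPerm i ∈ Spor.M23 := by
  refine ⟨mem_M24_iff_isPres.mpr ?_, ?_⟩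
  · rw [toList_genPerm]; revert i; decide +kernel
  · show genPerm i none = none
    revert i; decide +kernel

/-- The three involutions in M23. -/
def gen (i : Fin 3) : ↥Spor.M23 := ⟨genPerm i, genPerm_mem i⟩

theorem lifts_gen (i : Fin 3) : Lifts (genPerm i) fun w => b2z ((genTab i).testBit (crd w)) := by
  fin_cases i
  · exact lifts_of_check (toList_genPerm 0) check_A
  · exact lifts_of_check (toList_genPerm 1) check_B
  · exact lifts_of_check (toList_genPerm 2) check_D

/-- The first relator. -/
def relOne : List (Fin 3) := [0, 0]

/-- The second relator. -/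
def relTwo : List (Fin 3) := [0, 1, 0, 2, 0, 1, 2, 1, 2, 0, 1, 2]

theorem gen_relOne : (relOne.map gen).prod = 1 := by decide +kernel

theorem gen_relTwo : (relTwo.map gen).prod = 1 := by decide +kernel

/-- The punctured code word with given coordinates. -/
def vec (A : ℕ) : ↥punctured :=
  if h : dec (codeWord A) none = 0 then ⟨dec (codeWord A), mem_punctured.mpr ⟨dec_codeWord_mem A, h⟩⟩ else 0

/-- Final position of a point under a word. -/
def pos : List (Fin 3) → ↥punctured → ↥punctured
  | [], x => x
  | i :: t, x => vact (gen i) (pos t x)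

/-- The evaluation points of a word. -/
def trace : List (Fin 3) → ↥punctured → List (Fin 3 × ↥punctured)
  | [], _ => []
  | i :: t, x => (i, pos t x) :: trace t x

theorem fn_prod (h : Fin 3 → Ext) (hh : ∀ i, (h i).perm = gen i) : ∀ (w : List (Fin 3)) (x : ↥punctured),
    vact (w.map h).prod.perm x = pos w x ∧
      (w.map h).prod.fn x = ((trace w x).map fun q => (h q.1).fn q.2).sum := by
  intro w
  induction w with
  | nil => intro x; simp [pos, trace, vact_one]
  | cons i t ih =>
    intro x
    simp [pos, trace, vact_mul, hh, ih x]

/-- The evaluation points of the certificate. -/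
def certPoints : List (Fin 3 × ↥punctured) :=
  trace relOne (vec 2) ++ trace relOne (vec 8) ++
    (trace relTwo (vec 17) ++ trace relTwo (vec 65) ++ trace relTwo (vec 2049))

theorem certPoints_sum :
    ∀ i : Fin 3, (((certPoints.filter fun q => q.1 == i).map fun q => q.2.1).sum) = 0 := by
  decide +kernel

theorem certPoints_const :
    (certPoints.map fun q => b2z ((genTab q.1).testBit (crd q.2.1))).sum = 1 := by
  decide +kernel

theorem sum_linear (l : Fin 3 → ↥punctured →+ ZMod 2) (L : List (Fin 3 × ↥punctured)) :
    (L.map fun q => l q.1 q.2).sum =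
      ∑ i, l i ((L.filter fun q => q.1 == i).map fun q => q.2).sum := by
  induction L with
  | nil => simp
  | cons q L ih =>
    obtain ⟨j, x⟩ := q
    have hstep : ∀ i, l i (((⟨j, x⟩ :: L).filter fun q => q.1 == i).map fun q => q.2).sum =
        (if j = i then l i x else 0) + l i ((L.filter fun q => q.1 == i).map fun q => q.2).sum := by
      intro i
      by_cases hji : j = i
      · subst hji; simp
      · simp [hji]
    simp only [List.map_cons, List.sum_cons, ih]
    rw [Finset.sum_congr rfl fun i _ => hstep i, Finset.sum_add_distrib, Finset.sum_ite_eq]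
    simp

theorem not_exists_complement (H : Subgroup Ext) (hinf : H ⊓ Ext.proj.ker = ⊥) :
    H ⊔ Ext.proj.ker ≠ ⊤ := by
  intro hsup
  have hex : ∀ i, ∃ x ∈ H, x.perm = gen i := by
    intro i
    obtain ⟨g, hg⟩ := proj_surjective (gen i)
    have : g ∈ H ⊔ Ext.proj.ker := hsup ▸ Subgroup.mem_top g
    obtain ⟨x, hx, n, hn, rfl⟩ := Subgroup.mem_sup_of_normal_right.mp this
    rw [map_mul, MonoidHom.mem_ker.mp hn, mul_one] at hg
    exact ⟨x, hx, hg⟩
  choose h hH hperm using hex
  have hrel : ∀ w : List (Fin 3), (w.map gen).prod = 1 → ∀ x,
      ((trace w x).map fun q => (h q.1).fn q.2).sum = 0 := by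
    intro w hw x
    rw [← (fn_prod h hperm w x).2]
    have h1 : (w.map h).prod ∈ H ⊓ Ext.proj.ker := by
      refine ⟨list_prod_mem (by simp [hH]), ?_⟩
      show Ext.proj (w.map h).prod = 1
      rw [map_list_prod, List.map_map]
      rw [← hw]
      congr 1
      exact List.map_congr_left fun i _ => hperm i
    rw [hinf, Subgroup.mem_bot] at h1
    rw [h1, one_fn]
  have htotal : (certPoints.map fun q => (h q.1).fn q.2).sum = 0 := by
    simp only [certPoints, List.map_append, List.sum_append, hrel relOne gen_relOne,
      hrel relTwo gen_relTwo, add_zero]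
  have hl : ∀ i, ∀ a b : ↥punctured,
      ((h i).fn (a + b) + b2z ((genTab i).testBit (crd (a + b).1))) =
        ((h i).fn a + b2z ((genTab i).testBit (crd a.1))) + ((h i).fn b + b2z ((genTab i).testBit (crd b.1))) := by
    intro i a b
    have h1 := (h i).cond a b
    rw [hperm i] at h1
    have h2 := lifts_gen i a.1 (mem_punctured.mp a.2).1 b.1 (mem_punctured.mp b.2).1
    refine CharTwo.add_eq_zero.mp ?_
    change (h i).fn (a + b) + (h i).fn a + (h i).fn b = th (act (genPerm i) a.1) (act (genPerm i) b.1) + th a.1 b.1 at h1
    rw [Submodule.coe_add]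
    linear_combination h1 + h2 +
      CharTwo.add_self_eq_zero (th (act (genPerm i) a.1) (act (genPerm i) b.1) + th a.1 b.1)
  let l : Fin 3 → ↥punctured →+ ZMod 2 := fun i =>
    AddMonoidHom.mk' (fun a => (h i).fn a + b2z ((genTab i).testBit (crd a.1))) (hl i)
  have hlin : (certPoints.map fun q => l q.1 q.2).sum = 0 := by
    rw [sum_linear]
    refine Finset.sum_eq_zero fun i _ => ?_
    have : ((certPoints.filter fun q => q.1 == i).map fun q => q.2).sum = 0 := by
      apply Subtype.ext
      rw [← Submodule.subtype_apply, map_list_sum, List.map_map]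
      exact certPoints_sum i
    rw [this, map_zero]
  simp only [l, AddMonoidHom.mk'_apply, List.sum_map_add, htotal, certPoints_const, zero_add] at hlin
  exact one_ne_zero hlin

end CfsgLib.Golay.Parker
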