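import Cfsg.Agent.Lib.Golay.StabAction
import Cfsg.Agent.Lib.Golay.StabData

/-!
# The stabiliser of a sextet: its action on the tetrads and its normal 2-subgroup
-/

set_option autoImplicit false
set_option maxRecDepth 20000
-- one kernel check at a time keeps the peak memory low
set_option Elab.async false

namespace CfsgLib.Golay

open Cfsg
open scoped Pointwise

/-- The tetrad masks of the reference sextet. -/
def baseTets : List ℕ := tets baseSextetEntry

/-- `l` fixes every tetrad of the reference sextet. -/
def fixTets (l : List ℕ) : Bool := baseTets.all fun t => Nat.beq (pmap l t) t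

/-- The elements of the listed kernel squaring to one. -/
def sqOneList : List (List ℕ) := sextKernel.filter fun l => comp l l == List.range 24

/-- `a * b` squares to one, for all listed `b`. -/
def sqOneRow (a : List ℕ) : Bool := sqOneList.all fun b => comp (comp a b) (comp a b) == List.range 24

theorem sqOne_rows0 : ((sqOneList.drop 0).take 8).all sqOneRow = true := by decide +kernel

theorem sqOne_rows1 : ((sqOneList.drop 8).take 8).all sqOneRow = true := by decide +kernel

theorem sqOne_rows2 : ((sqOneList.drop 16).take 8).all sqOneRow = true := by decide +kernel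

theorem sqOne_rows3 : ((sqOneList.drop 24).take 8).all sqOneRow = true := by decide +kernel

theorem sqOne_rows4 : ((sqOneList.drop 32).take 8).all sqOneRow = true := by decide +kernel

theorem sqOne_rows5 : ((sqOneList.drop 40).take 8).all sqOneRow = true := by decide +kernel

theorem sqOne_rows6 : ((sqOneList.drop 48).take 8).all sqOneRow = true := by decide +kernel

theorem sqOne_rows7 : ((sqOneList.drop 56).take 8).all sqOneRow = true := by decide +kernel

theorem sqOne_rows {a : List ℕ} (ha : a ∈ sqOneList) (hlen : sqOneList.length = 64) : sqOneRow a = true := by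
  obtain ⟨i, hi, rfl⟩ := List.getElem_of_mem ha
  have key : ∀ k : ℕ, ((sqOneList.drop (8 * k)).take 8).all sqOneRow = true → i / 8 = k →
      sqOneRow sqOneList[i] = true := by
    intro k h hk
    refine List.all_eq_true.mp h _ (List.mem_iff_getElem.mpr ⟨i - 8 * k, ?_, ?_⟩)
    · simp only [List.length_take, List.length_drop]
      omega
    · simp only [List.getElem_take, List.getElem_drop]
      congr 1
      omega
  rcases (show i / 8 = 0 ∨ i / 8 = 1 ∨ i / 8 = 2 ∨ i / 8 = 3 ∨ i / 8 = 4 ∨ i / 8 = 5 ∨ i / 8 = 6 ∨ i / 8 = 7 by omega)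
    with h | h | h | h | h | h | h | h
  · exact key 0 sqOne_rows0 h
  · exact key 1 sqOne_rows1 h
  · exact key 2 sqOne_rows2 h
  · exact key 3 sqOne_rows3 h
  · exact key 4 sqOne_rows4 h
  · exact key 5 sqOne_rows5 h
  · exact key 6 sqOne_rows6 h
  · exact key 7 sqOne_rows7 h

theorem sextKernel_list : (sextKernel.all fun l => genOK l && fixSext l && fixTets l) = true ∧
    sextKernel.length = 192 ∧ incr (sextKernel.map fun l => l.foldl (fun b a => Nat.add a (Nat.mul 24 b)) 0) = true ∧
    sqOneList.length = 64 := by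
  decide +kernel

theorem sextKernel_ok : (sextKernel.all fun l => genOK l && fixSext l && fixTets l) = true ∧
    sextKernel.length = 192 ∧ incr (sextKernel.map fun l => l.foldl (fun b a => Nat.add a (Nat.mul 24 b)) 0) = true ∧
    (sextKernel.filter fun l => comp l l == List.range 24).length = 64 ∧
    ((sextKernel.filter fun l => comp l l == List.range 24).all fun a =>
      (sextKernel.filter fun l => comp l l == List.range 24).all fun b =>
        comp (comp a b) (comp a b) == List.range 24) = true :=
  ⟨sextKernel_list.1, sextKernel_list.2.1, sextKernel_list.2.2.1, sextKernel_list.2.2.2,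
    List.all_eq_true.mpr fun _ ha => sqOne_rows ha sextKernel_list.2.2.2⟩

theorem tetGens_ok : gensOK fixSext [tetCycle, tetSwap] = true ∧
    ((List.range 6).all fun i => Nat.beq (pmap tetCycle (baseTets.getD i 0)) (baseTets.getD ((i + 1) % 6) 0) &&
      Nat.beq (pmap tetSwap (baseTets.getD i 0))
        (baseTets.getD (if i = 0 then 1 else if i = 1 then 0 else i) 0)) = true := by
  decide +kernel

theorem sextKernel_nodup : sextKernel.Nodup := (nodup_of_incr sextKernel_ok.2.2.1).of_map _

theorem baseTets_spec : (baseTets.map decS).toFinset = baseSextet ∧ (baseTets.map decS).Nodup := by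
  refine ⟨?_, tets_map_nodup baseSextetEntry_spec.1⟩
  rw [baseTets, tets_toFinset baseSextetEntry_spec.1, baseSextetEntry_spec.2]
  rfl

theorem baseTets_lt {t : ℕ} (ht : t ∈ baseTets) : t < 2 ^ 24 := tets_lt ht

/-- The tetrads of the reference sextet, numbered. -/
noncomputable def tetEquiv : Fin 6 ≃ ↥baseSextet :=
  Equiv.ofBijective
    (fun i => ⟨decS (baseTets.getD i.val 0), by
      rw [← baseTets_spec.1, List.mem_toFinset, List.mem_map]
      refine ⟨_, ?_, rfl⟩
      rw [List.getD_eq_getElem _ _ (show i.val < baseTets.length from i.isLt)]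
      exact List.getElem_mem _⟩)
    (by
      rw [Fintype.bijective_iff_injective_and_card]
      constructor
      · intro i j h
        have h' := congrArg Subtype.val h
        simp only [List.getD_eq_getElem _ _ (show i.val < baseTets.length from i.isLt),
          List.getD_eq_getElem _ _ (show j.val < baseTets.length from j.isLt)] at h'
        have hi : i.val < (baseTets.map decS).length := i.isLt
        have hj : j.val < (baseTets.map decS).length := j.isLt
        refine Fin.ext ((baseTets_spec.2.getElem_inj_iff (hi := hi) (hj := hj)).mp ?_)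
        rw [List.getElem_map, List.getElem_map]
        exact h'
      · rw [Fintype.card_fin, Fintype.card_coe, baseSextet, ← baseSextetEntry_spec.2]
        exact (card_sextetOfKey baseSextetEntry_spec.1).symm)

theorem tetEquiv_val (i : Fin 6) : ((tetEquiv i : ↥baseSextet) : Finset GolayPt) = decS (baseTets.getD i.val 0) :=
  rfl

theorem permOn_eq_of_tets (x : ↥(MulAction.stabilizer M24 baseSextet)) (σ : Equiv.Perm (Fin 6))
    (h : ∀ i : Fin 6, pmap (toList ((x : M24) : Equiv.Perm GolayPt)) (baseTets.getD i.val 0) =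
      baseTets.getD (σ i).val 0) : permOn baseSextet x = tetEquiv.permCongrHom σ := by
  refine Equiv.ext fun t => ?_
  obtain ⟨i, rfl⟩ := tetEquiv.surjective t
  apply Subtype.ext
  show _ = ((tetEquiv (σ (tetEquiv.symm (tetEquiv i))) : ↥baseSextet) : Finset GolayPt)
  rw [Equiv.symm_apply_apply, permOn_apply, tetEquiv_val, tetEquiv_val, ← h i]
  have hi : baseTets.getD i.val 0 ∈ baseTets := by
    rw [List.getD_eq_getElem _ _ (show i.val < baseTets.length from i.isLt)]; exact List.getElem_mem _
  exact smul_decS ((x : M24) : Equiv.Perm GolayPt) (baseTets_lt hi)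

theorem surjective_permOn_baseSextet : Function.Surjective (permOn baseSextet) := by
  set R := (permOn baseSextet).range.comap tetEquiv.permCongrHom.toMonoidHom with hR
  suffices R = ⊤ by
    intro e
    have : tetEquiv.permCongrHom.symm e ∈ R := this ▸ Subgroup.mem_top _
    rw [hR, Subgroup.mem_comap] at this
    obtain ⟨x, hx⟩ := this
    exact ⟨x, hx.trans (tetEquiv.permCongrHom.apply_symm_apply e)⟩
  have hgen := exists_gen fixSext_spec tetGens_ok.1
  have hc := List.all_eq_true.mp tetGens_ok.2
  have key : ∀ (l : List ℕ) (σ : Equiv.Perm (Fin 6)), l ∈ [tetCycle, tetSwap] →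
      (∀ i : Fin 6, pmap l (baseTets.getD i.val 0) = baseTets.getD (σ i).val 0) → σ ∈ R := by
    intro l σ hl hσ
    obtain ⟨g, rfl, hg⟩ := hgen l hl
    exact ⟨⟨g, hg⟩, permOn_eq_of_tets ⟨g, hg⟩ σ hσ⟩
  refine top_unique ((Equiv.Perm.closure_cycle_adjacent_swap isCycle_finRotate support_finRotate (0 : Fin 6)).ge.trans
    ((Subgroup.closure_le _).mpr ?_))
  rintro σ (rfl | rfl)
  · refine key tetCycle _ (by simp) fun i => ?_
    have h := (Bool.and_eq_true _ _ |>.mp (hc i.val (List.mem_range.mpr i.isLt))).1
    rw [Nat.eq_of_beq_eq_true h]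
    congr 1
    exact (show ∀ j : Fin 6, (j.val + 1) % 6 = (finRotate 6 j).val by decide) i
  · refine key tetSwap _ (by simp) fun i => ?_
    have h := (Bool.and_eq_true _ _ |>.mp (hc i.val (List.mem_range.mpr i.isLt))).2
    rw [Nat.eq_of_beq_eq_true h]
    congr 1
    exact (show ∀ j : Fin 6, (if j.val = 0 then 1 else if j.val = 1 then 0 else j.val) =
      (Equiv.swap (0 : Fin 6) (finRotate 6 0) j).val by decide) i

theorem natCard_stab_sextet {S : Finset (Finset GolayPt)} (hS : S ∈ sextets) :
    Nat.card ↥(MulAction.stabilizer M24 S) = 138240 := by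
  refine natCard_stab (U := sextets) ?_ ncard_sextets (by norm_num) (by norm_num)
  exact Set.ext fun X => ⟨fun ⟨g, hg⟩ => hg ▸ smul_mem_sextets g.2 hS,
    fun hX => by obtain ⟨g, hg, hgX⟩ := exists_smul_sextet_eq hS hX; exact ⟨⟨g, hg⟩, hgX⟩⟩

theorem natCard_tetKernel {S : Finset (Finset GolayPt)} (hS : S ∈ sextets)
    (hsur : Function.Surjective (permOn S)) :
    Nat.card {x : ↥(MulAction.stabilizer M24 S) // permOn S x = 1} = 192 := by
  have h := (permOn S).ker.index_mul_card
  rw [Subgroup.index_ker, MonoidHom.range_eq_top.mpr hsur, natCard_stab_sextet hS, Subgroup.card_top,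
    Nat.card_perm, Nat.card_eq_fintype_card, Fintype.card_coe, hS.1] at h
  have h2 : Nat.card {x : ↥(MulAction.stabilizer M24 S) // permOn S x = 1} = Nat.card (permOn S).ker := rfl
  rw [h2]
  have h720 : Nat.factorial 6 = 720 := rfl
  rw [h720] at h
  exact Nat.eq_of_mul_eq_mul_left (by norm_num : 0 < 720) h

theorem tetKernel_iff (x : ↥(MulAction.stabilizer M24 baseSextet)) :
    permOn baseSextet x = 1 ↔ toList ((x : M24) : Equiv.Perm GolayPt) ∈ sextKernel := by
  refine (listed_iff (fun x => permOn baseSextet x = 1) sextKernel sextKernel_nodup (fun l hl => ?_) ?_).1 x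
  · have h := List.all_eq_true.mp sextKernel_ok.1 l hl
    simp only [Bool.and_eq_true] at h
    obtain ⟨σ, hσ, rfl⟩ := exists_perm h.1.1
    refine ⟨⟨⟨σ, hσ⟩, fixSext_spec ⟨σ, hσ⟩ h.1.2⟩, ?_, rfl⟩
    rw [permOn_eq_one_iff]
    intro t ht
    rw [← baseTets_spec.1, List.mem_toFinset, List.mem_map] at ht
    obtain ⟨m, hm, rfl⟩ := ht
    exact fixes_mask (baseTets_lt hm) ⟨σ, hσ⟩ (List.all_eq_true.mp h.2 m hm)
  · rw [natCard_tetKernel (show baseSextet ∈ sextets from sextetOfKey_mem baseSextetKey_mem) surjective_permOn_baseSextet,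
      sextKernel_ok.2.1]

/-- The elements fixing all tetrads and squaring to one form a normal subgroup of order 64. -/
theorem exists_sextet_core : ∃ N : Subgroup ↥(MulAction.stabilizer M24 baseSextet),
    N.Normal ∧ Nat.card N = 64 ∧ ∀ x ∈ N, x * x = 1 := by
  set L := sextKernel.filter fun l => comp l l == List.range 24 with hL
  have hmem : ∀ x : ↥(MulAction.stabilizer M24 baseSextet),
      toList ((x : M24) : Equiv.Perm GolayPt) ∈ L ↔ permOn baseSextet x = 1 ∧ x * x = 1 := fun x => by
    rw [hL, List.mem_filter, tetKernel_iff, mul_self_eq_one_iff, beq_iff_eq]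
  refine ⟨{ carrier := {x | permOn baseSextet x = 1 ∧ x * x = 1}, mul_mem' := ?_, one_mem' := ?_, inv_mem' := ?_ },
    ⟨fun x hx g => ?_⟩, ?_, fun x hx => hx.2⟩
  · intro a b ha hb
    refine ⟨by rw [map_mul, ha.1, hb.1, mul_one], ?_⟩
    have h := List.all_eq_true.mp (List.all_eq_true.mp sextKernel_ok.2.2.2.2 _ ((hmem a).mpr ha)) _ ((hmem b).mpr hb)
    rw [mul_self_eq_one_iff]
    have e : toList (((a * b : ↥(MulAction.stabilizer M24 baseSextet)) : M24) : Equiv.Perm GolayPt) =
        comp (toList ((a : M24) : Equiv.Perm GolayPt)) (toList ((b : M24) : Equiv.Perm GolayPt)) :=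
      toList_mul _ _
    rw [e]
    exact beq_iff_eq.mp h
  · exact ⟨map_one _, mul_one 1⟩
  · intro a ha
    refine ⟨by rw [map_inv, ha.1, inv_one], ?_⟩
    rw [← mul_inv_rev, ha.2, inv_one]
  · refine ⟨by rw [map_mul, map_mul, map_inv, hx.1, mul_one, mul_inv_cancel], ?_⟩
    rw [show g * x * g⁻¹ * (g * x * g⁻¹) = g * (x * x) * g⁻¹ by group, hx.2, mul_one, mul_inv_cancel]
  · have h := (listed_iff (fun x : ↥(MulAction.stabilizer M24 baseSextet) => permOn baseSextet x = 1 ∧ x * x = 1)
      L (sextKernel_nodup.filter _) (fun l hl => ?_) ?_).2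
    · exact h.trans sextKernel_ok.2.2.2.1
    · obtain ⟨hl1, hl2⟩ := List.mem_filter.mp hl
      have h' := List.all_eq_true.mp sextKernel_ok.1 l hl1
      simp only [Bool.and_eq_true] at h'
      obtain ⟨σ, hσ, rfl⟩ := exists_perm h'.1.1
      exact ⟨⟨⟨σ, hσ⟩, fixSext_spec ⟨σ, hσ⟩ h'.1.2⟩, (hmem _).mp hl, rfl⟩
    · have hcard : L.toFinset.card = L.length := List.toFinset_card_of_nodup (sextKernel_nodup.filter _)
      rw [← hcard, ← Nat.card_eq_finsetCard]
      refine Nat.card_le_card_of_injective
        (fun x => ⟨toList (((x.1 : ↥(MulAction.stabilizer M24 baseSextet)) : M24) : Equiv.Perm GolayPt),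
          List.mem_toFinset.mpr ((hmem _).mpr x.2)⟩) fun x y h => ?_
      exact Subtype.ext (Subtype.ext (Subtype.ext (toList_injective (Subtype.ext_iff.mp h))))

end CfsgLib.Golay
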