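import Cfsg.Agent.Lib.Golay.OrbitBases

/-!
# A setwise stabiliser acting on the members, and transport along the group
-/

set_option autoImplicit false

namespace CfsgLib.Golay

open Cfsg
open scoped Pointwise

variable {α : Type*} [DecidableEq α] [MulAction M24 α]

theorem smul_mem_of_mem_stabilizer {S : Finset α} (x : ↥(MulAction.stabilizer M24 S)) {t : α} (ht : t ∈ S) :
    (x : M24) • t ∈ S :=
  (congrArg (fun T => (x : M24) • t ∈ T) (show (x : M24) • S = S from x.2)).mp
    (Finset.smul_mem_smul_finset ht)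

/-- The action of a setwise stabiliser on the members. -/
def permOn (S : Finset α) : ↥(MulAction.stabilizer M24 S) →* Equiv.Perm ↥S :=
  MonoidHom.mk' (fun x =>
    { toFun := fun t => ⟨(x : M24) • (t : α), smul_mem_of_mem_stabilizer x t.2⟩
      invFun := fun t => ⟨((x⁻¹ : ↥(MulAction.stabilizer M24 S)) : M24) • (t : α),
        smul_mem_of_mem_stabilizer x⁻¹ t.2⟩
      left_inv := fun t => Subtype.ext (inv_smul_smul (x : M24) (t : α))
      right_inv := fun t => Subtype.ext (smul_inv_smul (x : M24) (t : α)) })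
    fun x y => Equiv.ext fun t => Subtype.ext (mul_smul (x : M24) (y : M24) (t : α))

theorem permOn_apply (S : Finset α) (x : ↥(MulAction.stabilizer M24 S)) (t : ↥S) :
    ((permOn S x t : ↥S) : α) = (x : M24) • (t : α) :=
  rfl

theorem permOn_eq_one_iff (S : Finset α) (x : ↥(MulAction.stabilizer M24 S)) :
    permOn S x = 1 ↔ ∀ t ∈ S, (x : M24) • t = t := by
  refine ⟨fun h t ht => ?_, fun h => Equiv.ext fun t => Subtype.ext (h t t.2)⟩
  rw [← permOn_apply S x ⟨t, ht⟩, h]
  rfl

/-- The stabiliser of an image is the conjugate of the stabiliser. -/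
def stabConj {β : Type*} [MulAction M24 β] (c : M24) {b b' : β} (h : c • b = b') :
    ↥(MulAction.stabilizer M24 b) ≃* ↥(MulAction.stabilizer M24 b') where
  toFun x := ⟨c * (x : M24) * c⁻¹, by
    rw [MulAction.mem_stabilizer_iff, mul_smul, mul_smul, ← h, inv_smul_smul,
      show (x : M24) • b = b from x.2]⟩
  invFun y := ⟨c⁻¹ * (y : M24) * c, by
    rw [MulAction.mem_stabilizer_iff, mul_smul, mul_smul, h, show (y : M24) • b' = b' from y.2, ← h,
      inv_smul_smul]⟩
  left_inv x := Subtype.ext (by simp [mul_assoc])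
  right_inv y := Subtype.ext (by simp [mul_assoc])
  map_mul' x y := Subtype.ext (by simp [mul_assoc])

theorem stabConj_apply {β : Type*} [MulAction M24 β] (c : M24) {b b' : β} (h : c • b = b')
    (x : ↥(MulAction.stabilizer M24 b)) : ((stabConj c h x : ↥(MulAction.stabilizer M24 b')) : M24) = c * (x : M24) * c⁻¹ :=
  rfl

/-- All permutations of the members are induced at every conjugate. -/
theorem surjective_permOn_smul (S : Finset α) (hS : Function.Surjective (permOn S)) {c : M24} {S' : Finset α}
    (h : c • S = S') : Function.Surjective (permOn S') := by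
  subst h
  intro e
  let f : ↥S ≃ ↥(c • S) :=
    { toFun := fun t => ⟨c • (t : α), Finset.smul_mem_smul_finset t.2⟩
      invFun := fun t => ⟨c⁻¹ • (t : α), Finset.inv_smul_mem_iff.mpr t.2⟩
      left_inv := fun t => Subtype.ext (inv_smul_smul c (t : α))
      right_inv := fun t => Subtype.ext (smul_inv_smul c (t : α)) }
  obtain ⟨x, hx⟩ := hS (f.symm.permCongr e)
  refine ⟨stabConj c rfl x, Equiv.ext fun t => Subtype.ext ?_⟩
  have h2 : (x : M24) • (c⁻¹ • (t : α)) = c⁻¹ • ((e t : ↥(c • S)) : α) := by
    have h3 := congrArg Subtype.val (Equiv.ext_iff.mp hx (f.symm t))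
    rw [permOn_apply, Equiv.permCongr_apply, Equiv.symm_symm, Equiv.apply_symm_apply] at h3
    exact h3
  rw [permOn_apply, stabConj_apply, mul_smul, mul_smul, h2, smul_inv_smul]

/-- Fixing every member is preserved by conjugation. -/
theorem permOn_stabConj_eq_one_iff (S : Finset α) {c : M24} {S' : Finset α} (h : c • S = S')
    (x : ↥(MulAction.stabilizer M24 S)) : permOn S' (stabConj c h x) = 1 ↔ permOn S x = 1 := by
  subst h
  rw [permOn_eq_one_iff, permOn_eq_one_iff]
  constructor
  · intro hf t ht
    have := hf (c • t) (Finset.smul_mem_smul_finset ht)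
    rw [stabConj_apply, mul_smul, mul_smul, inv_smul_smul] at this
    exact smul_left_cancel c this
  · intro hf t ht
    obtain ⟨u, hu, rfl⟩ := Finset.mem_smul_finset.mp ht
    rw [stabConj_apply, mul_smul, mul_smul, inv_smul_smul, hf u hu]

/-- A set of elements inside a listed bound is the listed set. -/
theorem listed_iff {H : Subgroup M24} (P : ↥H → Prop) (L : List (List ℕ)) (hnd : L.Nodup)
    (hex : ∀ l ∈ L, ∃ x : ↥H, P x ∧ toList ((x : M24) : Equiv.Perm GolayPt) = l)
    (hle : Nat.card {x : ↥H // P x} ≤ L.length) :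
    (∀ x : ↥H, P x ↔ toList ((x : M24) : Equiv.Perm GolayPt) ∈ L) ∧ Nat.card {x : ↥H // P x} = L.length := by
  classical
  set f : ↥H → List ℕ := fun x => toList ((x : M24) : Equiv.Perm GolayPt) with hf
  have hinj : Function.Injective f := fun x y h => Subtype.ext (Subtype.ext (toList_injective h))
  have hsub : (↑L.toFinset : Set (List ℕ)) ⊆ f '' {x | P x} := fun l hl => by
    obtain ⟨x, hx, hxl⟩ := hex l (List.mem_toFinset.mp hl)
    exact ⟨x, hx, hxl⟩
  have hc : (f '' {x | P x}).ncard = Nat.card {x : ↥H // P x} := by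
    rw [Set.ncard_image_of_injective _ hinj]; exact (Nat.card_coe_set_eq _).symm
  have hL : (↑L.toFinset : Set (List ℕ)).ncard = L.length := by
    rw [Set.ncard_coe_finset, List.toFinset_card_of_nodup hnd]
  have heq := Set.eq_of_subset_of_ncard_le hsub (by rw [hc, hL]; exact hle) (Set.toFinite _)
  refine ⟨fun x => ?_, by rw [← hc, ← heq, hL]⟩
  constructor
  · intro hx
    have : f x ∈ (↑L.toFinset : Set (List ℕ)) := heq ▸ ⟨x, hx, rfl⟩
    exact List.mem_toFinset.mp this
  · intro hx
    obtain ⟨y, hy, hxy⟩ := hex _ hx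
    exact hinj (a₁ := y) (a₂ := x) hxy ▸ hy

/-- Elements squaring to one, recognised on image lists. -/
theorem mul_self_eq_one_iff {H : Subgroup M24} (x : ↥H) :
    x * x = 1 ↔ comp (toList ((x : M24) : Equiv.Perm GolayPt)) (toList ((x : M24) : Equiv.Perm GolayPt)) =
      List.range 24 := by
  rw [← toList_mul, ← toList_one]
  refine ⟨fun h => congrArg toList (congrArg (fun z : ↥H => ((z : M24) : Equiv.Perm GolayPt)) h), fun h => ?_⟩
  exact Subtype.ext (Subtype.ext (toList_injective h))

/-- A stabiliser order from the degree. -/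
theorem natCard_stab {β : Type*} [MulAction M24 β] {U : Set β} {b : β} (hU : MulAction.orbit M24 b = U)
    {N m : ℕ} (hN : U.ncard = N) (hm : N * m = 244823040) (hpos : 0 < N) :
    Nat.card ↥(MulAction.stabilizer M24 b) = m := by
  have h := (MulAction.stabilizer M24 b).index_mul_card
  rw [MulAction.index_stabilizer, hU, hN, natCard_M24, ← hm] at h
  exact Nat.eq_of_mul_eq_mul_left hpos h

end CfsgLib.Golay
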