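import Cfsg.Agent.Lib.Golay.StabAction
import Cfsg.Agent.Lib.Golay.StabData
import Cfsg.Agent.Lib.Golay.OrbitApps

/-!
# The stabiliser of a trio: its action on the octads and on the seven refining sextets

The syndromes of the seven sextets refining a trio form, with zero, a three-dimensional space over
two elements on which the stabiliser acts linearly.
-/

set_option autoImplicit false
set_option maxRecDepth 20000

namespace CfsgLib.Golay

open Cfsg
open scoped Pointwise

/-! ### Syndromes -/

theorem syn_shiftLeft_key (k : ℕ) : syn (Nat.shiftLeft k 12) = k := by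
  show syn (k <<< 12) = k
  have h0 : k <<< 12 &&& 4095 = 0 := by
    apply Nat.eq_of_testBit_eq
    intro i
    rw [Nat.testBit_and, Nat.testBit_shiftLeft, Nat.zero_testBit, show (4095 : ℕ) = 2 ^ 12 - 1 by norm_num,
      Nat.testBit_two_pow_sub_one]
    by_cases h : 12 ≤ i
    · have : ¬ i < 12 := by omega
      simp [this]
    · simp [h]
  rw [syn_eq, h0, show codeWord 0 = 0 by decide +kernel, Nat.xor_zero, Nat.shiftLeft_shiftRight]

theorem synAct_xor (l : List ℕ) (a b : ℕ) : synAct l (a ^^^ b) = synAct l a ^^^ synAct l b := by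
  show syn (pmap l ((a ^^^ b) <<< 12)) = syn (pmap l (a <<< 12)) ^^^ syn (pmap l (b <<< 12))
  rw [Nat.shiftLeft_xor_distrib]
  unfold pmap
  rw [spanWord_xor, syn_xor]

theorem synAct_mul {g h : M24} {k : ℕ} (hk : k < 4096) :
    synAct (toList ((g * h : M24) : Equiv.Perm GolayPt)) k =
      synAct (toList (g : Equiv.Perm GolayPt)) (synAct (toList (h : Equiv.Perm GolayPt)) k) := by
  have hn : Nat.shiftLeft k 12 < 2 ^ 24 := by
    show k <<< 12 < 2 ^ 24
    rw [Nat.shiftLeft_eq]; omega
  conv_lhs => rw [synAct, ← encS_decS hn, ← encS_smul, Subgroup.coe_mul, mul_smul, syn_encS_smul g.2,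
    syn_encS_smul h.2, encS_decS hn, syn_shiftLeft_key]

theorem synAct_one {k : ℕ} (hk : k < 4096) : synAct (toList ((1 : M24) : Equiv.Perm GolayPt)) k = k := by
  have hn : Nat.shiftLeft k 12 < 2 ^ 24 := by
    show k <<< 12 < 2 ^ 24
    rw [Nat.shiftLeft_eq]; omega
  rw [synAct, ← encS_decS hn, ← encS_smul, OneMemClass.coe_one, one_smul, encS_decS hn, syn_shiftLeft_key]

/-! ### The space of the seven refining sextets -/

/-- The packed sextets refining the reference trio. -/
def sevenTab : List ℕ := sextetTab.filter fun e => Nat.beq (meetTE (trioAt baseTrioPos) e) 6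

/-- Their syndromes. -/
def sevenKeys : List ℕ := sevenTab.map sextetKey

/-- Coordinates to syndromes. -/
def eV (v : Fin 3 → ZMod 2) : ℕ :=
  Nat.xor (Nat.xor (if v 0 = 1 then 658 else 0) (if v 1 = 1 then 1391 else 0)) (if v 2 = 1 then 2254 else 0)

/-- Syndromes to coordinates. -/
def cV (k : ℕ) : Fin 3 → ZMod 2 :=
  (((List.range 8).map fun n => fun i : Fin 3 => if n.testBit i.val then (1 : ZMod 2) else 0).find?
    fun v => Nat.beq (eV v) k).getD 0

theorem eV_facts : (∀ v, cV (eV v) = v) ∧ (∀ v w : Fin 3 → ZMod 2, eV (v + w) = Nat.xor (eV v) (eV w)) ∧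
    (∀ v, (0 :: sevenKeys).contains (eV v) = true) ∧
    ((0 :: sevenKeys).all fun k => Nat.beq (eV (cV k)) k && Nat.blt k 4096) = true := by
  decide +kernel

theorem eV_injective : Function.Injective eV := fun v w h => by rw [← eV_facts.1 v, h, eV_facts.1]

theorem eV_cV {k : ℕ} (hk : k ∈ 0 :: sevenKeys) : eV (cV k) = k ∧ k < 4096 := by
  have h := List.all_eq_true.mp eV_facts.2.2.2 k hk
  rw [Bool.and_eq_true] at h
  exact ⟨Nat.eq_of_beq_eq_true h.1, Nat.le_of_ble_eq_true h.2⟩

theorem eV_mem (v : Fin 3 → ZMod 2) : eV v ∈ 0 :: sevenKeys := List.contains_iff_mem.mp (eV_facts.2.2.1 v)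

theorem synAct_mem_seven (x : ↥(MulAction.stabilizer M24 baseTrio)) {k : ℕ} (hk : k ∈ 0 :: sevenKeys) :
    synAct (toList ((x : M24) : Equiv.Perm GolayPt)) k ∈ 0 :: sevenKeys := by
  rcases List.mem_cons.mp hk with rfl | hk
  · have : synAct (toList ((x : M24) : Equiv.Perm GolayPt)) 0 = 0 := by
      have h := synAct_xor (toList ((x : M24) : Equiv.Perm GolayPt)) 0 0
      rw [Nat.xor_self] at h
      simpa using h
    rw [this]; exact List.mem_cons_self
  · obtain ⟨e, he, rfl⟩ := List.mem_map.mp hk
    obtain ⟨he1, he2⟩ := List.mem_filter.mp he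
    have hkey : sextetKey e ∈ sextetKeys := List.mem_map.mpr ⟨e, he1, rfl⟩
    have hS := smul_mem_sextets (x : M24).2 (sextetOfKey_mem hkey)
    rw [smul_sextetOfKey (x : M24).2 hkey] at hS
    obtain ⟨k', hk', hkk⟩ := sextets_eq.le hS
    obtain ⟨e', he', rfl⟩ := exists_tab_of_mem_keys hk'
    have hval : invTrioSext.kφ e' = 6 := by
      rw [← invTrioSext.spec e' he']
      show meetTrio baseTrio (sextetOfKey (sextetKey e')) = 6
      rw [hkk, ← smul_sextetOfKey (x : M24).2 hkey]
      refine (congrArg (fun T => meetTrio T (((x : M24) : Equiv.Perm GolayPt) • sextetOfKey (sextetKey e)))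
        (show ((x : M24) : Equiv.Perm GolayPt) • baseTrio = baseTrio from x.2)).symm.trans
        ((meetTrio_smul _ _ _).trans ?_)
      rw [show baseTrio = trioOf baseTrioPos from rfl, meetTrio_eq baseTrioPos_lt he1]
      exact Nat.eq_of_beq_eq_true he2
    have hlt : synAct (toList ((x : M24) : Equiv.Perm GolayPt)) (sextetKey e) ∈ sextetKeys := by
      obtain ⟨-, h2⟩ := sextK.step_spec (x : M24) (sextetKey e) _ hkey (Nat.beq_refl _)
      exact h2
    rw [← sextetOfKey_injOn hk' hlt hkk]
    refine List.mem_cons_of_mem _ (List.mem_map.mpr ⟨e', List.mem_filter.mpr ⟨he', ?_⟩, rfl⟩)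
    show Nat.beq (meetTE (trioAt baseTrioPos) e') 6 = true
    rw [show meetTE (trioAt baseTrioPos) e' = 6 from hval]
    rfl

/-- The action on coordinates. -/
def fV (x : ↥(MulAction.stabilizer M24 baseTrio)) : (Fin 3 → ZMod 2) →ₗ[ZMod 2] (Fin 3 → ZMod 2) :=
  (AddMonoidHom.mk' (fun v => cV (synAct (toList ((x : M24) : Equiv.Perm GolayPt)) (eV v))) fun v w => by
    apply eV_injective
    show _ = eV (cV _ + cV _)
    rw [eV_facts.2.1 (cV _) (cV _), (eV_cV (synAct_mem_seven x (eV_mem _))).1,
      (eV_cV (synAct_mem_seven x (eV_mem _))).1, (eV_cV (synAct_mem_seven x (eV_mem _))).1, eV_facts.2.1]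
    exact synAct_xor _ _ _).toZModLinearMap 2

theorem fV_apply (x : ↥(MulAction.stabilizer M24 baseTrio)) (v : Fin 3 → ZMod 2) :
    fV x v = cV (synAct (toList ((x : M24) : Equiv.Perm GolayPt)) (eV v)) :=
  rfl

/-- The action on coordinates as matrices. -/
noncomputable def trioMatrix : ↥(MulAction.stabilizer M24 baseTrio) →* Matrix (Fin 3) (Fin 3) (ZMod 2) where
  toFun x := LinearMap.toMatrix' (fV x)
  map_one' := by
    have h : fV 1 = LinearMap.id := LinearMap.ext fun v => by
      rw [fV_apply, OneMemClass.coe_one, synAct_one (eV_cV (eV_mem v)).2, eV_facts.1]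
      rfl
    rw [h, LinearMap.toMatrix'_id]
  map_mul' x y := by
    have h : fV (x * y) = (fV x).comp (fV y) := LinearMap.ext fun v => by
      rw [LinearMap.comp_apply, fV_apply, fV_apply, fV_apply, (eV_cV (synAct_mem_seven y (eV_mem v))).1,
        Subgroup.coe_mul, synAct_mul (eV_cV (eV_mem v)).2]
    rw [h, LinearMap.toMatrix'_comp]

theorem card_baseTrio : baseTrio.card = 3 := (trioOf_mem baseTrioPos_lt).1

/-- The action on the refining sextets and on the octads. -/
noncomputable def trioAction : ↥(MulAction.stabilizer M24 baseTrio) →* GL (Fin 3) (ZMod 2) × Equiv.Perm (Fin 3) :=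
  trioMatrix.toHomUnits.prod
    ((Finset.equivFinOfCardEq card_baseTrio).permCongrHom.toMonoidHom.comp (permOn baseTrio))

theorem trioAction_eq_one_iff (x : ↥(MulAction.stabilizer M24 baseTrio)) :
    trioAction x = 1 ↔
      permOn baseTrio x = 1 ∧ ∀ k ∈ sevenKeys, synAct (toList ((x : M24) : Equiv.Perm GolayPt)) k = k := by
  rw [trioAction, MonoidHom.prod_apply, Prod.mk_eq_one, and_comm]
  refine and_congr ?_ ?_
  · rw [MonoidHom.comp_apply]
    exact map_eq_one_iff _ (Finset.equivFinOfCardEq card_baseTrio).permCongrHom.injective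
  · rw [Units.ext_iff, MonoidHom.coe_toHomUnits, Units.val_one]
    show LinearMap.toMatrix' (fV x) = 1 ↔ _
    rw [← LinearMap.toMatrix'_id, LinearMap.toMatrix'.injective.eq_iff]
    constructor
    · intro h k hk
      have hk0 := List.mem_cons_of_mem 0 hk
      have := congrArg eV (LinearMap.congr_fun h (cV k))
      rw [fV_apply, LinearMap.id_apply, (eV_cV hk0).1, (eV_cV (synAct_mem_seven x hk0)).1] at this
      exact this
    · intro h
      refine LinearMap.ext fun v => ?_
      rw [fV_apply, LinearMap.id_apply]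
      rcases List.mem_cons.mp (eV_mem v) with hv | hv
      · have : synAct (toList ((x : M24) : Equiv.Perm GolayPt)) 0 = 0 := by
          have h := synAct_xor (toList ((x : M24) : Equiv.Perm GolayPt)) 0 0
          rw [Nat.xor_self] at h
          simpa using h
        rw [hv, this, ← hv, eV_facts.1]
      · rw [h _ hv, eV_facts.1]

/-! ### The kernel -/

theorem separation_ok : ((List.range 24).all fun i => (List.range 24).all fun j =>
    !(Nat.testBit 8536111 i && Nat.testBit 8536111 j) || Nat.beq i j ||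
      sevenTab.any fun e => (tets e).any fun t => Nat.testBit t 0 && (Nat.testBit t i != Nat.testBit t j)) = true ∧
    (stab6Lists.all fun l => l == List.range 24 || !(Nat.beq (l.getD 4 0) 4)) = true ∧
    Nat.testBit 8536111 0 = true ∧ Nat.testBit (codeWord (trioB (trioAt baseTrioPos))) 4 = true ∧
    Nat.beq (trioA (trioAt baseTrioPos)) baseKey = true := by
  decide +kernel

theorem eq_one_of_kernel (x : ↥(MulAction.stabilizer M24 baseTrio)) (hx : trioAction x = 1)
    (h0 : ((x : M24) : Equiv.Perm GolayPt) (pt ⟨0, by norm_num⟩) = pt ⟨0, by norm_num⟩)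
    (h4 : ((x : M24) : Equiv.Perm GolayPt) (pt ⟨4, by norm_num⟩) = pt ⟨4, by norm_num⟩) : x = 1 := by
  obtain ⟨hfix, hkeys⟩ := (trioAction_eq_one_iff x).mp hx
  set g : Equiv.Perm GolayPt := ((x : M24) : Equiv.Perm GolayPt) with hg
  have hgM : g ∈ M24 := (x : M24).2
  have hbmem : baseOctad ∈ baseTrio := by
    rw [← codeSet_baseKey, ← Nat.eq_of_beq_eq_true separation_ok.2.2.2.2, baseTrio, trioOf]
    simp
  have hb : g • baseOctad = baseOctad := (permOn_eq_one_iff baseTrio x).mp hfix _ hbmem
  have hfixb : ∀ p ∈ baseOctad, g p = p := by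
    intro p hp
    by_contra hne
    have hgp : g p ∈ baseOctad := by rw [← hb]; exact Finset.smul_mem_smul_finset hp
    rw [baseOctad, mem_decS] at hp hgp
    have h := List.all_eq_true.mp (List.all_eq_true.mp separation_ok.1 (idx p).val
      (List.mem_range.mpr (idx p).isLt)) (idx (g p)).val (List.mem_range.mpr (idx (g p)).isLt)
    simp only [hp, hgp, Bool.and_self, Bool.not_true, Bool.false_or, Bool.or_eq_true, List.any_eq_true,
      Bool.and_eq_true] at h
    rcases h with h | ⟨e, he, t, ht, ht0, htne⟩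
    · exact hne (idx_injective (Fin.ext (Nat.eq_of_beq_eq_true h).symm))
    obtain ⟨he1, -⟩ := List.mem_filter.mp he
    have hkey : sextetKey e ∈ sextetKeys := List.mem_map.mpr ⟨e, he1, rfl⟩
    have hS := sextetOfKey_mem hkey
    have htS : decS t ∈ sextetOfKey (sextetKey e) := by
      rw [← tets_toFinset he1, List.mem_toFinset, List.mem_map]; exact ⟨t, ht, rfl⟩
    have hgS : g • sextetOfKey (sextetKey e) = sextetOfKey (sextetKey e) := by
      rw [smul_sextetOfKey hgM hkey, hkeys _ (List.mem_map.mpr ⟨e, he, rfl⟩)]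
    have hgt : g • decS t = decS t := by
      by_contra hne'
      have hm : g • decS t ∈ sextetOfKey (sextetKey e) := hgS ▸ Finset.smul_mem_smul_finset htS
      have hd : Disjoint (g • decS t) (decS t) := by
        rw [← Finset.card_union_eq_card_add_card, hS.2.1 _ hm, hS.2.1 _ htS]
        exact card_of_mem_octads (hS.2.2 _ hm _ htS hne')
      have hp0 : pt ⟨0, by norm_num⟩ ∈ decS t := by rw [mem_decS, idx_pt]; exact ht0
      exact Finset.disjoint_left.mp hd (Finset.mem_smul_finset.mpr ⟨_, hp0, h0⟩) hp0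
    have hiff : t.testBit (idx p).val = t.testBit (idx (g p)).val := by
      rw [Bool.eq_iff_iff, ← mem_decS, ← mem_decS]
      constructor
      · intro hpt; rw [← hgt]; exact Finset.smul_mem_smul_finset hpt
      · intro hpt
        rw [← hgt] at hpt
        exact Finset.smul_mem_smul_finset_iff g |>.mp hpt
    simp [hiff] at htne
  have hg6 : g ∈ stdStab 6 := by
    rw [← fixingSubgroup_baseOctad]
    exact ⟨hgM, (mem_fixingSubgroup_iff _).mpr fun p hp => hfixb p hp⟩
  have h := List.all_eq_true.mp separation_ok.2.1 _ (toList_mem_stab6 hg6)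
  rw [Bool.or_eq_true, beq_iff_eq] at h
  rcases h with h | h
  · rw [← toList_one] at h
    exact Subtype.ext (Subtype.ext (toList_injective h))
  · exfalso
    have := toList_getD g (pt ⟨4, by norm_num⟩)
    rw [idx_pt, h4, idx_pt] at this
    simp only at this
    rw [this] at h
    simp at h

theorem trioKernel_ok : (trioKernel.all fun l => genOK l && fixTrio l &&
      ([trioA (trioAt baseTrioPos), trioB (trioAt baseTrioPos), trioC (trioAt baseTrioPos)].all fun k =>
        Nat.beq (pmap l (codeWord k)) (codeWord k)) &&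
      (sevenKeys.all fun k => Nat.beq (synAct l k) k) && comp l l == List.range 24) = true ∧
    trioKernel.length = 64 ∧ incr (trioKernel.map fun l => l.foldl (fun b a => Nat.add a (Nat.mul 24 b)) 0) = true := by
  decide +kernel

theorem trioKernel_spec : (∀ x, trioAction x = 1 ↔ toList ((x : M24) : Equiv.Perm GolayPt) ∈ trioKernel) ∧
    Nat.card {x // trioAction x = 1} = 64 := by
  have h := listed_iff (fun x => trioAction x = 1) trioKernel ((nodup_of_incr trioKernel_ok.2.2).of_map _)
    (fun l hl => ?_) ?_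
  · exact ⟨h.1, h.2.trans trioKernel_ok.2.1⟩
  · have h' := List.all_eq_true.mp trioKernel_ok.1 l hl
    simp only [Bool.and_eq_true] at h'
    obtain ⟨σ, hσ, rfl⟩ := exists_perm h'.1.1.1.1
    refine ⟨⟨⟨σ, hσ⟩, fixTrio_spec ⟨σ, hσ⟩ h'.1.1.1.2⟩, (trioAction_eq_one_iff _).mpr ⟨?_, ?_⟩, rfl⟩
    · rw [permOn_eq_one_iff]
      intro t ht
      rw [baseTrio, trioOf_eq_toFinset, List.mem_toFinset, List.mem_map] at ht
      obtain ⟨k, hk, rfl⟩ := ht
      exact fixes_mask (codeWord_lt k) ⟨σ, hσ⟩ (List.all_eq_true.mp h'.1.1.2 k hk)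
    · exact fun k hk => Nat.eq_of_beq_eq_true (List.all_eq_true.mp h'.1.2 k hk)
  · set o₂ := codeSet (trioB (trioAt baseTrioPos)) with ho₂
    have ho₂mem : o₂ ∈ baseTrio := by rw [baseTrio, trioOf]; simp [ho₂]
    have hb : baseOctad ∈ baseTrio := by
      rw [← codeSet_baseKey, ← Nat.eq_of_beq_eq_true separation_ok.2.2.2.2, baseTrio, trioOf]
      simp
    have hp0 : pt ⟨0, by norm_num⟩ ∈ baseOctad := by
      rw [baseOctad, mem_decS, idx_pt]; exact separation_ok.2.2.1
    have hp4 : pt ⟨4, by norm_num⟩ ∈ o₂ := by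
      rw [ho₂, codeSet, mem_decS, idx_pt]; exact separation_ok.2.2.2.1
    have hfix : ∀ x : {x : ↥(MulAction.stabilizer M24 baseTrio) // trioAction x = 1}, ∀ t ∈ baseTrio,
        ((x.1 : M24) : Equiv.Perm GolayPt) • t = t := fun x =>
      (permOn_eq_one_iff baseTrio x.1).mp ((trioAction_eq_one_iff x.1).mp x.2).1
    let F : {x : ↥(MulAction.stabilizer M24 baseTrio) // trioAction x = 1} → ↥(baseOctad ×ˢ o₂) := fun x =>
      ⟨(((x.1 : M24) : Equiv.Perm GolayPt) (pt ⟨0, by norm_num⟩),
        ((x.1 : M24) : Equiv.Perm GolayPt) (pt ⟨4, by norm_num⟩)), Finset.mem_product.mpr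
          ⟨by rw [← hfix x _ hb]; exact Finset.smul_mem_smul_finset hp0,
           by rw [← hfix x _ ho₂mem]; exact Finset.smul_mem_smul_finset hp4⟩⟩
    have hF : Function.Injective F := by
      intro x y hxy
      have hxy' := Prod.ext_iff.mp (congrArg Subtype.val hxy)
      have h1 : trioAction (x.1⁻¹ * y.1) = 1 := by rw [map_mul, map_inv, x.2, y.2, inv_one, one_mul]
      have h2 := eq_one_of_kernel _ h1
        (by show ((x.1 : M24) : Equiv.Perm GolayPt)⁻¹ (((y.1 : M24) : Equiv.Perm GolayPt) _) = _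
            rw [Equiv.Perm.inv_eq_iff_eq]; exact hxy'.1.symm)
        (by show ((x.1 : M24) : Equiv.Perm GolayPt)⁻¹ (((y.1 : M24) : Equiv.Perm GolayPt) _) = _
            rw [Equiv.Perm.inv_eq_iff_eq]; exact hxy'.2.symm)
      exact Subtype.ext (inv_mul_eq_one.mp h2)
    refine (Nat.card_le_card_of_injective F hF).trans ?_
    rw [Nat.card_eq_finsetCard, Finset.card_product, card_of_mem_octads baseOctad_mem,
      card_of_mem_octads ((trioOf_mem baseTrioPos_lt).2.1 o₂ ho₂mem), trioKernel_ok.2.1]

theorem natCard_stab_baseTrio : Nat.card ↥(MulAction.stabilizer M24 baseTrio) = 64512 :=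
  natCard_stab (U := trios)
    (Set.ext fun X => ⟨fun ⟨g, hg⟩ => hg ▸ smul_mem_trios g.2 (trioOf_mem baseTrioPos_lt),
      fun hX => exists_smul_trio_eq (trioOf_mem baseTrioPos_lt) hX⟩)
    ncard_trios (by norm_num) (by norm_num)

theorem surjective_trioAction : Function.Surjective trioAction := by
  rw [← MonoidHom.range_eq_top]
  refine Subgroup.eq_top_of_card_eq _ ?_
  have h := trioAction.ker.index_mul_card
  rw [Subgroup.index_ker, natCard_stab_baseTrio,
    show Nat.card trioAction.ker = 64 from trioKernel_spec.2] at h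
  rw [Nat.card_prod, Nat.card_perm, Matrix.card_GL_field, Nat.card_eq_fintype_card (α := Fin 3), Fintype.card_fin,
    ZMod.card, Fin.prod_univ_three]
  refine Nat.eq_of_mul_eq_mul_right (by norm_num : 0 < 64) ?_
  rw [h]
  rfl

theorem trioKernel_sq (x : ↥(MulAction.stabilizer M24 baseTrio)) (hx : trioAction x = 1) : x * x = 1 := by
  have h := List.all_eq_true.mp trioKernel_ok.1 _ ((trioKernel_spec.1 x).mp hx)
  simp only [Bool.and_eq_true, beq_iff_eq] at h
  exact (mul_self_eq_one_iff x).mpr h.2

theorem surjective_permOn_baseTrio : Function.Surjective (permOn baseTrio) := fun e => by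
  obtain ⟨x, hx⟩ := surjective_trioAction (1, (Finset.equivFinOfCardEq card_baseTrio).permCongrHom e)
  refine ⟨x, (Finset.equivFinOfCardEq card_baseTrio).permCongrHom.injective ?_⟩
  exact congrArg Prod.snd hx

end CfsgLib.Golay
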