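import Cfsg.Agent.Lib.Golay.Orbits

/-!
# The 3795 trios
-/

set_option autoImplicit false
set_option maxRecDepth 20000

namespace CfsgLib.Golay

open Cfsg
open scoped Pointwise

/-- The packed trio at a position. -/
def trioAt (p : ℕ) : ℕ := (trioBlocks.getD (Nat.div p 60) []).getD (Nat.mod p 60) 0

/-- First octad index of a packed trio. -/
def trioA (e : ℕ) : ℕ := Nat.land (Nat.shiftRight e 24) 4095
/-- Second octad index of a packed trio. -/
def trioB (e : ℕ) : ℕ := Nat.land (Nat.shiftRight e 12) 4095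
/-- Third octad index of a packed trio. -/
def trioC (e : ℕ) : ℕ := Nat.land e 4095

/-- The trio at a position. -/
def trioOf (p : ℕ) : Finset (Finset GolayPt) :=
  {codeSet (trioA (trioAt p)), codeSet (trioB (trioAt p)), codeSet (trioC (trioAt p))}

/-- Validity of a packed trio. -/
def trioOK (e : ℕ) : Bool :=
  Nat.beq (popc (codeWord (trioA e))) 8 && Nat.beq (popc (codeWord (trioB e))) 8 &&
    Nat.beq (popc (codeWord (trioC e))) 8 &&
    Nat.beq (Nat.land (codeWord (trioA e)) (codeWord (trioB e))) 0 &&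
    Nat.beq (Nat.land (codeWord (trioA e)) (codeWord (trioC e))) 0 &&
    Nat.beq (Nat.land (codeWord (trioB e)) (codeWord (trioC e))) 0 &&
    Nat.blt (trioA e) (trioB e) && Nat.blt (trioB e) (trioC e) &&
    Nat.beq (Nat.lor (Nat.shiftLeft (trioA e) 24) (Nat.lor (Nat.shiftLeft (trioB e) 12) (trioC e))) e

theorem trioTab_spec : (List.range 3795).all (fun p => trioOK (trioAt p)) = true := by decide +kernel

theorem incr_trioAt : incr ((List.range 3795).map trioAt) = true := by decide +kernel

theorem and_lt_4096 (a : ℕ) : Nat.land a 4095 < 4096 := Nat.lt_succ_of_le Nat.and_le_right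

theorem codeSet_inter_eq_empty {a b : ℕ} (h : Nat.beq (Nat.land (codeWord a) (codeWord b)) 0 = true) :
    Disjoint (codeSet a) (codeSet b) := by
  rw [Finset.disjoint_iff_inter_eq_empty]
  apply encS_injective
  rw [encS_inter, encS_codeSet, encS_codeSet, encS_empty]
  exact Nat.eq_of_beq_eq_true h

/-- What the check says. -/
theorem trioAt_facts {p : ℕ} (hp : p < 3795) :
    (trioA (trioAt p) ∈ octKeys ∧ trioB (trioAt p) ∈ octKeys ∧ trioC (trioAt p) ∈ octKeys) ∧
    (Disjoint (codeSet (trioA (trioAt p))) (codeSet (trioB (trioAt p))) ∧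
      Disjoint (codeSet (trioA (trioAt p))) (codeSet (trioC (trioAt p))) ∧
      Disjoint (codeSet (trioB (trioAt p))) (codeSet (trioC (trioAt p)))) ∧
    (trioA (trioAt p) < trioB (trioAt p) ∧ trioB (trioAt p) < trioC (trioAt p)) ∧
    trioA (trioAt p) <<< 24 ||| (trioB (trioAt p) <<< 12 ||| trioC (trioAt p)) = trioAt p := by
  have h := List.all_eq_true.mp trioTab_spec p (List.mem_range.mpr hp)
  simp only [trioOK, Bool.and_eq_true] at h
  obtain ⟨⟨⟨⟨⟨⟨⟨⟨a1, a2⟩, a3⟩, d1⟩, d2⟩, d3⟩, o1⟩, o2⟩, e⟩ := h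
  exact ⟨⟨mem_octKeys.mpr ⟨and_lt_4096 _, Nat.eq_of_beq_eq_true a1⟩,
      mem_octKeys.mpr ⟨and_lt_4096 _, Nat.eq_of_beq_eq_true a2⟩,
      mem_octKeys.mpr ⟨and_lt_4096 _, Nat.eq_of_beq_eq_true a3⟩⟩,
    ⟨codeSet_inter_eq_empty d1, codeSet_inter_eq_empty d2, codeSet_inter_eq_empty d3⟩,
    ⟨Nat.le_of_ble_eq_true o1, Nat.le_of_ble_eq_true o2⟩, Nat.eq_of_beq_eq_true e⟩

theorem trioOf_mem {p : ℕ} (hp : p < 3795) : trioOf p ∈ trios := by
  obtain ⟨⟨a1, a2, a3⟩, ⟨d1, d2, d3⟩, ⟨o1, o2⟩, -⟩ := trioAt_facts hp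
  have n1 : codeSet (trioA (trioAt p)) ≠ codeSet (trioB (trioAt p)) := fun h =>
    o1.ne (codeSet_injOn (and_lt_4096 _) (and_lt_4096 _) h)
  have n2 : codeSet (trioA (trioAt p)) ≠ codeSet (trioC (trioAt p)) := fun h =>
    (o1.trans o2).ne (codeSet_injOn (and_lt_4096 _) (and_lt_4096 _) h)
  have n3 : codeSet (trioB (trioAt p)) ≠ codeSet (trioC (trioAt p)) := fun h =>
    o2.ne (codeSet_injOn (and_lt_4096 _) (and_lt_4096 _) h)
  refine ⟨Finset.card_eq_three.mpr ⟨_, _, _, n1, n2, n3, rfl⟩, ?_, ?_⟩
  · intro o ho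
    simp only [trioOf, Finset.mem_insert, Finset.mem_singleton] at ho
    rcases ho with rfl | rfl | rfl <;> exact codeSet_mem_octads (by assumption)
  · intro o ho o' ho' hne
    simp only [trioOf, Finset.mem_insert, Finset.mem_singleton] at ho ho'
    rcases ho with rfl | rfl | rfl <;> rcases ho' with rfl | rfl | rfl <;>
      first
      | exact absurd rfl hne
      | exact d1
      | exact d1.symm
      | exact d2
      | exact d2.symm
      | exact d3
      | exact d3.symm

theorem trioOf_injOn : Set.InjOn trioOf {p | p < 3795} := by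
  intro p hp q hq h
  obtain ⟨-, -, ⟨o1, o2⟩, e⟩ := trioAt_facts hp
  obtain ⟨-, -, ⟨o1', o2'⟩, e'⟩ := trioAt_facts hq
  have hm : ∀ k < 4096, codeSet k ∈ trioOf p →
      k = trioA (trioAt p) ∨ k = trioB (trioAt p) ∨ k = trioC (trioAt p) := by
    intro k hk hmem
    simp only [trioOf, Finset.mem_insert, Finset.mem_singleton] at hmem
    rcases hmem with hh | hh | hh
    · exact Or.inl (codeSet_injOn hk (and_lt_4096 _) hh)
    · exact Or.inr (Or.inl (codeSet_injOn hk (and_lt_4096 _) hh))
    · exact Or.inr (Or.inr (codeSet_injOn hk (and_lt_4096 _) hh))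
  have hq' : ∀ x : Finset GolayPt, x ∈ trioOf q → x ∈ trioOf p := fun x hx => h ▸ hx
  have h1 := hm (trioA (trioAt q)) (and_lt_4096 _) (hq' _ (by simp [trioOf]))
  have h2 := hm (trioB (trioAt q)) (and_lt_4096 _) (hq' _ (by simp [trioOf]))
  have h3 := hm (trioC (trioAt q)) (and_lt_4096 _) (hq' _ (by simp [trioOf]))
  have hA : trioA (trioAt p) = trioA (trioAt q) := by omega
  have hB : trioB (trioAt p) = trioB (trioAt q) := by omega
  have hC : trioC (trioAt p) = trioC (trioAt q) := by omega
  have hat : trioAt p = trioAt q := by rw [← e, ← e', hA, hB, hC]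
  exact List.inj_on_of_nodup_map (nodup_of_incr incr_trioAt) (List.mem_range.mpr hp) (List.mem_range.mpr hq) hat

/-- Three pairwise disjoint octads cover the 24 points. -/
theorem trio_cover {T : Finset (Finset GolayPt)} (hT : T ∈ trios) : T.biUnion id = Finset.univ := by
  apply Finset.eq_univ_of_card
  rw [Finset.card_biUnion (t := id) (fun o ho o' ho' hne => hT.2.2 o ho o' ho' hne)]
  simp only [id]
  rw [
    Finset.sum_congr rfl (g := fun _ => 8) (fun o ho => card_of_mem_octads (hT.2.1 o ho)),
    Finset.sum_const, hT.1, card_golayPt]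
  rfl

theorem trio_eq_of_two {T T' : Finset (Finset GolayPt)} (hT : T ∈ trios) (hT' : T' ∈ trios)
    {a b : Finset GolayPt} (hab : a ≠ b) (ha : a ∈ T) (hb : b ∈ T) (ha' : a ∈ T') (hb' : b ∈ T') :
    T = T' := by
  have key : ∀ S : Finset (Finset GolayPt), S ∈ trios → a ∈ S → b ∈ S →
      S = {a, b, (a ∪ b)ᶜ} := by
    intro S hS haS hbS
    obtain ⟨c, hc⟩ := Finset.card_eq_one.mp
      (show ((S.erase a).erase b).card = 1 by
        rw [Finset.card_erase_of_mem (Finset.mem_erase.mpr ⟨hab.symm, hbS⟩),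
          Finset.card_erase_of_mem haS, hS.1])
    have hmem : c ∈ (S.erase a).erase b := hc ▸ Finset.mem_singleton_self c
    simp only [Finset.mem_erase] at hmem
    obtain ⟨hcb, hca, hcS⟩ := hmem
    have hSabc : S = {a, b, c} := by
      refine (Finset.eq_of_subset_of_card_le ?_ ?_).symm
      · simp [Finset.insert_subset_iff, haS, hbS, hcS]
      · rw [hS.1, Finset.card_eq_three.mpr ⟨a, b, c, hab, hca.symm, hcb.symm, rfl⟩]
    have hcov := trio_cover hS
    have dac := hS.2.2 a haS c hcS hca.symm
    have dbc := hS.2.2 b hbS c hcS hcb.symm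
    have : c = (a ∪ b)ᶜ := by
      ext p
      rw [Finset.mem_compl, Finset.mem_union, not_or]
      constructor
      · intro hp
        exact ⟨Finset.disjoint_right.mp dac hp, Finset.disjoint_right.mp dbc hp⟩
      · rintro ⟨hpa, hpb⟩
        have hp : p ∈ S.biUnion id := hcov ▸ Finset.mem_univ p
        rw [hSabc] at hp
        simp only [Finset.mem_biUnion, Finset.mem_insert, Finset.mem_singleton, id] at hp
        obtain ⟨o, rfl | rfl | rfl, hpo⟩ := hp
        · exact absurd hpo hpa
        · exact absurd hpo hpb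
        · exact hpo
    rw [hSabc, this]
  rw [key T hT ha hb, key T' hT' ha' hb']

/-- The index of the base octad. -/
def baseKey : ℕ := 47

theorem codeSet_baseKey : codeSet baseKey = baseOctad := by
  have : codeWord baseKey = 8536111 := by decide +kernel
  rw [codeSet, this, baseOctad]

/-- The indices of the octads disjoint from the base octad. -/
def baseDisj : List ℕ :=
  octKeys.filter fun k => Nat.beq (Nat.land (codeWord baseKey) (codeWord k)) 0

/-- Positions of the trios through the base octad. -/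
def basePosns : List ℕ :=
  (List.range 3795).filter fun p =>
    Nat.beq (trioA (trioAt p)) baseKey || Nat.beq (trioB (trioAt p)) baseKey ||
      Nat.beq (trioC (trioAt p)) baseKey

theorem base_cover : baseDisj.all (fun k => basePosns.any fun p =>
    Nat.beq (trioA (trioAt p)) k || Nat.beq (trioB (trioAt p)) k || Nat.beq (trioC (trioAt p)) k) = true := by
  decide +kernel

theorem length_basePosns : basePosns.length = 15 := by decide +kernel

theorem baseKey_spec : baseKey ∈ octKeys := by
  rw [mem_octKeys]; decide +kernel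

theorem baseKey_lt : baseKey < 4096 := by decide +kernel

theorem mem_trioOf {k p : ℕ}
    (h : (Nat.beq (trioA (trioAt p)) k || Nat.beq (trioB (trioAt p)) k || Nat.beq (trioC (trioAt p)) k) = true) :
    codeSet k ∈ trioOf p := by
  simp only [Bool.or_eq_true] at h
  rcases h with (h | h) | h <;> rw [← Nat.eq_of_beq_eq_true h] <;> simp [trioOf]

theorem trios_through_base :
    {T | T ∈ trios ∧ baseOctad ∈ T} = trioOf '' {p | p ∈ basePosns} := by
  ext T
  constructor
  · rintro ⟨hT, hb⟩
    obtain ⟨o, ho, hne⟩ := Finset.exists_mem_ne (by rw [hT.1]; norm_num : 1 < T.card) baseOctad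
    obtain ⟨k, hk, rfl⟩ := octads_eq.le (hT.2.1 o ho)
    have hkd : k ∈ baseDisj := by
      refine List.mem_filter.mpr ⟨hk, ?_⟩
      have hd := hT.2.2 _ hb _ ho hne.symm
      rw [← codeSet_baseKey, Finset.disjoint_iff_inter_eq_empty, ← encS_injective.eq_iff, encS_inter,
        encS_codeSet, encS_codeSet, encS_empty] at hd
      show Nat.beq (codeWord baseKey &&& codeWord k) 0 = true
      rw [hd]; rfl
    have h := List.all_eq_true.mp base_cover k hkd
    rw [List.any_eq_true] at h
    obtain ⟨p, hp, hpk⟩ := h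
    obtain ⟨hp1, hp2⟩ := List.mem_filter.mp hp
    refine ⟨p, hp, ?_⟩
    refine trio_eq_of_two (trioOf_mem (List.mem_range.mp hp1)) hT hne.symm ?_ (mem_trioOf hpk) hb ho
    rw [← codeSet_baseKey]
    exact mem_trioOf hp2
  · rintro ⟨p, hp, rfl⟩
    obtain ⟨hp1, hp2⟩ := List.mem_filter.mp hp
    exact ⟨trioOf_mem (List.mem_range.mp hp1), codeSet_baseKey ▸ mem_trioOf hp2⟩

theorem smul_mem_trios {σ : Equiv.Perm GolayPt} (hσ : σ ∈ M24) {T : Finset (Finset GolayPt)}
    (hT : T ∈ trios) : σ • T ∈ trios := by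
  refine ⟨by rw [Finset.card_smul_finset]; exact hT.1, fun o ho => ?_, fun o ho o' ho' hne => ?_⟩
  · obtain ⟨o', ho', rfl⟩ := Finset.mem_smul_finset.mp ho
    exact smul_mem_octads hσ (hT.2.1 o' ho')
  · obtain ⟨u, hu, rfl⟩ := Finset.mem_smul_finset.mp ho
    obtain ⟨v, hv, rfl⟩ := Finset.mem_smul_finset.mp ho'
    rw [Finset.disjoint_iff_inter_eq_empty, ← Finset.smul_finset_inter,
      Finset.disjoint_iff_inter_eq_empty.mp (hT.2.2 u hu v hv (fun h => hne (by rw [h]))),
      Finset.smul_finset_empty]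

/-- An octad lies in exactly 15 trios. -/
theorem ncard_trios_through {o : Finset GolayPt} (ho : o ∈ octads) :
    {T | T ∈ trios ∧ o ∈ T}.ncard = 15 := by
  obtain ⟨g, hg, rfl⟩ := exists_smul_baseOctad_eq ho
  have h : {T | T ∈ trios ∧ g • baseOctad ∈ T} = (fun T => g • T) '' {T | T ∈ trios ∧ baseOctad ∈ T} := by
    ext T
    constructor
    · rintro ⟨hT, hm⟩
      exact ⟨g⁻¹ • T, ⟨smul_mem_trios (inv_mem hg) hT, Finset.mem_inv_smul_finset_iff.mpr hm⟩,
        smul_inv_smul g T⟩
    · rintro ⟨S, ⟨hS, hm⟩, rfl⟩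
      exact ⟨smul_mem_trios hg hS, Finset.smul_mem_smul_finset hm⟩
  rw [h, Set.ncard_image_of_injective _ (MulAction.injective g), trios_through_base,
    ncard_image_of_nodup (L := basePosns) (List.nodup_range.filter _)
      (trioOf_injOn.mono fun p hp => List.mem_range.mp (List.mem_filter.mp hp).1), length_basePosns]

theorem ncard_trios : trios.ncard = 3795 := by
  classical
  have hfin : trios.Finite := Set.toFinite _
  have h := Finset.card_mul_eq_card_mul (fun (T : Finset (Finset GolayPt)) (o : Finset GolayPt) => o ∈ T)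
    (s := hfin.toFinset) (t := octads_finite.toFinset) (m := 3) (n := 15) ?_ ?_
  · rw [← Set.ncard_eq_toFinset_card _ hfin, ← Set.ncard_eq_toFinset_card _ octads_finite, ncard_octads] at h
    omega
  · intro T hT
    rw [Set.Finite.mem_toFinset] at hT
    refine Eq.trans (congrArg Finset.card ?_) hT.1
    ext o
    simp only [Finset.mem_bipartiteAbove, Set.Finite.mem_toFinset]
    exact ⟨fun h => h.2, fun h => ⟨hT.2.1 o h, h⟩⟩
  · intro o ho
    rw [Set.Finite.mem_toFinset] at ho
    rw [← ncard_trios_through ho, ← Set.ncard_coe_finset]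
    congr 1
    ext T
    simp [Finset.mem_bipartiteBelow]

theorem trios_eq : trios = trioOf '' {p | p ∈ (List.range 3795).map id} := by
  rw [List.map_id]
  symm
  refine Set.eq_of_subset_of_ncard_le ?_ ?_ (Set.toFinite _)
  · rintro _ ⟨p, hp, rfl⟩
    exact trioOf_mem (List.mem_range.mp hp)
  · rw [ncard_trios, ncard_image_of_nodup List.nodup_range
      (trioOf_injOn.mono fun p hp => List.mem_range.mp hp), List.length_range]

/-! ### The three keyed families -/

/-- The octads. -/
def octK : Keyed (Finset GolayPt) octads where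
  W := octKeys
  key := id
  dec := codeSet
  step l k y := Nat.beq (codeAct l k) y
  nodup := by rw [List.map_id]; exact nodup_of_incr incr_octKeys
  eq_image := by rw [List.map_id]; exact octads_eq
  injOn := by
    rw [List.map_id]
    exact codeSet_injOn.mono fun k hk => (mem_octKeys.mp hk).1
  step_spec g k y hk hst := by
    rw [List.map_id] at hk ⊢
    have e : (g : Equiv.Perm GolayPt) • codeSet k = codeSet y := by
      rw [smul_codeSet g.2, Nat.eq_of_beq_eq_true hst]
    refine ⟨e, mem_octKeys.mpr ⟨Nat.eq_of_beq_eq_true hst ▸ and_lt_4096 _, ?_⟩⟩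
    rw [← encS_codeSet, popc_encS, ← e, Finset.card_smul_finset]
    exact card_of_mem_octads (codeSet_mem_octads hk)
  smul_mem g _ hX := smul_mem_octads g.2 hX

/-- The sextets. -/
noncomputable def sextK : Keyed (Finset (Finset GolayPt)) sextets where
  W := sextetTab
  key := sextetKey
  dec := sextetOfKey
  step l k y := Nat.beq (synAct l k) y
  nodup := nodup_of_incr incr_sextetKeys
  eq_image := sextets_eq
  injOn := sextetOfKey_injOn
  step_spec g k y hk hst := by
    have e : (g : Equiv.Perm GolayPt) • sextetOfKey k = sextetOfKey y := by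
      rw [smul_sextetOfKey g.2 hk, Nat.eq_of_beq_eq_true hst]
    refine ⟨e, ?_⟩
    have hS := sextetOfKey_mem hk
    obtain ⟨t, ht⟩ := Finset.card_pos.mp (by rw [hS.1]; norm_num : 0 < (sextetOfKey k).card)
    obtain ⟨h4, hs⟩ := mem_sextetOfKey.mp ht
    show y ∈ sextetKeys
    rw [← Nat.eq_of_beq_eq_true hst, ← hs, ← syn_encS_smul g.2]
    exact syn_mem_sextetKeys (by rw [Finset.card_smul_finset, h4])
  smul_mem g _ hX := smul_mem_sextets g.2 hX

/-- Membership of an index in a packed trio. -/
def inTrio (k e : ℕ) : Bool := Nat.beq k (trioA e) || Nat.beq k (trioB e) || Nat.beq k (trioC e)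

theorem codeSet_mem_of_inTrio {k p : ℕ} (h : inTrio k (trioAt p) = true) : codeSet k ∈ trioOf p := by
  simp only [inTrio, Bool.or_eq_true] at h
  rcases h with (h | h) | h <;> rw [Nat.eq_of_beq_eq_true h] <;> simp [trioOf]

/-- The action on trio positions, as a relation. -/
def trioStep (l : List ℕ) (p y : ℕ) : Bool :=
  Nat.blt y 3795 && inTrio (codeAct l (trioA (trioAt p))) (trioAt y) &&
    inTrio (codeAct l (trioB (trioAt p))) (trioAt y) && inTrio (codeAct l (trioC (trioAt p))) (trioAt y)

/-- The trios. -/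
def trioK : Keyed (Finset (Finset GolayPt)) trios where
  W := List.range 3795
  key := id
  dec := trioOf
  step := trioStep
  nodup := by rw [List.map_id]; exact List.nodup_range
  eq_image := trios_eq
  injOn := by
    rw [List.map_id]
    exact trioOf_injOn.mono fun p hp => List.mem_range.mp hp
  step_spec g p y hp hst := by
    rw [List.map_id] at hp ⊢
    simp only [trioStep, Bool.and_eq_true] at hst
    obtain ⟨⟨⟨hy, h1⟩, h2⟩, h3⟩ := hst
    have hy' : y < 3795 := Nat.le_of_ble_eq_true hy
    refine ⟨?_, List.mem_range.mpr hy'⟩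
    show (g : Equiv.Perm GolayPt) • trioOf p = trioOf y
    refine Finset.eq_of_subset_of_card_le ?_ ?_
    · rw [trioOf, Finset.smul_finset_insert, Finset.smul_finset_insert, Finset.smul_finset_singleton,
        smul_codeSet g.2, smul_codeSet g.2, smul_codeSet g.2, Finset.insert_subset_iff,
        Finset.insert_subset_iff, Finset.singleton_subset_iff]
      exact ⟨codeSet_mem_of_inTrio h1, codeSet_mem_of_inTrio h2, codeSet_mem_of_inTrio h3⟩
    · rw [Finset.card_smul_finset, (trioOf_mem hy').1, (trioOf_mem (List.mem_range.mp hp)).1]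
  smul_mem g _ hX := smul_mem_trios g.2 hX

end CfsgLib.Golay
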